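import Cfsg.Agent.Lib.Golay.M24Sub

/-!
The dodecads and the groups M₁₂ and M₁₁.
-/

set_option autoImplicit false

namespace CfsgLib.Golay

open Cfsg

open scoped Pointwise commutatorElement

/-- The mask of the six points common to the base octad and the dodecad of squares. -/
def baseSix : ℕ := 4127

/-- The last level of the chain of the whole group, above six fixed points. -/
def lastLevel : Level := m24ChainLevels.getD 6 ⟨0, [], []⟩

theorem lastLevel_check :
    chainCheck 24 m24ChainGens m24ChainSteps [0, 1, 2, 3, 4, 12] [lastLevel] = true := by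
  decide +kernel

theorem lastLevel_facts : lastLevel.base = 5 ∧
    (∀ i < 24, baseOctad.testBit i = false → i ∈ lastLevel.imgs) ∧
    (∀ L ∈ lastLevel.reps, imgMask L baseDodecad = baseDodecad → L = List.range 24) := by
  decide +kernel

theorem smul_eq_of_mem {g : Equiv.Perm GolayPt} {s : Finset GolayPt}
    (h : ∀ x ∈ s, g x ∈ s) : g • s = s := by
  refine Finset.eq_of_subset_of_card_le ?_ (by rw [Finset.card_smul_finset])
  intro x hx
  obtain ⟨y, hy, rfl⟩ := Finset.mem_smul_finset.1 hx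
  exact h y hy

/-- An element preserving the dodecad of squares and fixing five of its points is trivial. -/
theorem eq_one_of_dodecad {g : Equiv.Perm GolayPt} (hg : g ∈ M24)
    (hd : g • toSet baseDodecad = toSet baseDodecad)
    (h : ∀ q : GolayPt, (ptEquiv q).val ∈ [0, 1, 2, 3, 4] → g q = q) : g = 1 := by
  have ho := invOn_baseOctad M24 le_rfl g hg h
  have hsix : g • toSet baseSix = toSet baseSix := by
    have e : baseSix = baseOctad &&& baseDodecad := by decide +kernel
    rw [e, toSet_and, Finset.smul_finset_inter, ho, hd]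
  have h12 : ∀ q : GolayPt, (ptEquiv q).val ∈ [0, 1, 2, 3, 4, 12] → g q = q := by
    intro q hq
    by_cases hq5 : (ptEquiv q).val ∈ [0, 1, 2, 3, 4]
    · exact h q hq5
    have hmem : q ∈ toSet baseSix := by
      rw [mem_toSet]
      simp only [List.mem_cons, List.not_mem_nil, or_false] at hq
      rcases hq with hq | hq | hq | hq | hq | hq <;> rw [hq] <;> decide +kernel
    have hgq : g q ∈ toSet baseSix := by
      rw [← hsix]; exact Finset.smul_mem_smul_finset hmem
    have hall : ∀ p : GolayPt, p ∈ toSet baseSix →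
        (ptEquiv p).val ∈ [0, 1, 2, 3, 4] ∨ (ptEquiv p).val = 12 := by decide +kernel
    rcases hall _ hgq with h' | h'
    · have : g q = q := g.injective (h _ h')
      rw [this] at h'
      exact absurd h' hq5
    · rcases hall _ hmem with h'' | h''
      · exact absurd h'' hq5
      · exact ptEquiv.injective (Fin.ext (h'.trans h''.symm))
  obtain ⟨hb, himgs, hid⟩ := lastLevel_facts
  have hreps : RepsMem ptEquiv M24 [lastLevel] :=
    chainCheck_reps _ _ lastLevel_check m24ChainGens_mem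
  have hok := chainCheck_ok lastLevel_check
  obtain ⟨hT, himg, -⟩ := level_facts ptEquiv M24 hok hreps
  have h5 : (ptEquiv (pt 5)).val = lastLevel.base := by rw [hb, ptEquiv_pt (by omega)]
  have hout : (ptEquiv (g (pt 5))).val ∈ lastLevel.imgs := by
    refine himgs _ (ptEquiv _).isLt ?_
    by_contra hcon
    rw [Bool.not_eq_false, ← mem_toSet, ← ho, ← Equiv.Perm.smul_def,
      Finset.smul_mem_smul_finset_iff, pt_mem_toSet (by omega)] at hcon
    exact absurd hcon (by decide +kernel)
  rw [← himg (pt 5) h5] at hout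
  obtain ⟨t, ht, hte⟩ := List.mem_map.1 hout
  have htp : t (pt 5) = g (pt 5) := ptEquiv.injective (Fin.ext hte)
  have htK := hT t ht
  have heq : t⁻¹ * g = 1 := by
    refine eq_one_of_base (mul_mem (inv_mem htK.1) hg) fun q hq => ?_
    rw [Equiv.Perm.mul_apply]
    by_cases hq6 : (ptEquiv q).val ∈ [0, 1, 2, 3, 4, 12]
    · rw [h12 q hq6]
      exact ((fixNums ptEquiv M24 [0, 1, 2, 3, 4, 12]).inv_mem htK).2 q hq6
    · have : q = pt 5 := by
        have : (ptEquiv q).val = 5 := by
          simp only [List.mem_cons, List.not_mem_nil, or_false] at hq hq6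
          omega
        rw [← pt_ptEquiv q, this]
      rw [this, ← htp]
      simp
  have hgt : g = t := (inv_mul_eq_one.1 heq).symm
  obtain ⟨L, hL, rfl⟩ := List.mem_map.1 ht
  have hv : validL 24 L = true :=
    (slp_mem ptEquiv (⊤ : Subgroup (Equiv.Perm GolayPt)) (chainCheck_slp lastLevel_check)
      (fun _ _ => Subgroup.mem_top _) L (by
        have := lastLevel_check
        simp only [chainCheck, Bool.and_eq_true, List.all_eq_true, List.contains_iff_mem] at this
        exact this.2 lastLevel List.mem_cons_self L hL)).1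
  have hLid : L = List.range 24 := by
    refine hid L hL ?_
    rw [hgt, smul_toSet hv] at hd
    refine toSet_inj ?_ (by decide +kernel) hd
    refine Nat.lt_pow_two_of_testBit _ fun i hi => Bool.eq_false_iff.2 fun hb' => ?_
    obtain ⟨j, hj, -, hji⟩ := testBit_imgMask.1 hb'
    have := validL_getD_lt hv hj
    omega
  rw [hgt, hLid, permOf_id ptEquiv (by decide +kernel)]

/-- The five base points of the dodecad of squares. -/
def dodecadBase : Fin 5 ↪ {q : GolayPt // q ∈ toSet baseDodecad} where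
  toFun i := ⟨pt i.val, by revert i; decide +kernel⟩
  inj' := by decide +kernel

/-- The images of the five base points under an element of M₁₂. -/
def baseImages (g : Cfsg.Spor.M12) : Fin 5 ↪ {q : GolayPt // q ∈ toSet baseDodecad} where
  toFun i := ⟨g.val (dodecadBase i).val, by
    have h := (Subgroup.mem_inf.1 g.2).2
    rw [MulAction.mem_stabilizer_iff, squareDodecad_eq] at h
    exact h.le (Finset.smul_mem_smul_finset (dodecadBase i).2)⟩
  inj' i j h := dodecadBase.injective (Subtype.ext (g.val.injective (congrArg Subtype.val h)))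

theorem mem_M12 {g : Equiv.Perm GolayPt} :
    g ∈ Cfsg.Spor.M12 ↔ g ∈ M24 ∧ g • toSet baseDodecad = toSet baseDodecad := by
  rw [Cfsg.Spor.M12, Subgroup.mem_inf, squareDodecad_eq]
  exact Iff.rfl

theorem baseImages_injective : Function.Injective baseImages := by
  intro g h hgh
  have hb : ∀ i : Fin 5, g.val (pt i.val) = h.val (pt i.val) := fun i =>
    congrArg Subtype.val (DFunLike.congr_fun hgh i)
  have hm := mem_M12.1 (Cfsg.Spor.M12.mul_mem (Cfsg.Spor.M12.inv_mem h.2) g.2)
  refine Subtype.ext (inv_mul_eq_one.1 (eq_one_of_dodecad hm.1 hm.2 fun q hq => ?_)).symm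
  have hq' : (ptEquiv q).val < 5 := by
    simp only [List.mem_cons, List.not_mem_nil, or_false] at hq
    omega
  have := hb ⟨_, hq'⟩
  rw [pt_ptEquiv] at this
  rw [Equiv.Perm.mul_apply, this]
  simp

theorem card_base_embeddings :
    Nat.card (Fin 5 ↪ {q : GolayPt // q ∈ toSet baseDodecad}) = 95040 := by
  rw [Nat.card_eq_fintype_card, Fintype.card_embedding_eq, Fintype.card_coe, card_toSet,
    Fintype.card_fin]
  decide +kernel

theorem dodecad_counts :
    Nat.card Cfsg.Spor.M12 = 95040 ∧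
      MulAction.orbit M24 (toSet baseDodecad) = dodecads := by
  have hle : Nat.card Cfsg.Spor.M12 ≤ 95040 :=
    card_base_embeddings ▸ Nat.card_le_card_of_injective _ baseImages_injective
  have hsub : MulAction.orbit M24 (toSet baseDodecad) ⊆ dodecads := by
    rintro _ ⟨g, rfl⟩
    exact dodecads_smul g.2 baseDodecad_mem
  have hfin : dodecads.Finite := Set.toFinite _
  have horb : (MulAction.orbit M24 (toSet baseDodecad)).ncard ≤ 2576 :=
    dodecads_ncard ▸ Set.ncard_le_ncard hsub hfin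
  have hst : Nat.card (MulAction.stabilizer M24 (toSet baseDodecad)) = Nat.card Cfsg.Spor.M12 := by
    refine Nat.card_congr (subEquiv _ ?_).toEquiv
    ext x
    rw [Subgroup.mem_map, mem_M12]
    exact ⟨by rintro ⟨y, hy, rfl⟩; exact ⟨y.2, hy⟩, fun h => ⟨⟨x, h.1⟩, h.2, rfl⟩⟩
  have hmul := (MulAction.stabilizer M24 (toSet baseDodecad)).index_mul_card
  rw [hst, card_M24] at hmul
  have hidx : (MulAction.stabilizer M24 (toSet baseDodecad)).index =
      (MulAction.orbit M24 (toSet baseDodecad)).ncard :=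
    MulAction.index_stabilizer M24 (toSet baseDodecad)
  rw [hidx] at hmul
  have h1 : Nat.card Cfsg.Spor.M12 = 95040 := by nlinarith
  refine ⟨h1, Set.eq_of_subset_of_ncard_le hsub ?_ hfin⟩
  rw [h1] at hmul
  rw [dodecads_ncard]
  omega

theorem card_M12 : Nat.card Cfsg.Spor.M12 = 95040 := dodecad_counts.1

theorem baseImages_bijective : Function.Bijective baseImages :=
  (Nat.bijective_iff_injective_and_card baseImages).2
    ⟨baseImages_injective, by rw [card_M12, card_base_embeddings]⟩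

theorem dodecads_transitive {d : Finset GolayPt} (hd : d ∈ dodecads) :
    ∃ g ∈ M24, g • toSet baseDodecad = d := by
  rw [← dodecad_counts.2] at hd
  obtain ⟨g, hg⟩ := hd
  exact ⟨g.val, g.2, hg⟩

/-- M₁₂ is sharply 5-transitive on the dodecad of squares. -/
theorem M12_sharp (x y : Fin 5 ↪ GolayPt) (hx : ∀ i, x i ∈ toSet baseDodecad)
    (hy : ∀ i, y i ∈ toSet baseDodecad) : ∃! g : Cfsg.Spor.M12, ∀ i, g.val (x i) = y i := by
  obtain ⟨a, ha⟩ := baseImages_bijective.2
    ⟨fun i => ⟨x i, hx i⟩, fun i j h => x.injective (congrArg Subtype.val h)⟩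
  obtain ⟨b, hb⟩ := baseImages_bijective.2
    ⟨fun i => ⟨y i, hy i⟩, fun i j h => y.injective (congrArg Subtype.val h)⟩
  have ha' : ∀ i, a.val (dodecadBase i).val = x i := fun i =>
    congrArg Subtype.val (DFunLike.congr_fun ha i)
  have hb' : ∀ i, b.val (dodecadBase i).val = y i := fun i =>
    congrArg Subtype.val (DFunLike.congr_fun hb i)
  refine ⟨b * a⁻¹, fun i => ?_, fun g hg => ?_⟩
  · rw [← ha', ← hb']
    simp
  · rw [eq_mul_inv_iff_mul_eq]
    apply baseImages_bijective.1
    refine DFunLike.ext _ _ fun i => Subtype.ext ?_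
    show (g * a).val (dodecadBase i).val = b.val (dodecadBase i).val
    rw [Subgroup.coe_mul, Equiv.Perm.mul_apply, ha', hg, hb']

/-- The dodecad of squares and a point of it are moved to any dodecad and point of it. -/
theorem dodecad_point_transitive {d : Finset GolayPt} (hd : d ∈ dodecads) {p : GolayPt}
    (hp : p ∈ d) : ∃ g ∈ M24, g • toSet baseDodecad = d ∧ g (pt 0) = p := by
  obtain ⟨g, hg, rfl⟩ := dodecads_transitive hd
  obtain ⟨q, hq, hqp⟩ := Finset.mem_smul_finset.1 hp
  have h0 : pt 0 ∈ toSet baseDodecad := by decide +kernel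
  obtain ⟨s, hsd, hs4, hsq⟩ : ∃ s : List GolayPt, (∀ z ∈ s, z ∈ toSet baseDodecad) ∧
      s.length = 4 ∧ (q :: s).Nodup := by
    refine ⟨((toSet baseDodecad).erase q).toList.take 4, fun z hz => ?_, ?_, ?_⟩
    · exact Finset.mem_of_mem_erase (Finset.mem_toList.1 (List.mem_of_mem_take hz))
    · rw [List.length_take, Finset.length_toList, Finset.card_erase_of_mem hq, card_toSet]
      decide +kernel
    · rw [List.nodup_cons]
      refine ⟨fun h => ?_, (Finset.nodup_toList _).sublist (List.take_sublist _ _)⟩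
      have := Finset.mem_toList.1 (List.mem_of_mem_take h)
      simp at this
  obtain ⟨m, hm, -⟩ := M12_sharp (dodecadBase.trans (Function.Embedding.subtype _))
    ⟨fun i => (q :: s).get (i.cast (by simp [hs4])),
      fun i j h => Fin.ext (by simpa using congrArg Fin.val (hsq.injective_get h))⟩
    (fun i => (dodecadBase i).2)
    (fun i => by
      have := List.get_mem (q :: s) (i.cast (by simp [hs4]))
      rcases List.mem_cons.1 this with h | h
      · show (q :: s).get _ ∈ _
        rw [h]; exact hq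
      · exact hsd _ h)
  refine ⟨g * m.val, mul_mem hg (mem_M12.1 m.2).1, ?_, ?_⟩
  · rw [mul_smul, (mem_M12.1 m.2).2]
  · have := hm 0
    rw [Equiv.Perm.mul_apply]
    have e : m.val (pt 0) = q := this
    rw [e]
    exact hqp

/-! ### M₁₁ -/

theorem mem_M11 {g : Equiv.Perm GolayPt} :
    g ∈ Cfsg.Spor.M11 ↔ g ∈ Cfsg.Spor.M12 ∧ g (pt 0) = pt 0 := by
  have e : pt 0 = (some 0 : GolayPt) := by decide +kernel
  rw [Cfsg.Spor.M11, Subgroup.mem_inf, MulAction.mem_stabilizer_iff, Equiv.Perm.smul_def, e]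

theorem M11_eq_fixNums : fixNums ptEquiv Cfsg.Spor.M12 [0] = Cfsg.Spor.M11 := by
  ext g; rw [fix_nums_singleton (by omega), mem_M11]

theorem m11Chain_check : chainCheck 24 m11ChainGens m11ChainSteps [0] m11ChainLevels = true := by
  decide +kernel

theorem m11_comm : ∀ g ∈ m11ChainGens, permOf ptEquiv g ∈ ⁅Cfsg.Spor.M11, Cfsg.Spor.M11⁆ :=
  commCheck_mem Cfsg.Spor.M11 (subTest [0] baseDodecad)
    (fun L hL => by
      obtain ⟨hv, hm, hf, hd⟩ := subTest_spec hL
      exact ⟨hv, mem_M11.2 ⟨mem_M12.2 ⟨hm, hd⟩, hf 0 (by simp)⟩⟩)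
    (elts := m11Elts) (by decide +kernel)

theorem M11_le_M12 : Cfsg.Spor.M11 ≤ Cfsg.Spor.M12 := fun _ hg => (mem_M11.1 hg).1

theorem M11_comm_le : ⁅Cfsg.Spor.M11, Cfsg.Spor.M11⁆ ≤ Cfsg.Spor.M11 :=
  Subgroup.commutator_le.2 fun a ha b hb => by
    rw [commutatorElement_def]
    exact mul_mem (mul_mem (mul_mem ha hb) (inv_mem ha)) (inv_mem hb)

theorem invOn_baseDodecad (K : Subgroup (Equiv.Perm GolayPt)) (hK : K ≤ Cfsg.Spor.M12) :
    InvOn K [] baseDodecad := fun _ hg _ => (mem_M12.1 (hK hg)).2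

theorem m11Chain_cover : CoverOk ptEquiv Cfsg.Spor.M12 [0] m11ChainLevels :=
  coverOk_of_check Cfsg.Spor.M12 (rs := List.replicate 4 ([], baseDodecad)) (by decide +kernel)
    (fun r hr => by
      rw [List.eq_of_mem_replicate hr]
      exact invOn_baseDodecad _ le_rfl)
    fun g hg hfix => eq_one_of_dodecad (mem_M12.1 hg).1 (mem_M12.1 hg).2 fun q hq => hfix q (by
      have : [0] ++ m11ChainLevels.map (·.base) = [0, 1, 2, 3, 4] := by decide +kernel
      rwa [this])

theorem m11Chain_reps : RepsMem ptEquiv Cfsg.Spor.M12 m11ChainLevels :=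
  chainCheck_reps _ _ m11Chain_check fun g hg => M11_le_M12 (M11_comm_le (m11_comm g hg))

theorem card_M11 : Nat.card Cfsg.Spor.M11 = 7920 := by
  rw [← M11_eq_fixNums,
    chain_card ptEquiv Cfsg.Spor.M12 (chainCheck_ok m11Chain_check) m11Chain_reps m11Chain_cover]
  decide +kernel

theorem M11_perfect : Cfsg.Spor.M11 ≤ ⁅Cfsg.Spor.M11, Cfsg.Spor.M11⁆ := by
  conv_lhs => rw [← M11_eq_fixNums]
  exact chain_le ptEquiv Cfsg.Spor.M12 _ (chainCheck_ok m11Chain_check) m11Chain_reps m11Chain_cover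
    (chainCheck_reps _ _ m11Chain_check m11_comm)

theorem M12_map_two {a b c d : GolayPt} (ha : a ∈ toSet baseDodecad) (hb : b ∈ toSet baseDodecad)
    (hc : c ∈ toSet baseDodecad) (hd : d ∈ toSet baseDodecad) (hab : a ≠ b) (hcd : c ≠ d) :
    ∃ g ∈ Cfsg.Spor.M12, g a = c ∧ g b = d := by
  have ext5 : ∀ u v : GolayPt, u ∈ toSet baseDodecad → v ∈ toSet baseDodecad → u ≠ v →
      ∃ x : Fin 5 ↪ GolayPt, x 0 = u ∧ x 1 = v ∧ ∀ i, x i ∈ toSet baseDodecad := by
    intro u v hu hv huv
    have : 3 ≤ (((toSet baseDodecad).erase u).erase v).card := by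
      rw [Finset.card_erase_of_mem (by simp [hv, huv.symm]), Finset.card_erase_of_mem hu, card_toSet]
      decide +kernel
    obtain ⟨t, hts, ht3⟩ := Finset.exists_subset_card_eq this
    obtain ⟨z1, z2, z3, h12, h13, h23, rfl⟩ := Finset.card_eq_three.1 ht3
    simp only [Finset.insert_subset_iff, Finset.singleton_subset_iff, Finset.mem_erase] at hts
    refine ⟨⟨![u, v, z1, z2, z3], ?_⟩, rfl, rfl, ?_⟩
    · intro i j
      fin_cases i <;> fin_cases j <;> simp_all [eq_comm]
    · intro i
      fin_cases i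
      exacts [hu, hv, hts.1.2.2, hts.2.1.2.2, hts.2.2.2.2]
  obtain ⟨x, hx0, hx1, hx⟩ := ext5 a b ha hb hab
  obtain ⟨y, hy0, hy1, hy⟩ := ext5 c d hc hd hcd
  obtain ⟨g, hg, -⟩ := M12_sharp x y hx hy
  exact ⟨g.val, g.2, by rw [← hx0, hg, hy0], by rw [← hx1, hg, hy1]⟩

theorem M11_map_two {a b c d : GolayPt} (ha : a ∈ toSet baseDodecad) (hb : b ∈ toSet baseDodecad)
    (hc : c ∈ toSet baseDodecad) (hd : d ∈ toSet baseDodecad) (ha0 : a ≠ pt 0) (hb0 : b ≠ pt 0)
    (hc0 : c ≠ pt 0) (hd0 : d ≠ pt 0) (hab : a ≠ b) (hcd : c ≠ d) :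
    ∃ g ∈ Cfsg.Spor.M11, g a = c ∧ g b = d := by
  have h0 : pt 0 ∈ toSet baseDodecad := by decide +kernel
  have ext5 : ∀ u v : GolayPt, u ∈ toSet baseDodecad → v ∈ toSet baseDodecad → u ≠ pt 0 →
      v ≠ pt 0 → u ≠ v →
      ∃ x : Fin 5 ↪ GolayPt, x 0 = u ∧ x 1 = v ∧ x 2 = pt 0 ∧ ∀ i, x i ∈ toSet baseDodecad := by
    intro u v hu hv hu0 hv0 huv
    have : 2 ≤ ((((toSet baseDodecad).erase u).erase v).erase (pt 0)).card := by
      rw [Finset.card_erase_of_mem (by simp [h0, hu0.symm, hv0.symm]),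
        Finset.card_erase_of_mem (by simp [hv, huv.symm]), Finset.card_erase_of_mem hu, card_toSet]
      decide +kernel
    obtain ⟨t, hts, ht2⟩ := Finset.exists_subset_card_eq this
    obtain ⟨z1, z2, h12, rfl⟩ := Finset.card_eq_two.1 ht2
    simp only [Finset.insert_subset_iff, Finset.singleton_subset_iff, Finset.mem_erase] at hts
    refine ⟨⟨![u, v, pt 0, z1, z2], ?_⟩, rfl, rfl, rfl, ?_⟩
    · intro i j
      fin_cases i <;> fin_cases j <;> simp_all [eq_comm]
    · intro i
      fin_cases i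
      exacts [hu, hv, h0, hts.1.2.2.2, hts.2.2.2.2]
  obtain ⟨x, hx0, hx1, hx2, hx⟩ := ext5 a b ha hb ha0 hb0 hab
  obtain ⟨y, hy0, hy1, hy2, hy⟩ := ext5 c d hc hd hc0 hd0 hcd
  obtain ⟨g, hg, -⟩ := M12_sharp x y hx hy
  exact ⟨g.val, mem_M11.2 ⟨g.2, by rw [← hx2, hg, hy2, hx2]⟩, by rw [← hx0, hg, hy0],
    by rw [← hx1, hg, hy1]⟩

theorem M11_simple : IsSimpleGroup Cfsg.Spor.M11 := by
  have hcard : ((toSet baseDodecad).erase (pt 0)).card = 11 := by decide +kernel
  refine perm_isSimple_of_prime _ ((toSet baseDodecad).erase (pt 0)) ?_ ?_ ?_ ?_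
    (p := 11) (by norm_num) (by rw [hcard]) (by omega) (by rw [card_M11]; norm_num) M11_perfect
  · intro g hg x hx
    obtain ⟨hg12, hg0⟩ := mem_M11.1 hg
    simp only [Finset.mem_erase] at hx ⊢
    refine ⟨fun h => hx.1 (g.injective (h.trans hg0.symm)), ?_⟩
    rw [← (mem_M12.1 hg12).2]
    exact Finset.smul_mem_smul_finset hx.2
  · intro g hg h
    obtain ⟨hg12, hg0⟩ := mem_M11.1 hg
    refine eq_one_of_dodecad (mem_M12.1 hg12).1 (mem_M12.1 hg12).2 fun q hq => ?_
    by_cases hq0 : q = pt 0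
    · rw [hq0]; exact hg0
    · refine h q (Finset.mem_erase.2 ⟨hq0, ?_⟩)
      have : ∀ p : GolayPt, (ptEquiv p).val ∈ [0, 1, 2, 3, 4] → p ∈ toSet baseDodecad := by
        decide +kernel
      exact this q hq
  · intro a ha b hb c hc d hd hab hcd
    simp only [Finset.mem_erase] at ha hb hc hd
    exact M11_map_two ha.2 hb.2 hc.2 hd.2 ha.1 hb.1 hc.1 hd.1 hab hcd
  · intro h
    have := card_M11
    rw [h, Subgroup.card_bot] at this
    omega

theorem M12_simple : IsSimpleGroup Cfsg.Spor.M12 := by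
  haveI := M11_simple
  have hcard : (toSet baseDodecad).card = 12 := by decide +kernel
  have e : Cfsg.Spor.M12 ⊓ MulAction.stabilizer (Equiv.Perm GolayPt) (pt 0) = Cfsg.Spor.M11 := by
    ext g
    rw [Subgroup.mem_inf, mem_M11]
    exact Iff.rfl
  refine perm_isSimple_of_stabilizer _ (toSet baseDodecad) ?_ ?_ ?_ (pt 0) (by decide +kernel)
    (MulEquiv.isSimpleGroup (MulEquiv.subgroupCongr e)) (p := 2) (q := 3) (by norm_num) (by norm_num)
    (by norm_num) (by rw [hcard]; norm_num) (by rw [hcard]; norm_num)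
  · intro g hg x hx
    rw [← (mem_M12.1 hg).2]
    exact Finset.smul_mem_smul_finset hx
  · intro g hg h
    refine eq_one_of_dodecad (mem_M12.1 hg).1 (mem_M12.1 hg).2 fun q hq => h q ?_
    have : ∀ p : GolayPt, (ptEquiv p).val ∈ [0, 1, 2, 3, 4] → p ∈ toSet baseDodecad := by
      decide +kernel
    exact this q hq
  · intro a ha b hb c hc d hd hab hcd
    exact M12_map_two ha hb hc hd hab hcd

theorem stabilizer_dodecad_equiv {d : Finset GolayPt} (hd : d ∈ dodecads) :
    Nonempty (MulAction.stabilizer M24 d ≃* Cfsg.Spor.M12) := by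
  obtain ⟨g, hg, hgd⟩ := dodecads_transitive hd
  refine ⟨((MulAction.stabilizerEquivStabilizer (g := (⟨g, hg⟩ : M24)) (a := toSet baseDodecad)
    (b := d) hgd.symm).symm).trans (subEquiv _ ?_)⟩
  ext x
  rw [Subgroup.mem_map, mem_M12]
  exact ⟨by rintro ⟨y, hy, rfl⟩; exact ⟨y.2, hy⟩, fun h => ⟨⟨x, h.1⟩, h.2, rfl⟩⟩

theorem stabilizer_dodecad_point_equiv {d : Finset GolayPt} (hd : d ∈ dodecads) {p : GolayPt}
    (hp : p ∈ d) :
    Nonempty (↥(MulAction.stabilizer M24 d ⊓ MulAction.stabilizer M24 p) ≃* Cfsg.Spor.M11) := by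
  obtain ⟨g, hg, hgd, hgp⟩ := dodecad_point_transitive hd hp
  have e1 : MulAction.stabilizer M24 d ⊓ MulAction.stabilizer M24 p =
      MulAction.stabilizer M24 (d, p) := by
    ext x; simp [MulAction.mem_stabilizer_iff, Prod.ext_iff]
  refine ⟨((MulEquiv.subgroupCongr e1).trans ((MulAction.stabilizerEquivStabilizer
    (g := (⟨g, hg⟩ : M24)) (a := (toSet baseDodecad, pt 0)) (b := (d, p))
    (Prod.ext hgd.symm hgp.symm)).symm)).trans (subEquiv _ ?_)⟩
  ext x
  rw [mem_M11, mem_M12, Subgroup.mem_map]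
  exact ⟨by rintro ⟨y, hy, rfl⟩; exact ⟨⟨y.2, congrArg Prod.fst hy⟩, congrArg Prod.snd hy⟩,
    fun h => ⟨⟨x, h.1.1⟩, Prod.ext h.1.2 h.2, rfl⟩⟩

theorem m11cChain_check : chainCheck 24 m11cChainGens m11cChainSteps [] m11cChainLevels = true := by
  decide +kernel

theorem m11cChain_full : ∀ k < 3, ∀ i < 24, baseDodecad.testBit i = false →
    i ∈ ((m11cChainLevels.take k).map (·.base)) ∨
      i ∈ (m11cChainLevels.getD k ⟨0, [], []⟩).imgs := by decide +kernel

theorem m11cChain_base : m11cChainLevels.map (·.base) = [5, 7, 10] := by decide +kernel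

/-- M₁₁ is 3-transitive outside the dodecad. -/
theorem M11_map_three_outside (x y : Fin 3 ↪ GolayPt) (hx : ∀ i, x i ∉ toSet baseDodecad)
    (hy : ∀ i, y i ∉ toSet baseDodecad) : ∃ g ∈ Cfsg.Spor.M11, ∀ i, g (x i) = y i := by
  have hgens : ∀ g ∈ m11cChainGens, permOf ptEquiv g ∈ Cfsg.Spor.M11 := by
    intro g hg
    have hc : ∀ g ∈ m11cChainGens, subTest [0] baseDodecad g = true := by decide +kernel
    obtain ⟨-, hm, hf, hd⟩ := subTest_spec (hc g hg)
    exact mem_M11.2 ⟨mem_M12.2 ⟨hm, hd⟩, hf 0 (by simp)⟩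
  have hlen : m11cChainLevels.length = 3 := by
    simpa using congrArg List.length m11cChain_base
  have hb3 : ∀ i : Fin 3, (pt ([5, 7, 10].getD i.val 0)) ∉ toSet baseDodecad := by decide +kernel
  have base : ∀ z : Fin 3 ↪ GolayPt, (∀ i, z i ∉ toSet baseDodecad) →
      ∃ g ∈ Cfsg.Spor.M11, ∀ i : Fin 3, g (pt ([5, 7, 10].getD i.val 0)) = z i := by
    intro z hz
    obtain ⟨g, hg, hgi⟩ := chain_map ptEquiv Cfsg.Spor.M11 {q | q ∉ toSet baseDodecad}
      (fun g hg q hq h => hq ((Finset.smul_mem_smul_finset_iff g).1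
        (by rw [(mem_M12.1 (M11_le_M12 hg)).2]; exact h)))
      (chainCheck_ok m11cChain_check) (chainCheck_reps _ _ m11cChain_check hgens)
      (fun k l hk q hq hnot => by
        have hk3 : k < 3 := hlen ▸ (List.getElem?_eq_some_iff.1 hk).1
        have hq' : baseDodecad.testBit (ptEquiv q).val = false := by
          rw [Bool.eq_false_iff]
          exact fun h => hq (mem_toSet.2 h)
        rcases m11cChain_full k hk3 _ (ptEquiv q).isLt hq' with h | h
        · exact absurd (by simpa using h) hnot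
        · rwa [List.getD_eq_getElem?_getD, hk, Option.getD_some] at h)
      (List.ofFn z) (by simp [hlen]) (List.nodup_ofFn.2 z.injective)
      (fun w hw => by
        obtain ⟨i, rfl⟩ := List.mem_ofFn.1 hw
        exact hz i)
      (by simp)
    refine ⟨g, hg.1, fun i => ?_⟩
    rw [hgi i.val (hlen.symm ▸ i.isLt) (by simp) (pt _) ?_, List.getElem_ofFn]
    have e := congrArg (fun l : List ℕ => l.getD i.val 0) m11cChain_base
    rw [List.getD_eq_getElem _ _ (by rw [List.length_map, hlen]; exact i.isLt), List.getElem_map] at e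
    rw [e, ptEquiv_pt]
    fin_cases i <;> decide
  obtain ⟨a, ha, hax⟩ := base x hx
  obtain ⟨b, hb, hby⟩ := base y hy
  refine ⟨b * a⁻¹, mul_mem hb (inv_mem ha), fun i => ?_⟩
  rw [Equiv.Perm.mul_apply, ← hax i, ← hby i]
  simp

end CfsgLib.Golay
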