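import Cfsg.Agent.Lib.Golay.Code

/-!
The translation, the inversion and the cube twist as lists of images.
-/

set_option autoImplicit false

namespace CfsgLib.Golay

open Cfsg

/-- `x ↦ x + 1`. -/
def transL : List ℕ := [1, 2, 3, 4, 5, 6, 7, 8, 9, 10, 11, 12, 13, 14, 15, 16, 17, 18, 19, 20, 21, 22, 0, 23]

/-- `x ↦ -1/x`. -/
def projL : List ℕ := [23, 22, 11, 15, 17, 9, 19, 13, 20, 5, 16, 2, 21, 7, 18, 3, 10, 4, 14, 6, 8, 12, 1, 0]

/-- The cube twist. -/
def twistL : List ℕ := [0, 18, 6, 3, 2, 21, 1, 5, 16, 12, 7, 19, 8, 9, 17, 15, 13, 11, 4, 22, 10, 20, 14, 23]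

/-- Multiplication by a residue, as a list. -/
def mulList (u : ℕ) : List ℕ := (List.range 23).map (fun i => u * i % 23) ++ [23]

theorem perm_eq_permOf {g : Equiv.Perm GolayPt} {L : List ℕ} (hv : validL 24 L = true)
    (h : ∀ p, (ptEquiv (g p)).val = L.getD (ptEquiv p).val 0) : g = permOf ptEquiv L := by
  ext1 p
  apply ptEquiv.injective
  apply Fin.ext
  rw [h, permOf_apply _ hv]

theorem translation_eq :
    Equiv.optionCongr (Equiv.addRight (1 : ZMod 23)) = permOf ptEquiv transL :=
  perm_eq_permOf (by decide +kernel) (by decide +kernel)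

theorem projInv_eq : Cfsg.projInv = permOf ptEquiv projL :=
  perm_eq_permOf (by decide +kernel) (by decide +kernel)

theorem cubeTwist_eq : Cfsg.cubeTwist = permOf ptEquiv twistL :=
  perm_eq_permOf (by decide +kernel) (fun p => by
    rw [Cfsg.cubeTwist, Equiv.ofBijective_apply]
    revert p
    decide +kernel)

theorem translation_mem : permOf ptEquiv transL ∈ M24 := mem_M24_of_test (by decide +kernel)

theorem projInv_mem : permOf ptEquiv projL ∈ M24 := mem_M24_of_test (by decide +kernel)

theorem cubeTwist_mem : permOf ptEquiv twistL ∈ M24 := mem_M24_of_test (by decide +kernel)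

end CfsgLib.Golay
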