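import Cfsg.Prelude.Def_Spor_Mathieu
import Cfsg.Agent.Lib.Golay.M24Cert
import Cfsg.Agent.Lib.Golay.M24Gens

/-!
The group of the length-24 code: order, generation and multiple transitivity.
-/

set_option autoImplicit false

namespace CfsgLib.Golay

open Cfsg

open scoped Pointwise

/-- The kernel check of a chain together with its straight-line program. -/
def chainCheck (n : ℕ) (gens : List (List ℕ)) (steps : List Step) (fixed : List ℕ)
    (ls : List Level) : Bool :=
  slpOk n gens steps && chainOk n fixed ls &&
    ls.all fun l => l.reps.all fun L => (gens ++ steps.map (·.1)).contains L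

theorem chainCheck_slp {n : ℕ} {gens : List (List ℕ)} {steps : List Step} {fixed : List ℕ}
    {ls : List Level} (h : chainCheck n gens steps fixed ls = true) :
    slpOk n gens steps = true := by
  simp only [chainCheck, Bool.and_eq_true] at h; exact h.1.1

theorem chainCheck_ok {n : ℕ} {gens : List (List ℕ)} {steps : List Step} {fixed : List ℕ}
    {ls : List Level} (h : chainCheck n gens steps fixed ls = true) :
    chainOk n fixed ls = true := by
  simp only [chainCheck, Bool.and_eq_true] at h; exact h.1.2

theorem chainCheck_reps {α : Type*} {n : ℕ} (e : α ≃ Fin n) (K : Subgroup (Equiv.Perm α))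
    {gens : List (List ℕ)} {steps : List Step} {fixed : List ℕ} {ls : List Level}
    (h : chainCheck n gens steps fixed ls = true) (hgen : ∀ g ∈ gens, permOf e g ∈ K) :
    RepsMem e K ls := by
  have hs := slp_mem e K (chainCheck_slp h) hgen
  simp only [chainCheck, Bool.and_eq_true, List.all_eq_true, List.contains_iff_mem] at h
  exact fun l hl L hL => (hs L (h.2 l hl L hL)).2

/-- The elements of `K` that fix the points numbered in `req` map the mask `mask` to itself. -/
def InvOn (K : Subgroup (Equiv.Perm GolayPt)) (req : List ℕ) (mask : ℕ) : Prop :=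
  ∀ g ∈ K, (∀ q : GolayPt, (ptEquiv q).val ∈ req → g q = q) → g • toSet mask = toSet mask

/-- The check that the listed images exhaust an invariant mask. -/
def coverCheck : List ℕ → List Level → List (List ℕ × ℕ) → Bool
  | _, [], _ => true
  | fixed, l :: ls, (req, mask) :: rs =>
    req.all (fun i => fixed.contains i) && mask.testBit l.base && !fixed.contains l.base &&
      (List.range 24).all (fun i => !mask.testBit i || fixed.contains i || l.imgs.contains i) &&
        coverCheck (fixed ++ [l.base]) ls rs
  | _, _ :: _, [] => false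

theorem coverOk_of_check (K : Subgroup (Equiv.Perm GolayPt)) :
    ∀ {fixed : List ℕ} {ls : List Level} {rs : List (List ℕ × ℕ)},
      coverCheck fixed ls rs = true → (∀ r ∈ rs, InvOn K r.1 r.2) →
      (∀ g ∈ K, (∀ q : GolayPt, (ptEquiv q).val ∈ fixed ++ ls.map (·.base) → g q = q) → g = 1) →
      CoverOk ptEquiv K fixed ls
  | fixed, [], _, _, _, hend => fun g hg hfix => hend g hg (by simpa using hfix)
  | fixed, l :: ls, (req, mask) :: rs, hc, hinv, hend => by
    simp only [coverCheck, Bool.and_eq_true, List.all_eq_true, List.contains_iff_mem,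
      Bool.or_eq_true, Bool.not_eq_true', List.mem_range] at hc
    obtain ⟨⟨⟨⟨hreq, hbase⟩, hnotin⟩, hall⟩, hrec⟩ := hc
    refine ⟨fun g hg hfix q hq => ?_, ?_⟩
    · have hinv' := hinv _ List.mem_cons_self g hg fun r hr => hfix r (hreq _ hr)
      have hqm : q ∈ toSet mask := mem_toSet.2 (hq ▸ hbase)
      have hgq : g q ∈ toSet mask := by
        rw [← hinv']; exact Finset.smul_mem_smul_finset hqm
      rcases hall _ (ptEquiv (g q)).isLt with (h | h) | h
      · rw [mem_toSet] at hgq
        simp [hgq] at h
      · have := hfix (g q) h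
        have heq : g q = q := g.injective this
        rw [heq, hq] at h
        simp only [List.contains_eq_mem, decide_eq_false_iff_not] at hnotin
        exact absurd h hnotin
      · exact h
    · exact coverOk_of_check K hrec (fun r hr => hinv r (List.mem_cons_of_mem _ hr))
        (by simpa [List.append_assoc] using hend)
  | fixed, _ :: _, [], hc, _, _ => by simp [coverCheck] at hc

theorem invOn_full (K : Subgroup (Equiv.Perm GolayPt)) (req : List ℕ) : InvOn K req 16777215 := by
  intro g _ _
  have : toSet 16777215 = Finset.univ := by decide +kernel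
  rw [this, Finset.smul_finset_univ]

/-- The mask of the octad through the first five base points. -/
def baseOctad : ℕ := 5279

/-- The mask of the dodecad of squares. -/
def baseDodecad : ℕ := 340831

theorem baseOctad_mem : toSet baseOctad ∈ octads :=
  mem_wordsOfWeight.2 ⟨baseOctad, mem_golayList_of_inCode (by decide +kernel), by decide +kernel, rfl⟩

theorem baseDodecad_mem : toSet baseDodecad ∈ dodecads :=
  mem_wordsOfWeight.2
    ⟨baseDodecad, mem_golayList_of_inCode (by decide +kernel), by decide +kernel, rfl⟩

theorem squareDodecad_eq : Cfsg.Spor.squareDodecad = toSet baseDodecad := by decide +kernel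

theorem five_le_card_of_mem {s : Finset GolayPt} {l : List ℕ} (hl : l.Nodup)
    (hlen : 5 ≤ l.length) (hlt : ∀ i ∈ l, i < 24) (h : ∀ i ∈ l, pt i ∈ s) : 5 ≤ s.card := by
  refine hlen.trans ?_
  rw [← List.toFinset_card_of_nodup hl]
  refine Finset.card_le_card_of_injOn pt (fun i hi => h i (List.mem_toFinset.1 hi)) ?_
  intro a ha b hb hab
  have ha' := hlt a (List.mem_toFinset.1 ha)
  have hb' := hlt b (List.mem_toFinset.1 hb)
  simpa [ptEquiv_pt ha', ptEquiv_pt hb'] using congrArg (fun p => (ptEquiv p).val) hab

/-- An element fixing five points of an octad fixes the octad. -/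
theorem smul_octad_of_fixed {g : Equiv.Perm GolayPt} (hg : g ∈ M24) {o : ℕ}
    (ho : toSet o ∈ octads) (l : List ℕ) (hl : l.Nodup) (hlen : 5 ≤ l.length)
    (hlt : ∀ i ∈ l, i < 24) (hmem : ∀ i ∈ l, o.testBit i = true)
    (hfix : ∀ q : GolayPt, (ptEquiv q).val ∈ l → g q = q) : g • toSet o = toSet o := by
  refine octad_unique (octads_smul hg ho) ho (five_le_card_of_mem hl hlen hlt fun i hi => ?_)
  have hi' : pt i ∈ toSet o := (pt_mem_toSet (hlt i hi)).2 (hmem i hi)
  refine Finset.mem_inter.2 ⟨?_, hi'⟩
  have := Finset.smul_mem_smul_finset (a := g) hi'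
  rwa [Equiv.Perm.smul_def, hfix _ (by rwa [ptEquiv_pt (hlt i hi)])] at this

theorem invOn_baseOctad (K : Subgroup (Equiv.Perm GolayPt)) (hK : K ≤ M24) :
    InvOn K [0, 1, 2, 3, 4] baseOctad := fun _ hg hfix =>
  smul_octad_of_fixed (hK hg) baseOctad_mem _ (by decide) (by decide) (by decide)
    (by decide +kernel) hfix

theorem invOn_baseOctad_compl (K : Subgroup (Equiv.Perm GolayPt)) (hK : K ≤ M24) :
    InvOn K [0, 1, 2, 3, 4] (16777215 ^^^ baseOctad) := by
  intro g hg hfix
  rw [toSet_xor, Finset.smul_finset_symmDiff, invOn_baseOctad K hK g hg hfix,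
    invOn_full K [] g hg (by simp)]

/-- The check of a derivation that fixed points determine an element. -/
def fixCheck : List ℕ → List (ℕ × List ℕ) → Bool
  | F, [] => (List.range 24).all fun i => F.contains i
  | F, (x, os) :: rest =>
    decide (x < 24) &&
    os.all (fun o => inCode o && decide (bitCount o = 8) &&
      decide (5 ≤ ((List.range 24).filter fun i => o.testBit i && F.contains i).length)) &&
    decide ((List.range 24).filter (fun i => os.all (fun o => o.testBit i) && !F.contains i) = [x]) &&
    fixCheck (x :: F) rest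

theorem eq_one_of_fixCheck {g : Equiv.Perm GolayPt} (hg : g ∈ M24) :
    ∀ {F : List ℕ} {st : List (ℕ × List ℕ)}, fixCheck F st = true →
      (∀ q : GolayPt, (ptEquiv q).val ∈ F → g q = q) → g = 1
  | F, [], h, hfix => by
    simp only [fixCheck, List.all_eq_true, List.contains_iff_mem, List.mem_range] at h
    exact Equiv.ext fun q => hfix q (h _ (ptEquiv q).isLt)
  | F, (x, os) :: rest, h, hfix => by
    simp only [fixCheck, Bool.and_eq_true, List.all_eq_true, decide_eq_true_eq] at h
    obtain ⟨⟨⟨hx, hos⟩, hlist⟩, hrest⟩ := h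
    refine eq_one_of_fixCheck hg hrest fun q hq => ?_
    rcases List.mem_cons.1 hq with hq | hq
    · have hmem : ∀ i, i ∈ (List.range 24).filter
          (fun i => os.all (fun o => o.testBit i) && !F.contains i) ↔ i = x := by
        rw [hlist]; simp
      simp only [List.mem_filter, List.mem_range, Bool.and_eq_true, List.all_eq_true,
        Bool.not_eq_true', List.contains_eq_mem, decide_eq_false_iff_not] at hmem
      obtain ⟨-, hxo, hxF⟩ := (hmem x).2 rfl
      have key : (ptEquiv (g q)).val = x := by
        refine (hmem _).1 ⟨(ptEquiv (g q)).isLt, fun o ho => ?_, fun hF => ?_⟩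
        · obtain ⟨⟨hcode, h8⟩, h5⟩ := hos o ho
          have hfixo : g • toSet o = toSet o := by
            refine smul_octad_of_fixed hg
              (mem_wordsOfWeight.2 ⟨o, mem_golayList_of_inCode hcode, h8, rfl⟩)
              _ (List.nodup_range.filter _) h5 ?_ ?_ ?_
            · intro i hi; simp at hi; exact hi.1
            · intro i hi; simp at hi; exact hi.2.1
            · intro r hr; simp at hr; exact hfix r hr.2
          rw [← mem_toSet, ← hfixo]
          exact Finset.smul_mem_smul_finset (mem_toSet.2 (hq ▸ hxo o ho))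
        · have : g q = q := g.injective (hfix _ hF)
          rw [this, hq] at hF
          exact hxF hF
      exact ptEquiv.injective (Fin.ext (key.trans hq.symm))
    · exact hfix q hq

theorem fixDerivation_ok : fixCheck [0, 1, 2, 3, 4, 12, 5] fixDerivation = true := by
  decide +kernel

/-- An element of the group fixing the seven base points is trivial. -/
theorem eq_one_of_base {g : Equiv.Perm GolayPt} (hg : g ∈ M24)
    (h : ∀ q : GolayPt, (ptEquiv q).val ∈ [0, 1, 2, 3, 4, 12, 5] → g q = q) : g = 1 :=
  eq_one_of_fixCheck hg fixDerivation_ok h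

/-! ### The main chain -/

theorem m24Chain_check : chainCheck 24 m24ChainGens m24ChainSteps [] m24ChainLevels = true := by
  decide +kernel

theorem m24ChainGens_mem : ∀ L ∈ m24ChainGens, permOf ptEquiv L ∈ M24 := by
  intro L hL
  rcases List.mem_cons.1 hL with rfl | hL
  · exact translation_mem
  rcases List.mem_cons.1 hL with rfl | hL
  · exact projInv_mem
  rcases List.mem_cons.1 hL with rfl | hL
  · exact cubeTwist_mem
  · simp at hL

theorem m24Chain_reps : RepsMem ptEquiv M24 m24ChainLevels :=
  chainCheck_reps _ _ m24Chain_check m24ChainGens_mem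

/-- The invariant masks of the seven levels. -/
def m24Masks : List (List ℕ × ℕ) :=
  [([], 16777215), ([], 16777215), ([], 16777215), ([], 16777215), ([], 16777215),
    ([0, 1, 2, 3, 4], baseOctad), ([0, 1, 2, 3, 4], 16777215 ^^^ baseOctad)]

theorem m24Masks_inv (K : Subgroup (Equiv.Perm GolayPt)) (hK : K ≤ M24) :
    ∀ r ∈ m24Masks, InvOn K r.1 r.2 := by
  intro r hr
  simp only [m24Masks, List.mem_cons, List.not_mem_nil, or_false] at hr
  rcases hr with rfl | rfl | rfl | rfl | rfl | rfl | rfl
  · exact invOn_full K _
  · exact invOn_full K _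
  · exact invOn_full K _
  · exact invOn_full K _
  · exact invOn_full K _
  · exact invOn_baseOctad K hK
  · exact invOn_baseOctad_compl K hK

theorem m24Chain_cover : CoverOk ptEquiv M24 [] m24ChainLevels :=
  coverOk_of_check M24 (rs := m24Masks) (by decide +kernel) (m24Masks_inv _ le_rfl)
    fun g hg hfix => eq_one_of_base hg fun q hq => hfix q (by
      have : m24ChainLevels.map (·.base) = [0, 1, 2, 3, 4, 12, 5] := by decide +kernel
      rwa [this, List.nil_append])

theorem card_M24 : Nat.card M24 = 244823040 := by
  have h := chain_card ptEquiv M24 (chainCheck_ok m24Chain_check) m24Chain_reps m24Chain_cover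
  rw [fixNums_nil] at h
  rw [h]
  decide +kernel

theorem M24_le_of_gens {M : Subgroup (Equiv.Perm GolayPt)}
    (h : ∀ L ∈ m24ChainGens, permOf ptEquiv L ∈ M) : M24 ≤ M := by
  have := chain_le ptEquiv M24 M (chainCheck_ok m24Chain_check) m24Chain_reps m24Chain_cover
    (chainCheck_reps _ _ m24Chain_check h)
  rwa [fixNums_nil] at this

theorem M24_eq_closure :
    Subgroup.closure {Equiv.optionCongr (Equiv.addRight (1 : ZMod 23)), Cfsg.projInv, Cfsg.cubeTwist}
      = M24 := by
  rw [translation_eq, projInv_eq, cubeTwist_eq]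
  refine le_antisymm ((Subgroup.closure_le _).2 ?_) (M24_le_of_gens ?_)
  · rintro g (rfl | rfl | rfl)
    exacts [translation_mem, projInv_mem, cubeTwist_mem]
  · intro L hL
    rcases List.mem_cons.1 hL with rfl | hL
    · exact Subgroup.subset_closure (Or.inl rfl)
    rcases List.mem_cons.1 hL with rfl | hL
    · exact Subgroup.subset_closure (Or.inr (Or.inl rfl))
    rcases List.mem_cons.1 hL with rfl | hL
    · exact Subgroup.subset_closure (Or.inr (Or.inr rfl))
    · simp at hL

theorem m24Chain_five :
    chainCheck 24 m24ChainGens m24ChainSteps [] (m24ChainLevels.take 5) = true := by decide +kernel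

theorem m24Chain_five_base : (m24ChainLevels.take 5).map (·.base) = [0, 1, 2, 3, 4] := by
  decide +kernel

theorem m24Chain_five_full : ∀ k < 5, ∀ i < 24,
    i ∈ ((m24ChainLevels.take k).map (·.base)) ∨
      i ∈ (m24ChainLevels.getD k ⟨0, [], []⟩).imgs := by decide +kernel

/-- Five distinct points are the images of the first five base points. -/
theorem exists_map_five (ys : List GolayPt) (hlen : ys.length = 5) (hnd : ys.Nodup) :
    ∃ g ∈ M24, ∀ i (hi : i < 5), g (pt i) = ys[i]'(hlen ▸ hi) := by
  have hls : (m24ChainLevels.take 5).length = 5 := by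
    simpa using congrArg List.length m24Chain_five_base
  obtain ⟨g, hg, hgi⟩ := chain_map ptEquiv M24 Set.univ (fun _ _ _ _ => Set.mem_univ _)
    (chainCheck_ok m24Chain_five) (chainCheck_reps _ _ m24Chain_five m24ChainGens_mem)
    (fun k l hk x _ hx => by
      have hk5 : k < 5 := by
        rw [← hls]; exact (List.getElem?_eq_some_iff.1 hk).1
      rw [List.take_take, Nat.min_eq_left hk5.le] at hx
      rw [List.getElem?_take_of_lt hk5] at hk
      rcases m24Chain_five_full k hk5 _ (ptEquiv x).isLt with h | h
      · exact absurd (by simpa using h) hx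
      · rwa [List.getD_eq_getElem?_getD, hk, Option.getD_some] at h)
    ys (hlen.trans hls.symm) hnd (fun _ _ => Set.mem_univ _) (by simp)
  refine ⟨g, hg.1, fun i hi => hgi i (hls.symm ▸ hi) (hlen ▸ hi) (pt i) ?_⟩
  rw [ptEquiv_pt (by omega)]
  have := congrArg (fun l : List ℕ => l.getD i 0) m24Chain_five_base
  rw [List.getD_eq_getElem _ _ (by rw [List.length_map, hls]; exact hi), List.getElem_map] at this
  rw [this]
  interval_cases i <;> rfl

theorem M24_five_transitive : MulAction.IsMultiplyPretransitive M24 GolayPt 5 := by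
  refine ⟨fun x y => ?_⟩
  have base : ∀ z : Fin 5 ↪ GolayPt, ∃ g ∈ M24, ∀ i : Fin 5, g (pt i.val) = z i := by
    intro z
    obtain ⟨g, hg, hgi⟩ := exists_map_five (List.ofFn z) (by simp) (List.nodup_ofFn.2 z.injective)
    exact ⟨g, hg, fun i => by rw [hgi i.val i.isLt, List.getElem_ofFn]⟩
  obtain ⟨a, ha, hax⟩ := base x
  obtain ⟨b, hb, hby⟩ := base y
  refine ⟨⟨b * a⁻¹, mul_mem hb (inv_mem ha)⟩, ?_⟩
  refine DFunLike.ext _ _ fun i => ?_
  show (b * a⁻¹) (x i) = y i
  rw [Equiv.Perm.mul_apply, ← hax i, ← hby i]
  simp

/-- Five points lie in an octad that is an image of the base octad. -/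
theorem exists_octad_map (s : Finset GolayPt) (hs : s.card = 5) :
    ∃ g ∈ M24, s ⊆ g • toSet baseOctad := by
  obtain ⟨g, hg, hgi⟩ := exists_map_five s.toList (by simpa using hs) s.nodup_toList
  refine ⟨g, hg, fun x hx => ?_⟩
  obtain ⟨i, hi, rfl⟩ := List.mem_iff_getElem.1 (Finset.mem_toList.2 hx)
  have hi5 : i < 5 := by simpa [hs] using hi
  rw [← hgi i hi5]
  refine Finset.smul_mem_smul_finset ((pt_mem_toSet (by omega)).2 ?_)
  interval_cases i <;> decide +kernel

theorem octads_steiner : IsSteinerSystem 5 8 octads := by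
  refine ⟨fun b hb => hb.2, fun s hs => ?_⟩
  obtain ⟨g, hg, hsub⟩ := exists_octad_map s hs
  refine ⟨g • toSet baseOctad, ⟨octads_smul hg baseOctad_mem, hsub⟩, fun b hb => ?_⟩
  refine octad_unique hb.1 (octads_smul hg baseOctad_mem) ?_
  rw [← hs]
  exact Finset.card_le_card (Finset.subset_inter hb.2 hsub)

theorem octads_transitive {o : Finset GolayPt} (ho : o ∈ octads) :
    ∃ g ∈ M24, g • toSet baseOctad = o := by
  have h8 : o.card = 8 := ho.2
  obtain ⟨s, hs, hs5⟩ := Finset.exists_subset_card_eq (show 5 ≤ o.card by omega)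
  obtain ⟨g, hg, hsub⟩ := exists_octad_map s hs5
  refine ⟨g, hg, octad_unique (octads_smul hg baseOctad_mem) ho ?_⟩
  rw [← hs5]
  exact Finset.card_le_card (Finset.subset_inter hsub hs)

end CfsgLib.Golay
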