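import Cfsg.Agent.Lib.Golay.Dodecad

/-!
Order and simplicity of the five Mathieu groups as defined in `Cfsg.Spor`.
-/

set_option autoImplicit false

namespace CfsgLib.Golay

open Cfsg

theorem sporM23_equiv : Nonempty (Cfsg.Spor.M23 ≃* stabOne) := by
  obtain ⟨e⟩ := stabilizer_point_equiv (none : GolayPt)
  refine ⟨(subEquiv _ ?_).symm.trans e⟩
  ext x
  rw [Cfsg.Spor.M23, Subgroup.mem_inf, Subgroup.mem_map]
  exact ⟨by rintro ⟨y, hy, rfl⟩; exact ⟨y.2, hy⟩, fun h => ⟨⟨x, h.1⟩, h.2, rfl⟩⟩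

theorem sporM22_equiv : Nonempty (Cfsg.Spor.M22 ≃* stabTwo) := by
  obtain ⟨e⟩ := stabilizer_pair_equiv (show (none : GolayPt) ≠ some 0 by simp)
  refine ⟨(subEquiv _ ?_).symm.trans e⟩
  ext x
  rw [Cfsg.Spor.M22, Cfsg.Spor.M23, Subgroup.mem_inf, Subgroup.mem_inf, Subgroup.mem_map]
  exact ⟨by rintro ⟨y, hy, rfl⟩; exact ⟨⟨y.2, (Subgroup.mem_inf.1 hy).1⟩, (Subgroup.mem_inf.1 hy).2⟩,
    fun h => ⟨⟨x, h.1.1⟩, ⟨h.1.2, h.2⟩, rfl⟩⟩

theorem card_sporM23 : Nat.card Cfsg.Spor.M23 = 10200960 := by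
  obtain ⟨e⟩ := sporM23_equiv
  rw [Nat.card_congr e.toEquiv, card_stabOne]

theorem card_sporM22 : Nat.card Cfsg.Spor.M22 = 443520 := by
  obtain ⟨e⟩ := sporM22_equiv
  rw [Nat.card_congr e.toEquiv, card_stabTwo]

theorem sporM23_simple : IsSimpleGroup Cfsg.Spor.M23 := by
  obtain ⟨e⟩ := sporM23_equiv
  haveI := stabOne_simple
  exact e.isSimpleGroup

theorem sporM22_simple : IsSimpleGroup Cfsg.Spor.M22 := by
  obtain ⟨e⟩ := sporM22_equiv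
  haveI := stabTwo_simple
  exact e.isSimpleGroup

end CfsgLib.Golay
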