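import Mathlib

/-!
Permutations of a finite type given as lists of natural numbers (through a chosen numbering
`e : α ≃ Fin n`), straight-line programs checked by the kernel, and the counting lemma behind a
stabiliser chain.
-/

set_option autoImplicit false

namespace CfsgLib.Golay

variable {α : Type*} {n : ℕ}

/-- Composition of permutation lists: `(compL A B)[i] = A[B[i]]`. -/
def compL (A B : List ℕ) : List ℕ := B.map fun i => A.getD i 0

/-- The inverse of a permutation list. -/
def invL (A : List ℕ) : List ℕ := (List.range A.length).map fun i => A.idxOf i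

/-- A list is a permutation of `0, ..., n - 1`. -/
def validL (n : ℕ) (L : List ℕ) : Bool :=
  L.length == n && L.all (fun i => decide (i < n)) && (List.range n).all fun i => L.contains i

theorem validL_iff {L : List ℕ} : validL n L = true ↔
    L.length = n ∧ (∀ i ∈ L, i < n) ∧ ∀ i < n, i ∈ L := by
  simp [validL, and_assoc]

theorem validL_getD_lt {L : List ℕ} (h : validL n L = true) {i : ℕ} (hi : i < n) :
    L.getD i 0 < n := by
  obtain ⟨h1, h2, -⟩ := validL_iff.1 h
  have hi' : i < L.length := by omega
  rw [List.getD_eq_getElem _ _ hi']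
  exact h2 _ (List.getElem_mem hi')

theorem validL_surj {L : List ℕ} (h : validL n L = true) (j : Fin n) :
    ∃ i : Fin n, L.getD i.val 0 = j.val := by
  obtain ⟨h1, -, h3⟩ := validL_iff.1 h
  obtain ⟨i, hi, hij⟩ := List.mem_iff_getElem.1 (h3 j.val j.isLt)
  exact ⟨⟨i, h1 ▸ hi⟩, by rw [List.getD_eq_getElem _ _ hi, hij]⟩

/-- The permutation of `α` described by a list of images, in the numbering `e`. -/
noncomputable def permOf (e : α ≃ Fin n) (L : List ℕ) : Equiv.Perm α :=
  if h : validL n L = true then
    e.trans ((Equiv.ofBijective (fun i : Fin n => (⟨L.getD i.val 0, validL_getD_lt h i.isLt⟩ : Fin n))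
      (Finite.surjective_iff_bijective.1 fun j => by
        obtain ⟨i, hi⟩ := validL_surj h j
        exact ⟨i, Fin.ext hi⟩)).trans e.symm)
  else 1

theorem permOf_apply (e : α ≃ Fin n) {L : List ℕ} (h : validL n L = true) (a : α) :
    (e (permOf e L a)).val = L.getD (e a).val 0 := by
  simp [permOf, dif_pos h]

theorem compL_length (A B : List ℕ) : (compL A B).length = B.length := by simp [compL]

theorem compL_getD {A B : List ℕ} (hB : validL n B = true) {i : ℕ} (hi : i < n) :
    (compL A B).getD i 0 = A.getD (B.getD i 0) 0 := by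
  have hl : i < B.length := by rw [(validL_iff.1 hB).1]; exact hi
  rw [List.getD_eq_getElem _ _ (by rw [compL_length]; exact hl), List.getD_eq_getElem B _ hl]
  simp [compL]

theorem permOf_comp (e : α ≃ Fin n) {A B : List ℕ} (hA : validL n A = true)
    (hB : validL n B = true) (hAB : validL n (compL A B) = true) :
    permOf e (compL A B) = permOf e A * permOf e B := by
  ext a
  apply e.injective
  apply Fin.ext
  rw [Equiv.Perm.mul_apply, permOf_apply e hAB, permOf_apply e hA, permOf_apply e hB,
    compL_getD hB (e a).isLt]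

theorem permOf_id (e : α ≃ Fin n) (h : validL n (List.range n) = true) :
    permOf e (List.range n) = 1 := by
  ext a
  apply e.injective
  apply Fin.ext
  rw [permOf_apply e h, List.getD_eq_getElem _ _ (by simp)]
  simp

/-- One step of a straight-line program: `(L, inv, i, j)` says that `L` is `T i * T j`, or
`(T i)⁻¹ * T j` when `inv` holds, with `i` and `j` earlier entries of the table. -/
abbrev Step := List ℕ × Bool × ℕ × ℕ

/-- Check of one step against the table. -/
def stepOk (n k : ℕ) (T : List (List ℕ)) (s : Step) : Bool :=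
  validL n s.1 && decide (s.2.2.1 < k) && decide (s.2.2.2 < k) &&
    (if s.2.1 then decide (compL (T.getD s.2.2.1 []) s.1 = T.getD s.2.2.2 [])
      else decide (s.1 = compL (T.getD s.2.2.1 []) (T.getD s.2.2.2 [])))

/-- Check of a straight-line program on the generators `gens`. -/
def slpOk (n : ℕ) (gens : List (List ℕ)) (steps : List Step) : Bool :=
  gens.all (validL n) && (List.range steps.length).all fun k =>
    stepOk n (gens.length + k) (gens ++ steps.map (·.1)) (steps.getD k ([], false, 0, 0))

theorem slp_mem (e : α ≃ Fin n) (K : Subgroup (Equiv.Perm α)) {gens : List (List ℕ)}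
    {steps : List Step} (hok : slpOk n gens steps = true) (hgen : ∀ g ∈ gens, permOf e g ∈ K) :
    ∀ L ∈ gens ++ steps.map (·.1), validL n L = true ∧ permOf e L ∈ K := by
  simp only [slpOk, Bool.and_eq_true, List.all_eq_true, List.mem_range] at hok
  set T := gens ++ steps.map (·.1) with hT
  suffices key : ∀ k < T.length, validL n (T.getD k []) = true ∧ permOf e (T.getD k []) ∈ K by
    intro L hL
    obtain ⟨k, hk, rfl⟩ := List.mem_iff_getElem.1 hL
    have := key k hk
    rwa [List.getD_eq_getElem _ _ hk] at this
  intro k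
  induction k using Nat.strong_induction_on with
  | _ k ih =>
    intro hk
    have hlen : T.length = gens.length + steps.length := by simp [hT]
    by_cases hkg : k < gens.length
    · have : T.getD k [] = gens[k] := by
        rw [List.getD_eq_getElem _ _ hk]; simp [hT, List.getElem_append_left, hkg]
      rw [this]
      exact ⟨hok.1 _ (List.getElem_mem hkg), hgen _ (List.getElem_mem hkg)⟩
    · obtain ⟨m, rfl⟩ := Nat.exists_eq_add_of_le (Nat.le_of_not_lt hkg)
      have hm : m < steps.length := by omega
      have hs := hok.2 m hm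
      rw [List.getD_eq_getElem _ _ hm] at hs
      have hTm : T.getD (gens.length + m) [] = steps[m].1 := by
        rw [List.getD_eq_getElem _ _ hk]; simp [hT, List.getElem_append_right]
      rw [hTm]
      simp only [stepOk, Bool.and_eq_true, decide_eq_true_eq] at hs
      obtain ⟨⟨⟨hv, hi⟩, hj⟩, hrest⟩ := hs
      obtain ⟨hvi, hKi⟩ := ih _ hi (by omega)
      obtain ⟨hvj, hKj⟩ := ih _ hj (by omega)
      refine ⟨hv, ?_⟩
      split at hrest
      · simp only [decide_eq_true_eq] at hrest
        have h1 := permOf_comp e hvi hv (by rw [hrest]; exact hvj)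
        rw [hrest] at h1
        rw [show permOf e steps[m].1 = (permOf e (T.getD steps[m].2.2.1 []))⁻¹ *
          permOf e (T.getD steps[m].2.2.2 []) by rw [h1, inv_mul_cancel_left]]
        exact K.mul_mem (K.inv_mem hKi) hKj
      · simp only [decide_eq_true_eq] at hrest
        have h1 := permOf_comp e hvi hvj (by rw [← hrest]; exact hv)
        rw [← hrest] at h1
        rw [h1]
        exact K.mul_mem hKi hKj

section Chain

/-- One level of a stabiliser chain: a complete set `T` of coset representatives of the
stabiliser of `p`, recognised by the images of `p`. -/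
theorem card_eq_of_transversal (H : Subgroup (Equiv.Perm α)) (p : α) (T : List (Equiv.Perm α))
    (hT : ∀ t ∈ T, t ∈ H) (hnd : (T.map (· p)).Nodup) (hcov : ∀ h ∈ H, h p ∈ T.map (· p)) :
    Nat.card H = T.length * Nat.card ↥(H ⊓ MulAction.stabilizer (Equiv.Perm α) p) := by
  classical
  have inj : ∀ i j : Fin T.length, T[i.val] p = T[j.val] p → i = j := by
    intro i j h
    have := hnd.getElem_inj_iff (i := i.val) (hi := by simp) (j := j.val) (hj := by simp)
    simp only [List.getElem_map] at this
    exact Fin.ext (this.1 h)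
  have cov : ∀ h : H, ∃ i : Fin T.length, T[i.val] p = (h : Equiv.Perm α) p := by
    intro h
    obtain ⟨i, hi, hij⟩ := List.mem_iff_getElem.1 (hcov h h.2)
    simp only [List.length_map] at hi
    exact ⟨⟨i, hi⟩, by simpa using hij⟩
  let f : Fin T.length × ↥(H ⊓ MulAction.stabilizer (Equiv.Perm α) p) → H := fun x =>
    ⟨T[x.1.val] * x.2.val, H.mul_mem (hT _ (List.getElem_mem _)) (Subgroup.mem_inf.1 x.2.2).1⟩
  have hf : Function.Bijective f := by
    constructor
    · rintro ⟨i, a⟩ ⟨j, b⟩ h
      have h' : T[i.val] * a.val = T[j.val] * b.val := congrArg Subtype.val h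
      have ha : a.val p = p := (Subgroup.mem_inf.1 a.2).2
      have hb : b.val p = p := (Subgroup.mem_inf.1 b.2).2
      have hp : T[i.val] p = T[j.val] p := by
        have := congrArg (fun g : Equiv.Perm α => g p) h'
        simpa [Equiv.Perm.mul_apply, ha, hb] using this
      obtain rfl := inj i j hp
      have hab : a = b := Subtype.ext (mul_left_cancel h')
      rw [hab]
    · intro h
      obtain ⟨i, hi⟩ := cov h
      refine ⟨⟨i, ⟨(T[i.val])⁻¹ * h.val, ?_⟩⟩, ?_⟩
      · refine Subgroup.mem_inf.2 ⟨H.mul_mem (H.inv_mem (hT _ (List.getElem_mem _))) h.2, ?_⟩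
        rw [MulAction.mem_stabilizer_iff, Equiv.Perm.smul_def, Equiv.Perm.mul_apply, ← hi]
        simp
      · exact Subtype.ext (mul_inv_cancel_left _ _)
  rw [← Nat.card_eq_of_bijective f hf, Nat.card_prod, Nat.card_fin]

/-- One level of a stabiliser chain, for containment. -/
theorem le_of_transversal (H K : Subgroup (Equiv.Perm α)) (p : α) (T : List (Equiv.Perm α))
    (hTH : ∀ t ∈ T, t ∈ H) (hTK : ∀ t ∈ T, t ∈ K) (hcov : ∀ h ∈ H, h p ∈ T.map (· p))
    (hrest : H ⊓ MulAction.stabilizer (Equiv.Perm α) p ≤ K) : H ≤ K := by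
  intro h hh
  obtain ⟨t, ht, htp⟩ := List.mem_map.1 (hcov h hh)
  have h1 : t⁻¹ * h ∈ K := by
    refine hrest (Subgroup.mem_inf.2 ⟨H.mul_mem (H.inv_mem (hTH t ht)) hh, ?_⟩)
    rw [MulAction.mem_stabilizer_iff, Equiv.Perm.smul_def, Equiv.Perm.mul_apply, ← htp]
    simp
  simpa using K.mul_mem (hTK t ht) h1

end Chain

end CfsgLib.Golay
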