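import Cfsg.Prelude.Def_Sporadic_a
import Cfsg.Agent.Lib.Golay.PermList

/-!
The length-24 code as a list of 4096 bit masks, with the basic kernel computations on it.
-/

set_option autoImplicit false

namespace CfsgLib.Golay

open Cfsg

open scoped Pointwise symmDiff

/-- The numbering of the 24 points: a residue has its own number, the extra point has number 23. -/
def ptEquiv : GolayPt ≃ Fin 24 :=
  ((finSuccEquivLast (n := 23)).symm : Option (Fin 23) ≃ Fin 24)

/-- The point with a given number. -/
def pt (i : ℕ) : GolayPt := ptEquiv.symm ⟨i % 24, Nat.mod_lt i (by omega)⟩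

theorem ptEquiv_pt {i : ℕ} (h : i < 24) : (ptEquiv (pt i)).val = i := by
  simp [pt, Nat.mod_eq_of_lt h]

theorem pt_ptEquiv (p : GolayPt) : pt (ptEquiv p).val = p := by
  simp [pt, Nat.mod_eq_of_lt (ptEquiv p).isLt]

/-- The set of points of a bit mask. -/
def toSet (n : ℕ) : Finset GolayPt := Finset.univ.filter fun p => n.testBit (ptEquiv p).val

theorem mem_toSet {n : ℕ} {p : GolayPt} : p ∈ toSet n ↔ n.testBit (ptEquiv p).val = true := by
  simp [toSet]

theorem pt_mem_toSet {n i : ℕ} (h : i < 24) : pt i ∈ toSet n ↔ n.testBit i = true := by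
  rw [mem_toSet, ptEquiv_pt h]

/-- The word of a bit mask. -/
def toWord (n : ℕ) : GolayPt → ZMod 2 := fun p => if n.testBit (ptEquiv p).val then 1 else 0

theorem support_toWord (n : ℕ) : support₂ (toWord n) = toSet n := by
  ext p; by_cases h : n.testBit (ptEquiv p).val = true <;> simp [support₂, toWord, toSet, h]

theorem toWord_zero : toWord 0 = 0 := by ext p; simp [toWord]

theorem toWord_xor (a b : ℕ) : toWord (a ^^^ b) = toWord a + toWord b := by
  ext p
  simp only [toWord, Pi.add_apply, Nat.testBit_xor]
  cases a.testBit (ptEquiv p).val <;> cases b.testBit (ptEquiv p).val <;> decide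

theorem toSet_xor (a b : ℕ) : toSet (a ^^^ b) = toSet a ∆ toSet b := by
  ext p
  simp only [mem_toSet, Finset.mem_symmDiff, Nat.testBit_xor]
  cases a.testBit (ptEquiv p).val <;> cases b.testBit (ptEquiv p).val <;> decide

theorem toSet_and (a b : ℕ) : toSet (a &&& b) = toSet a ∩ toSet b := by
  ext p; simp [mem_toSet, Nat.testBit_and]

/-- The number of set bits among the first 24. -/
def bitCount (n : ℕ) : ℕ := ((List.range 24).filter fun i => n.testBit i).length

theorem card_toSet (n : ℕ) : (toSet n).card = bitCount n := by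
  have h1 : (toSet n).card = ((Finset.range 24).filter fun i => n.testBit i = true).card := by
    refine Finset.card_nbij' (fun p => (ptEquiv p).val) pt ?_ ?_ ?_ ?_
    · intro p hp
      simp only [Finset.coe_filter, Finset.mem_range, Set.mem_ofPred_eq]
      exact ⟨(ptEquiv p).isLt, mem_toSet.1 hp⟩
    · intro i hi
      simp only [Finset.coe_filter, Finset.mem_range, Set.mem_ofPred_eq] at hi
      exact (pt_mem_toSet hi.1).2 hi.2
    · intro p _; exact pt_ptEquiv p
    · intro i hi
      simp only [Finset.coe_filter, Finset.mem_range, Set.mem_ofPred_eq] at hi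
      exact ptEquiv_pt hi.1
  rw [h1, bitCount, ← List.toFinset_card_of_nodup (List.nodup_range.filter _),
    List.toFinset_filter]
  simp only [List.toFinset_range]

/-- All sums of sublists of a list of masks. -/
def spanList : List ℕ → List ℕ
  | [] => [0]
  | b :: bs => spanList bs ++ (spanList bs).map (b ^^^ ·)

theorem zero_mem_spanList : ∀ bs : List ℕ, 0 ∈ spanList bs
  | [] => by simp [spanList]
  | b :: bs => by simp [spanList, zero_mem_spanList bs]

theorem xor_mem_spanList : ∀ {bs : List ℕ} {a b : ℕ},
    a ∈ spanList bs → b ∈ spanList bs → a ^^^ b ∈ spanList bs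
  | [], a, b, ha, hb => by simp_all [spanList]
  | c :: bs, a, b, ha, hb => by
    simp only [spanList, List.mem_append, List.mem_map] at ha hb ⊢
    rcases ha with ha | ⟨a', ha', rfl⟩ <;> rcases hb with hb | ⟨b', hb', rfl⟩
    · exact Or.inl (xor_mem_spanList ha hb)
    · exact Or.inr ⟨a ^^^ b', xor_mem_spanList ha hb',
        by rw [← Nat.xor_assoc, Nat.xor_comm c a, Nat.xor_assoc]⟩
    · exact Or.inr ⟨a' ^^^ b, xor_mem_spanList ha' hb, by rw [Nat.xor_assoc]⟩
    · refine Or.inl ?_
      have : c ^^^ a' ^^^ (c ^^^ b') = a' ^^^ b' := by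
        rw [Nat.xor_comm c a', Nat.xor_assoc, ← Nat.xor_assoc c c, Nat.xor_self, Nat.zero_xor]
      rw [this]
      exact xor_mem_spanList ha' hb'

/-- Induction over a span: a property closed under adding each basis member. -/
theorem spanList_induction {P : ℕ → Prop} (h0 : P 0) : ∀ {bs : List ℕ},
    (∀ b ∈ bs, ∀ n, P n → P (b ^^^ n)) → ∀ n ∈ spanList bs, P n
  | [], _, n, hn => by simp_all [spanList]
  | b :: bs, hb, n, hn => by
    simp only [spanList, List.mem_append, List.mem_map] at hn
    have ih := spanList_induction h0 (bs := bs) fun c hc => hb c (List.mem_cons_of_mem _ hc)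
    rcases hn with hn | ⟨m, hm, rfl⟩
    · exact ih n hn
    · exact hb b List.mem_cons_self m (ih m hm)

theorem mem_spanList_self {bs : List ℕ} {b : ℕ} (h : b ∈ bs) : b ∈ spanList bs := by
  induction bs with
  | nil => simp at h
  | cons c cs ih =>
    simp only [spanList, List.mem_append, List.mem_map]
    rcases List.mem_cons.1 h with rfl | h
    · exact Or.inr ⟨0, zero_mem_spanList cs, Nat.xor_zero b⟩
    · exact Or.inl (ih h)

/-- A basis of the code in reduced echelon form. -/
def golayBasis : List ℕ :=
  [13062145, 4845570, 13938692, 7221256, 10170384, 8077824, 11654144, 11952160, 15515712, 2019456,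
    4038912, 14919680]

/-- Pairs of a pivot position and the basis member with that pivot. -/
def golayPivots : List (ℕ × ℕ) :=
  [0, 1, 2, 3, 4, 9, 10, 5, 6, 7, 8, 11].zip golayBasis

/-- The 4096 code words. -/
def golayList : List ℕ := spanList golayBasis

/-- The code word with the same pivot bits as `n`. -/
def proj (n : ℕ) : ℕ :=
  golayPivots.foldr (fun pb acc => if n.testBit pb.1 then pb.2 ^^^ acc else acc) 0

/-- Membership test for the code. -/
def inCode (n : ℕ) : Bool := decide (proj n = n)

theorem proj_mem (n : ℕ) : proj n ∈ golayList := by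
  have : ∀ l : List (ℕ × ℕ),
      l.foldr (fun pb acc => if n.testBit pb.1 then pb.2 ^^^ acc else acc) 0 ∈
        spanList (l.map (·.2)) := by
    intro l
    induction l with
    | nil => simp [spanList]
    | cons pb l ih =>
      simp only [List.foldr_cons, List.map_cons, spanList, List.mem_append, List.mem_map]
      split
      · exact Or.inr ⟨_, ih, rfl⟩
      · exact Or.inl ih
  exact this golayPivots

theorem mem_golayList_of_inCode {n : ℕ} (h : inCode n = true) : n ∈ golayList := by
  have := proj_mem n
  rwa [of_decide_eq_true h] at this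

/-- Check of a test on every sum of sublists, shifted by `acc`; the recursion has small depth. -/
def allSpan (P : ℕ → Bool) : List ℕ → ℕ → Bool
  | [], acc => P acc
  | b :: bs, acc => allSpan P bs acc && allSpan P bs (b ^^^ acc)

theorem allSpan_spec {P : ℕ → Bool} : ∀ {bs : List ℕ} {acc : ℕ}, allSpan P bs acc = true →
    ∀ n ∈ spanList bs, P (n ^^^ acc) = true
  | [], acc, h, n, hn => by simp_all [spanList, allSpan]
  | b :: bs, acc, h, n, hn => by
    simp only [allSpan, Bool.and_eq_true] at h
    simp only [spanList, List.mem_append, List.mem_map] at hn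
    rcases hn with hn | ⟨m, hm, rfl⟩
    · exact allSpan_spec h.1 n hn
    · have := allSpan_spec h.2 m hm
      rwa [Nat.xor_comm b m, Nat.xor_assoc]

/-- The number of sums of sublists, shifted by `acc`, that pass a test. -/
def countSpan (P : ℕ → Bool) : List ℕ → ℕ → ℕ
  | [], acc => if P acc then 1 else 0
  | b :: bs, acc => countSpan P bs acc + countSpan P bs (b ^^^ acc)

theorem countSpan_eq {P : ℕ → Bool} : ∀ (bs : List ℕ) (acc : ℕ),
    countSpan P bs acc = (spanList bs).countP fun n => P (n ^^^ acc)
  | [], acc => by simp [countSpan, spanList, List.countP_cons]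
  | b :: bs, acc => by
    rw [countSpan, spanList, List.countP_append, List.countP_map, countSpan_eq bs,
      countSpan_eq bs]
    congr 1
    refine List.countP_congr fun n _ => ?_
    simp [Function.comp, Nat.xor_comm b n, Nat.xor_assoc]

theorem forall_golayList {P : ℕ → Bool} (h : allSpan P golayBasis 0 = true) :
    ∀ n ∈ golayList, P n = true := fun n hn => by simpa using allSpan_spec h n hn

theorem countP_golayList (P : ℕ → Bool) :
    golayList.countP P = countSpan P golayBasis 0 := by
  rw [countSpan_eq]; simp [golayList]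

/-- A triangular system of pivots makes all sums of sublists different. -/
def echelonOk : List (ℕ × ℕ) → Bool
  | [] => true
  | (p, b) :: l => b.testBit p && l.all (fun q => !q.2.testBit p) && echelonOk l

theorem spanList_nodup : ∀ (l : List (ℕ × ℕ)), echelonOk l = true →
    (spanList (l.map (·.2))).Nodup
  | [], _ => by simp [spanList]
  | (p, b) :: l, h => by
    simp only [echelonOk, Bool.and_eq_true, List.all_eq_true, Bool.not_eq_true'] at h
    have ih := spanList_nodup l h.2
    have hp : ∀ n ∈ spanList (l.map (·.2)), n.testBit p = false := by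
      refine spanList_induction (P := fun n => n.testBit p = false) (Nat.zero_testBit p) ?_
      intro c hc n hn
      obtain ⟨q, hq, rfl⟩ := List.mem_map.1 hc
      simp [Nat.testBit_xor, h.1.2 q hq, hn]
    simp only [List.map_cons, spanList]
    refine List.nodup_append.2 ⟨ih, ih.map ?_, ?_⟩
    · intro x y hxy
      simpa using congrArg (b ^^^ ·) hxy
    · intro x hx y hy hxy
      obtain ⟨m, hm, rfl⟩ := List.mem_map.1 hy
      have := hp x hx
      rw [hxy, Nat.testBit_xor, h.1.1, hp m hm] at this
      exact absurd this (by decide)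

theorem golayList_nodup : golayList.Nodup :=
  spanList_nodup golayPivots (by decide +kernel)

theorem golayList_length : golayList.length = 4096 := by
  have : countSpan (fun _ => true) golayBasis 0 = 4096 := by decide +kernel
  rw [← countP_golayList, List.countP_true] at this
  exact this

theorem golayList_lt : ∀ n ∈ golayList, n < 2 ^ 24 := fun n hn =>
  of_decide_eq_true (forall_golayList (P := fun n => decide (n < 2 ^ 24)) (by decide +kernel) n hn)

/-- Bit masks of the translates of the squares. -/
def qrMasks : List ℕ :=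
  [340831, 681662, 1363324, 2726648, 5453296, 2517985, 5035970, 1683333, 3366666, 6733332,
    5078057, 1767507, 3535014, 7070028, 5751449, 3114291, 6228582, 4068557, 8137114, 7885621,
    7382635, 6376663, 4364719]

theorem qrMasks_ok : ∀ t : ZMod 23, ∀ p : GolayPt,
    qrWord t p = toWord (qrMasks.getD t.val 0) p := by decide +kernel

theorem qrMasks_code : ∀ t : ZMod 23, inCode (qrMasks.getD t.val 0) = true := by decide +kernel

theorem allOnes_word : ∀ p : GolayPt, toWord 16777215 p = 1 := by decide +kernel

/-- The sum of the members selected by the bits of `c`. -/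
def selXor : List ℕ → ℕ → ℕ
  | [], _ => 0
  | b :: bs, c => if c % 2 = 1 then b ^^^ selXor bs (c / 2) else selXor bs (c / 2)

theorem selXor_mem : ∀ (bs : List ℕ) (c : ℕ), selXor bs c ∈ spanList bs
  | [], _ => by simp [selXor, spanList]
  | b :: bs, c => by
    simp only [selXor, spanList, List.mem_append, List.mem_map]
    split
    · exact Or.inr ⟨_, selXor_mem bs _, rfl⟩
    · exact Or.inl (selXor_mem bs _)

theorem basis_in_span : ∀ b ∈ golayBasis, b ∈ spanList (16777215 :: qrMasks.take 11) := by
  have h : golayBasis = ([3411, 560, 2355, 2800, 3445, 202, 3271, 3887, 2971, 4000, 2694, 3147] : List ℕ).map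
      (selXor (16777215 :: qrMasks.take 11)) := by decide +kernel
  intro b hb
  rw [h] at hb
  obtain ⟨c, -, rfl⟩ := List.mem_map.1 hb
  exact selXor_mem _ _

/-- The code as a submodule carried by the list. -/
def codeSubmodule : Submodule (ZMod 2) (GolayPt → ZMod 2) where
  carrier := {w | ∃ n ∈ golayList, toWord n = w}
  zero_mem' := ⟨0, zero_mem_spanList _, toWord_zero⟩
  add_mem' := by
    rintro v w ⟨a, ha, rfl⟩ ⟨b, hb, rfl⟩
    exact ⟨a ^^^ b, xor_mem_spanList ha hb, toWord_xor a b⟩
  smul_mem' := by
    intro c w hw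
    obtain rfl | rfl : c = 0 ∨ c = 1 := by revert c; decide
    · exact ⟨0, zero_mem_spanList _, by rw [toWord_zero, zero_smul]⟩
    · rwa [one_smul]

theorem golayCode_eq : golayCode = codeSubmodule := by
  refine le_antisymm (Submodule.span_le.2 ?_) ?_
  · rintro w (⟨t, rfl⟩ | rfl)
    · exact ⟨qrMasks.getD t.val 0, mem_golayList_of_inCode (qrMasks_code t),
        funext fun p => (qrMasks_ok t p).symm⟩
    · exact ⟨16777215, mem_golayList_of_inCode (by decide +kernel), funext allOnes_word⟩
  · have key : ∀ n ∈ spanList (16777215 :: qrMasks.take 11), toWord n ∈ golayCode := by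
      refine spanList_induction (P := fun n => toWord n ∈ golayCode) (toWord_zero ▸ zero_mem _) ?_
      intro b hb n hn
      rw [toWord_xor]
      refine add_mem ?_ hn
      rcases List.mem_cons.1 hb with rfl | hb
      · exact Submodule.subset_span (Or.inr (funext allOnes_word))
      · obtain ⟨i, hi, rfl⟩ := List.mem_iff_getElem.1 hb
        have hi' : i < 11 := by
          simp only [List.length_take] at hi; omega
        refine Submodule.subset_span (Or.inl ⟨(i : ZMod 23), funext fun p => ?_⟩)
        rw [qrMasks_ok, ZMod.val_natCast, Nat.mod_eq_of_lt (by omega),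
          List.getElem_take, List.getD_eq_getElem]
    rintro w ⟨n, hn, rfl⟩
    revert n
    refine spanList_induction (P := fun n => toWord n ∈ golayCode) (toWord_zero ▸ zero_mem _) ?_
    intro b hb n hn
    rw [toWord_xor]
    exact add_mem (key b (basis_in_span b hb)) hn

theorem mem_golayCode {w : GolayPt → ZMod 2} :
    w ∈ golayCode ↔ ∃ n ∈ golayList, toWord n = w := by rw [golayCode_eq]; rfl

theorem mem_supports {s : Finset GolayPt} :
    s ∈ supports (golayCode : Set (GolayPt → ZMod 2)) ↔ ∃ n ∈ golayList, toSet n = s := by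
  simp only [supports, Set.mem_image, SetLike.mem_coe, mem_golayCode]
  constructor
  · rintro ⟨_, ⟨n, hn, rfl⟩, rfl⟩; exact ⟨n, hn, (support_toWord n).symm⟩
  · rintro ⟨n, hn, rfl⟩; exact ⟨_, ⟨n, hn, rfl⟩, support_toWord n⟩

theorem symmDiff_mem_supports {s t : Finset GolayPt}
    (hs : s ∈ supports (golayCode : Set (GolayPt → ZMod 2)))
    (ht : t ∈ supports (golayCode : Set (GolayPt → ZMod 2))) :
    s ∆ t ∈ supports (golayCode : Set (GolayPt → ZMod 2)) := by
  obtain ⟨a, ha, rfl⟩ := mem_supports.1 hs
  obtain ⟨b, hb, rfl⟩ := mem_supports.1 ht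
  exact mem_supports.2 ⟨a ^^^ b, xor_mem_spanList ha hb, toSet_xor a b⟩

theorem toSet_inj {a b : ℕ} (ha : a < 2 ^ 24) (hb : b < 2 ^ 24) (h : toSet a = toSet b) : a = b := by
  refine Nat.eq_of_testBit_eq fun i => ?_
  by_cases hi : i < 24
  · exact Bool.eq_iff_iff.2 (by rw [← pt_mem_toSet hi, ← pt_mem_toSet hi, h])
  · have : 2 ^ 24 ≤ 2 ^ i := Nat.pow_le_pow_right (by omega) (by omega)
    rw [Nat.testBit_lt_two_pow (by omega), Nat.testBit_lt_two_pow (by omega)]

theorem toSet_injOn : ∀ a ∈ golayList, ∀ b ∈ golayList, toSet a = toSet b → a = b :=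
  fun a ha b hb => toSet_inj (golayList_lt a ha) (golayList_lt b hb)

theorem mem_wordsOfWeight {s : Finset GolayPt} {k : ℕ} :
    s ∈ wordsOfWeight (golayCode : Set (GolayPt → ZMod 2)) k ↔
      ∃ n ∈ golayList, bitCount n = k ∧ toSet n = s := by
  simp only [wordsOfWeight, Set.mem_ofPred_eq, mem_supports]
  constructor
  · rintro ⟨⟨n, hn, rfl⟩, hk⟩; exact ⟨n, hn, (card_toSet n).symm.trans hk, rfl⟩
  · rintro ⟨n, hn, hk, rfl⟩; exact ⟨⟨n, hn, rfl⟩, (card_toSet n).trans hk⟩

theorem wordsOfWeight_ncard (k : ℕ) :
    (wordsOfWeight (golayCode : Set (GolayPt → ZMod 2)) k).ncard =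
      (golayList.filter fun n => bitCount n == k).length := by
  set l := golayList.filter fun n => bitCount n == k with hl
  have h : wordsOfWeight (golayCode : Set (GolayPt → ZMod 2)) k = toSet '' (↑l.toFinset : Set ℕ) := by
    ext s
    simp [mem_wordsOfWeight, hl, and_assoc]
  rw [h, Set.InjOn.ncard_image, Set.ncard_coe_finset, List.toFinset_card_of_nodup]
  · exact golayList_nodup.filter _
  · intro a ha b hb hab
    simp only [hl, List.coe_toFinset, List.mem_filter, Set.mem_ofPred_eq] at ha hb
    exact toSet_injOn a ha.1 b hb.1 hab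

theorem golay_weights : ∀ n ∈ golayList, bitCount n = 0 ∨ bitCount n = 8 ∨ bitCount n = 12 ∨
    bitCount n = 16 ∨ bitCount n = 24 := fun n hn =>
  of_decide_eq_true (forall_golayList (P := fun n => decide (bitCount n = 0 ∨ bitCount n = 8 ∨
    bitCount n = 12 ∨ bitCount n = 16 ∨ bitCount n = 24)) (by decide +kernel) n hn)

theorem supports_weight {s : Finset GolayPt}
    (hs : s ∈ supports (golayCode : Set (GolayPt → ZMod 2))) :
    s.card = 0 ∨ s.card = 8 ∨ s.card = 12 ∨ s.card = 16 ∨ s.card = 24 := by
  obtain ⟨n, hn, rfl⟩ := mem_supports.1 hs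
  rw [card_toSet]; exact golay_weights n hn

theorem octads_ncard : octads.ncard = 759 := by
  rw [octads, wordsOfWeight_ncard, ← List.countP_eq_length_filter, countP_golayList]; decide +kernel

theorem dodecads_ncard : dodecads.ncard = 2576 := by
  rw [dodecads, wordsOfWeight_ncard, ← List.countP_eq_length_filter, countP_golayList]; decide +kernel

/-- Two octads sharing five points are equal. -/
theorem octad_unique {s t : Finset GolayPt} (hs : s ∈ octads) (ht : t ∈ octads)
    (h : 5 ≤ (s ∩ t).card) : s = t := by
  have hw := supports_weight (symmDiff_mem_supports hs.1 ht.1)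
  have h1 : (s ∆ t).card + 2 * (s ∩ t).card = s.card + t.card := by
    have e : s ∆ t = (s \ t) ∪ (t \ s) := rfl
    rw [e, Finset.card_union_of_disjoint disjoint_sdiff_sdiff, Finset.card_sdiff, Finset.card_sdiff,
      Finset.inter_comm t s]
    have := Finset.card_le_card (Finset.inter_subset_left : s ∩ t ⊆ s)
    have := Finset.card_le_card (Finset.inter_subset_right : s ∩ t ⊆ t)
    omega
  have h2 : s.card = 8 := hs.2
  have h3 : t.card = 8 := ht.2
  have h4 : (s ∆ t).card = 0 := by omega
  exact symmDiff_eq_bot.1 (Finset.card_eq_zero.1 h4)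

/-! ### Permutations preserving the code -/

/-- The image of a bit mask under a permutation list. -/
def imgMask (L : List ℕ) (n : ℕ) : ℕ :=
  (List.range 24).foldr (fun i acc => if n.testBit i then acc ||| 2 ^ (L.getD i 0) else acc) 0

theorem testBit_imgMask {L : List ℕ} {n j : ℕ} :
    (imgMask L n).testBit j = true ↔ ∃ i < 24, n.testBit i = true ∧ L.getD i 0 = j := by
  have : ∀ l : List ℕ,
      (l.foldr (fun i acc => if n.testBit i then acc ||| 2 ^ (L.getD i 0) else acc) 0).testBit j
        = true ↔ ∃ i ∈ l, n.testBit i = true ∧ L.getD i 0 = j := by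
    intro l
    induction l with
    | nil => simp
    | cons a l ih =>
      simp only [List.foldr_cons, List.mem_cons, exists_eq_or_imp]
      split
      · next h =>
        rw [Nat.testBit_lor, Bool.or_eq_true, ih, Nat.testBit_two_pow, decide_eq_true_iff]
        simp [h, or_comm]
      · next h =>
        rw [ih]
        simp [h]
  simpa [imgMask, List.mem_range] using this (List.range 24)

theorem smul_toSet {L : List ℕ} (h : validL 24 L = true) (n : ℕ) :
    permOf ptEquiv L • toSet n = toSet (imgMask L n) := by
  ext p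
  rw [mem_toSet, testBit_imgMask, Finset.mem_smul_finset]
  constructor
  · rintro ⟨q, hq, rfl⟩
    exact ⟨(ptEquiv q).val, (ptEquiv q).isLt, mem_toSet.1 hq,
      (permOf_apply ptEquiv h q).symm⟩
  · rintro ⟨i, hi, hb, hL⟩
    refine ⟨pt i, (pt_mem_toSet hi).2 hb, ?_⟩
    apply ptEquiv.injective
    apply Fin.ext
    rw [Equiv.Perm.smul_def, permOf_apply ptEquiv h, ptEquiv_pt hi, hL]

theorem mem_M24_of_basis (g : Equiv.Perm GolayPt)
    (h : ∀ b ∈ golayBasis, g • toSet b ∈ supports (golayCode : Set (GolayPt → ZMod 2))) :
    g ∈ M24 := by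
  have key : ∀ n ∈ golayList, g • toSet n ∈ supports (golayCode : Set (GolayPt → ZMod 2)) := by
    refine spanList_induction
      (P := fun n => g • toSet n ∈ supports (golayCode : Set (GolayPt → ZMod 2))) ?_ ?_
    · have h0 : toSet 0 = ∅ := by ext p; simp [mem_toSet]
      exact mem_supports.2 ⟨0, zero_mem_spanList _, by rw [h0, Finset.smul_finset_empty]⟩
    · intro b hb n hn
      rw [toSet_xor, Finset.smul_finset_symmDiff]
      exact symmDiff_mem_supports (h b hb) hn
  rw [M24, setSystemAut, MulAction.mem_stabilizer_iff]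
  refine Set.eq_of_subset_of_ncard_le ?_ ?_ (Set.toFinite _)
  · rintro _ ⟨s, hs, rfl⟩
    obtain ⟨n, hn, rfl⟩ := mem_supports.1 hs
    exact key n hn
  · rw [Set.ncard_smul_set]

theorem supports_smul {g : Equiv.Perm GolayPt} (hg : g ∈ M24) {s : Finset GolayPt}
    (hs : s ∈ supports (golayCode : Set (GolayPt → ZMod 2))) :
    g • s ∈ supports (golayCode : Set (GolayPt → ZMod 2)) := by
  rw [M24, setSystemAut, MulAction.mem_stabilizer_iff] at hg
  rw [← hg]
  exact Set.smul_mem_smul_set hs

theorem wordsOfWeight_smul {g : Equiv.Perm GolayPt} (hg : g ∈ M24) {s : Finset GolayPt} {k : ℕ}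
    (hs : s ∈ wordsOfWeight (golayCode : Set (GolayPt → ZMod 2)) k) :
    g • s ∈ wordsOfWeight (golayCode : Set (GolayPt → ZMod 2)) k :=
  ⟨supports_smul hg hs.1, by rw [Finset.card_smul_finset]; exact hs.2⟩

theorem octads_smul {g : Equiv.Perm GolayPt} (hg : g ∈ M24) {s : Finset GolayPt}
    (hs : s ∈ octads) : g • s ∈ octads := wordsOfWeight_smul hg hs

theorem dodecads_smul {g : Equiv.Perm GolayPt} (hg : g ∈ M24) {s : Finset GolayPt}
    (hs : s ∈ dodecads) : g • s ∈ dodecads := wordsOfWeight_smul hg hs

/-- A code-preservation test for a permutation list. -/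
def m24Test (L : List ℕ) : Bool :=
  validL 24 L && golayBasis.all fun b => inCode (imgMask L b)

theorem mem_M24_of_test {L : List ℕ} (h : m24Test L = true) : permOf ptEquiv L ∈ M24 := by
  simp only [m24Test, Bool.and_eq_true, List.all_eq_true] at h
  refine mem_M24_of_basis _ fun b hb => ?_
  rw [smul_toSet h.1]
  exact mem_supports.2 ⟨_, mem_golayList_of_inCode (h.2 b hb), rfl⟩

end CfsgLib.Golay
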