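import Mathlib

/-!
Two simplicity criteria for permutation groups.
-/

set_option autoImplicit false

namespace CfsgLib.Golay

open MulAction

open scoped commutatorElement

variable {G : Type*} [Group G] [Finite G] {Ω : Type*} [Finite Ω] [MulAction G Ω] [FaithfulSMul G Ω]

omit [Finite G] [Finite Ω] in
theorem normal_transitive [IsPreprimitive G Ω] {N : Subgroup G} [N.Normal] (hN : N ≠ ⊥) :
    IsPretransitive N Ω := by
  refine IsQuasiPreprimitive.isPretransitive_of_normal fun h => hN ?_
  refine (Subgroup.eq_bot_iff_forall N).2 fun x hx =>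
    FaithfulSMul.eq_of_smul_eq_smul (α := Ω) fun a => ?_
  have ha : a ∈ fixedPoints N Ω := h ▸ Set.mem_univ a
  rw [one_smul]
  exact ha ⟨x, hx⟩

/-- A faithful 2-transitive group whose point stabiliser is simple, of degree divisible by two
different primes, is simple. -/
theorem isSimpleGroup_of_stabilizer (h2 : IsMultiplyPretransitive G Ω 2) (a : Ω)
    (hsimp : IsSimpleGroup (stabilizer G a)) {p q : ℕ} (hp : p.Prime) (hq : q.Prime)
    (hpq : p ≠ q) (hpn : p ∣ Nat.card Ω) (hqn : q ∣ Nat.card Ω) : IsSimpleGroup G := by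
  haveI : IsPreprimitive G Ω := isPreprimitive_of_is_two_pretransitive h2
  haveI := hsimp
  haveI : Nontrivial (stabilizer G a) := IsSimpleGroup.toNontrivial
  haveI : Nontrivial G := Function.Injective.nontrivial (stabilizer G a).subtype_injective
  refine ⟨fun N hN => ?_⟩
  by_cases hbot : N = ⊥
  · exact Or.inl hbot
  haveI := normal_transitive (Ω := Ω) hbot
  refine Or.inr ?_
  rcases IsSimpleGroup.eq_bot_or_eq_top_of_normal (N.subgroupOf (stabilizer G a)) inferInstance with
    h | h
  · exfalso
    have hfree : ∀ x ∈ N, x • a = a → x = 1 := by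
      intro x hx hxa
      have : (⟨x, hxa⟩ : stabilizer G a) ∈ N.subgroupOf (stabilizer G a) :=
        Subgroup.mem_subgroupOf.2 hx
      rw [h, Subgroup.mem_bot] at this
      exact congrArg Subtype.val this
    have hinj : ∀ x ∈ N, ∀ y ∈ N, x • a = y • a → x = y := by
      intro x hx y hy hxy
      have := hfree (y⁻¹ * x) (N.mul_mem (N.inv_mem hy) hx) (by rw [mul_smul, hxy, inv_smul_smul])
      exact (inv_mul_eq_one.1 this).symm
    have hcard : Nat.card N = Nat.card Ω := by
      refine Nat.card_eq_of_bijective (fun x : N => x.val • a) ⟨?_, ?_⟩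
      · intro x y hxy
        exact Subtype.ext (hinj x x.2 y y.2 hxy)
      · intro b
        exact exists_smul_eq N a b
    haveI : Fact p.Prime := ⟨hp⟩
    haveI : Fact q.Prime := ⟨hq⟩
    obtain ⟨x, hx⟩ := exists_prime_orderOf_dvd_card' (G := N) p (hcard ▸ hpn)
    obtain ⟨y, hy⟩ := exists_prime_orderOf_dvd_card' (G := N) q (hcard ▸ hqn)
    have hx1 : (x : G) • a ≠ a := fun h => by
      have : x = 1 := Subtype.ext (hfree x x.2 h)
      rw [this, orderOf_one] at hx
      exact hp.one_lt.ne hx
    have hy1 : (y : G) • a ≠ a := fun h => by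
      have : y = 1 := Subtype.ext (hfree y y.2 h)
      rw [this, orderOf_one] at hy
      exact hq.one_lt.ne hy
    obtain ⟨g, hga, hgx⟩ := is_two_pretransitive_iff.1 h2 (Ne.symm hx1) (Ne.symm hy1)
    have hconj : g * (x : G) * g⁻¹ = y := by
      refine hinj _ (hN.conj_mem _ x.2 g) _ y.2 ?_
      rw [mul_smul, inv_smul_eq_iff.2 hga.symm, mul_smul, hgx]
    have : orderOf (x : G) = orderOf (y : G) := by
      rw [← hconj, ← MulAut.conj_apply, MulEquiv.orderOf_eq]
    rw [Subgroup.orderOf_coe, Subgroup.orderOf_coe, hx, hy] at this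
    exact hpq this
  · refine Subgroup.eq_top_iff' N |>.2 fun g => ?_
    obtain ⟨x, hx⟩ := exists_smul_eq N a (g • a)
    have hst : (x : G)⁻¹ * g ∈ stabilizer G a := by
      rw [mem_stabilizer_iff, mul_smul, ← hx]
      exact inv_smul_smul (x : G) a
    have : (⟨_, hst⟩ : stabilizer G a) ∈ N.subgroupOf (stabilizer G a) := by
      rw [h]; exact Subgroup.mem_top _
    simpa using N.mul_mem x.2 (Subgroup.mem_subgroupOf.1 this)

/-- The centraliser of an element of prime order `p` in a transitive group of degree at most `2p`,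
divisible by `p`, with `p²` not dividing the order, is abelian. -/
theorem centralizer_comm [IsPretransitive G Ω] {p : ℕ} (hp : p.Prime) (hdiv : p ∣ Nat.card Ω)
    (hle : Nat.card Ω ≤ 2 * p) (hsq : ¬ p ^ 2 ∣ Nat.card G) {g : G} (hg : orderOf g = p)
    {x y : G} (hx : Commute x g) (hy : Commute y g) : Commute x y := by
  classical
  haveI : Fact p.Prime := ⟨hp⟩
  haveI : Nonempty Ω := by
    refine not_isEmpty_iff.1 fun h => ?_
    have : g = 1 := FaithfulSMul.eq_of_smul_eq_smul fun a : Ω => h.elim a
    rw [this, orderOf_one] at hg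
    exact hp.one_lt.ne hg
  have hfree : ∀ z : G, orderOf z = p → ∀ a : Ω, z • a ≠ a := by
    intro z hz a ha
    apply hsq
    have h1 : p ∣ Nat.card (stabilizer G a) := by
      rw [← hz]
      have := orderOf_dvd_natCard (⟨z, ha⟩ : stabilizer G a)
      rwa [← Subgroup.orderOf_coe] at this
    rw [← (stabilizer G a).index_mul_card, index_stabilizer_of_transitive, pow_two]
    exact mul_dvd_mul hdiv h1
  obtain ⟨a⟩ := (inferInstance : Nonempty Ω)
  have hgp : g ^ p = 1 := hg ▸ pow_orderOf_eq_one g
  have horb : ∀ b : Ω, Function.Injective fun i : Fin p => g ^ (i : ℕ) • b := by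
    intro b i j hij
    wlog hle' : i.val ≤ j.val generalizing i j
    · exact (this hij.symm (le_of_not_ge hle')).symm
    have h1 : g ^ (j.val - i.val) • b = b := smul_left_cancel (g ^ i.val) (by
      rw [← mul_smul, ← pow_add, Nat.add_sub_cancel' hle']; exact hij.symm)
    by_contra hne
    have hk : ¬ p ∣ j.val - i.val := fun hd => hne (Fin.ext (by
      have := Nat.eq_zero_of_dvd_of_lt hd (by omega)
      omega))
    refine hfree _ ?_ b h1
    rw [Nat.Coprime.orderOf_pow, hg]
    rw [hg]
    exact (hp.coprime_iff_not_dvd).2 hk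
  set C := Subgroup.centralizer ({g} : Set G) with hC
  have memC : ∀ z : G, z ∈ C ↔ Commute z g := fun z => Subgroup.mem_centralizer_singleton_iff
  have hreg : ∀ c : G, Commute c g → c • a = a → c = 1 := by
    intro c hc hca
    have hcg : ∀ (m : ℕ) (b : Ω), c • g ^ m • b = g ^ m • c • b := fun m b => by
      rw [← mul_smul, (hc.pow_right m).eq, mul_smul]
    have hp0 : c ^ p = 1 := by
      refine FaithfulSMul.eq_of_smul_eq_smul (α := Ω) fun b => ?_
      rw [one_smul]
      by_cases hb : ∃ i : Fin p, g ^ (i : ℕ) • a = b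
      · obtain ⟨i, rfl⟩ := hb
        have hpows : ∀ m : ℕ, c ^ m • g ^ (i : ℕ) • a = g ^ (i : ℕ) • a := by
          intro m
          induction m with
          | zero => simp
          | succ m ih => rw [pow_succ, mul_smul, hcg, hca, ih]
        exact hpows p
      · haveI : Fintype Ω := Fintype.ofFinite Ω
        set A := Finset.univ.image (fun i : Fin p => g ^ (i : ℕ) • a) with hA
        set B := Finset.univ.image (fun i : Fin p => g ^ (i : ℕ) • b) with hB
        have hdisj : Disjoint A B := by
          rw [Finset.disjoint_left]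
          intro u hu hu'
          simp only [hA, hB, Finset.mem_image, Finset.mem_univ, true_and] at hu hu'
          obtain ⟨j, rfl⟩ := hu
          obtain ⟨i, hi⟩ := hu'
          apply hb
          refine ⟨⟨(p - i.val + j.val) % p, Nat.mod_lt _ hp.pos⟩, ?_⟩
          show g ^ ((p - i.val + j.val) % p) • a = b
          rw [← pow_eq_pow_mod _ hgp, pow_add, mul_smul, ← hi, ← mul_smul, ← pow_add,
            Nat.sub_add_cancel i.isLt.le, hgp, one_smul]
        have hall : A ∪ B = Finset.univ := by
          refine Finset.eq_univ_of_card _ (le_antisymm (Finset.card_le_univ _) ?_)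
          rw [Finset.card_union_of_disjoint hdisj, Finset.card_image_of_injective _ (horb a),
            Finset.card_image_of_injective _ (horb b), Finset.card_fin]
          rw [Nat.card_eq_fintype_card] at hle
          omega
        have hcb : c • b ∈ A ∪ B := hall ▸ Finset.mem_univ _
        rcases Finset.mem_union.1 hcb with h | h
        · simp only [hA, Finset.mem_image, Finset.mem_univ, true_and] at h
          obtain ⟨i, hi⟩ := h
          exact absurd ⟨i, smul_left_cancel c (by rw [hcg, hca, hi])⟩ hb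
        · simp only [hB, Finset.mem_image, Finset.mem_univ, true_and] at h
          obtain ⟨k, hk⟩ := h
          have hiter : ∀ m : ℕ, c ^ m • b = g ^ (k.val * m) • b := by
            intro m
            induction m with
            | zero => simp
            | succ m ih =>
              rw [pow_succ, mul_smul, ← hk, ← mul_smul, ((hc.pow_left m).pow_right _).eq, mul_smul,
                ih, ← mul_smul, ← pow_add, Nat.mul_succ, add_comm]
          rw [hiter, mul_comm, pow_mul, hgp, one_pow, one_smul]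
    by_contra hne
    exact hfree c (orderOf_eq_prime hp0 hne) a hca
  have hcardC : Nat.card C ≤ 2 * p := by
    refine le_trans (Nat.card_le_card_of_injective (fun c : C => c.val • a) ?_) hle
    intro c d h
    have h' : (c : G) • a = (d : G) • a := h
    have := hreg ((d : G)⁻¹ * c) ((memC _).1 (C.mul_mem (C.inv_mem d.2) c.2))
      (by rw [mul_smul, h', inv_smul_smul])
    exact Subtype.ext (inv_mul_eq_one.1 this).symm
  have hgC : g ∈ C := (memC g).2 (Commute.refl g)
  have hgZ : (⟨g, hgC⟩ : C) ∈ Subgroup.center C :=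
    Subgroup.mem_center_iff.2 fun c => Subtype.ext ((memC _).1 c.2)
  have hZp : p ≤ Nat.card (Subgroup.center C) := by
    refine Nat.le_of_dvd Nat.card_pos ?_
    have := orderOf_dvd_natCard (⟨⟨g, hgC⟩, hgZ⟩ : Subgroup.center C)
    rwa [← Subgroup.orderOf_coe, ← Subgroup.orderOf_coe, hg] at this
  have hidx : (Subgroup.center C).index ≤ 2 := by
    have := (Subgroup.center C).index_mul_card
    by_contra h
    have : 3 * p ≤ (Subgroup.center C).index * Nat.card (Subgroup.center C) :=
      Nat.mul_le_mul (by omega) hZp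
    have := hp.pos
    omega
  haveI : IsCyclic (C ⧸ Subgroup.center C) := by
    have hpos : 0 < (Subgroup.center C).index := Nat.pos_of_ne_zero Subgroup.index_ne_zero_of_finite
    rcases (by omega : (Subgroup.center C).index = 1 ∨ (Subgroup.center C).index = 2) with h | h
    · haveI : Subsingleton (C ⧸ Subgroup.center C) := by
        rw [← Finite.card_le_one_iff_subsingleton]
        rw [← Subgroup.index_eq_card, h]
      exact isCyclic_of_subsingleton
    · haveI : Fact (Nat.Prime 2) := ⟨Nat.prime_two⟩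
      exact isCyclic_of_prime_card (p := 2) (by rw [← Subgroup.index_eq_card, h])
  have := ((QuotientGroup.mk' (Subgroup.center C)).isMulCommutative_of_isCyclic_of_ker_le_center
    (by rw [QuotientGroup.ker_mk'])).is_comm.comm ⟨x, (memC x).2 hx⟩ ⟨y, (memC y).2 hy⟩
  exact congrArg Subtype.val this

/-- A perfect faithful 2-transitive group of degree at most `2p` and divisible by the prime `p`,
with `p²` not dividing its order, is simple. -/
theorem isSimpleGroup_of_prime_degree [Nontrivial G] (h2 : IsMultiplyPretransitive G Ω 2) {p : ℕ}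
    (hp : p.Prime) (hdiv : p ∣ Nat.card Ω) (hle : Nat.card Ω ≤ 2 * p)
    (hsq : ¬ p ^ 2 ∣ Nat.card G) (hperf : commutator G = ⊤) : IsSimpleGroup G := by
  haveI : Fact p.Prime := ⟨hp⟩
  haveI : IsPreprimitive G Ω := isPreprimitive_of_is_two_pretransitive h2
  refine ⟨fun N hN => ?_⟩
  by_cases hbot : N = ⊥
  · exact Or.inl hbot
  haveI := normal_transitive (Ω := Ω) hbot
  refine Or.inr ?_
  have hne : Nonempty Ω := by
    have : Nat.card Ω ≠ 0 := by
      intro h0
      haveI : IsEmpty Ω := (Nat.card_eq_zero.1 h0).resolve_right (not_infinite_iff_finite.2 ‹_›)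
      obtain ⟨u, hu⟩ := exists_ne (1 : G)
      exact hu (FaithfulSMul.eq_of_smul_eq_smul fun a : Ω => isEmptyElim a)
    exact Finite.card_pos_iff.1 (Nat.pos_of_ne_zero this)
  obtain ⟨a⟩ := hne
  have hpN : p ∣ Nat.card N := by
    refine hdiv.trans ?_
    rw [← (stabilizer N a).index_mul_card, index_stabilizer_of_transitive]
    exact dvd_mul_right _ _
  obtain ⟨g, hg⟩ := exists_prime_orderOf_dvd_card' (G := N) p hpN
  have hgG : orderOf (g : G) = p := by rw [Subgroup.orderOf_coe, hg]
  let P : Sylow p N := default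
  have hPc : Nat.card P = p := by
    rw [Sylow.card_eq_multiplicity]
    have h1 : 1 ≤ (Nat.card N).factorization p :=
      (hp.dvd_iff_one_le_factorization Nat.card_pos.ne').1 hpN
    have h2' : (Nat.card N).factorization p < 2 := by
      by_contra h
      exact hsq ((pow_dvd_pow p (not_lt.1 h)).trans ((Nat.ordProj_dvd _ _).trans
        N.card_subgroup_dvd_card))
    rw [show (Nat.card N).factorization p = 1 by omega, pow_one]
  haveI : IsCyclic P := isCyclic_of_prime_card hPc
  obtain ⟨u, hu⟩ := IsCyclic.exists_generator (α := P)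
  set z : G := ((u : N) : G) with hz
  have hPmem : ∀ x : G, x ∈ ((P : Subgroup N).map N.subtype) ↔ ∃ k : ℤ, z ^ k = x := by
    intro x
    constructor
    · rintro ⟨w, hw, rfl⟩
      obtain ⟨k, hk⟩ := Subgroup.mem_zpowers_iff.1 (hu ⟨w, hw⟩)
      exact ⟨k, by rw [hz]; exact congrArg (fun t : P => ((t : N) : G)) hk⟩
    · rintro ⟨k, rfl⟩
      exact Subgroup.zpow_mem _ (Subgroup.mem_map_of_mem _ u.2) k
  have hzp : orderOf z = p := by
    rw [hz, Subgroup.orderOf_coe, Subgroup.orderOf_coe, orderOf_eq_card_of_forall_mem_zpowers hu, hPc]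
  set R := Subgroup.normalizer (((P : Subgroup N).map N.subtype : Subgroup G) : Set G) with hR
  have hsup : R ⊔ N = ⊤ := Sylow.normalizer_sup_eq_top P
  set C := Subgroup.centralizer ({z} : Set G) with hC
  have hcomm : ∀ x ∈ R, ∀ y ∈ R, ⁅x, y⁆ ∈ C := by
    have pw : ∀ x ∈ R, ∃ k : ℤ, z ^ k = x * z * x⁻¹ := fun x hx =>
      (hPmem _).1 ((Subgroup.mem_normalizer_iff.1 hx z).1 ((hPmem z).2 ⟨1, zpow_one z⟩))
    intro x hx y hy
    obtain ⟨k, hk⟩ := pw x hx
    obtain ⟨l, hl⟩ := pw y hy
    rw [hC, Subgroup.mem_centralizer_singleton_iff, commutatorElement_def]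
    have e1 : (x * y) * z * (x * y)⁻¹ = z ^ (k * l) := by
      calc (x * y) * z * (x * y)⁻¹ = x * (y * z * y⁻¹) * x⁻¹ := by group
        _ = (x * z * x⁻¹) ^ l := by rw [← hl, conj_zpow]
        _ = z ^ (k * l) := by rw [← hk, zpow_mul]
    have e2 : (y * x) * z * (y * x)⁻¹ = z ^ (l * k) := by
      calc (y * x) * z * (y * x)⁻¹ = y * (x * z * x⁻¹) * y⁻¹ := by group
        _ = (y * z * y⁻¹) ^ k := by rw [← hk, conj_zpow]
        _ = z ^ (l * k) := by rw [← hl, zpow_mul]
    rw [mul_comm l k, ← e1] at e2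
    have e3 : (y * x)⁻¹ * (x * y) * z = z * ((y * x)⁻¹ * (x * y)) := by
      calc (y * x)⁻¹ * (x * y) * z
          = (y * x)⁻¹ * ((x * y) * z * (x * y)⁻¹) * (x * y) := by group
        _ = (y * x)⁻¹ * ((y * x) * z * (y * x)⁻¹) * (x * y) := by rw [e2]
        _ = z * ((y * x)⁻¹ * (x * y)) := by group
    have e4 : x * y * x⁻¹ * y⁻¹ = (y * x) * ((y * x)⁻¹ * (x * y)) * (y * x)⁻¹ := by group
    have e5 : Commute ((y * x)⁻¹ * (x * y)) z := e3
    have e6 : ∀ m : ℤ, Commute ((y * x)⁻¹ * (x * y)) (z ^ m) := fun m => e5.zpow_right m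
    have hyx : y * x ∈ R := R.mul_mem hy hx
    obtain ⟨m, hm⟩ := pw _ (R.inv_mem hyx)
    rw [inv_inv] at hm
    rw [e4]
    have := e6 m
    rw [hm] at this
    calc (y * x) * ((y * x)⁻¹ * (x * y)) * (y * x)⁻¹ * z
        = (y * x) * (((y * x)⁻¹ * (x * y)) * ((y * x)⁻¹ * z * (y * x))) * (y * x)⁻¹ := by group
      _ = (y * x) * (((y * x)⁻¹ * z * (y * x)) * ((y * x)⁻¹ * (x * y))) * (y * x)⁻¹ := by
        rw [this.eq]
      _ = z * ((y * x) * ((y * x)⁻¹ * (x * y)) * (y * x)⁻¹) := by group
  have habel : ∀ x ∈ C, ∀ y ∈ C, Commute x y := fun x hx y hy =>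
    centralizer_comm hp hdiv hle hsq hzp (Subgroup.mem_centralizer_singleton_iff.1 hx)
      (Subgroup.mem_centralizer_singleton_iff.1 hy)
  set f := QuotientGroup.mk' N with hf
  have hfsurj : ∀ q : G ⧸ N, ∃ x ∈ R, f x = q := by
    intro q
    obtain ⟨x, rfl⟩ := QuotientGroup.mk'_surjective N q
    have hx : x ∈ R ⊔ N := hsup ▸ Subgroup.mem_top x
    obtain ⟨r, hr, n, hn, rfl⟩ := Subgroup.mem_sup_of_normal_right.1 hx
    exact ⟨r, hr, by rw [hf]; exact (QuotientGroup.mk_mul_of_mem r hn).symm⟩
  have hperfQ : commutator (G ⧸ N) = ⊤ := by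
    rw [commutator_def, ← Subgroup.map_top_of_surjective f (QuotientGroup.mk'_surjective N),
      ← Subgroup.map_commutator, ← commutator_def, hperf]
  have hle' : commutator (G ⧸ N) ≤ C.map f := by
    rw [commutator_def, Subgroup.commutator_le]
    intro q1 _ q2 _
    obtain ⟨x, hx, rfl⟩ := hfsurj q1
    obtain ⟨y, hy, rfl⟩ := hfsurj q2
    exact ⟨⁅x, y⁆, hcomm x hx y hy, map_commutatorElement f x y⟩
  have hcommQ : commutator (G ⧸ N) = ⊥ := by
    rw [commutator_def, eq_bot_iff, Subgroup.commutator_le]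
    intro q1 _ q2 _
    have h1 : q1 ∈ C.map f := hle' (hperfQ ▸ Subgroup.mem_top _)
    have h2' : q2 ∈ C.map f := hle' (hperfQ ▸ Subgroup.mem_top _)
    obtain ⟨x, hx, rfl⟩ := h1
    obtain ⟨y, hy, rfl⟩ := h2'
    rw [Subgroup.mem_bot, commutatorElement_eq_one_iff_commute]
    exact (habel x hx y hy).map f
  have hbotTop : (⊥ : Subgroup (G ⧸ N)) = ⊤ := hcommQ ▸ hperfQ
  refine Subgroup.eq_top_iff' N |>.2 fun x => ?_
  have : f x ∈ (⊥ : Subgroup (G ⧸ N)) := hbotTop ▸ Subgroup.mem_top _
  rwa [Subgroup.mem_bot, hf, QuotientGroup.mk'_apply, QuotientGroup.eq_one_iff] at this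

end CfsgLib.Golay
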