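import Cfsg.Agent.Lib.Golay.M24
import Cfsg.Agent.Lib.Golay.Simple

/-!
Orders, transitivity and simplicity of the small Mathieu groups inside the group of the code.
-/

set_option autoImplicit false

namespace CfsgLib.Golay

open Cfsg

open scoped Pointwise commutatorElement

/-! ### General facts -/

/-- The action of a permutation subgroup on an invariant set. -/
@[reducible] def setAction {α : Type*} (K : Subgroup (Equiv.Perm α)) (S : Set α)
    (hS : ∀ g ∈ K, ∀ x ∈ S, g x ∈ S) : MulAction K S where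
  smul g x := ⟨g.val x.val, hS g.val g.2 x.val x.2⟩
  one_smul _ := Subtype.ext rfl
  mul_smul _ _ _ := Subtype.ext rfl

theorem commutator_eq_top_of_le {α : Type*} [Group α] {K : Subgroup α} (h : K ≤ ⁅K, K⁆) :
    commutator K = ⊤ := by
  refine Subgroup.map_injective K.subtype_injective ?_
  rw [Subgroup.map_subtype_commutator, ← MonoidHom.range_eq_map, Subgroup.range_subtype]
  exact le_antisymm (Subgroup.map_subtype_commutator K ▸ Subgroup.map_subtype_le _) h

theorem perm_isSimple_of_prime {α : Type*} [Finite α] (K : Subgroup (Equiv.Perm α)) (S : Finset α)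
    (hS : ∀ g ∈ K, ∀ x ∈ S, g x ∈ S) (hfaith : ∀ g ∈ K, (∀ x ∈ S, g x = x) → g = 1)
    (h2 : ∀ a ∈ S, ∀ b ∈ S, ∀ c ∈ S, ∀ d ∈ S, a ≠ b → c ≠ d → ∃ g ∈ K, g a = c ∧ g b = d)
    (hK : K ≠ ⊥) {p : ℕ} (hp : p.Prime) (hdiv : p ∣ S.card) (hle : S.card ≤ 2 * p)
    (hsq : ¬ p ^ 2 ∣ Nat.card K) (hperf : K ≤ ⁅K, K⁆) : IsSimpleGroup K := by
  letI := setAction K (↑S : Set α) hS
  haveI : Nontrivial K := (Subgroup.nontrivial_iff_ne_bot K).2 hK
  haveI : FaithfulSMul K (↑S : Set α) := ⟨fun {g h} hgh => by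
    have h1 : g.val⁻¹ * h.val = 1 := hfaith _ (K.mul_mem (K.inv_mem g.2) h.2) fun x hx => by
      have : g.val x = h.val x := congrArg Subtype.val (hgh ⟨x, hx⟩)
      rw [Equiv.Perm.mul_apply, ← this]; simp
    exact Subtype.ext (inv_mul_eq_one.1 h1)⟩
  refine isSimpleGroup_of_prime_degree (Ω := (↑S : Set α))
    (MulAction.is_two_pretransitive_iff.2 fun {a b c d} hab hcd => ?_) hp
    (by simpa using hdiv) (by simpa using hle) hsq (commutator_eq_top_of_le hperf)
  obtain ⟨g, hg, hga, hgb⟩ := h2 a.1 a.2 b.1 b.2 c.1 c.2 d.1 d.2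
    (fun h => hab (Subtype.ext h)) (fun h => hcd (Subtype.ext h))
  exact ⟨⟨g, hg⟩, Subtype.ext hga, Subtype.ext hgb⟩

theorem perm_isSimple_of_stabilizer {α : Type*} [Finite α] (K : Subgroup (Equiv.Perm α))
    (S : Finset α) (hS : ∀ g ∈ K, ∀ x ∈ S, g x ∈ S)
    (hfaith : ∀ g ∈ K, (∀ x ∈ S, g x = x) → g = 1)
    (h2 : ∀ a ∈ S, ∀ b ∈ S, ∀ c ∈ S, ∀ d ∈ S, a ≠ b → c ≠ d → ∃ g ∈ K, g a = c ∧ g b = d)
    (a : α) (ha : a ∈ S)
    (hsimp : IsSimpleGroup ↥(K ⊓ MulAction.stabilizer (Equiv.Perm α) a)) {p q : ℕ} (hp : p.Prime)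
    (hq : q.Prime) (hpq : p ≠ q) (hpn : p ∣ S.card) (hqn : q ∣ S.card) : IsSimpleGroup K := by
  letI := setAction K (↑S : Set α) hS
  haveI : FaithfulSMul K (↑S : Set α) := ⟨fun {g h} hgh => by
    have h1 : g.val⁻¹ * h.val = 1 := hfaith _ (K.mul_mem (K.inv_mem g.2) h.2) fun x hx => by
      have : g.val x = h.val x := congrArg Subtype.val (hgh ⟨x, hx⟩)
      rw [Equiv.Perm.mul_apply, ← this]; simp
    exact Subtype.ext (inv_mul_eq_one.1 h1)⟩
  refine isSimpleGroup_of_stabilizer (Ω := (↑S : Set α))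
    (MulAction.is_two_pretransitive_iff.2 fun {a b c d} hab hcd => ?_) ⟨a, ha⟩ ?_ hp hq hpq
    (by simpa using hpn) (by simpa using hqn)
  · obtain ⟨g, hg, hga, hgb⟩ := h2 a.1 a.2 b.1 b.2 c.1 c.2 d.1 d.2
      (fun h => hab (Subtype.ext h)) (fun h => hcd (Subtype.ext h))
    exact ⟨⟨g, hg⟩, Subtype.ext hga, Subtype.ext hgb⟩
  · haveI := hsimp
    have e : (MulAction.stabilizer K (⟨a, ha⟩ : (↑S : Set α))).map K.subtype =
        K ⊓ MulAction.stabilizer (Equiv.Perm α) a := by
      ext g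
      simp only [Subgroup.mem_map, Subgroup.mem_inf, MulAction.mem_stabilizer_iff]
      constructor
      · rintro ⟨x, hx, rfl⟩
        exact ⟨x.2, congrArg Subtype.val hx⟩
      · rintro ⟨hg, hga⟩
        exact ⟨⟨g, hg⟩, Subtype.ext hga, rfl⟩
    exact ((Subgroup.equivMapOfInjective _ K.subtype K.subtype_injective).trans
      (MulEquiv.subgroupCongr e)).isSimpleGroup

/-- The identification of a subgroup of a subgroup with its image. -/
noncomputable def subEquiv {α : Type*} [Group α] {K : Subgroup α} (H : Subgroup K) {M : Subgroup α}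
    (e : H.map K.subtype = M) : H ≃* M :=
  (Subgroup.equivMapOfInjective _ K.subtype K.subtype_injective).trans (MulEquiv.subgroupCongr e)

theorem M24_exists_map {k : ℕ} (hk : k ≤ 5) (x y : Fin k ↪ GolayPt) :
    ∃ g ∈ M24, ∀ i, g (x i) = y i := by
  haveI := M24_five_transitive
  haveI : MulAction.IsMultiplyPretransitive M24 GolayPt k :=
    MulAction.isMultiplyPretransitive_of_le hk (by rw [Nat.card_congr ptEquiv, Nat.card_fin]; omega)
  obtain ⟨g, hg⟩ := MulAction.exists_smul_eq M24 x y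
  exact ⟨g.val, g.2, fun i => DFunLike.congr_fun hg i⟩

theorem M24_map_two {a b c d : GolayPt} (hab : a ≠ b) (hcd : c ≠ d) :
    ∃ g ∈ M24, g a = c ∧ g b = d := by
  obtain ⟨g, hg, h⟩ := M24_exists_map (k := 2) (by omega)
    ⟨![a, b], by intro i j; fin_cases i <;> fin_cases j <;> simp [hab, hab.symm]⟩
    ⟨![c, d], by intro i j; fin_cases i <;> fin_cases j <;> simp [hcd, hcd.symm]⟩
  exact ⟨g, hg, h 0, h 1⟩

theorem M24_map_three {a b c d e f : GolayPt} (hab : a ≠ b) (hac : a ≠ c) (hbc : b ≠ c)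
    (hde : d ≠ e) (hdf : d ≠ f) (hef : e ≠ f) :
    ∃ g ∈ M24, g a = d ∧ g b = e ∧ g c = f := by
  obtain ⟨g, hg, h⟩ := M24_exists_map (k := 3) (by omega)
    ⟨![a, b, c], by
      intro i j
      fin_cases i <;> fin_cases j <;> simp [hab, hab.symm, hac, hac.symm, hbc, hbc.symm]⟩
    ⟨![d, e, f], by
      intro i j
      fin_cases i <;> fin_cases j <;> simp [hde, hde.symm, hdf, hdf.symm, hef, hef.symm]⟩
  exact ⟨g, hg, h 0, h 1, h 2⟩

theorem M24_map_four {a b c d a' b' c' d' : GolayPt} (hab : a ≠ b) (hac : a ≠ c) (had : a ≠ d)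
    (hbc : b ≠ c) (hbd : b ≠ d) (hcd : c ≠ d) (hab' : a' ≠ b') (hac' : a' ≠ c') (had' : a' ≠ d')
    (hbc' : b' ≠ c') (hbd' : b' ≠ d') (hcd' : c' ≠ d') :
    ∃ g ∈ M24, g a = a' ∧ g b = b' ∧ g c = c' ∧ g d = d' := by
  obtain ⟨g, hg, h⟩ := M24_exists_map (k := 4) (by omega)
    ⟨![a, b, c, d], by
      intro i j
      fin_cases i <;> fin_cases j <;>
        simp [hab, hab.symm, hac, hac.symm, had, had.symm, hbc, hbc.symm, hbd, hbd.symm, hcd,
          hcd.symm]⟩
    ⟨![a', b', c', d'], by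
      intro i j
      fin_cases i <;> fin_cases j <;>
        simp [hab', hab'.symm, hac', hac'.symm, had', had'.symm, hbc', hbc'.symm, hbd', hbd'.symm,
          hcd', hcd'.symm]⟩
  exact ⟨g, hg, h 0, h 1, h 2, h 3⟩

/-- The stabiliser of a tuple of at most five points, up to isomorphism. -/
theorem card_stabilizer_tuple {k : ℕ} (hk : k ≤ 5) (x : Fin k ↪ GolayPt) :
    Nat.descFactorial 24 k * Nat.card (MulAction.stabilizer M24 x) = 244823040 := by
  haveI := M24_five_transitive
  haveI : MulAction.IsMultiplyPretransitive M24 GolayPt k :=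
    MulAction.isMultiplyPretransitive_of_le hk (by rw [Nat.card_congr ptEquiv, Nat.card_fin]; omega)
  have h : Nat.card (Fin k ↪ GolayPt) = Nat.descFactorial 24 k := by
    rw [Nat.card_eq_fintype_card, Fintype.card_embedding_eq, Fintype.card_congr ptEquiv,
      Fintype.card_fin, Fintype.card_fin]
  have hsurj : MulAction.orbit M24 x = Set.univ :=
    Set.eq_univ_of_forall fun y => by
      obtain ⟨g, hg, hgy⟩ := M24_exists_map hk x y
      exact ⟨⟨g, hg⟩, DFunLike.ext _ _ fun i => hgy i⟩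
  have h2 : (MulAction.stabilizer M24 x).index = Nat.card (Fin k ↪ GolayPt) := by
    refine (MulAction.index_stabilizer M24 x).trans ?_
    rw [← Set.ncard_univ]
    exact congrArg Set.ncard hsurj
  rw [← h, ← h2, Subgroup.index_mul_card, card_M24]

/-! ### Perfectness certificates -/

/-- The check that every member of `gens` is a commutator of two members of `elts`, all of which
pass the test `ok`. -/
def commCheck (ok : List ℕ → Bool) (elts gens : List (List ℕ)) : Bool :=
  elts.all ok && gens.all fun g => validL 24 g && elts.any fun a => elts.any fun b =>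
    validL 24 (compL g b) && validL 24 (compL a b) && decide (compL (compL g b) a = compL a b)

theorem commCheck_mem (K : Subgroup (Equiv.Perm GolayPt)) (ok : List ℕ → Bool)
    (hok : ∀ L, ok L = true → validL 24 L = true ∧ permOf ptEquiv L ∈ K) {elts gens : List (List ℕ)}
    (h : commCheck ok elts gens = true) :
    ∀ g ∈ gens, permOf ptEquiv g ∈ ⁅K, K⁆ := by
  simp only [commCheck, Bool.and_eq_true, List.all_eq_true, List.any_eq_true, decide_eq_true_eq] at h
  intro g hg
  obtain ⟨hgv, a, ha, b, hb, ⟨hgb, hab⟩, heq⟩ := h.2 g hg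
  obtain ⟨hav, haK⟩ := hok a (h.1 a ha)
  obtain ⟨hbv, hbK⟩ := hok b (h.1 b hb)
  have e1 := permOf_comp ptEquiv hgv hbv hgb
  have e2 := permOf_comp ptEquiv hgb hav (heq ▸ hab)
  rw [heq, permOf_comp ptEquiv hav hbv hab, e1] at e2
  have e3 : permOf ptEquiv g = ⁅permOf ptEquiv a, permOf ptEquiv b⁆ := by
    rw [commutatorElement_def, e2]; group
  rw [e3]
  exact Subgroup.commutator_mem_commutator haK hbK

/-- The test for membership in the group with given fixed points and invariant mask. -/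
def subTest (fixed : List ℕ) (mask : ℕ) (L : List ℕ) : Bool :=
  m24Test L && fixed.all (fun f => decide (f < 24 ∧ L.getD f 0 = f)) && decide (imgMask L mask = mask)

theorem subTest_spec {fixed : List ℕ} {mask : ℕ} {L : List ℕ} (h : subTest fixed mask L = true) :
    validL 24 L = true ∧ permOf ptEquiv L ∈ M24 ∧
      (∀ f ∈ fixed, permOf ptEquiv L (pt f) = pt f) ∧
      permOf ptEquiv L • toSet mask = toSet mask := by
  simp only [subTest, Bool.and_eq_true, List.all_eq_true, decide_eq_true_eq] at h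
  have hv : validL 24 L = true := by
    have := h.1.1
    simp only [m24Test, Bool.and_eq_true] at this
    exact this.1
  refine ⟨hv, mem_M24_of_test h.1.1, fun f hf => ?_, ?_⟩
  · refine getD_of_fixed hv ?_
    obtain ⟨hlt, hLf⟩ := h.1.2 f hf
    rw [ptEquiv_pt hlt, hLf]
  · rw [smul_toSet hv, h.2]

theorem fix_nums_singleton {K : Subgroup (Equiv.Perm GolayPt)} {g : Equiv.Perm GolayPt} {i : ℕ}
    (hi : i < 24) : g ∈ fixNums ptEquiv K [i] ↔ g ∈ K ∧ g (pt i) = pt i := by
  rw [mem_fixNums]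
  refine and_congr_right fun _ => ⟨fun h => h _ (by simp [ptEquiv_pt hi]), fun h q hq => ?_⟩
  rw [List.mem_singleton] at hq
  rwa [← pt_ptEquiv q, hq]

theorem fix_nums_pair {K : Subgroup (Equiv.Perm GolayPt)} {g : Equiv.Perm GolayPt} {i j : ℕ}
    (hi : i < 24) (hj : j < 24) :
    g ∈ fixNums ptEquiv K [i, j] ↔ g ∈ K ∧ g (pt i) = pt i ∧ g (pt j) = pt j := by
  rw [mem_fixNums]
  refine and_congr_right fun _ => ⟨fun h => ⟨h _ (by simp [ptEquiv_pt hi]),
    h _ (by simp [ptEquiv_pt hj])⟩, fun h q hq => ?_⟩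
  simp only [List.mem_cons, List.not_mem_nil, or_false] at hq
  rcases hq with hq | hq
  · rw [← pt_ptEquiv q, hq]; exact h.1
  · rw [← pt_ptEquiv q, hq]; exact h.2

/-! ### The stabiliser of one point -/

/-- The stabiliser of the point numbered 0. -/
def stabOne : Subgroup (Equiv.Perm GolayPt) := fixNums ptEquiv M24 [0]

theorem m23Chain_check : chainCheck 24 m23ChainGens m23ChainSteps [0] m23ChainLevels = true := by
  decide +kernel

theorem m23_comm : ∀ g ∈ m23ChainGens, permOf ptEquiv g ∈ ⁅stabOne, stabOne⁆ :=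
  commCheck_mem stabOne (subTest [0] 0)
    (fun L hL => by
      obtain ⟨hv, hm, hf, -⟩ := subTest_spec hL
      exact ⟨hv, (fix_nums_singleton (by omega)).2 ⟨hm, hf 0 (by simp)⟩⟩)
    (elts := m23Elts) (by decide +kernel)

theorem stabOne_comm_le : ⁅stabOne, stabOne⁆ ≤ M24 :=
  Subgroup.commutator_le.2 fun a ha b hb => by
    rw [commutatorElement_def]
    exact mul_mem (mul_mem (mul_mem ha.1 hb.1) (inv_mem ha.1)) (inv_mem hb.1)

theorem m23Chain_cover : CoverOk ptEquiv M24 [0] m23ChainLevels :=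
  coverOk_of_check M24 (rs := m24Masks.drop 1) (by decide +kernel)
    (fun r hr => m24Masks_inv _ le_rfl r (List.mem_of_mem_drop hr))
    fun g hg hfix => eq_one_of_base hg fun q hq => hfix q (by
      have : [0] ++ m23ChainLevels.map (·.base) = [0, 1, 2, 3, 4, 12, 5] := by decide +kernel
      rwa [this])

theorem m23Chain_reps : RepsMem ptEquiv M24 m23ChainLevels :=
  chainCheck_reps _ _ m23Chain_check fun g hg => stabOne_comm_le (m23_comm g hg)

theorem card_stabOne : Nat.card stabOne = 10200960 := by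
  rw [stabOne, chain_card ptEquiv M24 (chainCheck_ok m23Chain_check) m23Chain_reps m23Chain_cover]
  decide +kernel

theorem stabOne_perfect : stabOne ≤ ⁅stabOne, stabOne⁆ :=
  chain_le ptEquiv M24 _ (chainCheck_ok m23Chain_check) m23Chain_reps m23Chain_cover
    (chainCheck_reps _ _ m23Chain_check m23_comm)

theorem stabOne_simple : IsSimpleGroup stabOne := by
  have hcard : (Finset.univ.erase (pt 0)).card = 23 := by decide +kernel
  refine perm_isSimple_of_prime stabOne (Finset.univ.erase (pt 0)) ?_ ?_ ?_ ?_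
    (p := 23) (by norm_num) (by rw [hcard]) (by omega) (by rw [card_stabOne]; norm_num)
    stabOne_perfect
  · intro g hg x hx
    rw [stabOne, fix_nums_singleton (by omega)] at hg
    simp only [Finset.mem_erase, Finset.mem_univ, and_true] at hx ⊢
    exact fun h => hx (g.injective (h.trans hg.2.symm))
  · intro g hg h
    rw [stabOne, fix_nums_singleton (by omega)] at hg
    refine Equiv.ext fun x => ?_
    by_cases hx : x = pt 0
    · rw [hx]; exact hg.2
    · exact h x (by simp [hx])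
  · intro a ha b hb c hc d hd hab hcd
    simp only [Finset.mem_erase, Finset.mem_univ, and_true] at ha hb hc hd
    obtain ⟨g, hg, h0, ha', hb'⟩ :=
      M24_map_three (Ne.symm ha) (Ne.symm hb) hab (Ne.symm hc) (Ne.symm hd) hcd
    exact ⟨g, (fix_nums_singleton (by omega)).2 ⟨hg, h0⟩, ha', hb'⟩
  · intro h
    have := card_stabOne
    rw [h, Subgroup.card_bot] at this
    omega

/-! ### The stabiliser of two points -/

/-- The stabiliser of the points numbered 0 and 1. -/
def stabTwo : Subgroup (Equiv.Perm GolayPt) := fixNums ptEquiv M24 [0, 1]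

theorem m22Chain_check : chainCheck 24 m22ChainGens m22ChainSteps [0, 1] m22ChainLevels = true := by
  decide +kernel

theorem m22_comm : ∀ g ∈ m22ChainGens, permOf ptEquiv g ∈ ⁅stabTwo, stabTwo⁆ :=
  commCheck_mem stabTwo (subTest [0, 1] 0)
    (fun L hL => by
      obtain ⟨hv, hm, hf, -⟩ := subTest_spec hL
      exact ⟨hv, (fix_nums_pair (by omega) (by omega)).2 ⟨hm, hf 0 (by simp), hf 1 (by simp)⟩⟩)
    (elts := m22Elts) (by decide +kernel)

theorem stabTwo_comm_le : ⁅stabTwo, stabTwo⁆ ≤ M24 :=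
  Subgroup.commutator_le.2 fun a ha b hb => by
    rw [commutatorElement_def]
    exact mul_mem (mul_mem (mul_mem ha.1 hb.1) (inv_mem ha.1)) (inv_mem hb.1)

theorem m22Chain_cover : CoverOk ptEquiv M24 [0, 1] m22ChainLevels :=
  coverOk_of_check M24 (rs := m24Masks.drop 2) (by decide +kernel)
    (fun r hr => m24Masks_inv _ le_rfl r (List.mem_of_mem_drop hr))
    fun g hg hfix => eq_one_of_base hg fun q hq => hfix q (by
      have : [0, 1] ++ m22ChainLevels.map (·.base) = [0, 1, 2, 3, 4, 12, 5] := by decide +kernel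
      rwa [this])

theorem m22Chain_reps : RepsMem ptEquiv M24 m22ChainLevels :=
  chainCheck_reps _ _ m22Chain_check fun g hg => stabTwo_comm_le (m22_comm g hg)

theorem card_stabTwo : Nat.card stabTwo = 443520 := by
  rw [stabTwo, chain_card ptEquiv M24 (chainCheck_ok m22Chain_check) m22Chain_reps m22Chain_cover]
  decide +kernel

theorem stabTwo_perfect : stabTwo ≤ ⁅stabTwo, stabTwo⁆ :=
  chain_le ptEquiv M24 _ (chainCheck_ok m22Chain_check) m22Chain_reps m22Chain_cover
    (chainCheck_reps _ _ m22Chain_check m22_comm)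

theorem stabTwo_simple : IsSimpleGroup stabTwo := by
  have hcard : ((Finset.univ.erase (pt 0)).erase (pt 1)).card = 22 := by decide +kernel
  have h01 : pt 0 ≠ pt 1 := by decide +kernel
  refine perm_isSimple_of_prime stabTwo ((Finset.univ.erase (pt 0)).erase (pt 1)) ?_ ?_ ?_ ?_
    (p := 11) (by norm_num) (by rw [hcard]; norm_num) (by omega) (by rw [card_stabTwo]; norm_num)
    stabTwo_perfect
  · intro g hg x hx
    rw [stabTwo, fix_nums_pair (by omega) (by omega)] at hg
    simp only [Finset.mem_erase, Finset.mem_univ, and_true] at hx ⊢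
    exact ⟨fun h => hx.1 (g.injective (h.trans hg.2.2.symm)),
      fun h => hx.2 (g.injective (h.trans hg.2.1.symm))⟩
  · intro g hg h
    rw [stabTwo, fix_nums_pair (by omega) (by omega)] at hg
    refine Equiv.ext fun x => ?_
    by_cases hx : x = pt 0
    · rw [hx]; exact hg.2.1
    by_cases hx1 : x = pt 1
    · rw [hx1]; exact hg.2.2
    · exact h x (by simp [hx, hx1])
  · intro a ha b hb c hc d hd hab hcd
    simp only [Finset.mem_erase, Finset.mem_univ, and_true] at ha hb hc hd
    obtain ⟨g, hg, h0, h1, ha', hb'⟩ := M24_map_four h01 (Ne.symm ha.2) (Ne.symm hb.2)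
      (Ne.symm ha.1) (Ne.symm hb.1) hab h01 (Ne.symm hc.2) (Ne.symm hd.2) (Ne.symm hc.1)
      (Ne.symm hd.1) hcd
    exact ⟨g, (fix_nums_pair (by omega) (by omega)).2 ⟨hg, h0, h1⟩, ha', hb'⟩
  · intro h
    have := card_stabTwo
    rw [h, Subgroup.card_bot] at this
    omega

theorem M24_simple : IsSimpleGroup M24 := by
  haveI := stabOne_simple
  have e : M24 ⊓ MulAction.stabilizer (Equiv.Perm GolayPt) (pt 0) = stabOne := by
    ext g
    rw [Subgroup.mem_inf, stabOne, fix_nums_singleton (by omega)]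
    exact Iff.rfl
  refine perm_isSimple_of_stabilizer M24 Finset.univ (fun _ _ _ _ => Finset.mem_univ _)
    (fun g _ h => Equiv.ext fun x => h x (Finset.mem_univ x)) ?_ (pt 0) (Finset.mem_univ _)
    (MulEquiv.isSimpleGroup (MulEquiv.subgroupCongr e)) (p := 2) (q := 3) (by norm_num) (by norm_num)
    (by norm_num) ?_ ?_
  · intro a _ b _ c _ d _ hab hcd
    exact M24_map_two hab hcd
  · rw [Finset.card_univ, Fintype.card_congr ptEquiv, Fintype.card_fin]; norm_num
  · rw [Finset.card_univ, Fintype.card_congr ptEquiv, Fintype.card_fin]; norm_num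

/-- The stabiliser in `M24` of a point has the order and simplicity of the point stabiliser. -/
theorem stabilizer_point_equiv (p : GolayPt) :
    Nonempty (MulAction.stabilizer M24 p ≃* stabOne) := by
  obtain ⟨g, hg, hgp⟩ : ∃ g ∈ M24, g (pt 0) = p := by
    obtain ⟨g, hg, h⟩ := M24_exists_map (k := 1) (by omega)
      ⟨fun _ => pt 0, fun _ _ _ => Subsingleton.elim _ _⟩
      ⟨fun _ => p, fun _ _ _ => Subsingleton.elim _ _⟩
    exact ⟨g, hg, h 0⟩
  refine ⟨((MulAction.stabilizerEquivStabilizer (g := (⟨g, hg⟩ : M24)) (a := pt 0) (b := p)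
    hgp.symm).symm).trans (subEquiv _ ?_)⟩
  ext x
  rw [stabOne, fix_nums_singleton (by omega), Subgroup.mem_map]
  exact ⟨by rintro ⟨y, hy, rfl⟩; exact ⟨y.2, hy⟩, fun h => ⟨⟨x, h.1⟩, h.2, rfl⟩⟩

theorem stabilizer_pair_equiv {p q : GolayPt} (hpq : p ≠ q) :
    Nonempty (↥(MulAction.stabilizer M24 p ⊓ MulAction.stabilizer M24 q) ≃* stabTwo) := by
  obtain ⟨g, hg, hgp, hgq⟩ := M24_map_two (show pt 0 ≠ pt 1 by decide +kernel) hpq
  have e1 : MulAction.stabilizer M24 p ⊓ MulAction.stabilizer M24 q =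
      MulAction.stabilizer M24 (p, q) := by
    ext x; simp [MulAction.mem_stabilizer_iff, Prod.ext_iff]
  refine ⟨((MulEquiv.subgroupCongr e1).trans ((MulAction.stabilizerEquivStabilizer
    (g := (⟨g, hg⟩ : M24)) (a := (pt 0, pt 1)) (b := (p, q))
    (Prod.ext hgp.symm hgq.symm)).symm)).trans (subEquiv _ ?_)⟩
  ext x
  rw [stabTwo, fix_nums_pair (by omega) (by omega), Subgroup.mem_map]
  exact ⟨by rintro ⟨y, hy, rfl⟩; exact ⟨y.2, congrArg Prod.fst hy, congrArg Prod.snd hy⟩,
    fun h => ⟨⟨x, h.1⟩, Prod.ext h.2.1 h.2.2, rfl⟩⟩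

end CfsgLib.Golay
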