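import Cfsg.Agent.Lib.Golay.Dodecad

/-!
The pointwise stabiliser of an octad, the automorphisms of the octad system, and octads against
dodecads.
-/

set_option autoImplicit false

namespace CfsgLib.Golay

open Cfsg

open scoped Pointwise symmDiff

theorem octad_aut_le : setSystemAut octads ≤ M24 := by
  intro g hg
  rw [setSystemAut, MulAction.mem_stabilizer_iff] at hg
  refine mem_M24_of_basis g fun b hb => ?_
  have h8 : ∀ b ∈ golayBasis, bitCount b = 8 := by decide +kernel
  have hbo : toSet b ∈ octads := mem_wordsOfWeight.2 ⟨b, mem_spanList_self hb, h8 b hb, rfl⟩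
  have : g • toSet b ∈ octads := by
    rw [← hg]; exact Set.smul_mem_smul_set hbo
  exact this.1

theorem M24_le_octad_aut : M24 ≤ setSystemAut octads := by
  intro g hg
  rw [setSystemAut, MulAction.mem_stabilizer_iff]
  refine Set.eq_of_subset_of_ncard_le ?_ ?_ (Set.toFinite _)
  · rintro _ ⟨s, hs, rfl⟩
    exact octads_smul hg hs
  · rw [Set.ncard_smul_set]

theorem octad_stabilizer_facts :
    ∀ L ∈ lastLevel.reps, L.getD 7 0 = 7 ∧ L.getD 10 0 = 10 ∧ compL L L = List.range 24 := by
  decide +kernel

/-- The pointwise stabiliser of the base octad. -/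
theorem fixNums_six_eq :
    fixNums ptEquiv M24 [0, 1, 2, 3, 4, 12] =
      M24 ⊓ fixingSubgroup (Equiv.Perm GolayPt) (toSet baseOctad : Set GolayPt) := by
  have hreps : RepsMem ptEquiv M24 [lastLevel] :=
    chainCheck_reps _ _ lastLevel_check m24ChainGens_mem
  have hok := chainCheck_ok lastLevel_check
  apply le_antisymm
  · have hcov : CoverOk ptEquiv M24 [0, 1, 2, 3, 4, 12] [lastLevel] :=
      coverOk_of_check M24 (rs := m24Masks.drop 6) (by decide +kernel)
        (fun r hr => m24Masks_inv _ le_rfl r (List.mem_of_mem_drop hr))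
        fun g hg hfix => eq_one_of_base hg fun q hq => hfix q (by
          have : [0, 1, 2, 3, 4, 12] ++ [lastLevel].map (·.base) = [0, 1, 2, 3, 4, 12, 5] := by
            decide +kernel
          rwa [this])
    have hfixing : RepsMem ptEquiv
        (M24 ⊓ fixingSubgroup (Equiv.Perm GolayPt) (toSet baseOctad : Set GolayPt)) [lastLevel] := by
      intro l hl L hL
      rw [List.mem_singleton] at hl
      subst hl
      obtain ⟨hT, -⟩ := level_facts ptEquiv M24 hok hreps
      have hT' := hT _ (List.mem_map_of_mem hL)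
      refine Subgroup.mem_inf.2 ⟨hT'.1, (mem_fixingSubgroup_iff _).2 fun q hq => ?_⟩
      rw [Equiv.Perm.smul_def]
      by_cases h6 : (ptEquiv q).val ∈ [0, 1, 2, 3, 4, 12]
      · exact hT'.2 q h6
      · have hv : validL 24 L = true := by
          have := hok
          simp only [chainOk, Bool.and_eq_true, List.all_eq_true] at this
          exact (this.1.2 L hL).1
        have hout : ∀ p : GolayPt, p ∈ toSet baseOctad →
            (ptEquiv p).val ∈ [0, 1, 2, 3, 4, 12] ∨ (ptEquiv p).val = 7 ∨ (ptEquiv p).val = 10 := by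
          decide +kernel
        rcases hout q hq with h | h | h
        · exact absurd h h6
        · exact getD_of_fixed hv (by rw [h]; exact (octad_stabilizer_facts L hL).1)
        · exact getD_of_fixed hv (by rw [h]; exact (octad_stabilizer_facts L hL).2.1)
    exact chain_le ptEquiv M24 _ hok hreps hcov hfixing
  · rintro g hg
    obtain ⟨hg, hfix⟩ := Subgroup.mem_inf.1 hg
    refine ⟨hg, fun q hq => (mem_fixingSubgroup_iff _).1 hfix q ?_⟩
    have : ∀ p : GolayPt, (ptEquiv p).val ∈ [0, 1, 2, 3, 4, 12] → p ∈ toSet baseOctad := by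
      decide +kernel
    exact this q hq

theorem card_octad_pointwise :
    Nat.card ↥(fixNums ptEquiv M24 [0, 1, 2, 3, 4, 12]) = 16 := by
  rw [chain_card ptEquiv M24 (chainCheck_ok lastLevel_check)
    (chainCheck_reps _ _ lastLevel_check m24ChainGens_mem)
    (coverOk_of_check M24 (rs := m24Masks.drop 6) (by decide +kernel)
      (fun r hr => m24Masks_inv _ le_rfl r (List.mem_of_mem_drop hr))
      fun g hg hfix => eq_one_of_base hg fun q hq => hfix q (by
        have : [0, 1, 2, 3, 4, 12] ++ [lastLevel].map (·.base) = [0, 1, 2, 3, 4, 12, 5] := by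
          decide +kernel
        rwa [this]))]
  decide +kernel

theorem octad_pointwise_sq {g : Equiv.Perm GolayPt}
    (hg : g ∈ fixNums ptEquiv M24 [0, 1, 2, 3, 4, 12]) : g * g = 1 := by
  have hreps : RepsMem ptEquiv M24 [lastLevel] :=
    chainCheck_reps _ _ lastLevel_check m24ChainGens_mem
  have hok := chainCheck_ok lastLevel_check
  obtain ⟨hT, himg, -⟩ := level_facts ptEquiv M24 hok hreps
  obtain ⟨hb, himgs, -⟩ := lastLevel_facts
  have h5 : (ptEquiv (pt 5)).val = lastLevel.base := by rw [hb, ptEquiv_pt (by omega)]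
  have ho := invOn_baseOctad M24 le_rfl g hg.1 fun q hq => hg.2 q (by
    simp only [List.mem_cons, List.not_mem_nil, or_false] at hq ⊢; omega)
  have hout : (ptEquiv (g (pt 5))).val ∈ lastLevel.imgs := by
    refine himgs _ (ptEquiv _).isLt ?_
    by_contra hcon
    rw [Bool.not_eq_false, ← mem_toSet, ← ho, ← Equiv.Perm.smul_def,
      Finset.smul_mem_smul_finset_iff, pt_mem_toSet (by omega)] at hcon
    exact absurd hcon (by decide +kernel)
  rw [← himg (pt 5) h5] at hout
  obtain ⟨t, ht, hte⟩ := List.mem_map.1 hout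
  have htp : t (pt 5) = g (pt 5) := ptEquiv.injective (Fin.ext hte)
  have hgt : g = t := by
    refine (inv_mul_eq_one.1 (eq_one_of_base (mul_mem (inv_mem (hT t ht).1) hg.1) fun q hq => ?_)).symm
    rw [Equiv.Perm.mul_apply]
    by_cases h6 : (ptEquiv q).val ∈ [0, 1, 2, 3, 4, 12]
    · rw [hg.2 q h6]
      exact ((fixNums ptEquiv M24 [0, 1, 2, 3, 4, 12]).inv_mem (hT t ht)).2 q h6
    · have : q = pt 5 := by
        have : (ptEquiv q).val = 5 := by
          simp only [List.mem_cons, List.not_mem_nil, or_false] at hq h6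
          omega
        rw [← pt_ptEquiv q, this]
      rw [this, ← htp]
      simp
  subst hgt
  obtain ⟨L, hL, rfl⟩ := List.mem_map.1 ht
  have hv : validL 24 L = true := by
    have := hok
    simp only [chainOk, Bool.and_eq_true, List.all_eq_true] at this
    exact (this.1.2 L hL).1
  rw [← permOf_comp ptEquiv hv hv (by rw [(octad_stabilizer_facts L hL).2.2]; decide +kernel),
    (octad_stabilizer_facts L hL).2.2, permOf_id ptEquiv (by decide +kernel)]

/-- The pointwise stabiliser of any octad. -/
theorem octad_pointwise {o : Finset GolayPt} (ho : o ∈ octads) :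
    Nat.card ↥(M24 ⊓ fixingSubgroup (Equiv.Perm GolayPt) (o : Set GolayPt)) = 16 ∧
      ∀ g ∈ M24 ⊓ fixingSubgroup (Equiv.Perm GolayPt) (o : Set GolayPt), g * g = 1 := by
  obtain ⟨a, ha, rfl⟩ := octads_transitive ho
  have hmem : ∀ g : Equiv.Perm GolayPt,
      g ∈ M24 ⊓ fixingSubgroup (Equiv.Perm GolayPt) ((a • toSet baseOctad : Finset GolayPt) : Set GolayPt) ↔
        a⁻¹ * g * a ∈ fixNums ptEquiv M24 [0, 1, 2, 3, 4, 12] := by
    intro g
    rw [fixNums_six_eq, Subgroup.mem_inf, Subgroup.mem_inf]
    refine and_congr ⟨fun h => mul_mem (mul_mem (inv_mem ha) h) ha, fun h => ?_⟩ ?_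
    · have := mul_mem (mul_mem ha h) (inv_mem ha)
      simpa [mul_assoc] using this
    · simp only [mem_fixingSubgroup_iff, Finset.mem_coe, Equiv.Perm.smul_def, Equiv.Perm.mul_apply]
      constructor
      · intro h q hq
        have hh : g (a q) = a q := h (a q) (Finset.smul_mem_smul_finset hq)
        rw [hh]
        simp
      · intro h q hq
        obtain ⟨r, hr, rfl⟩ := Finset.mem_smul_finset.1 hq
        have hh := h r hr
        rw [Equiv.Perm.smul_def]
        exact a⁻¹.injective (hh.trans (by simp))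
  refine ⟨?_, fun g hg => ?_⟩
  · rw [← card_octad_pointwise]
    refine Nat.card_congr ((MulAut.conj a⁻¹).toEquiv.subtypeEquiv fun g => ?_)
    rw [hmem g]
    simp [MulAut.conj_apply]
  · have := octad_pointwise_sq ((hmem g).1 hg)
    have e : g * g = a * ((a⁻¹ * g * a) * (a⁻¹ * g * a)) * a⁻¹ := by group
    rw [e, this]
    group

theorem card_symmDiff_add (s t : Finset GolayPt) :
    (s ∆ t).card + 2 * (s ∩ t).card = s.card + t.card := by
  have e : s ∆ t = (s \ t) ∪ (t \ s) := rfl
  rw [e, Finset.card_union_of_disjoint disjoint_sdiff_sdiff, Finset.card_sdiff, Finset.card_sdiff,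
    Finset.inter_comm t s]
  have := Finset.card_le_card (Finset.inter_subset_left : s ∩ t ⊆ s)
  have := Finset.card_le_card (Finset.inter_subset_right : s ∩ t ⊆ t)
  omega

/-- An octad meets a dodecad in 2, 4 or 6 points. -/
theorem octad_dodecad_inter {o d : Finset GolayPt} (ho : o ∈ octads) (hd : d ∈ dodecads) :
    (o ∩ d).card = 2 ∨ (o ∩ d).card = 4 ∨ (o ∩ d).card = 6 := by
  have hw := supports_weight (symmDiff_mem_supports ho.1 hd.1)
  have h := card_symmDiff_add o d
  have h1 : o.card = 8 := ho.2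
  have h2 : d.card = 12 := hd.2
  have := Finset.card_le_card (Finset.inter_subset_left : o ∩ d ⊆ o)
  omega

/-- The hexads on a dodecad form a Steiner system S(5, 6, 12). -/
theorem hexad_steiner {d : Finset GolayPt} (hd : d ∈ dodecads) :
    IsSteinerSystem 5 6 {h : Finset {p : GolayPt // p ∈ d} |
      ∃ o ∈ octads, (o ∩ d).card = 6 ∧ h = Finset.subtype (fun p => p ∈ d) o} := by
  constructor
  · rintro _ ⟨o, -, ho6, rfl⟩
    rw [Finset.card_subtype, Finset.filter_mem_eq_inter, ho6]
  · intro s hs
    set s' := s.map (Function.Embedding.subtype (fun p => p ∈ d)) with hs'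
    have hs'd : s' ⊆ d := Finset.map_subtype_subset s
    obtain ⟨o, ⟨ho, hso⟩, hu⟩ := octads_steiner.2 s' (by rw [hs', Finset.card_map, hs])
    have h5 : 5 ≤ (o ∩ d).card := by
      rw [← hs, ← Finset.card_map (Function.Embedding.subtype (fun p => p ∈ d))]
      exact Finset.card_le_card (Finset.subset_inter hso hs'd)
    have h6 : (o ∩ d).card = 6 := by
      have := octad_dodecad_inter ho hd
      omega
    refine ⟨Finset.subtype (fun p => p ∈ d) o, ⟨⟨o, ho, h6, rfl⟩, fun a ha => ?_⟩, ?_⟩
    · exact Finset.mem_subtype.2 (hso (Finset.mem_map_of_mem _ ha))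
    · rintro _ ⟨⟨o', ho', -, rfl⟩, hso'⟩
      rw [hu o' ⟨ho', fun a ha => ?_⟩]
      obtain ⟨a', ha', rfl⟩ := Finset.mem_map.1 ha
      exact Finset.mem_subtype.1 (hso' ha')

theorem octad_inter_ncard {d : Finset GolayPt} (hd : d ∈ dodecads) (k : ℕ) :
    {o : Finset GolayPt | o ∈ octads ∧ (o ∩ d).card = k}.ncard =
      countSpan (fun n => bitCount n == 8 && bitCount (n &&& baseDodecad) == k) golayBasis 0 := by
  obtain ⟨g, hg, rfl⟩ := dodecads_transitive hd
  have e1 : {o : Finset GolayPt | o ∈ octads ∧ (o ∩ g • toSet baseDodecad).card = k} =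
      (g • ·) '' {o : Finset GolayPt | o ∈ octads ∧ (o ∩ toSet baseDodecad).card = k} := by
    ext o
    constructor
    · rintro ⟨ho, hk⟩
      refine ⟨g⁻¹ • o, ⟨octads_smul (inv_mem hg) ho, ?_⟩, smul_inv_smul g o⟩
      rw [← hk, ← Finset.card_smul_finset g (g⁻¹ • o ∩ toSet baseDodecad),
        Finset.smul_finset_inter, smul_inv_smul]
    · rintro ⟨o', ⟨ho', hk⟩, rfl⟩
      refine ⟨octads_smul hg ho', ?_⟩
      rw [← Finset.smul_finset_inter, Finset.card_smul_finset, hk]
  rw [e1, Set.ncard_image_of_injective _ (MulAction.injective g), ← countP_golayList,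
    List.countP_eq_length_filter]
  set l := golayList.filter (fun n => bitCount n == 8 && bitCount (n &&& baseDodecad) == k) with hl
  have e2 : {o : Finset GolayPt | o ∈ octads ∧ (o ∩ toSet baseDodecad).card = k} =
      toSet '' (↑l.toFinset : Set ℕ) := by
    ext o
    simp only [Set.mem_ofPred_eq, octads, mem_wordsOfWeight, Set.mem_image, hl, List.coe_toFinset,
      List.mem_filter, Bool.and_eq_true, beq_iff_eq]
    constructor
    · rintro ⟨⟨n, hn, h8, rfl⟩, hk⟩
      exact ⟨n, ⟨hn, h8, by rw [← card_toSet, toSet_and, hk]⟩, rfl⟩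
    · rintro ⟨n, ⟨hn, h8, hk⟩, rfl⟩
      exact ⟨⟨n, hn, h8, rfl⟩, by rw [← toSet_and, card_toSet, hk]⟩
  rw [e2, Set.InjOn.ncard_image, Set.ncard_coe_finset, List.toFinset_card_of_nodup]
  · exact golayList_nodup.filter _
  · intro a ha b hb hab
    simp only [hl, List.coe_toFinset, List.mem_filter, Set.mem_ofPred_eq] at ha hb
    exact toSet_injOn a ha.1 b hb.1 hab

end CfsgLib.Golay
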