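import Cfsg.Agent.Lib.Golay.PackPerm
import Cfsg.Agent.Lib.Golay.J2Data

/-!
Kernel checks of the chain data on 100 points.
-/

set_option autoImplicit false
set_option maxRecDepth 100000

namespace CfsgLib.Golay.J2

open Bsgs

theorem id100 : validL 100 (List.range 100) = true := by decide +kernel

/-- The coded symmetric group. -/
noncomputable def O : Ops (Equiv.Perm (Fin 100)) (Fin 100) :=
  PackPerm.ops 100 (by norm_num) id100

theorem levels_ok : check O [] levels = true := by decide +kernel

/-- The two commutator generators. -/
def gen2 : List ℕ := commGens.map (·.1)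

theorem comm_ok : commGens.all (fun e => O.ok e.1 && commCheck O levels e.1 e.2.1 e.2.2) = true := by
  decide +kernel

theorem slp_ok : slpCheck O gen2 slp = true ∧
    (allGens levels).all (fun g => (gen2 ++ slp.map (·.1)).contains g) = true := by decide +kernel

theorem elt7_ok : O.ok elt7 = true ∧ prodReps O levels elt7Idx = elt7 ∧
    elt7Pows.length = 7 ∧ elt7Pows.getD 0 0 = O.one ∧
    ((List.range 7).all fun k =>
      O.mul elt7 (elt7Pows.getD k 0) == elt7Pows.getD ((k + 1) % 7) 0) = true ∧
    O.img elt7 1 ≠ 1 ∧
    centCheck O elt7 elt7Pows (List.range 100) [] O.one levels = true := by decide +kernel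

/-- The check of an orbit listed with its parents. -/
noncomputable def orbCheck (gs : List ℕ) (o : List ℕ × List (ℕ × ℕ)) : Bool :=
  decide (o.2.length + 1 = o.1.length) && o.1.all (fun i => decide (i < 100)) &&
    (List.range o.2.length).all fun k =>
      decide ((o.2.getD k (0, 0)).1 < gs.length ∧ (o.2.getD k (0, 0)).2 ≤ k) &&
        (o.1.getD (k + 1) 0 == O.img (gs.getD (o.2.getD k (0, 0)).1 0)
          (o.1.getD (o.2.getD k (0, 0)).2 0))

theorem orb_ok : orbCheck (allGens levels.tail) orb36 = true ∧
    orbCheck (allGens levels.tail) orb63 = true ∧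
    (List.range 100).all (fun i => i == 0 || orb36.1.contains i || orb63.1.contains i) = true ∧
    orb36.1.length = 36 ∧ orb63.1.length = 63 ∧ (orb36.1 ++ orb63.1).Nodup := by decide +kernel

end CfsgLib.Golay.J2
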