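import Cfsg.Agent.Lib.Golay.SimpleCriterion
import Cfsg.Agent.Lib.Golay.J2Check

/-!
A simple group of order 604800 on 100 points.
-/

set_option autoImplicit false
set_option maxRecDepth 100000

namespace CfsgLib.Golay.J2

open Bsgs
open scoped commutatorElement Pointwise

/-- The group. -/
noncomputable def grpJ2 : Subgroup (Equiv.Perm (Fin 100)) := grp O levels

theorem tail_ok : check O [0] levels.tail = true := by
  have h := levels_ok
  rw [levels, check] at h
  simp only [Bool.and_eq_true] at h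
  exact h.2

theorem levels_spec : Fixes O (grp O levels) [] ∧ (∀ r ∈ allGens levels, O.ok r = true) ∧
    (∀ is, O.ok (prodReps O levels is) = true ∧ O.val (prodReps O levels is) ∈ grp O levels) ∧
    Nat.card (grp O levels) = (levels.map fun l => l.reps.length).prod ∧
    (∀ l ls', levels = l :: ls' → ∀ g ∈ grp O levels,
      ∃ r ∈ l.reps, ∃ h ∈ grp O ls', g = O.val r * h) :=
  spec O (fixed := []) (by simp) levels_ok

theorem tail_spec : Fixes O (grp O levels.tail) [0] ∧
    (∀ r ∈ allGens levels.tail, O.ok r = true) := by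
  have h := spec O (fixed := [0]) (fun f hf => by
    rw [List.mem_singleton.1 hf]; decide +kernel) tail_ok
  exact ⟨h.1, h.2.1⟩

theorem card_grpJ2 : Nat.card grpJ2 = 604800 := by
  rw [grpJ2, levels_spec.2.2.2.1]
  decide +kernel

theorem grpJ2_perfect : grpJ2 ≤ ⁅grpJ2, grpJ2⁆ := by
  refine (Subgroup.closure_le _).2 ?_
  rintro _ ⟨r, hr, rfl⟩
  have h0 : ∀ c ∈ gen2, O.ok c = true ∧ O.val c ∈ ⁅grpJ2, grpJ2⁆ := by
    intro c hc
    obtain ⟨e, he, rfl⟩ := List.mem_map.1 hc
    have h := comm_ok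
    simp only [List.all_eq_true, Bool.and_eq_true] at h
    exact ⟨(h e he).1, comm_sound O levels_ok (h e he).1 (h e he).2⟩
  have h := slp_ok.2
  simp only [List.all_eq_true, List.contains_iff_mem] at h
  exact (slp_sound O _ slp_ok.1 h0 r (h r hr)).2

theorem pows_val : ∀ k, k < 7 →
    O.ok (elt7Pows.getD k 0) = true ∧ O.val (elt7Pows.getD k 0) = O.val elt7 ^ k := by
  intro k
  induction k with
  | zero => intro _; rw [elt7_ok.2.2.2.1, pow_zero]; exact ⟨O.ok_one, O.val_one⟩
  | succ k ih =>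
    intro hk
    obtain ⟨h1, h2⟩ := ih (by omega)
    have h := elt7_ok.2.2.2.2.1
    simp only [List.all_eq_true, List.mem_range, beq_iff_eq] at h
    have e := h k (by omega)
    rw [Nat.mod_eq_of_lt hk] at e
    rw [← e, O.val_mul _ _ elt7_ok.1 h1, h2, pow_succ']
    exact ⟨O.ok_mul _ _ elt7_ok.1 h1, rfl⟩

theorem elt7_pow : O.val elt7 ^ 7 = 1 := by
  obtain ⟨h1, h2⟩ := pows_val 6 (by norm_num)
  have h := elt7_ok.2.2.2.2.1
  simp only [List.all_eq_true, List.mem_range, beq_iff_eq] at h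
  rw [pow_succ', ← h2, ← O.val_mul _ _ elt7_ok.1 h1, h 6 (by norm_num)]
  exact elt7_ok.2.2.2.1 ▸ O.val_one

theorem elt7_mem : O.val elt7 ∈ grpJ2 := by
  rw [← elt7_ok.2.1]
  exact (levels_spec.2.2.1 _).2

theorem orderOf_elt7 : orderOf (O.val elt7) = 7 := by
  haveI : Fact (Nat.Prime 7) := ⟨by norm_num⟩
  refine orderOf_eq_prime elt7_pow fun h => elt7_ok.2.2.2.2.2.1 ?_
  obtain ⟨h1, h2⟩ := O.pt_img elt7 1 elt7_ok.1 (by decide +kernel)
  rw [h, one_smul] at h1
  exact (O.pt_inj _ _ (by decide +kernel) h2 h1).symm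

theorem elt7_cent (g : Equiv.Perm (Fin 100)) (hg : g ∈ grpJ2)
    (hc : g * O.val elt7 = O.val elt7 * g) : g ∈ Subgroup.zpowers (O.val elt7) := by
  obtain ⟨r, hr, rfl⟩ := cent_sound O elt7_ok.1 (by simp) O.ok_one levels_ok
    elt7_ok.2.2.2.2.2.2 g hc (by rw [O.val_one, inv_one, one_mul]; exact hg)
  obtain ⟨k, hk, rfl⟩ := List.getElem_of_mem hr
  rw [← List.getD_eq_getElem _ 0 hk, (pows_val k (elt7_ok.2.2.1 ▸ hk)).2]
  exact Subgroup.npow_mem_zpowers _ k

theorem tail_le : grp O levels.tail ≤ grpJ2 :=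
  Subgroup.closure_mono fun _ ⟨r, hr, e⟩ => ⟨r, by
    have : ∀ r ∈ allGens levels.tail, r ∈ allGens levels := by decide +kernel
    exact this r hr, e⟩

theorem orbCheck_reach {o : List ℕ × List (ℕ × ℕ)} (h : orbCheck (allGens levels.tail) o = true)
    {a : ℕ} (ha : a ∈ o.1) :
    ∃ g ∈ grp O levels.tail, g • O.pt (o.1.getD 0 0) = O.pt a := by
  simp only [orbCheck, Bool.and_eq_true, decide_eq_true_eq, List.all_eq_true, List.mem_range,
    beq_iff_eq] at h
  obtain ⟨⟨hlen, hlt⟩, hpar⟩ := h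
  suffices H : ∀ k, k < o.1.length →
      ∃ g ∈ grp O levels.tail, g • O.pt (o.1.getD 0 0) = O.pt (o.1.getD k 0) by
    obtain ⟨k, hk, rfl⟩ := List.getElem_of_mem ha
    rw [← List.getD_eq_getElem _ 0 hk]
    exact H k hk
  intro k
  induction k using Nat.strong_induction_on with
  | h k ih =>
    intro hk
    rcases k with _ | k
    · exact ⟨1, Subgroup.one_mem _, one_smul _ _⟩
    obtain ⟨⟨h1, h2⟩, h3⟩ := hpar k (by omega)
    obtain ⟨g, hg, hgp⟩ := ih (o.2.getD k (0, 0)).2 (by omega) (by omega)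
    set s := (allGens levels.tail).getD (o.2.getD k (0, 0)).1 0 with hs
    have hmem : s ∈ allGens levels.tail := by
      rw [hs, List.getD_eq_getElem _ _ h1]; exact List.getElem_mem h1
    have hpt : O.ptOk (o.1.getD (o.2.getD k (0, 0)).2 0) = true := by
      rw [List.getD_eq_getElem _ _ (by omega : (o.2.getD k (0, 0)).2 < o.1.length)]
      exact decide_eq_true (hlt _ (List.getElem_mem _))
    refine ⟨O.val s * g, Subgroup.mul_mem _ (Subgroup.subset_closure ⟨s, hmem, rfl⟩) hg, ?_⟩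
    rw [mul_smul, hgp, (O.pt_img s _ (tail_spec.2 s hmem) hpt).1, h3]

theorem pretransitive : MulAction.IsPretransitive grpJ2 (Fin 100) := by
  have hreps : ((List.range 100).all fun i =>
      (lvl0.reps.map fun r => O.img r 0).contains i) = true := by decide +kernel
  have h0 : ∀ i : Fin 100, ∃ g : grpJ2, g • (0 : Fin 100) = i := by
    intro i
    simp only [List.all_eq_true, List.mem_range, List.contains_iff_mem, List.mem_map] at hreps
    obtain ⟨r, hr, hri⟩ := hreps i.val i.isLt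
    obtain ⟨k, hk, rfl⟩ := List.getElem_of_mem hr
    have hok : ∀ r ∈ lvl0.reps, O.ok r = true := by
      have : lvl0.reps.all O.ok = true := by decide +kernel
      simpa [List.all_eq_true] using this
    have hmem : O.val lvl0.reps[k] ∈ grpJ2 := by
      have h := (levels_spec.2.2.1 [k]).2
      simp only [levels, prodReps] at h
      rw [List.getD_eq_getElem _ _ hk, O.val_mul _ _ (hok _ hr) O.ok_one, O.val_one, mul_one] at h
      exact h
    refine ⟨⟨_, hmem⟩, ?_⟩
    have h2 := (O.pt_img lvl0.reps[k] 0 (hok _ hr) (by decide +kernel)).1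
    rw [hri] at h2
    refine (h2.trans (Fin.ext ?_) : _)
    simp [O, PackPerm.ops, Nat.mod_eq_of_lt i.isLt]
  refine ⟨fun i j => ?_⟩
  obtain ⟨a, ha⟩ := h0 i
  obtain ⟨b, hb⟩ := h0 j
  exact ⟨b * a⁻¹, by rw [mul_smul, ← ha, inv_smul_smul, hb]⟩

theorem pt_eq {a : ℕ} (ha : a < 100) : O.pt a = (⟨a, ha⟩ : Fin 100) :=
  Fin.ext (Nat.mod_eq_of_lt ha)

theorem normal_small {N : Subgroup grpJ2} [N.Normal] (hdvd : Nat.card N ∣ 128) : N = ⊥ := by
  classical
  haveI := pretransitive
  set B := MulAction.orbit N (0 : Fin 100) with hB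
  have h0 : (0 : Fin 100) ∈ B := MulAction.mem_orbit_self _
  have hblk : MulAction.IsBlock grpJ2 B := MulAction.IsBlock.orbit_of_normal _
  have hd1 := hblk.ncard_dvd_card ⟨0, h0⟩
  rw [Nat.card_fin] at hd1
  have hd2 : B.ncard ∣ 128 := by
    refine dvd_trans ?_ hdvd
    rw [hB, ← MulAction.index_stabilizer]
    exact Subgroup.index_dvd_card _
  have hinv : ∀ g ∈ grp O levels.tail, ∀ i ∈ B, g • i ∈ B := by
    intro g hg i hi
    have hg0 : g • (0 : Fin 100) = 0 := by
      have := tail_spec.1 g hg 0 (by simp)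
      rwa [show O.pt 0 = (0 : Fin 100) from pt_eq (by norm_num)] at this
    have hne : ¬ Disjoint ((⟨g, tail_le hg⟩ : grpJ2) • B) B :=
      Set.not_disjoint_iff.2 ⟨0, ⟨0, h0, hg0⟩, h0⟩
    rw [← (MulAction.isBlock_iff_smul_eq_or_disjoint.1 hblk ⟨g, tail_le hg⟩).resolve_right hne]
    exact ⟨i, hi, rfl⟩
  obtain ⟨ho1, ho2, hcov, hl1, hl2, hnd⟩ := orb_ok
  simp only [List.all_eq_true, List.mem_range, Bool.or_eq_true, beq_iff_eq,
    List.contains_iff_mem] at hcov
  have hlt : ∀ {o : List ℕ × List (ℕ × ℕ)}, orbCheck (allGens levels.tail) o = true →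
      ∀ a ∈ o.1, a < 100 := fun {o} h a ha => by
    simp only [orbCheck, Bool.and_eq_true, List.all_eq_true, decide_eq_true_eq] at h
    exact h.1.2 a ha
  have hall : ∀ {o : List ℕ × List (ℕ × ℕ)}, orbCheck (allGens levels.tail) o = true →
      ∀ i ∈ B, i.val ∈ o.1 → ∀ a ∈ o.1, O.pt a ∈ B := by
    intro o h i hi hio a ha
    obtain ⟨g, hg, hgi⟩ := orbCheck_reach h hio
    obtain ⟨k, hk, hka⟩ := orbCheck_reach h ha
    rw [← hka, ← inv_smul_eq_iff.2 hgi.symm, ← mul_smul,
      show O.pt i.val = i from pt_eq i.isLt]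
    exact hinv _ (Subgroup.mul_mem _ hk (Subgroup.inv_mem _ hg)) i hi
  by_cases hbad : ∀ i ∈ B, i = (0 : Fin 100)
  · refine (Subgroup.eq_bot_iff_forall N).2 fun x hx => Subtype.ext (Equiv.ext fun i => ?_)
    obtain ⟨g, rfl⟩ := MulAction.exists_smul_eq grpJ2 (0 : Fin 100) i
    have hconj : g⁻¹ * x * g ∈ N := by
      simpa using Subgroup.Normal.conj_mem ‹N.Normal› x hx g⁻¹
    have h2 : (g⁻¹ * x * g) • (0 : Fin 100) = 0 := hbad _ ⟨⟨g⁻¹ * x * g, hconj⟩, rfl⟩
    rw [mul_smul, mul_smul, inv_smul_eq_iff] at h2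
    exact h2
  exfalso
  push Not at hbad
  obtain ⟨i, hi, hne⟩ := hbad
  have hcase : i.val ∈ orb36.1 ∨ i.val ∈ orb63.1 := by
    rcases hcov i.val i.isLt with (h | h) | h
    · exact absurd (Fin.ext h) hne
    · exact Or.inl h
    · exact Or.inr h
  have hcard : ∀ {o : List ℕ × List (ℕ × ℕ)}, orbCheck (allGens levels.tail) o = true →
      o.1.Nodup → i.val ∈ o.1 → o.1.length + 1 ≤ B.ncard ∨ (0 ∈ o.1) := by
    intro o h hnd' hio
    by_cases hz : 0 ∈ o.1
    · exact Or.inr hz
    refine Or.inl ?_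
    have hsub : ↑((0 :: o.1).toFinset.image fun a => O.pt a) ⊆ B := by
      intro z hz'
      simp only [Finset.coe_image, Set.mem_image, List.coe_toFinset, Set.mem_ofPred_eq,
        List.mem_cons] at hz'
      obtain ⟨a, rfl | ha, rfl⟩ := hz'
      · exact (pt_eq (by norm_num : 0 < 100)) ▸ h0
      · exact hall h i hi hio a ha
    refine le_trans (le_of_eq ?_) (Set.ncard_le_ncard hsub (Set.toFinite _))
    rw [Set.ncard_coe_finset, Finset.card_image_of_injOn ?_,
      List.toFinset_card_of_nodup (List.nodup_cons.2 ⟨hz, hnd'⟩), List.length_cons]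
    intro a ha b hb hab
    simp only [List.coe_toFinset, Set.mem_ofPred_eq, List.mem_cons] at ha hb
    have h1 : a < 100 := by rcases ha with rfl | ha; exacts [by norm_num, hlt h a ha]
    have h2 : b < 100 := by rcases hb with rfl | hb; exacts [by norm_num, hlt h b hb]
    simp only [pt_eq h1, pt_eq h2] at hab
    simpa using hab
  have hz : 0 ∉ orb36.1 ∧ 0 ∉ orb63.1 := by decide +kernel
  have hbig : 37 ≤ B.ncard := by
    rw [List.nodup_append] at hnd
    rcases hcase with h | h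
    · have := (hcard ho1 hnd.1 h).resolve_right hz.1
      omega
    · have := (hcard ho2 hnd.2.1 h).resolve_right hz.2
      omega
  have h3 : B.ncard ∣ 4 := by
    have := Nat.dvd_gcd hd1 hd2
    norm_num at this
    exact this
  have := Nat.le_of_dvd (by norm_num) h3
  omega

theorem grpJ2_simple : IsSimpleGroup grpJ2 := by
  haveI : Fact (Nat.Prime 7) := ⟨by norm_num⟩
  set x : grpJ2 := ⟨O.val elt7, elt7_mem⟩ with hx
  have hord : orderOf x = 7 := by rw [← orderOf_elt7, ← Subgroup.orderOf_coe]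
  have hcent : ∀ g : grpJ2, g * x = x * g → g ∈ Subgroup.zpowers x := by
    intro g hg
    obtain ⟨k, hk⟩ := Subgroup.mem_zpowers_iff.1 (elt7_cent g.1 g.2 (congrArg Subtype.val hg))
    exact Subgroup.mem_zpowers_iff.2 ⟨k, Subtype.ext (by rw [Subgroup.coe_zpow]; exact hk)⟩
  refine SimpleCrit.isSimple hord hcent (by rw [card_grpJ2]; norm_num)
    (by
      refine Subgroup.map_injective grpJ2.subtype_injective ?_
      rw [Subgroup.map_subtype_commutator, ← MonoidHom.range_eq_map, Subgroup.range_subtype]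
      exact le_antisymm (Subgroup.map_subtype_commutator grpJ2 ▸ Subgroup.map_subtype_le _)
        grpJ2_perfect)
    fun N hN hp => ?_
  haveI := hN
  refine normal_small ?_
  have hd : Nat.card N ∣ 128 * (675 * 7) := by
    have := Subgroup.card_subgroup_dvd_card N
    rwa [card_grpJ2] at this
  have hq : ∀ q v : ℕ, q.Prime → ¬ q ^ (v + 1) ∣ 604800 →
      (∀ w, 1 ≤ w → w ≤ v → ¬ q ^ w ≡ 1 [MOD 7]) → ¬ q ∣ Nat.card N := by
    intro q v hq hv hw hdq
    haveI : Fact q.Prime := ⟨hq⟩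
    have hne : Nat.card N ≠ 0 := Nat.card_pos.ne'
    refine hw _ ((hq.dvd_iff_one_le_factorization hne).1 hdq) ?_
      (SimpleCrit.part_modEq hord hcent hp)
    by_contra hgt
    refine hv (dvd_trans ?_ (card_grpJ2 ▸ Subgroup.card_subgroup_dvd_card N))
    exact (hq.pow_dvd_iff_le_factorization hne).2 (by omega)
  have h3 : ¬ 3 ∣ Nat.card N := hq 3 3 (by norm_num) (by norm_num) fun w h1 h2 => by
    interval_cases w <;> decide
  have h5 : ¬ 5 ∣ Nat.card N := hq 5 2 (by norm_num) (by norm_num) fun w h1 h2 => by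
    interval_cases w <;> decide
  refine Nat.Coprime.dvd_of_dvd_mul_right ?_ hd
  have e3 : Nat.Coprime (Nat.card N) 3 := ((Nat.Prime.coprime_iff_not_dvd (by norm_num)).2 h3).symm
  have e5 : Nat.Coprime (Nat.card N) 5 := ((Nat.Prime.coprime_iff_not_dvd (by norm_num)).2 h5).symm
  have e7 : Nat.Coprime (Nat.card N) 7 := ((Nat.Prime.coprime_iff_not_dvd (by norm_num)).2 hp).symm
  rw [show 675 * 7 = 3 ^ 3 * 5 ^ 2 * 7 by norm_num]
  exact ((e3.pow_right 3).mul_right (e5.pow_right 2)).mul_right e7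

end CfsgLib.Golay.J2
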