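import Mathlib

/-!
Certificates for the uniqueness of the Steiner system S(5, 8, 24): the twelve completions of the
normalised partial system, and a second echelon basis of the code.
-/

set_option autoImplicit false

namespace CfsgLib.Golay

/-- Code words with a single bit among the twelve positions 12 to 23. -/
def golayDual : List ℕ := [5279, 10558, 18147, 36294, 69395, 133817, 262637, 525274, 1050548, 2101096, 4196943, 8391797]

/-- A completion: a relabelling, twelve blocks, and the expansions of the code basis in them. -/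
def completions : List (List ℕ × List ℕ × List ℕ) :=
  [([0, 1, 2, 3, 4, 12, 7, 10, 5, 14, 17, 23, 9, 6, 11, 22, 19, 8, 15, 16, 18, 20, 21, 13], [255, 3855, 61455, 983055, 15728655, 1118487, 2236951, 4473879, 8659239, 2638151, 4727067, 8536350], [2350, 3444, 1518, 420, 330, 204, 643, 18, 166, 984, 24, 126]),
   ([0, 1, 2, 3, 4, 12, 10, 7, 5, 14, 23, 17, 9, 6, 22, 11, 18, 20, 13, 21, 19, 8, 16, 15], [255, 3855, 61455, 983055, 15728655, 1118487, 2236951, 4473879, 8659239, 2638151, 4727067, 2392350], [2358, 3436, 1416, 474, 338, 170, 960, 10, 216, 667, 24, 126]),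
   ([0, 1, 2, 3, 4, 7, 12, 10, 5, 17, 14, 23, 9, 11, 6, 22, 18, 21, 20, 13, 19, 15, 8, 16], [255, 3855, 61455, 983055, 15728655, 1118487, 2236951, 4473879, 8659239, 2638151, 8536347, 4727070], [2614, 3756, 1782, 612, 658, 212, 323, 10, 102, 984, 24, 190]),
   ([0, 1, 2, 3, 4, 10, 12, 7, 5, 23, 14, 17, 9, 22, 6, 11, 19, 16, 8, 15, 18, 13, 20, 21], [255, 3855, 61455, 983055, 15728655, 1118487, 2236951, 4473879, 8659239, 2638151, 8536347, 2392350], [2606, 3764, 1616, 730, 650, 114, 960, 18, 216, 347, 24, 190]),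
   ([0, 1, 2, 3, 4, 7, 10, 12, 5, 17, 23, 14, 9, 11, 22, 6, 19, 15, 16, 8, 18, 21, 13, 20], [255, 3855, 61455, 983055, 15728655, 1118487, 2236951, 4473879, 8659239, 2638151, 2392347, 4727070], [2835, 4087, 1965, 857, 969, 178, 323, 18, 102, 667, 24, 192]),
   ([0, 1, 2, 3, 4, 10, 7, 12, 5, 23, 17, 14, 9, 22, 11, 6, 18, 13, 21, 20, 19, 16, 15, 8], [255, 3855, 61455, 983055, 15728655, 1118487, 2236951, 4473879, 8659239, 2638151, 2392347, 8536350], [2827, 4079, 1909, 921, 977, 106, 643, 10, 166, 347, 24, 192]),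
   ([0, 1, 2, 3, 4, 12, 7, 10, 5, 14, 17, 23, 9, 6, 11, 22, 18, 20, 21, 13, 19, 8, 15, 16], [255, 3855, 61455, 983055, 15728655, 1118487, 2236951, 4473879, 4727079, 8536391, 8659227, 2638110], [2358, 3436, 1526, 420, 338, 212, 643, 10, 166, 984, 24, 126]),
   ([0, 1, 2, 3, 4, 12, 10, 7, 5, 14, 23, 17, 9, 6, 22, 11, 19, 8, 16, 15, 18, 20, 13, 21], [255, 3855, 61455, 983055, 15728655, 1118487, 2236951, 4473879, 4727079, 8536391, 8659227, 4358430], [2350, 3444, 1424, 474, 330, 178, 960, 18, 216, 667, 24, 126]),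
   ([0, 1, 2, 3, 4, 7, 12, 10, 5, 17, 14, 23, 9, 11, 6, 22, 19, 15, 8, 16, 18, 21, 20, 13], [255, 3855, 61455, 983055, 15728655, 1118487, 2236951, 4473879, 4727079, 8536391, 2638107, 8659230], [2606, 3764, 1774, 612, 650, 204, 323, 18, 102, 984, 24, 190]),
   ([0, 1, 2, 3, 4, 10, 12, 7, 5, 23, 14, 17, 9, 22, 6, 11, 18, 13, 20, 21, 19, 16, 8, 15], [255, 3855, 61455, 983055, 15728655, 1118487, 2236951, 4473879, 4727079, 8536391, 2638107, 4358430], [2614, 3756, 1608, 730, 658, 106, 960, 10, 216, 347, 24, 190]),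
   ([0, 1, 2, 3, 4, 7, 10, 12, 5, 17, 23, 14, 9, 11, 22, 6, 18, 21, 13, 20, 19, 15, 16, 8], [255, 3855, 61455, 983055, 15728655, 1118487, 2236951, 4473879, 4727079, 8536391, 4358427, 8659230], [2827, 4079, 1973, 857, 977, 170, 323, 10, 102, 667, 24, 192]),
   ([0, 1, 2, 3, 4, 10, 7, 12, 5, 23, 17, 14, 9, 22, 11, 6, 19, 16, 15, 8, 18, 13, 21, 20], [255, 3855, 61455, 983055, 15728655, 1118487, 2236951, 4473879, 4727079, 8536391, 4358427, 2638110], [2835, 4087, 1901, 921, 969, 114, 643, 18, 166, 347, 24, 192])]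

end CfsgLib.Golay
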