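import Cfsg.Agent.Lib.Golay.Code
import Cfsg.Agent.Lib.Golay.UniqCert

/-!
The code is its own orthogonal: a set meeting every member of a spanning family evenly is a
support of a code word.
-/

set_option autoImplicit false

namespace CfsgLib.Golay

open Cfsg

/-- The dot product of two masks, as the parity of their common part. -/
theorem sum_toWord (a b : ℕ) :
    ∑ p, toWord a p * toWord b p = ((bitCount (a &&& b) : ℕ) : ZMod 2) := by
  rw [← card_toSet, toSet, ← Finset.sum_boole]
  refine Finset.sum_congr rfl fun p _ => ?_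
  simp only [toWord, Nat.testBit_and]
  cases a.testBit (ptEquiv p).val <;> cases b.testBit (ptEquiv p).val <;> simp

theorem parity_xor (a b c : ℕ) :
    ((bitCount ((a ^^^ b) &&& c) : ℕ) : ZMod 2) =
      (bitCount (a &&& c) : ℕ) + (bitCount (b &&& c) : ℕ) := by
  simp only [← sum_toWord, toWord_xor, Pi.add_apply, add_mul, Finset.sum_add_distrib]

theorem parity_comm (a b : ℕ) :
    ((bitCount (a &&& b) : ℕ) : ZMod 2) = (bitCount (b &&& a) : ℕ) := by
  rw [Nat.and_comm]

theorem basis_self_orth : ∀ b ∈ golayBasis, ∀ c ∈ golayBasis,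
    ((bitCount (b &&& c) : ℕ) : ZMod 2) = 0 := by decide +kernel

theorem orth_span {n : ℕ} {bs : List ℕ}
    (h : ∀ b ∈ bs, ((bitCount (n &&& b) : ℕ) : ZMod 2) = 0) :
    ∀ m ∈ spanList bs, ((bitCount (n &&& m) : ℕ) : ZMod 2) = 0 := by
  refine spanList_induction (P := fun m => ((bitCount (n &&& m) : ℕ) : ZMod 2) = 0) ?_ ?_
  · rw [← sum_toWord]; simp [toWord_zero]
  · intro b hb m hm
    rw [parity_comm, parity_xor, parity_comm b, parity_comm m, h b hb, hm, add_zero]

theorem golayDual_check :
    (∀ d ∈ golayDual, inCode d = true) ∧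
      (List.range 12).all (fun i => decide ((golayDual.getD i 0) &&& 16773120 = 2 ^ (12 + i))) = true := by
  decide +kernel

theorem pivot_clear_check :
    ∀ i < 12, ∀ m ∈ golayPivots, (m.2.testBit i = true ↔ m.1 = i) := by decide +kernel

theorem proj_testBit (n : ℕ) {i : ℕ} (hi : i < 12) : (proj n).testBit i = n.testBit i := by
  have hmem : ∃ m ∈ golayPivots, m.1 = i := by
    revert i; decide +kernel
  have hnd : (golayPivots.map (·.1)).Nodup := by decide +kernel
  have key : ∀ l : List (ℕ × ℕ), (∀ m ∈ l, (m.2.testBit i = true ↔ m.1 = i)) → (l.map (·.1)).Nodup →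
      (l.foldr (fun (pb : ℕ × ℕ) (acc : ℕ) => if n.testBit pb.1 then pb.2 ^^^ acc else acc) 0).testBit i =
        (decide (i ∈ l.map (·.1)) && n.testBit i) := by
    intro l
    induction l with
    | nil => simp
    | cons pb l ih =>
      intro h hn
      simp only [List.map_cons, List.nodup_cons] at hn
      have ih' := ih (fun m hm => h m (List.mem_cons_of_mem _ hm)) hn.2
      have hb := h pb List.mem_cons_self
      simp only [List.foldr_cons, List.map_cons, List.mem_cons]
      by_cases hp : pb.1 = i
      · subst hp
        have : pb.2.testBit pb.1 = true := hb.2 rfl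
        have hnot : decide (pb.1 ∈ l.map (·.1)) = false := decide_eq_false hn.1
        rw [hnot] at ih'
        cases hni : n.testBit pb.1 <;> simp [this, ih', Nat.testBit_xor]
      · have : pb.2.testBit i = false := by
          rw [Bool.eq_false_iff]; exact fun h' => hp (hb.1 h')
        have hne : ¬ i = pb.1 := fun h' => hp h'.symm
        split <;> simp [Nat.testBit_xor, this, ih', hne]
  obtain ⟨m, hm, hmi⟩ := hmem
  rw [proj, key golayPivots (pivot_clear_check i hi) hnd,
    decide_eq_true (hmi ▸ List.mem_map_of_mem hm), Bool.true_and]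

theorem mem_of_orth {n : ℕ} (hn : n < 2 ^ 24)
    (h : ∀ b ∈ golayBasis, ((bitCount (n &&& b) : ℕ) : ZMod 2) = 0) : n ∈ golayList := by
  have hp := proj_mem n
  have hplt := golayList_lt _ hp
  set r := n ^^^ proj n with hr
  have hrlt : r < 2 ^ 24 := Nat.xor_lt_two_pow hn hplt
  have hrorth : ∀ m ∈ golayList, ((bitCount (r &&& m) : ℕ) : ZMod 2) = 0 := by
    intro m hm
    rw [hr, parity_xor, orth_span h m hm, zero_add, parity_comm]
    refine orth_span (fun b hb => ?_) _ hp
    rw [parity_comm]
    exact orth_span (fun c hc => basis_self_orth b hb c hc) m hm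
  suffices r = 0 by
    have : n = proj n := Nat.xor_eq_zero_iff.1 this
    exact this ▸ hp
  refine Nat.eq_of_testBit_eq fun i => ?_
  rw [Nat.zero_testBit]
  by_cases hi : i < 12
  · rw [hr, Nat.testBit_xor, proj_testBit n hi]; simp
  by_cases hi24 : i < 24
  · obtain ⟨hcode, hpat⟩ := golayDual_check
    simp only [List.all_eq_true, List.mem_range, decide_eq_true_eq] at hpat
    set d := golayDual.getD (i - 12) 0 with hd
    have hlen : golayDual.length = 12 := by decide
    have hdmem : d ∈ golayList := by
      refine mem_golayList_of_inCode (hcode d ?_)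
      rw [hd, List.getD_eq_getElem _ _ (by omega)]
      exact List.getElem_mem _
    have hh := hrorth d hdmem
    have he : r &&& d = r &&& 2 ^ i := by
      rw [show i = 12 + (i - 12) by omega, ← hpat (i - 12) (by omega)]
      refine Nat.eq_of_testBit_eq fun j => ?_
      simp only [Nat.testBit_and, ← hd]
      have hlow : ∀ j, j < 12 → r.testBit j = false := fun j hj => by
        rw [hr, Nat.testBit_xor, proj_testBit n hj]; simp
      by_cases hj : j < 12
      · simp [hlow j hj]
      by_cases hj24 : j < 24
      · have : (16773120 : ℕ).testBit j = true := by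
          have hall : ∀ j < 24, ¬ j < 12 → (16773120 : ℕ).testBit j = true := by decide +kernel
          exact hall j hj24 hj
        simp [this]
      · rw [Nat.testBit_lt_two_pow (lt_of_lt_of_le hrlt (Nat.pow_le_pow_right (by omega) (by omega)))]
        simp
    rw [he] at hh
    by_contra hbit
    rw [Bool.not_eq_false] at hbit
    have : bitCount (r &&& 2 ^ i) = 1 := by
      have e : r &&& 2 ^ i = 2 ^ i := Nat.eq_of_testBit_eq fun j => by
        rw [Nat.testBit_and, Nat.testBit_two_pow]
        by_cases hij : i = j
        · subst hij; simp [hbit]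
        · simp [hij]
      rw [e]
      have hall : ∀ i < 24, bitCount (2 ^ i) = 1 := by decide +kernel
      exact hall i hi24
    rw [this] at hh
    exact absurd hh (by decide)
  · exact Nat.testBit_lt_two_pow (lt_of_lt_of_le hrlt (Nat.pow_le_pow_right (by omega) (by omega)))

theorem exists_mask (s : Finset GolayPt) : ∃ n < 2 ^ 24, toSet n = s := by
  induction s using Finset.induction_on with
  | empty => exact ⟨0, by norm_num, by ext p; simp [mem_toSet]⟩
  | @insert p s _ ih =>
    obtain ⟨n, hn, rfl⟩ := ih
    refine ⟨n ||| 2 ^ (ptEquiv p).val, Nat.or_lt_two_pow hn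
      (Nat.pow_lt_pow_right (by omega) (ptEquiv p).isLt), ?_⟩
    ext q
    rw [mem_toSet, Finset.mem_insert, mem_toSet, Nat.testBit_or, Bool.or_eq_true,
      Nat.testBit_two_pow, decide_eq_true_iff, ← Fin.ext_iff, ptEquiv.injective.eq_iff]
    tauto

/-- A set meeting each basis word evenly is a support. -/
theorem supports_of_orth {s : Finset GolayPt}
    (h : ∀ b ∈ golayBasis, ((s ∩ toSet b).card : ZMod 2) = 0) :
    s ∈ supports (golayCode : Set (GolayPt → ZMod 2)) := by
  obtain ⟨n, hn, rfl⟩ := exists_mask s
  refine mem_supports.2 ⟨n, mem_of_orth hn fun b hb => ?_, rfl⟩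
  rw [← card_toSet, toSet_and]
  exact h b hb

end CfsgLib.Golay
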