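import Cfsg.Agent.Lib.Golay.Design

/-!
The sextet of a 4-set in a Steiner system S(5, 8, 24).
-/

set_option autoImplicit false

namespace CfsgLib.Golay

open Cfsg

open scoped symmDiff

variable {α : Type*} [Fintype α] [DecidableEq α] {B : Set (Finset α)}

theorem s24_inter (hα : Fintype.card α = 24) (hB : IsSteinerSystem 5 8 B) {b c : Finset α}
    (hb : b ∈ B) (hc : c ∈ B) :
    (b ∩ c).card = 0 ∨ (b ∩ c).card = 2 ∨ (b ∩ c).card = 4 ∨ (b ∩ c).card = 8 := by
  by_cases hbc : b = c
  · subst hbc; rw [Finset.inter_self, hB.1 b hb]; tauto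
  obtain ⟨h0, h1, h2, h3, h4⟩ := inter_S5824 hα hB hb
  have hp := interCount_pos (b := b) hc
  have hlt : (b ∩ c).card < 5 := by
    by_contra h
    exact hbc (steiner_two_blocks hB hb hc (by omega))
  interval_cases h : (b ∩ c).card <;> omega

theorem s24_symmDiff (hα : Fintype.card α = 24) (hB : IsSteinerSystem 5 8 B) {b c : Finset α}
    (hb : b ∈ B) (hc : c ∈ B) (h4 : (b ∩ c).card = 4) : b ∆ c ∈ B := by
  set X := b ∆ c with hX
  have hsplit : ∀ d : Finset α, (d ∩ X).card + 2 * (d ∩ (b ∩ c)).card =
      (d ∩ b).card + (d ∩ c).card := by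
    intro d
    have e1 : d ∩ (b ∩ c) = (d ∩ b) ∩ (d ∩ c) := by ext x; simp; tauto
    have e2 : d ∩ X = ((d ∩ b) ∪ (d ∩ c)) \ ((d ∩ b) ∩ (d ∩ c)) := by
      ext x; simp [hX, Finset.mem_symmDiff]; tauto
    rw [e2, e1, Finset.card_sdiff_of_subset Finset.inter_subset_union]
    have := Finset.card_union_add_card_inter (d ∩ b) (d ∩ c)
    have := Finset.card_le_card (Finset.inter_subset_union : (d ∩ b) ∩ (d ∩ c) ⊆ (d ∩ b) ∪ (d ∩ c))
    omega
  have hXc : X.card = 8 := by
    have := hsplit (b ∪ c)
    have e1 : (b ∪ c) ∩ X = X := Finset.inter_eq_right.2 symmDiff_le_sup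
    have e2 : (b ∪ c) ∩ (b ∩ c) = b ∩ c := Finset.inter_eq_right.2 Finset.inter_subset_union
    have e3 : (b ∪ c) ∩ b = b := Finset.inter_eq_right.2 Finset.subset_union_left
    have e4 : (b ∪ c) ∩ c = c := Finset.inter_eq_right.2 Finset.subset_union_right
    rw [e1, e2, e3, e4, hB.1 b hb, hB.1 c hc, h4] at this
    omega
  by_contra hXB
  have key : ∀ d ∈ B, 5 ≤ (d ∩ X).card → (d ∩ X).card = 6 := by
    intro d hd h5
    have := hsplit d
    have := s24_inter hα hB hd hb
    have := s24_inter hα hB hd hc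
    have h8 := Finset.card_le_card (Finset.inter_subset_left : d ∩ X ⊆ d)
    rw [hB.1 d hd] at h8
    have hne : (d ∩ X).card ≠ 8 := by
      intro h
      have e1 : d ∩ X = d := Finset.eq_of_subset_of_card_le Finset.inter_subset_left
        (by rw [h, hB.1 d hd])
      have e2 : d = X := Finset.eq_of_subset_of_card_le (Finset.inter_eq_left.1 e1)
        (by rw [hXc, hB.1 d hd])
      exact hXB (e2 ▸ hd)
    omega
  set D := (blockFinset B).filter fun d => 5 ≤ (d ∩ X).card with hD
  have h := Finset.sum_card_bipartiteAbove_eq_sum_card_bipartiteBelow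
    (s := D) (t := X.powersetCard 5) (fun d s => s ⊆ d)
  simp only [Finset.bipartiteAbove, Finset.bipartiteBelow] at h
  have h1 : ∀ s ∈ X.powersetCard 5, (D.filter (s ⊆ ·)).card = 1 := by
    intro s hs
    rw [Finset.mem_powersetCard] at hs
    obtain ⟨d, hd, hu⟩ := hB.2 s hs.2
    rw [Finset.card_eq_one]
    refine ⟨d, ?_⟩
    ext e
    simp only [hD, Finset.mem_filter, mem_blockFinset, Finset.mem_singleton]
    refine ⟨fun h => hu e ⟨h.1.1, h.2⟩, ?_⟩
    rintro rfl
    refine ⟨⟨hd.1, ?_⟩, hd.2⟩
    rw [← hs.2]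
    exact Finset.card_le_card (Finset.subset_inter hd.2 hs.1)
  have h2 : ∀ d ∈ D, ((X.powersetCard 5).filter (· ⊆ d)).card = 6 := by
    intro d hd
    simp only [hD, Finset.mem_filter, mem_blockFinset] at hd
    have e : (X.powersetCard 5).filter (· ⊆ d) = (d ∩ X).powersetCard 5 := by
      ext s; simp only [Finset.mem_filter, Finset.mem_powersetCard, Finset.subset_inter_iff]; tauto
    rw [e, Finset.card_powersetCard, key d hd.1 hd.2]
    rfl
  rw [Finset.sum_congr rfl h2, Finset.sum_congr rfl h1] at h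
  simp only [Finset.sum_const, smul_eq_mul, Finset.card_powersetCard, hXc] at h
  have : Nat.choose 8 5 = 56 := rfl
  omega

/-- A sextet: six tetrads, any two of which form a block. -/
structure Sextet (B : Set (Finset α)) where
  /-- The tetrads. -/
  cell : Fin 6 → Finset α
  card_cell : ∀ i, (cell i).card = 4
  disj : ∀ i j, i ≠ j → Disjoint (cell i) (cell j)
  union_mem : ∀ i j, i ≠ j → cell i ∪ cell j ∈ B

theorem exists_sextet (hα : Fintype.card α = 24) (hB : IsSteinerSystem 5 8 B) {T : Finset α}
    (hT : T.card = 4) : ∃ S : Sextet B, S.cell 0 = T := by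
  have h5 : ((blockFinset B).filter (T ⊆ ·)).card = 5 := by
    have := blocks_through hB T (by omega)
    rw [hα, hT] at this
    norm_num [Nat.choose] at this
    omega
  set blk : Fin 5 → Finset α := fun i => (((blockFinset B).filter (T ⊆ ·)).equivFinOfCardEq h5).symm i
    with hblk
  have hb : ∀ i, blk i ∈ B ∧ T ⊆ blk i := fun i => by
    have := ((((blockFinset B).filter (T ⊆ ·)).equivFinOfCardEq h5).symm i).2
    rw [Finset.mem_filter, mem_blockFinset] at this
    exact this
  have binj : ∀ i j, blk i = blk j → i = j := fun i j h =>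
    ((((blockFinset B).filter (T ⊆ ·)).equivFinOfCardEq h5).symm).injective (Subtype.ext h)
  have binter : ∀ i j, i ≠ j → blk i ∩ blk j = T := by
    intro i j hij
    have h4 : T.card ≤ (blk i ∩ blk j).card :=
      Finset.card_le_card (Finset.subset_inter (hb i).2 (hb j).2)
    refine (Finset.eq_of_subset_of_card_le (Finset.subset_inter (hb i).2 (hb j).2) ?_).symm
    by_contra h
    exact hij (binj i j (steiner_two_blocks hB (hb i).1 (hb j).1 (by omega)))
  have hdisj : ∀ i j, i ≠ j → Disjoint (blk i \ T) (blk j \ T) := by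
    intro i j hij
    rw [Finset.disjoint_left]
    intro x hx hx'
    rw [Finset.mem_sdiff] at hx hx'
    exact hx.2 (binter i j hij ▸ Finset.mem_inter.2 ⟨hx.1, hx'.1⟩)
  refine ⟨⟨Fin.cons T fun i => blk i \ T, ?_, ?_, ?_⟩, rfl⟩
  · intro i
    cases i using Fin.cases with
    | zero => exact hT
    | succ i => rw [Fin.cons_succ, Finset.card_sdiff_of_subset (hb i).2, hB.1 _ (hb i).1, hT]
  · intro i j hij
    cases i using Fin.cases with
    | zero =>
      cases j using Fin.cases with
      | zero => exact absurd rfl hij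
      | succ j => rw [Fin.cons_zero, Fin.cons_succ]; exact Finset.disjoint_sdiff
    | succ i =>
      cases j using Fin.cases with
      | zero => rw [Fin.cons_zero, Fin.cons_succ]; exact Finset.sdiff_disjoint
      | succ j =>
        rw [Fin.cons_succ, Fin.cons_succ]
        exact hdisj i j fun h => hij (congrArg Fin.succ h)
  · intro i j hij
    cases i using Fin.cases with
    | zero =>
      cases j using Fin.cases with
      | zero => exact absurd rfl hij
      | succ j =>
        rw [Fin.cons_zero, Fin.cons_succ, Finset.union_sdiff_of_subset (hb j).2]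
        exact (hb j).1
    | succ i =>
      cases j using Fin.cases with
      | zero =>
        rw [Fin.cons_zero, Fin.cons_succ, Finset.union_comm, Finset.union_sdiff_of_subset (hb i).2]
        exact (hb i).1
      | succ j =>
        have hij' : i ≠ j := fun h => hij (congrArg Fin.succ h)
        rw [Fin.cons_succ, Fin.cons_succ]
        have e : blk i \ T ∪ blk j \ T = blk i ∆ blk j := by
          have h := binter i j hij'
          ext x
          have hx := congrArg (fun s => x ∈ s) h
          simp only [Finset.mem_inter, eq_iff_iff] at hx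
          simp only [Finset.mem_union, Finset.mem_sdiff, Finset.mem_symmDiff]
          have := @(hb i).2 x
          have := @(hb j).2 x
          tauto
        rw [e]
        exact s24_symmDiff hα hB (hb i).1 (hb j).1 (by rw [binter i j hij', hT])

theorem Sextet.cover (hα : Fintype.card α = 24) (S : Sextet B) (x : α) : ∃ i, x ∈ S.cell i := by
  have : Finset.univ.biUnion S.cell = Finset.univ := by
    refine Finset.eq_univ_of_card _ ?_
    rw [Finset.card_biUnion (fun i _ j _ hij => S.disj i j hij)]
    simp [S.card_cell, hα]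
  have hx : x ∈ Finset.univ.biUnion S.cell := this ▸ Finset.mem_univ x
  simpa using hx

theorem Sextet.inter_cell_card (hα : Fintype.card α = 24) (hB : IsSteinerSystem 5 8 B)
    (S : Sextet B) {D : Finset α} (hD : D ∈ B) (h3 : (D ∩ S.cell 0).card = 3) (i : Fin 6)
    (hi : i ≠ 0) : (D ∩ S.cell i).card = 1 := by
  have hodd : ∀ j : Fin 6, j ≠ 0 → 1 ≤ (D ∩ S.cell j).card := by
    intro j hj
    by_contra h
    have h0 : (D ∩ S.cell j).card = 0 := by omega
    have := s24_inter hα hB hD (S.union_mem 0 j hj.symm)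
    rw [Finset.inter_union_distrib_left, Finset.card_union_of_disjoint
      ((S.disj 0 j hj.symm).mono Finset.inter_subset_right Finset.inter_subset_right)] at this
    omega
  have htot : ∑ j, (D ∩ S.cell j).card ≤ 8 := by
    rw [← Finset.card_biUnion (fun j _ k _ hjk =>
      (S.disj j k hjk).mono Finset.inter_subset_right Finset.inter_subset_right), ← hB.1 D hD]
    exact Finset.card_le_card (Finset.biUnion_subset.2 fun j _ => Finset.inter_subset_left)
  rw [Fin.sum_univ_six] at htot
  have h1 := hodd 1 (by decide)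
  have h2 := hodd 2 (by decide)
  have h3' := hodd 3 (by decide)
  have h4 := hodd 4 (by decide)
  have h5 := hodd 5 (by decide)
  fin_cases i
  · exact absurd rfl hi
  all_goals simp only [Fin.isValue, Fin.reduceFinMk] at *
  all_goals omega

/-- The point of `D` in the tetrad `i`. -/
theorem Sextet.exists_point (hα : Fintype.card α = 24) (hB : IsSteinerSystem 5 8 B)
    (S : Sextet B) {D : Finset α} (hD : D ∈ B) (h3 : (D ∩ S.cell 0).card = 3) (i : Fin 6)
    (hi : i ≠ 0) :
    ∃ x, x ∈ D ∧ x ∈ S.cell i ∧ ∀ y ∈ D, y ∈ S.cell i → y = x := by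
  obtain ⟨x, hx⟩ := Finset.card_eq_one.1 (S.inter_cell_card hα hB hD h3 i hi)
  have hx' := Finset.mem_inter.1 (hx.symm ▸ Finset.mem_singleton_self x : x ∈ D ∩ S.cell i)
  refine ⟨x, hx'.1, hx'.2, fun y hy hy' => ?_⟩
  exact Finset.mem_singleton.1 (hx ▸ Finset.mem_inter.2 ⟨hy, hy'⟩)

/-- The unique block through a triple of the tetrad 0 and two points of two other tetrads. -/
theorem Sextet.exists_block (hB : IsSteinerSystem 5 8 B) (S : Sextet B) {A : Finset α}
    (hA : A ⊆ S.cell 0) (hA3 : A.card = 3) {i j : Fin 6} (hi : i ≠ 0) (hj : j ≠ 0) (hij : i ≠ j)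
    {x y : α} (hx : x ∈ S.cell i) (hy : y ∈ S.cell j) :
    ∃ D ∈ B, A ⊆ D ∧ x ∈ D ∧ y ∈ D ∧ D ∩ S.cell 0 = A := by
  have hxA : x ∉ A := fun h => Finset.disjoint_left.1 (S.disj 0 i hi.symm) (hA h) hx
  have hyA : y ∉ A := fun h => Finset.disjoint_left.1 (S.disj 0 j hj.symm) (hA h) hy
  have hxy : x ≠ y := fun h => Finset.disjoint_left.1 (S.disj i j hij) hx (h ▸ hy)
  obtain ⟨D, ⟨hD, hsub⟩, hu⟩ := hB.2 (insert x (insert y A)) (by
    rw [Finset.card_insert_of_notMem (by simp [hxy, hxA]), Finset.card_insert_of_notMem hyA, hA3])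
  simp only [Finset.insert_subset_iff] at hsub
  refine ⟨D, hD, hsub.2.2, hsub.1, hsub.2.1, ?_⟩
  refine (Finset.eq_of_subset_of_card_le (Finset.subset_inter hsub.2.2 hA) ?_).symm
  by_contra hlt
  have h4 : D ∩ S.cell 0 = S.cell 0 :=
    Finset.eq_of_subset_of_card_le Finset.inter_subset_right (by rw [S.card_cell]; omega)
  have he : S.cell 0 ∪ S.cell i = D := by
    refine steiner_two_blocks hB (S.union_mem 0 i hi.symm) hD ?_
    have : insert x (S.cell 0) ⊆ (S.cell 0 ∪ S.cell i) ∩ D := by
      refine Finset.insert_subset (Finset.mem_inter.2 ⟨Finset.mem_union_right _ hx, hsub.1⟩) ?_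
      exact Finset.subset_inter Finset.subset_union_left (h4 ▸ Finset.inter_subset_left)
    have := Finset.card_le_card this
    rw [Finset.card_insert_of_notMem (fun h => Finset.disjoint_left.1 (S.disj 0 i hi.symm) h hx),
      S.card_cell] at this
    omega
  rw [← he] at hsub
  rcases Finset.mem_union.1 hsub.2.1 with h | h
  · exact Finset.disjoint_left.1 (S.disj 0 j hj.symm) h hy
  · exact Finset.disjoint_left.1 (S.disj i j hij) h hy

/-- Blocks through the same triple sharing two outside points are equal. -/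
theorem Sextet.block_eq (hB : IsSteinerSystem 5 8 B) (S : Sextet B) {A D D' : Finset α}
    (hA : A ⊆ S.cell 0) (hA3 : A.card = 3) (hD : D ∈ B) (hD' : D' ∈ B) (hAD : A ⊆ D)
    (hAD' : A ⊆ D') {i j : Fin 6} (hi : i ≠ 0) (hj : j ≠ 0) (hij : i ≠ j) {x y : α}
    (hx : x ∈ S.cell i) (hy : y ∈ S.cell j) (h1 : x ∈ D) (h2 : x ∈ D') (h3 : y ∈ D)
    (h4 : y ∈ D') : D = D' := by
  have hxA : x ∉ A := fun h => Finset.disjoint_left.1 (S.disj 0 i hi.symm) (hA h) hx
  have hyA : y ∉ A := fun h => Finset.disjoint_left.1 (S.disj 0 j hj.symm) (hA h) hy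
  have hxy : x ≠ y := fun h => Finset.disjoint_left.1 (S.disj i j hij) hx (h ▸ hy)
  refine steiner_two_blocks hB hD hD' ?_
  have : insert x (insert y A) ⊆ D ∩ D' := by
    simp only [Finset.insert_subset_iff, Finset.mem_inter]
    exact ⟨⟨h1, h2⟩, ⟨h3, h4⟩, Finset.subset_inter hAD hAD'⟩
  have := Finset.card_le_card this
  rw [Finset.card_insert_of_notMem (by simp [hxy, hxA]), Finset.card_insert_of_notMem hyA, hA3] at this
  exact this

end CfsgLib.Golay
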