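import Cfsg.Agent.Lib.Golay.M24
import Cfsg.Agent.Lib.Golay.CodeDual
import Cfsg.Agent.Lib.Golay.Sextet

/-!
Uniqueness of the Steiner system S(5, 8, 24).

A system is normalised by a sextet and the blocks through a triple of its first tetrad; this
leaves twelve completions, each of which is carried to the octads by an explicit relabelling.
-/

set_option autoImplicit false

namespace CfsgLib.Golay

open Cfsg

open scoped Pointwise

/-- The mask of a list of positions. -/
def maskOf (l : List ℕ) : ℕ := l.foldr (fun i acc => 2 ^ i ||| acc) 0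

theorem testBit_maskOf {l : List ℕ} {i : ℕ} : (maskOf l).testBit i = true ↔ i ∈ l := by
  induction l with
  | nil => simp [maskOf]
  | cons a l ih =>
    simp only [maskOf, List.foldr_cons, Nat.testBit_or, Bool.or_eq_true, List.mem_cons] at ih ⊢
    rw [ih, Nat.testBit_two_pow, decide_eq_true_iff, eq_comm]

/-- The positions of a block through the triple `A` with the given rows in the tetrads 1 to 5. -/
def rowList (A : List ℕ) (r1 r2 r3 r4 r5 : Fin 4) : List ℕ :=
  A ++ [4 + r1.val, 8 + r2.val, 12 + r3.val, 16 + r4.val, 20 + r5.val]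

/-- The two 3-cycles on the rows 1, 2, 3. -/
def cycRow : Bool → Fin 4 → Fin 4
  | false, 0 => 0
  | false, 1 => 2
  | false, 2 => 3
  | false, 3 => 1
  | true, 0 => 0
  | true, 1 => 3
  | true, 2 => 1
  | true, 3 => 2

/-- The blocks of a normalised system. -/
def knownLists (s : Bool) : List (List ℕ) :=
  ((List.finRange 6).flatMap fun i => ((List.finRange 6).filter fun j => decide (i < j)).map fun j =>
      [4 * i.val, 4 * i.val + 1, 4 * i.val + 2, 4 * i.val + 3,
        4 * j.val, 4 * j.val + 1, 4 * j.val + 2, 4 * j.val + 3]) ++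
    (List.finRange 4).map (fun r => rowList [0, 1, 2] 0 r r r r) ++
    (List.finRange 4).map (fun k => rowList [0, 1, 2] k 0 k (cycRow s k) (cycRow (!s) k))

/-- Intersection test against blocks. -/
def interOk (ks : List ℕ) (m : ℕ) : Bool :=
  ks.all fun k => [0, 2, 4, 8].contains (bitCount (m &&& k))

/-- A completion serves a list of blocks. -/
def completes (ks : List ℕ) : Bool := completions.any fun c => c.2.1.all fun m => ks.contains m

/-- The search through all completions of a normalised system. -/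
def searchOk (s : Bool) : Bool :=
  let ks := (knownLists s).map maskOf
  (List.finRange 4).all fun a => (List.finRange 4).all fun b => (List.finRange 4).all fun c =>
    let F := maskOf (rowList [0, 1, 3] 0 0 a b c)
    !interOk ks F || (List.finRange 4).all fun u => (List.finRange 4).all fun v =>
      (List.finRange 4).all fun w =>
        let G := maskOf (rowList [1, 2, 3] 0 0 u v w)
        !interOk (F :: ks) G || completes (G :: F :: ks)

theorem searchOk_all : searchOk false = true ∧ searchOk true = true := by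
  constructor <;> decide +kernel

/-- The check of one completion. -/
def completionOk (c : List ℕ × List ℕ × List ℕ) : Bool :=
  validL 24 c.1 && decide (c.2.2.map (selXor (c.2.1.map (imgMask c.1))) = golayBasis)

theorem completions_ok : ∀ c ∈ completions, completionOk c = true := by decide +kernel

theorem steiner_ncard_759 {α : Type*} [Fintype α] [DecidableEq α] (hα : Fintype.card α = 24)
    {B : Set (Finset α)} (hB : IsSteinerSystem 5 8 B) : B.ncard = 759 := by
  have h := blocks_total hB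
  rw [hα] at h
  have h1 : Nat.choose 8 5 = 56 := rfl
  have h2 : Nat.choose 24 5 = 42504 := rfl
  rw [h1, h2] at h
  omega

theorem steiner_image {α β : Type*} [DecidableEq β] {B : Set (Finset α)} {t k : ℕ}
    (hB : IsSteinerSystem t k B) (e : α ≃ β) :
    IsSteinerSystem t k ((fun b => b.image e) '' B) := by
  classical
  refine ⟨?_, fun s hs => ?_⟩
  · rintro _ ⟨b, hb, rfl⟩
    rw [Finset.card_image_of_injective _ e.injective, hB.1 b hb]
  · obtain ⟨b, ⟨hb, hsb⟩, hu⟩ := hB.2 (s.image e.symm)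
      (by rw [Finset.card_image_of_injective _ e.symm.injective, hs])
    refine ⟨b.image e, ⟨⟨b, hb, rfl⟩, fun x hx => ?_⟩, ?_⟩
    · exact Finset.mem_image.2 ⟨e.symm x, hsb (Finset.mem_image_of_mem _ hx), e.apply_symm_apply x⟩
    · rintro _ ⟨⟨c, hc, rfl⟩, hsc⟩
      rw [hu c ⟨hc, fun x hx => ?_⟩]
      obtain ⟨y, hy, rfl⟩ := Finset.mem_image.1 hx
      obtain ⟨z, hz, rfl⟩ := Finset.mem_image.1 (hsc hy)
      rwa [e.symm_apply_apply]

/-- A system containing the twelve blocks of a completion is carried to the octads. -/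
theorem eq_octads_of_completion {B : Set (Finset GolayPt)} (hB : IsSteinerSystem 5 8 B)
    {c : List ℕ × List ℕ × List ℕ} (hc : completionOk c = true)
    (hblocks : ∀ m ∈ c.2.1, toSet m ∈ B) :
    (fun b => b.image (permOf ptEquiv c.1)) '' B = octads := by
  simp only [completionOk, Bool.and_eq_true, decide_eq_true_eq] at hc
  have hα : Fintype.card GolayPt = 24 := by rw [Fintype.card_congr ptEquiv, Fintype.card_fin]
  have hB' := steiner_image hB (permOf ptEquiv c.1)
  refine Set.eq_of_subset_of_ncard_le ?_ ?_ (Set.toFinite _)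
  · rintro _ ⟨b, hb, rfl⟩
    refine ⟨supports_of_orth fun g hg => ?_, hB'.1 _ ⟨b, hb, rfl⟩⟩
    obtain ⟨n, -, hn⟩ := exists_mask (b.image (permOf ptEquiv c.1))
    have horth : ∀ m ∈ c.2.1.map (imgMask c.1), ((bitCount (n &&& m) : ℕ) : ZMod 2) = 0 := by
      intro m hm
      obtain ⟨m0, hm0, rfl⟩ := List.mem_map.1 hm
      rw [← card_toSet, toSet_and, hn, ← smul_toSet hc.1]
      have e : permOf ptEquiv c.1 • toSet m0 = (toSet m0).image (permOf ptEquiv c.1) := rfl
      rw [e]
      rcases s24_inter hα hB' ⟨b, hb, rfl⟩ ⟨toSet m0, hblocks m0 hm0, rfl⟩ with h | h | h | h <;>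
        rw [h] <;> rfl
    rw [← hc.2] at hg
    obtain ⟨w, -, rfl⟩ := List.mem_map.1 hg
    show (((b.image (permOf ptEquiv c.1)) ∩ toSet _).card : ZMod 2) = 0
    rw [← hn, ← toSet_and, card_toSet]
    exact orth_span horth _ (selXor_mem _ w)
  · rw [octads_ncard, steiner_ncard_759 hα hB']

set_option synthInstance.maxSize 4096 in
/-- Two derangements of three letters differing everywhere are the two cycles. -/
theorem derangement_aux : ∀ a b c : Fin 4,
    (a ≠ 0 ∧ b ≠ 0 ∧ c ≠ 0 ∧ a ≠ 1 ∧ b ≠ 2 ∧ c ≠ 3 ∧ a ≠ b ∧ a ≠ c ∧ b ≠ c) →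
    ∀ a' b' c' : Fin 4,
      (a' ≠ 0 ∧ b' ≠ 0 ∧ c' ≠ 0 ∧ a' ≠ 1 ∧ b' ≠ 2 ∧ c' ≠ 3 ∧ a' ≠ b' ∧ a' ≠ c' ∧ b' ≠ c') →
      (a ≠ a' ∧ b ≠ b' ∧ c ≠ c') →
      (a = 2 ∧ b = 3 ∧ c = 1 ∧ a' = 3 ∧ b' = 1 ∧ c' = 2) ∨
        (a = 3 ∧ b = 1 ∧ c = 2 ∧ a' = 2 ∧ b' = 3 ∧ c' = 1) := by decide +kernel

theorem derangement_fin {a b c a' b' c' : Fin 4}
    (h1 : a ≠ 0) (h2 : b ≠ 0) (h3 : c ≠ 0) (h4 : a ≠ 1) (h5 : b ≠ 2) (h6 : c ≠ 3) (h7 : a ≠ b)
    (h8 : a ≠ c) (h9 : b ≠ c)
    (g1 : a' ≠ 0) (g2 : b' ≠ 0) (g3 : c' ≠ 0) (g4 : a' ≠ 1) (g5 : b' ≠ 2) (g6 : c' ≠ 3)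
    (g7 : a' ≠ b') (g8 : a' ≠ c') (g9 : b' ≠ c') (e1 : a ≠ a') (e2 : b ≠ b') (e3 : c ≠ c') :
    (a = 2 ∧ b = 3 ∧ c = 1 ∧ a' = 3 ∧ b' = 1 ∧ c' = 2) ∨
      (a = 3 ∧ b = 1 ∧ c = 2 ∧ a' = 2 ∧ b' = 3 ∧ c' = 1) :=
  derangement_aux a b c ⟨h1, h2, h3, h4, h5, h6, h7, h8, h9⟩ a' b' c'
    ⟨g1, g2, g3, g4, g5, g6, g7, g8, g9⟩ ⟨e1, e2, e3⟩

/-- Every system is isomorphic to the octads. -/
theorem iso_octads {α : Type*} [Fintype α] [DecidableEq α] (hα : Fintype.card α = 24)
    {B : Set (Finset α)} (hB : IsSteinerSystem 5 8 B) :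
    ∃ e : α ≃ GolayPt, (fun b => b.image e) '' B = octads := by
  classical
  obtain ⟨T, -, hT⟩ := Finset.exists_subset_card_eq (show 4 ≤ (Finset.univ : Finset α).card by
    rw [Finset.card_univ, hα]; omega)
  obtain ⟨S, hS0⟩ := exists_sextet hα hB hT
  set t0 := ((S.cell 0).equivFinOfCardEq (S.card_cell 0)).symm with ht0
  set q2 := ((S.cell 2).equivFinOfCardEq (S.card_cell 2)).symm with hq2
  have habc : ∀ i : Fin 4, ((S.cell 0).erase (t0 i).val) ⊆ S.cell 0 ∧
      ((S.cell 0).erase (t0 i).val).card = 3 := fun i =>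
    ⟨Finset.erase_subset _ _, by rw [Finset.card_erase_of_mem (t0 i).2, S.card_cell]⟩
  set A := (S.cell 0).erase (t0 3).val with hA
  obtain ⟨x1, hx1⟩ := Finset.card_pos.1 (show 0 < (S.cell 1).card by rw [S.card_cell]; omega)
  have hDe : ∀ r : Fin 4, ∃ D ∈ B, A ⊆ D ∧ x1 ∈ D ∧ (q2 r).val ∈ D ∧ D ∩ S.cell 0 = A :=
    fun r => S.exists_block hB (habc 3).1 (habc 3).2 (by decide) (by decide) (by decide) hx1 (q2 r).2
  choose Dr hDB hDA hD1 hD2 hD0 using hDe
  have hD3 : ∀ r, (Dr r ∩ S.cell 0).card = 3 := fun r => by rw [hD0]; exact (habc 3).2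
  have pD : ∀ (r : Fin 4) (i : Fin 6), i ≠ 0 → ∃ x, x ∈ Dr r ∧ x ∈ S.cell i ∧
      ∀ y ∈ Dr r, y ∈ S.cell i → y = x := fun r i hi => S.exists_point hα hB (hDB r) (hD3 r) i hi
  choose pd hpdD hpdC hpdU using pD
  have hD2' : ∀ r, pd r 2 (by decide) = (q2 r).val := fun r =>
    (hpdU r 2 _ _ (hD2 r) (q2 r).2).symm
  have hD1' : ∀ r, pd r 1 (by decide) = x1 := fun r => (hpdU r 1 _ _ (hD1 r) hx1).symm
  have pd_inj : ∀ (i : Fin 6) (hi : i ≠ 0), i ≠ 1 → Function.Injective fun r => pd r i hi := by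
    intro i hi hi1 r r' h
    have he : Dr r = Dr r' := S.block_eq hB (habc 3).1 (habc 3).2 (hDB r) (hDB r') (hDA r) (hDA r')
      (i := 1) (j := i) (by decide) hi hi1.symm hx1 (hpdC r i hi) (hD1 r) (hD1 r') (hpdD r i hi)
      (by rw [show pd r i hi = pd r' i hi from h]; exact hpdD r' i hi)
    apply q2.injective
    apply Subtype.ext
    rw [← hD2' r, ← hD2' r']
    exact hpdU r' 2 _ _ (he ▸ hpdD r 2 _) (hpdC r 2 _)
  have hEe : ∀ k : Fin 4, ∃ E ∈ B, A ⊆ E ∧ (q2 0).val ∈ E ∧ pd k 3 (by decide) ∈ E ∧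
      E ∩ S.cell 0 = A :=
    fun k => S.exists_block hB (habc 3).1 (habc 3).2 (i := 2) (j := 3) (by decide) (by decide)
      (by decide) (q2 0).2 (hpdC k 3 _)
  choose Er hEB hEA hE2 hE3' hE0 using hEe
  have hE3 : ∀ r, (Er r ∩ S.cell 0).card = 3 := fun r => by rw [hE0]; exact (habc 3).2
  have pE : ∀ (r : Fin 4) (i : Fin 6), i ≠ 0 → ∃ x, x ∈ Er r ∧ x ∈ S.cell i ∧
      ∀ y ∈ Er r, y ∈ S.cell i → y = x := fun r i hi => S.exists_point hα hB (hEB r) (hE3 r) i hi
  choose pe hpeE hpeC hpeU using pE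
  have hE0D : Er 0 = Dr 0 := S.block_eq hB (habc 3).1 (habc 3).2 (hEB 0) (hDB 0) (hEA 0) (hDA 0)
    (i := 2) (j := 3) (by decide) (by decide) (by decide) (q2 0).2 (hpdC 0 3 _) (hE2 0) (hD2 0)
    (hE3' 0) (hpdD 0 3 _)
  have pe_inj : ∀ (i : Fin 6) (hi : i ≠ 0), i ≠ 2 → Function.Injective fun r => pe r i hi := by
    intro i hi hi2 r r' h
    have he : Er r = Er r' := S.block_eq hB (habc 3).1 (habc 3).2 (hEB r) (hEB r') (hEA r) (hEA r')
      (i := 2) (j := i) (by decide) hi hi2.symm (q2 0).2 (hpeC r i hi) (hE2 r) (hE2 r') (hpeE r i hi)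
      (by rw [show pe r i hi = pe r' i hi from h]; exact hpeE r' i hi)
    apply pd_inj 3 (by decide) (by decide)
    show pd r 3 _ = pd r' 3 _
    have e1 := hpeU r' 3 (by decide) _ (hE3' r') (hpdC r' 3 _)
    have e2 := hpeU r' 3 (by decide) _ (he ▸ hE3' r) (hpdC r 3 _)
    rw [e2, e1]
  -- the points
  let pp : Fin 6 → Fin 4 → α := fun j r =>
    if j = 0 then (t0 r).val else if j = 1 then pe r 1 (by decide) else
      if h : j ≠ 0 then pd r j h else x1
  have hppC : ∀ j r, pp j r ∈ S.cell j := by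
    intro j r
    simp only [pp]
    by_cases h0 : j = 0
    · subst h0; rw [if_pos rfl]; exact (t0 r).2
    by_cases h1 : j = 1
    · subst h1; rw [if_neg h0, if_pos rfl]; exact hpeC r 1 _
    rw [if_neg h0, if_neg h1, dif_pos h0]
    exact hpdC r j h0
  have hppinj : ∀ j, Function.Injective (pp j) := by
    intro j r r' h
    simp only [pp] at h
    by_cases h0 : j = 0
    · subst h0; rw [if_pos rfl, if_pos rfl] at h; exact t0.injective (Subtype.ext h)
    by_cases h1 : j = 1
    · subst h1; rw [if_neg h0, if_pos rfl, if_neg h0, if_pos rfl] at h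
      exact pe_inj 1 _ (by decide) h
    rw [if_neg h0, if_neg h1, dif_pos h0, if_neg h0, if_neg h1, dif_pos h0] at h
    exact pd_inj j h0 h1 h
  have hppsurj : ∀ j, ∀ x ∈ S.cell j, ∃ r, pp j r = x := by
    intro j x hx
    have hsub : Finset.univ.image (pp j) = S.cell j :=
      Finset.eq_of_subset_of_card_le (by
        intro y hy
        obtain ⟨r, -, rfl⟩ := Finset.mem_image.1 hy
        exact hppC j r)
        (by rw [Finset.card_image_of_injective _ (hppinj j), S.card_cell, Finset.card_fin])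
    rw [← hsub] at hx
    obtain ⟨r, -, hr⟩ := Finset.mem_image.1 hx
    exact ⟨r, hr⟩
  let lbl : Fin 24 → α := fun i => pp ⟨i.val / 4, by omega⟩ ⟨i.val % 4, by omega⟩
  have hlbl : Function.Injective lbl := by
    intro i i' h
    have hc : (⟨i.val / 4, by omega⟩ : Fin 6) = ⟨i'.val / 4, by omega⟩ := by
      by_contra hne
      have h' : lbl i ∈ S.cell ⟨i'.val / 4, by omega⟩ := by rw [h]; exact hppC _ _
      exact Finset.disjoint_left.1 (S.disj _ _ hne) (hppC _ _) h'
    have hr : (⟨i.val % 4, by omega⟩ : Fin 4) = ⟨i'.val % 4, by omega⟩ := by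
      apply hppinj ⟨i'.val / 4, by omega⟩
      have h' : pp ⟨i.val / 4, by omega⟩ ⟨i.val % 4, by omega⟩ =
          pp ⟨i'.val / 4, by omega⟩ ⟨i'.val % 4, by omega⟩ := h
      rwa [hc] at h'
    have := congrArg Fin.val hc
    have := congrArg Fin.val hr
    apply Fin.ext
    simp only at *
    omega
  set e0 : α ≃ GolayPt := (Equiv.ofBijective lbl ((Fintype.bijective_iff_injective_and_card lbl).2
    ⟨hlbl, by rw [Fintype.card_fin, hα]⟩)).symm.trans ptEquiv.symm with he0
  set B' := (fun b => b.image e0) '' B with hB'def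
  have hB' : IsSteinerSystem 5 8 B' := steiner_image hB e0
  have lblpos : ∀ (j : Fin 6) (r : Fin 4), e0 (pp j r) = pt (4 * j.val + r.val) := by
    intro j r
    have e : pp j r = lbl ⟨4 * j.val + r.val, by omega⟩ := by
      show pp j r = pp _ _
      congr 1 <;> apply Fin.ext <;> simp <;> omega
    rw [e, he0, Equiv.trans_apply, Equiv.ofBijective_symm_apply_apply]
    apply ptEquiv.injective
    apply Fin.ext
    rw [ptEquiv_pt (by omega), Equiv.apply_symm_apply]
  have mask_block : ∀ (D : Finset α), D ∈ B → ∀ l : List ℕ, l.Nodup → l.length = 8 →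
      (∀ i ∈ l, i < 24) → (∀ i ∈ l, ∃ j : Fin 6, ∃ r : Fin 4, i = 4 * j.val + r.val ∧ pp j r ∈ D) →
      toSet (maskOf l) ∈ B' := by
    intro D hD l hnd hlen hlt hl
    refine ⟨D, hD, (Finset.eq_of_subset_of_card_le ?_ ?_).symm⟩
    · intro p hp
      rw [mem_toSet, testBit_maskOf] at hp
      obtain ⟨j, r, hjr, hD'⟩ := hl _ hp
      refine Finset.mem_image.2 ⟨pp j r, hD', ?_⟩
      rw [lblpos, ← hjr, pt_ptEquiv]
    · rw [Finset.card_image_of_injective _ e0.injective, hB.1 D hD]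
      have h8 : l.toFinset.card = 8 := by rw [List.toFinset_card_of_nodup hnd, hlen]
      rw [← h8]
      refine Finset.card_le_card_of_injOn pt (fun i hi => ?_) ?_
      · have hi' := List.mem_toFinset.1 hi
        exact (pt_mem_toSet (hlt i hi')).2 (testBit_maskOf.2 hi')
      · intro a ha b hb hab
        have ha' := hlt a (List.mem_toFinset.1 ha)
        have hb' := hlt b (List.mem_toFinset.1 hb)
        simpa [ptEquiv_pt ha', ptEquiv_pt hb'] using congrArg (fun p => (ptEquiv p).val) hab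
  have row_block : ∀ (D : Finset α), D ∈ B → ∀ (a b c : Fin 4), [a, b, c].Nodup →
      pp 0 a ∈ D → pp 0 b ∈ D → pp 0 c ∈ D → ∀ r1 r2 r3 r4 r5 : Fin 4, pp 1 r1 ∈ D → pp 2 r2 ∈ D →
      pp 3 r3 ∈ D → pp 4 r4 ∈ D → pp 5 r5 ∈ D →
      toSet (maskOf (rowList [a.val, b.val, c.val] r1 r2 r3 r4 r5)) ∈ B' := by
    intro D hD a b c habc' ha hb hc r1 r2 r3 r4 r5 h1 h2 h3 h4 h5
    refine mask_block D hD _ ?_ (by simp [rowList]) ?_ ?_
    · simp only [List.nodup_cons, List.mem_cons, List.not_mem_nil, or_false, Fin.ext_iff] at habc'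
      simp only [rowList, List.cons_append, List.nil_append, List.nodup_cons, List.mem_cons,
        List.not_mem_nil, or_false, List.nodup_nil, not_false_eq_true, and_true]
      omega
    · intro i hi
      simp only [rowList, List.cons_append, List.nil_append, List.mem_cons, List.not_mem_nil,
        or_false] at hi
      omega
    · intro i hi
      simp only [rowList, List.cons_append, List.nil_append, List.mem_cons, List.not_mem_nil,
        or_false] at hi
      rcases hi with rfl | rfl | rfl | rfl | rfl | rfl | rfl | rfl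
      · exact ⟨0, a, by simp, ha⟩
      · exact ⟨0, b, by simp, hb⟩
      · exact ⟨0, c, by simp, hc⟩
      · exact ⟨1, r1, by simp, h1⟩
      · exact ⟨2, r2, by simp, h2⟩
      · exact ⟨3, r3, by simp, h3⟩
      · exact ⟨4, r4, by simp, h4⟩
      · exact ⟨5, r5, by simp, h5⟩
  have hmemA : ∀ r : Fin 4, r ≠ 3 → pp 0 r ∈ A := fun r hr => by
    show (t0 r).val ∈ (S.cell 0).erase _
    exact Finset.mem_erase.2 ⟨fun h => hr (t0.injective (Subtype.ext h)), (t0 r).2⟩
  have ppd : ∀ (j : Fin 6) (h0 : j ≠ 0), j ≠ 1 → ∀ r, pp j r = pd r j h0 := fun j h0 h1 r => by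
    simp only [pp, if_neg h0, if_neg h1, dif_pos h0]
  have pp1 : ∀ r, pp 1 r = pe r 1 (by decide) := fun r => by simp [pp]
  have hpp10 : pp 1 0 = x1 := by
    rw [pp1, ← hD1' 0]
    exact hpdU 0 1 _ _ (hE0D ▸ hpeE 0 1 _) (hpeC 0 1 _)
  have hq : ∀ r, pp 2 r = (q2 r).val := fun r => by rw [ppd 2 (by decide) (by decide), hD2']
  have s4e : ∀ k, ∃ r, pp 4 r = pe k 4 (by decide) := fun k => hppsurj 4 _ (hpeC k 4 _)
  have s5e : ∀ k, ∃ r, pp 5 r = pe k 5 (by decide) := fun k => hppsurj 5 _ (hpeC k 5 _)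
  choose s4 hs4 using s4e
  choose s5 hs5 using s5e
  have s4inj : Function.Injective s4 := fun k k' h =>
    pe_inj 4 (by decide) (by decide) (show pe k 4 _ = pe k' 4 _ by rw [← hs4, ← hs4, h])
  have s5inj : Function.Injective s5 := fun k k' h =>
    pe_inj 5 (by decide) (by decide) (show pe k 5 _ = pe k' 5 _ by rw [← hs5, ← hs5, h])
  have clash : ∀ (k r : Fin 4) (i j : Fin 6) (hi : i ≠ 0) (hj : j ≠ 0), i ≠ j →
      pd r i hi ∈ Er k → pd r j hj ∈ Er k → r = 0 := by
    intro k r i j hi hj hij h1 h2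
    have he : Dr r = Er k := S.block_eq hB (habc 3).1 (habc 3).2 (hDB r) (hEB k) (hDA r) (hEA k)
      hi hj hij (hpdC r i hi) (hpdC r j hj) (hpdD r i hi) h1 (hpdD r j hj) h2
    apply q2.injective
    apply Subtype.ext
    rw [← hD2' r]
    exact (hpdU r 2 (by decide) _ (he ▸ hE2 k) (q2 0).2).symm
  have hs40 : s4 0 = 0 := by
    apply hppinj 4
    rw [hs4, ppd 4 (by decide) (by decide)]
    exact hpdU 0 4 (by decide) _ (hE0D ▸ hpeE 0 4 _) (hpeC 0 4 _)
  have hs50 : s5 0 = 0 := by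
    apply hppinj 5
    rw [hs5, ppd 5 (by decide) (by decide)]
    exact hpdU 0 5 (by decide) _ (hE0D ▸ hpeE 0 5 _) (hpeC 0 5 _)
  have h4fix : ∀ k, s4 k = k → k = 0 := fun k h => clash k k 3 4 (by decide) (by decide) (by decide)
    (hE3' k) (by
      have := hpeE k 4 (by decide)
      rwa [← hs4 k, h, ppd 4 (by decide) (by decide)] at this)
  have h5fix : ∀ k, s5 k = k → k = 0 := fun k h => clash k k 3 5 (by decide) (by decide) (by decide)
    (hE3' k) (by
      have := hpeE k 5 (by decide)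
      rwa [← hs5 k, h, ppd 5 (by decide) (by decide)] at this)
  have h45 : ∀ k, s4 k = s5 k → k = 0 := fun k h => by
    have hr := clash k (s4 k) 4 5 (by decide) (by decide) (by decide) (by
      rw [← ppd 4 (by decide) (by decide), hs4]; exact hpeE k 4 _) (by
      rw [← ppd 5 (by decide) (by decide), h, hs5]; exact hpeE k 5 _)
    exact s4inj (hr.trans hs40.symm)
  obtain ⟨s, hs4', hs5'⟩ : ∃ s, (∀ k, s4 k = cycRow s k) ∧ ∀ k, s5 k = cycRow (!s) k := by
    have hfin' : ∀ a b c a' b' c' : Fin 4, ((a = 2 ∧ b = 3 ∧ c = 1 ∧ a' = 3 ∧ b' = 1 ∧ c' = 2) ∨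
          (a = 3 ∧ b = 1 ∧ c = 2 ∧ a' = 2 ∧ b' = 3 ∧ c' = 1)) →
        ∃ s, (a = cycRow s 1 ∧ b = cycRow s 2 ∧ c = cycRow s 3) ∧
          (a' = cycRow (!s) 1 ∧ b' = cycRow (!s) 2 ∧ c' = cycRow (!s) 3) := by
      rintro a b c a' b' c' (⟨rfl, rfl, rfl, rfl, rfl, rfl⟩ | ⟨rfl, rfl, rfl, rfl, rfl, rfl⟩)
      exacts [⟨false, ⟨rfl, rfl, rfl⟩, rfl, rfl, rfl⟩, ⟨true, ⟨rfl, rfl, rfl⟩, rfl, rfl, rfl⟩]
    obtain ⟨s, ⟨a1, a2, a3⟩, b1, b2, b3⟩ := hfin' _ _ _ _ _ _ <| derangement_fin (a := s4 1) (b := s4 2) (c := s4 3) (a' := s5 1) (b' := s5 2) (c' := s5 3)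
      (fun h => absurd (s4inj (h.trans hs40.symm)) (by decide))
      (fun h => absurd (s4inj (h.trans hs40.symm)) (by decide))
      (fun h => absurd (s4inj (h.trans hs40.symm)) (by decide))
      (fun h => absurd (h4fix 1 h) (by decide)) (fun h => absurd (h4fix 2 h) (by decide))
      (fun h => absurd (h4fix 3 h) (by decide))
      (fun h => absurd (s4inj h) (by decide)) (fun h => absurd (s4inj h) (by decide))
      (fun h => absurd (s4inj h) (by decide))
      (fun h => absurd (s5inj (h.trans hs50.symm)) (by decide))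
      (fun h => absurd (s5inj (h.trans hs50.symm)) (by decide))
      (fun h => absurd (s5inj (h.trans hs50.symm)) (by decide))
      (fun h => absurd (h5fix 1 h) (by decide)) (fun h => absurd (h5fix 2 h) (by decide))
      (fun h => absurd (h5fix 3 h) (by decide))
      (fun h => absurd (s5inj h) (by decide)) (fun h => absurd (s5inj h) (by decide))
      (fun h => absurd (s5inj h) (by decide))
      (fun h => absurd (h45 1 h) (by decide)) (fun h => absurd (h45 2 h) (by decide))
      (fun h => absurd (h45 3 h) (by decide))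
    refine ⟨s, fun k => ?_, fun k => ?_⟩
    · fin_cases k
      · exact hs40.trans (by cases s <;> rfl)
      exacts [a1, a2, a3]
    · fin_cases k
      · exact hs50.trans (by cases s <;> rfl)
      exacts [b1, b2, b3]
  have hknown : ∀ l ∈ knownLists s, toSet (maskOf l) ∈ B' := by
    intro l hl
    simp only [knownLists, List.mem_append, List.mem_flatMap, List.mem_map, List.mem_filter,
      List.mem_finRange, true_and, decide_eq_true_eq] at hl
    rcases hl with (⟨i, j, hij, rfl⟩ | ⟨r, rfl⟩) | ⟨k, rfl⟩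
    · have hij' : i.val < j.val := hij
      refine mask_block _ (S.union_mem i j hij.ne) _ ?_ (by simp) ?_ ?_
      · simp only [List.nodup_cons, List.mem_cons, List.not_mem_nil, or_false, List.nodup_nil,
          not_false_eq_true, and_true]
        omega
      · intro m hm
        simp only [List.mem_cons, List.not_mem_nil, or_false] at hm
        omega
      · intro m hm
        simp only [List.mem_cons, List.not_mem_nil, or_false] at hm
        by_cases hlt : m < 4 * i.val + 4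
        · exact ⟨i, ⟨m - 4 * i.val, by omega⟩, by simp only; omega, Finset.mem_union_left _ (hppC _ _)⟩
        · exact ⟨j, ⟨m - 4 * j.val, by omega⟩, by simp only; omega, Finset.mem_union_right _ (hppC _ _)⟩
    · exact row_block _ (hDB r) 0 1 2 (by decide) (hDA r (hmemA 0 (by decide)))
        (hDA r (hmemA 1 (by decide))) (hDA r (hmemA 2 (by decide))) 0 r r r r
        (hpp10 ▸ hD1 r) (hq r ▸ hD2 r) (ppd 3 (by decide) (by decide) r ▸ hpdD r 3 _)
        (ppd 4 (by decide) (by decide) r ▸ hpdD r 4 _) (ppd 5 (by decide) (by decide) r ▸ hpdD r 5 _)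
    · exact row_block _ (hEB k) 0 1 2 (by decide) (hEA k (hmemA 0 (by decide)))
        (hEA k (hmemA 1 (by decide))) (hEA k (hmemA 2 (by decide))) k 0 k (cycRow s k) (cycRow (!s) k)
        (pp1 k ▸ hpeE k 1 _) (hq 0 ▸ hE2 k) (ppd 3 (by decide) (by decide) k ▸ hE3' k)
        (by rw [← hs4' k, hs4]; exact hpeE k 4 _) (by rw [← hs5' k, hs5]; exact hpeE k 5 _)
  have extra : ∀ (i a b c : Fin 4), [a, b, c].Nodup → a ≠ i → b ≠ i → c ≠ i →
      ∃ u v w : Fin 4, toSet (maskOf (rowList [a.val, b.val, c.val] 0 0 u v w)) ∈ B' := by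
    intro i a b c hnd ha hb hc
    obtain ⟨F, hFB, hFA, hF1, hF2, hF0⟩ := S.exists_block hB (habc i).1 (habc i).2 (i := 1) (j := 2)
      (by decide) (by decide) (by decide) (hppC 1 0) (hppC 2 0)
    have hF3 : (F ∩ S.cell 0).card = 3 := by rw [hF0]; exact (habc i).2
    obtain ⟨x3, hx3, hx3c, -⟩ := S.exists_point hα hB hFB hF3 3 (by decide)
    obtain ⟨x4, hx4, hx4c, -⟩ := S.exists_point hα hB hFB hF3 4 (by decide)
    obtain ⟨x5, hx5, hx5c, -⟩ := S.exists_point hα hB hFB hF3 5 (by decide)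
    obtain ⟨u, hu⟩ := hppsurj 3 _ hx3c
    obtain ⟨v, hv⟩ := hppsurj 4 _ hx4c
    obtain ⟨w, hw⟩ := hppsurj 5 _ hx5c
    have hm : ∀ z : Fin 4, z ≠ i → pp 0 z ∈ F := fun z hz => hFA (by
      show (t0 z).val ∈ (S.cell 0).erase _
      exact Finset.mem_erase.2 ⟨fun h => hz (t0.injective (Subtype.ext h)), (t0 z).2⟩)
    exact ⟨u, v, w, row_block F hFB a b c hnd (hm a ha) (hm b hb) (hm c hc) 0 0 u v w hF1 hF2
      (hu ▸ hx3) (hv ▸ hx4) (hw ▸ hx5)⟩
  obtain ⟨a, b, c, hF⟩ := extra 2 0 1 3 (by decide) (by decide) (by decide) (by decide)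
  obtain ⟨u, v, w, hG⟩ := extra 0 1 2 3 (by decide) (by decide) (by decide) (by decide)
  have hsearch : searchOk s = true := by
    cases s
    exacts [searchOk_all.1, searchOk_all.2]
  have hα' : Fintype.card GolayPt = 24 := by rw [Fintype.card_congr ptEquiv, Fintype.card_fin]
  have interOk_of : ∀ (ks : List ℕ) (m : ℕ), (∀ k ∈ ks, toSet k ∈ B') → toSet m ∈ B' →
      interOk ks m = true := by
    intro ks m hks hm
    simp only [interOk, List.all_eq_true, List.contains_iff_mem]
    intro k hk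
    rw [← card_toSet, toSet_and]
    rcases s24_inter hα' hB' hm (hks k hk) with h | h | h | h <;> rw [h] <;> simp
  set ks := (knownLists s).map maskOf with hks
  have hks' : ∀ k ∈ ks, toSet k ∈ B' := by
    intro k hk
    obtain ⟨l, hl, rfl⟩ := List.mem_map.1 hk
    exact hknown l hl
  simp only [searchOk, List.all_eq_true, List.mem_finRange, true_implies, Bool.or_eq_true,
    Bool.not_eq_true'] at hsearch
  have h1 := (hsearch a b c).resolve_left (by
    have h' := interOk_of ks _ hks' hF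
    simp only [Fin.isValue, Fin.val_zero, Fin.val_one] at h'
    exact Bool.not_eq_false _ ▸ h')
  have hks'' : ∀ k ∈ maskOf (rowList [0, 1, 3] 0 0 a b c) :: ks, toSet k ∈ B' := by
    intro k hk
    rcases List.mem_cons.1 hk with rfl | hk
    exacts [hF, hks' k hk]
  have h2 := (h1 u v w).resolve_left (by
    have h' := interOk_of _ _ hks'' (show toSet (maskOf (rowList [1, 2, 3] 0 0 u v w)) ∈ B' from hG)
    exact Bool.not_eq_false _ ▸ h')
  simp only [completes, List.any_eq_true, List.all_eq_true, List.contains_iff_mem] at h2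
  obtain ⟨cp, hcp, hcpm⟩ := h2
  refine ⟨e0.trans (permOf ptEquiv cp.1), ?_⟩
  have := eq_octads_of_completion hB' (completions_ok cp hcp) (fun m hm => by
    rcases List.mem_cons.1 (hcpm m hm) with rfl | hk
    · exact hG
    · exact hks'' m hk)
  rw [← this, hB'def, Set.image_image]
  refine congrArg (· '' B) (funext fun b => ?_)
  rw [Finset.image_image]
  rfl

end CfsgLib.Golay
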