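import Cfsg.Agent.Lib.Golay.Sys22

/-!
# M₂₂ on 22 points is triply transitive, and its subgroups of index 22 fix a point
-/

set_option autoImplicit false

namespace CfsgLib.Golay.M22Idx

open Cfsg CfsgLib.Golay

open scoped Pointwise

/-- M₂₂ on its 22 points. -/
noncomputable def twoHom : stabTwo →* Equiv.Perm (Fin 22) :=
  res22.comp (Subgroup.inclusion stabTwo_le_pairGroup)

theorem twoHom_injective : Function.Injective twoHom :=
  res22_injective.comp (Subgroup.inclusion_injective _)

/-- The image of M₂₂ on 22 points. -/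
noncomputable def grp : Subgroup (Equiv.Perm (Fin 22)) := twoHom.range

theorem card_grp : Nat.card grp = 443520 := by
  rw [grp, ← Nat.card_congr (MonoidHom.ofInjective twoHom_injective).toEquiv, card_stabTwo]

theorem grp_le_aut : grp ≤ setSystemAut model22Set := by
  rintro _ ⟨k, rfl⟩
  exact res22_mem _

theorem twoHom_trans (x y : Fin 3 ↪ Fin 22) : ∃ k, ∀ i, twoHom k (x i) = y i := by
  let ext5 : (Fin 3 ↪ Fin 22) → (Fin 5 ↪ GolayPt) := fun z =>
    ⟨fun i => Fin.cases (pt 0) (fun i => Fin.cases (pt 1) (fun i => (restEquiv (z i)).val) i) i, by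
      have hne : ∀ l : Fin 3, pt 0 ≠ (restEquiv (z l)).val ∧ pt 1 ≠ (restEquiv (z l)).val := by
        intro l
        constructor <;> intro h <;> exact (restEquiv (z l)).2 (h ▸ by simp [basePair])
      intro a b h
      cases a using Fin.cases with
      | zero =>
        cases b using Fin.cases with
        | zero => rfl
        | succ b =>
          cases b using Fin.cases with
          | zero => exact absurd h pt01_ne
          | succ b => exact absurd h (hne b).1
      | succ a =>
        cases a using Fin.cases with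
        | zero =>
          cases b using Fin.cases with
          | zero => exact absurd h pt01_ne.symm
          | succ b =>
            cases b using Fin.cases with
            | zero => rfl
            | succ b => exact absurd h (hne b).2
        | succ a =>
          cases b using Fin.cases with
          | zero => exact absurd h (hne a).1.symm
          | succ b =>
            cases b using Fin.cases with
            | zero => exact absurd h (hne a).2.symm
            | succ b =>
              have e : (restEquiv (z a)).val = (restEquiv (z b)).val := h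
              obtain rfl := z.injective (restEquiv.injective (Subtype.ext e))
              rfl⟩
  obtain ⟨g, hg, hgxy⟩ := M24_exists_map (k := 5) le_rfl (ext5 x) (ext5 y)
  have h0 : g (pt 0) = pt 0 := hgxy 0
  have h1 : g (pt 1) = pt 1 := hgxy 1
  refine ⟨⟨g, by rw [stabTwo, fix_nums_pair (by omega) (by omega)]; exact ⟨hg, h0, h1⟩⟩, fun i => ?_⟩
  apply restEquiv.injective
  apply Subtype.ext
  show (restEquiv (res22 _ (x i))).val = _
  rw [res22_apply]
  fin_cases i
  exacts [hgxy 2, hgxy 3, hgxy 4]

theorem grp_pretransitive {i : ℕ} (hi : i ≤ 3) : MulAction.IsMultiplyPretransitive grp (Fin 22) i := by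
  have : MulAction.IsMultiplyPretransitive grp (Fin 22) 3 := by
    refine ⟨fun x y => ?_⟩
    obtain ⟨k, hk⟩ := twoHom_trans x y
    exact ⟨⟨twoHom k, k, rfl⟩, DFunLike.ext _ _ hk⟩
  exact MulAction.isMultiplyPretransitive_of_le hi (by rw [Nat.card_fin]; omega)

theorem sets_trans {i : ℕ} (hi : i ≤ 3) {s s' : Finset (Fin 22)} (hs : s.card = i) (hs' : s'.card = i) :
    ∃ g ∈ grp, s.image g = s' := by
  have := grp_pretransitive hi
  let x : Fin i ↪ Fin 22 := (s.orderEmbOfFin hs).toEmbedding
  let y : Fin i ↪ Fin 22 := (s'.orderEmbOfFin hs').toEmbedding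
  obtain ⟨g, hg⟩ := MulAction.exists_smul_eq grp x y
  refine ⟨g.val, g.2, ?_⟩
  refine Finset.eq_of_subset_of_card_le (fun q hq => ?_) (by rw [Finset.card_image_of_injective _ g.val.injective, hs, hs'])
  obtain ⟨r, hr, rfl⟩ := Finset.mem_image.1 hq
  obtain ⟨j, rfl⟩ : r ∈ Set.range (s.orderEmbOfFin hs) := by rw [Finset.range_orderEmbOfFin]; exact hr
  have h : g.val (x j) = y j := DFunLike.congr_fun hg j
  show g.val (x j) ∈ s'
  rw [h]
  exact Finset.orderEmbOfFin_mem _ hs' j

/-- Double counting for an invariant collection of sets of one size. -/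
theorem exists_lambda {i k : ℕ} (hi : i ≤ 3) (B : Finset (Finset (Fin 22))) (hk : ∀ X ∈ B, X.card = k)
    (hinv : ∀ g ∈ grp, ∀ X ∈ B, X.image g ∈ B) :
    ∃ l, B.card * k.choose i = Nat.choose 22 i * l ∧
      ∀ s : Finset (Fin 22), s.card = i → (B.filter (s ⊆ ·)).card = l := by
  obtain ⟨s0, -, hs0⟩ := Finset.exists_subset_card_eq (s := (Finset.univ : Finset (Fin 22))) (n := i)
    (by rw [Finset.card_univ, Fintype.card_fin]; omega)
  have hconst : ∀ s : Finset (Fin 22), s.card = i → (B.filter (s ⊆ ·)).card = (B.filter (s0 ⊆ ·)).card := by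
    intro s hs
    obtain ⟨g, hg, hgs⟩ := sets_trans hi hs0 hs
    refine (Finset.card_bij (fun X _ => X.image g) ?_ ?_ ?_).symm
    · intro X hX
      rw [Finset.mem_filter] at hX ⊢
      exact ⟨hinv g hg X hX.1, hgs ▸ Finset.image_subset_image hX.2⟩
    · intro X _ Y _ e
      exact Finset.image_injective g.injective e
    · intro Y hY
      rw [Finset.mem_filter] at hY
      refine ⟨Y.image (g⁻¹ : Equiv.Perm (Fin 22)), Finset.mem_filter.2 ⟨hinv _ (inv_mem hg) Y hY.1, ?_⟩, ?_⟩
      · intro q hq
        have : g q ∈ Y := hY.2 (hgs ▸ Finset.mem_image_of_mem g hq)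
        exact Finset.mem_image.2 ⟨g q, this, g.symm_apply_apply q⟩
      · rw [Finset.image_image]
        convert Finset.image_id (s := Y) using 2
        funext q
        exact g.apply_symm_apply q
  refine ⟨(B.filter (s0 ⊆ ·)).card, ?_, hconst⟩
  have h1 : ∑ X ∈ B, (((Finset.univ : Finset (Fin 22)).powersetCard i).filter (· ⊆ X)).card = B.card * k.choose i := by
    rw [Finset.sum_congr rfl fun X hX => (show _ = k.choose i by
      rw [show ((Finset.univ : Finset (Fin 22)).powersetCard i).filter (· ⊆ X) = X.powersetCard i by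
        ext s; simp [Finset.mem_powersetCard, and_comm], Finset.card_powersetCard, hk X hX])]
    simp
  have h2 : ∑ X ∈ B, (((Finset.univ : Finset (Fin 22)).powersetCard i).filter (· ⊆ X)).card =
      ∑ s ∈ (Finset.univ : Finset (Fin 22)).powersetCard i, (B.filter (s ⊆ ·)).card := by
    simp only [Finset.card_filter]
    exact Finset.sum_comm
  rw [← h1, h2, Finset.sum_congr rfl fun s hs => hconst s (Finset.mem_powersetCard.1 hs).2,
    Finset.sum_const, Finset.card_powersetCard, Finset.card_univ, Fintype.card_fin, smul_eq_mul]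

theorem small_orbit : ∀ k : Fin 22, ∀ b : Fin 23, 1 ≤ k.val → 1 ≤ b.val →
    b.val * k.val % 22 = 0 → b.val * k.val.choose 2 % 231 = 0 → b.val * k.val.choose 3 % 1540 = 0 →
    443520 % b.val = 0 → k.val = 1 ∨ k.val = 21 := by decide +kernel

/-- A subgroup of index 22 fixes a point. -/
theorem index_twentyTwo {H : Subgroup (Equiv.Perm (Fin 22))} (hH : H ≤ grp) (hc : Nat.card H = 20160) :
    ∃ i, ∀ h ∈ H, h i = i := by
  classical
  set O : Finset (Fin 22) := Finset.univ.filter fun j => ∃ h ∈ H, h 0 = j with hO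
  have hOH : ∀ h ∈ H, O.image h = O := fun h hh => by
    refine Finset.eq_of_subset_of_card_le (fun q hq => ?_) (by rw [Finset.card_image_of_injective _ h.injective])
    obtain ⟨r, hr, rfl⟩ := Finset.mem_image.1 hq
    obtain ⟨h', hh', rfl⟩ := (Finset.mem_filter.1 hr).2
    exact Finset.mem_filter.2 ⟨Finset.mem_univ _, h * h', mul_mem hh hh', rfl⟩
  have h0O : (0 : Fin 22) ∈ O := Finset.mem_filter.2 ⟨Finset.mem_univ _, 1, one_mem _, rfl⟩
  set B : Finset (Finset (Fin 22)) := Finset.univ.filter fun X => ∃ g ∈ grp, O.image g = X with hB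
  have hk : ∀ X ∈ B, X.card = O.card := fun X hX => by
    obtain ⟨g, -, rfl⟩ := (Finset.mem_filter.1 hX).2
    exact Finset.card_image_of_injective _ g.injective
  have hinv : ∀ g ∈ grp, ∀ X ∈ B, X.image g ∈ B := fun g hg X hX => by
    obtain ⟨g', hg', rfl⟩ := (Finset.mem_filter.1 hX).2
    exact Finset.mem_filter.2 ⟨Finset.mem_univ _, g * g', mul_mem hg hg', by rw [Finset.image_image]; rfl⟩
  have hk22 : O.card ≤ 22 := by simpa using Finset.card_le_univ O
  have hk22' : O.card ≠ 22 := by
    intro e
    have horb : MulAction.orbit H (0 : Fin 22) = ↑O := by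
      ext j
      simp only [hO, Finset.coe_filter, Finset.mem_univ, true_and, Set.mem_ofPred_eq]
      exact ⟨fun ⟨h, hj⟩ => ⟨h.val, h.2, hj⟩, fun ⟨h, hh, hj⟩ => ⟨⟨h, hh⟩, hj⟩⟩
    have h := (MulAction.stabilizer H (0 : Fin 22)).index_mul_card
    rw [MulAction.index_stabilizer, horb, Set.ncard_coe_finset, e, hc] at h
    omega
  have hb : B.card ≤ 22 ∧ 443520 % B.card = 0 := by
    have horb : MulAction.orbit grp O = ↑B := by
      ext X
      simp only [hB, Finset.coe_filter, Finset.mem_univ, true_and, Set.mem_ofPred_eq]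
      exact ⟨fun ⟨g, hg⟩ => ⟨g.val, g.2, hg⟩, fun ⟨g, hg, e⟩ => ⟨⟨g, hg⟩, e⟩⟩
    have h := (MulAction.stabilizer grp O).index_mul_card
    rw [MulAction.index_stabilizer, horb, Set.ncard_coe_finset, card_grp] at h
    have hs : 20160 ≤ Nat.card (MulAction.stabilizer grp O) := by
      rw [← hc]
      exact Nat.card_le_card_of_injective (fun x : H => (⟨⟨x.val, hH x.2⟩, hOH _ x.2⟩ : MulAction.stabilizer grp O))
        fun x y e => Subtype.ext (congrArg (fun z => z.val.val) e)
    refine ⟨?_, Nat.mod_eq_zero_of_dvd ⟨_, h.symm⟩⟩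
    nlinarith
  have hBpos : 1 ≤ B.card := Finset.card_pos.2 ⟨O, Finset.mem_filter.2 ⟨Finset.mem_univ _, 1, one_mem _, Finset.image_id⟩⟩
  have hOpos : 1 ≤ O.card := Finset.card_pos.2 ⟨0, h0O⟩
  obtain ⟨l1, e1, -⟩ := exists_lambda (i := 1) (by omega) B hk hinv
  obtain ⟨l2, e2, -⟩ := exists_lambda (i := 2) (by omega) B hk hinv
  obtain ⟨l3, e3, -⟩ := exists_lambda (i := 3) (by omega) B hk hinv
  rw [Nat.choose_one_right, Nat.choose_one_right] at e1
  have hm : ∀ {a n l : ℕ}, a = n * l → a % n = 0 := fun e => Nat.mod_eq_zero_of_dvd ⟨_, e⟩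
  rcases small_orbit ⟨O.card, by omega⟩ ⟨B.card, by omega⟩ hOpos hBpos (hm e1)
    (hm (l := l2) (by rw [e2]; rfl)) (hm (l := l3) (by rw [e3]; rfl)) hb.2 with h | h
  · refine ⟨0, fun g hg => ?_⟩
    simp only at h
    obtain ⟨x, hx⟩ := Finset.card_eq_one.1 h
    have h1 : g 0 ∈ O := Finset.mem_filter.2 ⟨Finset.mem_univ _, g, hg, rfl⟩
    rw [hx, Finset.mem_singleton] at h1
    rw [hx, Finset.mem_singleton] at h0O
    rw [h1, h0O]
  · obtain ⟨i, hi⟩ := Finset.card_eq_one.1 (show (Finset.univ \ O).card = 1 by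
      rw [Finset.card_sdiff_of_subset (Finset.subset_univ _), Finset.card_univ, Fintype.card_fin]
      show 22 - O.card = 1
      simp only at h
      omega)
    refine ⟨i, fun g hg => ?_⟩
    have hni : i ∉ O := (Finset.mem_sdiff.1 (hi ▸ Finset.mem_singleton_self i)).2
    have hgi : g i ∈ Finset.univ \ O := Finset.mem_sdiff.2 ⟨Finset.mem_univ _, fun hc' => hni (by
      rw [← hOH g hg] at hc'
      obtain ⟨r, hr, e⟩ := Finset.mem_image.1 hc'
      rwa [g.injective e] at hr)⟩
    rw [hi, Finset.mem_singleton] at hgi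
    exact hgi

end CfsgLib.Golay.M22Idx
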