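import Cfsg.Agent.Lib.Golay.Simple
import Cfsg.Agent.Lib.SmallGroups.PrimeDegree

/-!
Sharply multiply transitive groups of degree 11 and 12.
-/

set_option autoImplicit false

namespace CfsgLib.Golay

open MulAction

theorem card_of_sharp {G α : Type*} [Group G] [Finite α] [MulAction G α] (k : ℕ)
    (ht : IsMultiplyPretransitive G α k) (hk : k ≤ Nat.card α)
    (hsharp : ∀ x : Fin k ↪ α, stabilizer G x = ⊥) :
    Nat.card G = (Nat.card α).descFactorial k := by
  classical
  haveI : Fintype α := Fintype.ofFinite α
  have hcard : Nat.card (Fin k ↪ α) = (Nat.card α).descFactorial k := by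
    rw [Nat.card_eq_fintype_card, Fintype.card_embedding_eq, Fintype.card_fin,
      Nat.card_eq_fintype_card]
  rw [Nat.card_eq_fintype_card] at hk
  obtain ⟨x⟩ := Function.Embedding.nonempty_of_card_le
    (α := Fin k) (β := α) (by rwa [Fintype.card_fin])
  haveI : IsPretransitive G (Fin k ↪ α) := ht
  rw [← hcard, ← index_stabilizer_of_transitive G x, hsharp x, Subgroup.index_bot]

/-- A faithful 2-transitive group of degree 11 and order 7920 is simple. -/
theorem isSimple_7920 {G Ω : Type*} [Group G] [Finite G] [Finite Ω] [MulAction G Ω]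
    [FaithfulSMul G Ω] (h2 : IsMultiplyPretransitive G Ω 2) (hn : Nat.card Ω = 11)
    (hG : Nat.card G = 7920) : IsSimpleGroup G := by
  classical
  haveI : Fintype Ω := Fintype.ofFinite Ω
  haveI : Fact (Nat.Prime 11) := ⟨by norm_num⟩
  haveI : IsPreprimitive G Ω := isPreprimitive_of_is_two_pretransitive h2
  haveI : Nontrivial G := Finite.one_lt_card_iff_nontrivial.1 (by omega)
  have htr : ∀ N : Subgroup G, N.Normal → N ≠ ⊥ → 11 ∣ Nat.card N := by
    intro N hN hne
    haveI := hN
    haveI := normal_transitive (Ω := Ω) hne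
    obtain ⟨a⟩ : Nonempty Ω := Finite.card_pos_iff.1 (by omega)
    rw [← (stabilizer N a).index_mul_card, index_stabilizer_of_transitive, hn]
    exact dvd_mul_right _ _
  have hR : ∀ P : Sylow 11 G, Nat.card (Subgroup.normalizer ((P : Subgroup G) : Set G)) = 55 := by
    intro P
    have hP : Nat.card P = 11 := by
      rw [CfsgLib.SmallGroups.card_sylow_eq (a := 1) (m := 720) (by rw [hG]; norm_num) (by norm_num) P]
      norm_num
    have hinj : Function.Injective (toPermHom G Ω) := MulAction.toPerm_injective
    let e : G ≃* (toPermHom G Ω).range := MonoidHom.ofInjective hinj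
    have hd : Nat.card (Subgroup.normalizer ((P : Subgroup G) : Set G)) ∣ 110 := by
      have h := CfsgLib.SmallGroups.card_normalizer_dvd_perm (p := 11)
        (α := Ω) (by rw [← Nat.card_eq_fintype_card, hn]; norm_num)
        (P := (P : Subgroup G).map e.toMonoidHom)
        ((Subgroup.card_map_of_injective e.injective).trans hP)
      rw [← Nat.card_eq_fintype_card, hn] at h
      rw [← Subgroup.map_equiv_normalizer_eq, Subgroup.card_map_of_injective (f := e.toMonoidHom) e.injective] at h
      simpa using h
    have h11 : 11 ∣ Nat.card (Subgroup.normalizer ((P : Subgroup G) : Set G)) :=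
      (dvd_of_eq hP.symm).trans (Subgroup.card_dvd_of_le Subgroup.le_normalizer)
    have hmul := CfsgLib.SmallGroups.card_sylow_mul_card_normalizer P
    have hmod := CfsgLib.SmallGroups.mod_eq_one_card_sylow (p := 11) (G := G)
    rw [hG] at hmul
    obtain ⟨d, hd'⟩ := h11
    rw [hd'] at hd hmul ⊢
    have : d ∣ 10 := Nat.dvd_of_mul_dvd_mul_left (k := 11) (by norm_num) (by simpa using hd)
    have : d ≤ 10 := Nat.le_of_dvd (by norm_num) this
    interval_cases d <;> omega
  refine ⟨fun N hN => ?_⟩
  by_cases hne : N = ⊥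
  · exact Or.inl hne
  refine Or.inr ?_
  by_contra htop
  have h11N := htr N hN hne
  obtain ⟨Q⟩ : Nonempty (Sylow 11 N) := inferInstance
  have hQ : Nat.card Q = 11 := by
    rw [Sylow.card_eq_multiplicity]
    have h1 : 1 ≤ (Nat.card N).factorization 11 :=
      ((by norm_num : Nat.Prime 11).dvd_iff_one_le_factorization Nat.card_pos.ne').1 h11N
    have h2' : (Nat.card N).factorization 11 < 2 := by
      by_contra h
      have := ((pow_dvd_pow 11 (not_lt.1 h)).trans ((Nat.ordProj_dvd _ _).trans
        N.card_subgroup_dvd_card))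
      rw [hG] at this
      norm_num at this
    rw [show (Nat.card N).factorization 11 = 1 by omega, pow_one]
  obtain ⟨P, hPQ⟩ : ∃ P : Sylow 11 G, (P : Subgroup G) = (Q : Subgroup N).map N.subtype := by
    have hmap : Nat.card ((Q : Subgroup N).map N.subtype) = 11 :=
      (Subgroup.card_map_of_injective N.subtype_injective).trans hQ
    have hpg : IsPGroup 11 ((Q : Subgroup N).map N.subtype) :=
      IsPGroup.of_card (n := 1) (hmap.trans (pow_one 11).symm)
    have hidx : ¬ 11 ∣ ((Q : Subgroup N).map N.subtype).index := by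
      intro h
      have := Subgroup.index_mul_card ((Q : Subgroup N).map N.subtype)
      rw [hmap, hG] at this
      omega
    exact ⟨hpg.toSylow hidx, rfl⟩
  set R := Subgroup.normalizer ((P : Subgroup G) : Set G) with hRdef
  have hsup : R ⊔ N = ⊤ := by
    rw [hRdef, hPQ]; exact Sylow.normalizer_sup_eq_top Q
  have hRN : ¬ R ≤ N := fun h => htop (by rw [← hsup, sup_eq_right.2 h])
  have hPN : (P : Subgroup G) ≤ N := hPQ ▸ Subgroup.map_subtype_le _
  have hinter : Nat.card (R ⊓ N : Subgroup G) = 11 := by
    have h1 : Nat.card (R ⊓ N : Subgroup G) ∣ 55 := hR P ▸ Subgroup.card_dvd_of_le inf_le_left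
    have h2' : 11 ∣ Nat.card (R ⊓ N : Subgroup G) := by
      have hP : Nat.card (P : Subgroup G) = 11 := by
        rw [hPQ]; exact (Subgroup.card_map_of_injective N.subtype_injective).trans hQ
      rw [← hP]
      exact Subgroup.card_dvd_of_le (le_inf Subgroup.le_normalizer hPN)
    have h3 : Nat.card (R ⊓ N : Subgroup G) ≠ 55 := fun h => by
      have := Subgroup.eq_of_le_of_card_ge (inf_le_left : R ⊓ N ≤ R) (by rw [h, hR P])
      exact hRN (this.ge.trans inf_le_right)
    obtain ⟨d, hd⟩ := h2'
    rw [hd] at h1 h3 ⊢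
    have : d ∣ 5 := Nat.dvd_of_mul_dvd_mul_left (k := 11) (by norm_num) (by simpa using h1)
    have : d ≤ 5 := Nat.le_of_dvd (by norm_num) this
    interval_cases d <;> omega
  have hnorm : Subgroup.normalizer ((Q : Subgroup N) : Set N) = (Q : Subgroup N) := by
    refine (Subgroup.eq_of_le_of_card_ge Subgroup.le_normalizer ?_).symm
    rw [← Subgroup.card_map_of_injective N.subtype_injective]
    refine le_trans ?_ (hinter.le.trans hQ.ge)
    refine Subgroup.card_le_of_le (le_inf ?_ (Subgroup.map_subtype_le _))
    rw [hRdef, hPQ]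
    exact Subgroup.le_normalizer_map _
  haveI : IsCyclic Q := isCyclic_of_prime_card hQ
  have hcen : Subgroup.normalizer ((Q : Subgroup N) : Set N) ≤
      Subgroup.centralizer ((Q : Subgroup N) : Set N) := by
    rw [hnorm]
    intro x hx
    refine Subgroup.mem_centralizer_iff.2 fun y hy => ?_
    letI : CommGroup Q := IsCyclic.commGroup
    exact congrArg Subtype.val (mul_comm (⟨y, hy⟩ : Q) ⟨x, hx⟩)
  set K := (MonoidHom.transferSylow Q hcen).ker with hK
  have hcompl := MonoidHom.ker_transferSylow_isComplement' Q hcen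
  have hKcard : Nat.card K * 11 = Nat.card N := by
    rw [← hQ]; exact hcompl.card_mul
  have hKcop : ¬ 11 ∣ Nat.card K := by
    intro h
    have h' : 11 * 11 ∣ Nat.card G :=
      (hKcard ▸ Nat.mul_dvd_mul_right h 11).trans N.card_subgroup_dvd_card
    rw [hG] at h'
    norm_num at h'
  have hKmem : ∀ x : N, x ∈ K ↔ x ^ Nat.card K = 1 := by
    intro x
    constructor
    · intro hx
      exact congrArg Subtype.val (pow_card_eq_one' (x := (⟨x, hx⟩ : K)))
    · intro hx
      rw [hK, MonoidHom.mem_ker]
      have h1 : (MonoidHom.transferSylow Q hcen x) ^ Nat.card K = 1 := by rw [← map_pow, hx, map_one]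
      have h2' : (MonoidHom.transferSylow Q hcen x) ^ 11 = 1 :=
        orderOf_dvd_iff_pow_eq_one.1 ((orderOf_dvd_natCard _).trans (dvd_of_eq hQ))
      have := pow_gcd_eq_one.2 ⟨h1, h2'⟩
      rwa [Nat.Coprime.gcd_eq_one, pow_one] at this
      exact Nat.Coprime.symm (((by norm_num : Nat.Prime 11).coprime_iff_not_dvd).2 hKcop)
  have hKN : (K.map N.subtype).Normal := by
    refine ⟨fun x hx g => ?_⟩
    obtain ⟨y, hy, rfl⟩ := hx
    refine ⟨⟨g * (y : G) * g⁻¹, hN.conj_mem _ y.2 g⟩, ?_, rfl⟩
    refine (hKmem _).2 (Subtype.ext ?_)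
    rw [SubgroupClass.coe_pow, conj_pow]
    have := congrArg Subtype.val ((hKmem y).1 hy)
    rw [SubgroupClass.coe_pow] at this
    rw [this]
    simp
  by_cases hK1 : K.map N.subtype = ⊥
  · rw [Subgroup.map_eq_bot_iff_of_injective _ N.subtype_injective] at hK1
    rw [hK1, Subgroup.card_bot, one_mul] at hKcard
    have hNP : N = (P : Subgroup G) := by
      refine (Subgroup.eq_of_le_of_card_ge hPN ?_).symm
      rw [← hKcard, hPQ]
      exact ((Subgroup.card_map_of_injective N.subtype_injective).trans hQ).ge
    have hall : R = ⊤ := by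
      rw [hRdef, ← hNP, Subgroup.normalizer_eq_top]
    have := hR P
    rw [← hRdef, hall, Subgroup.card_top, hG] at this
    norm_num at this
  · refine hKcop ?_
    rw [← Subgroup.card_map_of_injective (K := K) N.subtype_injective]
    exact htr _ hKN hK1

/-- A faithful sharply 5-transitive group of degree 12 is simple of order 95040. -/
theorem isSimple_sharp12 {G Ω : Type*} [Group G] [Finite G] [Finite Ω] [MulAction G Ω]
    [FaithfulSMul G Ω] (h5 : IsMultiplyPretransitive G Ω 5) (hn : Nat.card Ω = 12)
    (hsharp : ∀ x : Fin 5 ↪ Ω, stabilizer G x = ⊥) :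
    IsSimpleGroup G ∧ Nat.card G = 95040 := by
  have hcard : Nat.card G = 95040 := by
    rw [card_of_sharp 5 h5 (by omega) hsharp, hn]
    decide
  refine ⟨?_, hcard⟩
  haveI := h5
  have h2 : IsMultiplyPretransitive G Ω 2 := isMultiplyPretransitive_of_le (n := 5) (by omega) (by omega)
  have h3 : IsMultiplyPretransitive G Ω 3 := isMultiplyPretransitive_of_le (n := 5) (by omega) (by omega)
  haveI := h2
  haveI : IsPretransitive G Ω := isPretransitive_of_is_two_pretransitive
  obtain ⟨a⟩ : Nonempty Ω := Finite.card_pos_iff.1 (by omega)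
  refine isSimpleGroup_of_stabilizer h2 a ?_ (p := 2) (q := 3) (by norm_num) (by norm_num)
    (by norm_num) (by rw [hn]; norm_num) (by rw [hn]; norm_num)
  have hH : Nat.card (stabilizer G a) = 7920 := by
    have := (stabilizer G a).index_mul_card
    rw [index_stabilizer_of_transitive, hn, hcard] at this
    omega
  haveI : FaithfulSMul (stabilizer G a) (SubMulAction.ofStabilizer G a) := by
    refine ⟨fun {g h} hgh => Subtype.ext (FaithfulSMul.eq_of_smul_eq_smul (α := Ω) fun b => ?_)⟩
    by_cases hb : b = a
    · subst hb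
      exact g.2.trans h.2.symm
    · exact congrArg Subtype.val (hgh ⟨b, hb⟩)
  refine isSimple_7920 (Ω := SubMulAction.ofStabilizer G a) ?_ ?_ hH
  · exact (SubMulAction.ofStabilizer.isMultiplyPretransitive (a := a)).1 h3
  · rw [SubMulAction.nat_card_ofStabilizer_eq, hn]

end CfsgLib.Golay
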