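import Mathlib
import Cfsg.Prelude.Def_Sporadic_a

/-!
Transport of automorphism groups of set systems along a relabelling of the points.
-/

set_option autoImplicit false

namespace CfsgLib.Golay

open Cfsg

open scoped Pointwise

variable {α β : Type*} [DecidableEq α] [DecidableEq β]

theorem perm_smul_finset (g : Equiv.Perm α) (b : Finset α) : g • b = b.image g := rfl

theorem mem_setSystemAut_iff [Finite α] {g : Equiv.Perm α} {B : Set (Finset α)} :
    g ∈ setSystemAut B ↔ ∀ b ∈ B, b.image g ∈ B := by
  haveI := Fintype.ofFinite α
  rw [MulAction.mem_stabilizer_iff]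
  constructor
  · intro h b hb
    rw [← h]
    exact ⟨b, hb, rfl⟩
  · intro h
    refine Set.eq_of_subset_of_ncard_le ?_ ?_ (Set.toFinite _)
    · rintro _ ⟨b, hb, rfl⟩
      exact h b hb
    · rw [Set.ncard_smul_set]

theorem image_conj (e : α ≃ β) (g : Equiv.Perm α) (b : Finset α) :
    (b.image e).image (e.permCongr g) = (b.image g).image e := by
  rw [Finset.image_image, Finset.image_image]
  congr 1
  funext x
  simp

theorem map_setSystemAut [Finite α] (e : α ≃ β) (B : Set (Finset α)) :
    (setSystemAut B).map e.permCongrHom.toMonoidHom = setSystemAut ((fun b => b.image e) '' B) := by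
  haveI : Finite β := Finite.of_equiv α e
  ext g
  rw [Subgroup.mem_map]
  constructor
  · rintro ⟨h, hh, rfl⟩
    rw [mem_setSystemAut_iff] at hh ⊢
    rintro _ ⟨b, hb, rfl⟩
    exact ⟨b.image h, hh b hb, (image_conj e h b).symm⟩
  · intro hg
    rw [mem_setSystemAut_iff] at hg
    refine ⟨e.symm.permCongr g, ?_, ?_⟩
    · rw [mem_setSystemAut_iff]
      intro b hb
      obtain ⟨c, hc, hce⟩ := hg _ ⟨b, hb, rfl⟩
      have h := image_conj e.symm g (b.image e)
      simp only [Finset.image_image] at h
      have he : (b.image e).image g = c.image e := hce.symm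
      rw [Finset.image_image] at he
      have hb' : b.image (e.symm.permCongr g) = c := by
        apply Finset.image_injective e.injective
        rw [Finset.image_image, ← he]
        congr 1
        funext x
        simp
      rwa [hb']
    · ext x
      simp

/-- Relabelling points identifies the automorphism groups. -/
noncomputable def autEquiv [Finite α] (e : α ≃ β) {B : Set (Finset α)} {B' : Set (Finset β)}
    (h : (fun b => b.image e) '' B = B') : setSystemAut B ≃* setSystemAut B' :=
  (e.permCongrHom.subgroupMap (setSystemAut B)).trans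
    (MulEquiv.subgroupCongr (by rw [← h]; exact map_setSystemAut e B))

theorem autEquiv_apply [Finite α] (e : α ≃ β) {B : Set (Finset α)} {B' : Set (Finset β)}
    (h : (fun b => b.image e) '' B = B') (g : setSystemAut B) (x : α) :
    (autEquiv e h g : Equiv.Perm β) (e x) = e ((g : Equiv.Perm α) x) := by
  simp [autEquiv]

theorem smul_embedding_autEquiv [Finite α] (e : α ≃ β) {B : Set (Finset α)} {B' : Set (Finset β)}
    (h : (fun b => b.image e) '' B = B') {n : ℕ} (g : setSystemAut B) (x : Fin n ↪ α) :
    autEquiv e h g • x.trans e.toEmbedding = (g • x).trans e.toEmbedding := by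
  ext i
  exact autEquiv_apply e h g (x i)

theorem pretransitive_transfer [Finite α] (e : α ≃ β) {B : Set (Finset α)} {B' : Set (Finset β)}
    (h : (fun b => b.image e) '' B = B') {n : ℕ}
    (ht : MulAction.IsMultiplyPretransitive (setSystemAut B') β n) :
    MulAction.IsMultiplyPretransitive (setSystemAut B) α n := by
  refine ⟨fun x y => ?_⟩
  obtain ⟨g, hg⟩ := ht.exists_smul_eq (x.trans e.toEmbedding) (y.trans e.toEmbedding)
  refine ⟨(autEquiv e h).symm g, ?_⟩
  rw [← (autEquiv e h).apply_symm_apply g, smul_embedding_autEquiv] at hg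
  ext i
  exact e.injective (DFunLike.congr_fun hg i)

theorem sharp_transfer [Finite α] (e : α ≃ β) {B : Set (Finset α)} {B' : Set (Finset β)}
    (h : (fun b => b.image e) '' B = B') {n : ℕ}
    (ht : ∀ y : Fin n ↪ β, MulAction.stabilizer (setSystemAut B') y = ⊥) (x : Fin n ↪ α) :
    MulAction.stabilizer (setSystemAut B) x = ⊥ := by
  rw [eq_bot_iff]
  intro g hg
  have h1 : autEquiv e h g ∈ MulAction.stabilizer (setSystemAut B') (x.trans e.toEmbedding) := by
    rw [MulAction.mem_stabilizer_iff]
    refine (smul_embedding_autEquiv e h g x).trans ?_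
    have h2 : g • x = x := hg
    rw [h2]
  rw [ht, Subgroup.mem_bot] at h1
  rw [Subgroup.mem_bot]
  exact (autEquiv e h).injective (by rw [h1, map_one])

end CfsgLib.Golay
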