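import Cfsg.Agent.Lib.Golay.Design

/-!
The block graph and the point-block graph of a Steiner system S(3, 6, 22).
-/

set_option autoImplicit false

namespace CfsgLib.Golay

open Cfsg Finset

variable {α : Type*} [Fintype α] [DecidableEq α] {B : Set (Finset α)}

theorem s22_inter (hα : Fintype.card α = 22) (hB : IsSteinerSystem 3 6 B) {b c : Finset α}
    (hb : b ∈ B) (hc : c ∈ B) (hbc : b ≠ c) : (b ∩ c).card = 0 ∨ (b ∩ c).card = 2 := by
  obtain ⟨h0, h1, h2⟩ := inter_S3622 hα hB hb
  have hp := interCount_pos (b := b) hc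
  have hlt : (b ∩ c).card < 3 := by
    by_contra h
    exact hbc (steiner_two_blocks hB hb hc (by omega))
  interval_cases h : (b ∩ c).card <;> omega

theorem s22_count (hα : Fintype.card α = 22) (hB : IsSteinerSystem 3 6 B) :
    B.ncard = 77 := by
  have := blocks_total hB
  rw [hα] at this
  have h1 : Nat.choose 6 3 = 20 := rfl
  have h2 : Nat.choose 22 3 = 1540 := rfl
  rw [h1, h2] at this
  omega

theorem card_inter_union (a b c : Finset α) :
    ((b ∪ c) ∩ a).card + (b ∩ a ∩ (c ∩ a)).card = (b ∩ a).card + (c ∩ a).card := by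
  rw [Finset.union_inter_distrib_right]
  exact Finset.card_union_add_card_inter _ _

theorem s22_union_values (hα : Fintype.card α = 22) (hB : IsSteinerSystem 3 6 B) {a b c : Finset α}
    (ha : a ∈ B) (hb : b ∈ B) (hc : c ∈ B) :
    ((b ∪ c) ∩ a).card = 6 ∧ (a = b ∨ a = c) ∨
      a ≠ b ∧ a ≠ c ∧ ((b ∪ c) ∩ a).card ≤ 4 ∧
        (((b ∪ c) ∩ a).card = 3 → (b ∩ c).card ≠ 0) ∧ ((b ∪ c) ∩ a).card ≠ 1 := by
  by_cases hab : a = b
  · left; subst hab
    refine ⟨?_, Or.inl rfl⟩
    rw [Finset.inter_eq_right.2 Finset.subset_union_left, hB.1 a ha]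
  by_cases hac : a = c
  · left; subst hac
    refine ⟨?_, Or.inr rfl⟩
    rw [Finset.inter_eq_right.2 Finset.subset_union_right, hB.1 a ha]
  right
  have e := card_inter_union a b c
  have h1 := s22_inter hα hB hb ha (Ne.symm hab)
  have h2 := s22_inter hα hB hc ha (Ne.symm hac)
  have h3 := Finset.card_le_card (Finset.inter_subset_left : b ∩ a ∩ (c ∩ a) ⊆ b ∩ a)
  have h4 := Finset.card_le_card (Finset.inter_subset_right : b ∩ a ∩ (c ∩ a) ⊆ c ∩ a)
  refine ⟨hab, hac, by omega, fun h5 h6 => ?_, by omega⟩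
  have : (b ∩ a ∩ (c ∩ a)).card ≤ (b ∩ c).card := Finset.card_le_card (by
    intro x hx; simp only [Finset.mem_inter] at hx ⊢; exact ⟨hx.1.1, hx.2.1⟩)
  omega

/-- Blocks disjoint from two given blocks. -/
theorem s22_disjoint_two (hα : Fintype.card α = 22) (hB : IsSteinerSystem 3 6 B) {b c : Finset α}
    (hb : b ∈ B) (hc : c ∈ B) (hbc : b ≠ c) :
    interCount B (b ∪ c) 0 = if (b ∩ c).card = 0 then 0 else 4 := by
  have hv := fun a (ha : a ∈ B) => s22_union_values hα hB ha hb hc
  have hzero : ∀ i, (∀ a ∈ B, ((b ∪ c) ∩ a).card ≠ i) → interCount B (b ∪ c) i = 0 := by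
    intro i h
    rw [interCount, Finset.card_eq_zero, Finset.filter_eq_empty_iff]
    exact fun a ha => h a (mem_blockFinset.1 ha)
  have h6 : interCount B (b ∪ c) 6 = 2 := by
    rw [interCount, Finset.card_eq_two]
    refine ⟨b, c, hbc, ?_⟩
    ext a
    simp only [Finset.mem_filter, mem_blockFinset, Finset.mem_insert, Finset.mem_singleton]
    constructor
    · rintro ⟨ha, h⟩
      rcases hv a ha with h' | h'
      · exact h'.2
      · omega
    · rintro (rfl | rfl)
      · exact ⟨hb, by rw [Finset.inter_eq_right.2 Finset.subset_union_left, hB.1 a hb]⟩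
      · exact ⟨hc, by rw [Finset.inter_eq_right.2 Finset.subset_union_right, hB.1 a hc]⟩
  have hbig : ∀ i, i = 5 ∨ 7 ≤ i → interCount B (b ∪ c) i = 0 := fun i hi => hzero i fun a ha => by
    rcases hv a ha with h | h <;> omega
  have h1 : interCount B (b ∪ c) 1 = 0 := hzero 1 fun a ha => by
    rcases hv a ha with h | h <;> omega
  have hu := Finset.card_union_add_card_inter b c
  rw [hB.1 b hb, hB.1 c hc] at hu
  have e : ∀ j l, j ≤ 3 → l * (6 - j).choose (3 - j) = (22 - j).choose (3 - j) →
      ∑ i ∈ Finset.range ((b ∪ c).card + 1), i.choose j * interCount B (b ∪ c) i =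
        (b ∪ c).card.choose j * l := by
    intro j l hj hl
    exact interCount_sum hB _ hj (hα ▸ hl) (Nat.choose_pos (by omega))
  have e0 := e 0 77 (by omega) (by decide)
  have e1 := e 1 21 (by omega) (by decide)
  have e2 := e 2 5 (by omega) (by decide)
  have e3 := e 3 1 (by omega) (by decide)
  have h5 := hbig 5 (Or.inl rfl)
  have h7 := hbig 7 (by omega)
  have h8 := hbig 8 (by omega)
  have h9 := hbig 9 (by omega)
  have h10 := hbig 10 (by omega)
  rcases s22_inter hα hB hb hc hbc with h | h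
  · rw [if_pos h]
    rw [show (b ∪ c).card = 12 by omega] at e0 e1 e2
    have h3 : interCount B (b ∪ c) 3 = 0 := hzero 3 fun a ha h3' => by
      rcases hv a ha with h' | h'
      · omega
      · exact h'.2.2.2.1 h3' h
    have h11 := hbig 11 (by omega)
    have h12 := hbig 12 (by omega)
    norm_num [Finset.sum_range_succ, h1, h3, h5, h6, h7, h8, h9, h10, h11, h12, Nat.choose]
      at e0 e1 e2
    omega
  · rw [if_neg (by omega)]
    rw [show (b ∪ c).card = 10 by omega] at e0 e1 e2 e3
    norm_num [Finset.sum_range_succ, h1, h5, h6, h7, h8, h9, h10, Nat.choose] at e0 e1 e2 e3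
    omega

theorem interCount_union_zero (b c : Finset α) :
    interCount B (b ∪ c) 0 = {a : Finset α | a ∈ B ∧ Disjoint b a ∧ Disjoint c a}.ncard := by
  rw [interCount_eq_ncard]
  congr 1
  ext a
  simp [Finset.card_eq_zero, ← Finset.disjoint_iff_inter_eq_empty, Finset.disjoint_union_left]

theorem ncard_blockSet (P : Finset α → Prop) :
    {x : B | P x.val}.ncard = {a : Finset α | a ∈ B ∧ P a}.ncard := by
  rw [← Set.ncard_image_of_injective {x : B | P x.val} Subtype.val_injective]
  congr 1
  ext a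
  simp [and_comm]

theorem s22_disjoint_one (hα : Fintype.card α = 22) (hB : IsSteinerSystem 3 6 B) {b : Finset α}
    (hb : b ∈ B) : {a : Finset α | a ∈ B ∧ Disjoint b a}.ncard = 16 := by
  rw [← (inter_S3622 hα hB hb).1, interCount_eq_ncard]
  congr 1
  ext a
  simp [Finset.card_eq_zero, ← Finset.disjoint_iff_inter_eq_empty]

theorem blockGraph_adj (hB : IsSteinerSystem 3 6 B) (b c : B) :
    (blockGraph B).Adj b c ↔ Disjoint (b : Finset α) (c : Finset α) := by
  simp only [blockGraph, SimpleGraph.fromRel_adj]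
  refine ⟨fun h => h.2.elim id fun h' => h'.symm, fun h => ⟨fun he => ?_, Or.inl h⟩⟩
  subst he
  have := hB.1 b b.2
  simp [disjoint_self.1 h] at this

theorem s22_common (hα : Fintype.card α = 22) (hB : IsSteinerSystem 3 6 B) {b c : Finset α}
    (hb : b ∈ B) (hc : c ∈ B) (hbc : b ≠ c) :
    (Disjoint b c → {a : Finset α | a ∈ B ∧ Disjoint b a ∧ Disjoint c a}.ncard = 0) ∧
      (¬ Disjoint b c → {a : Finset α | a ∈ B ∧ Disjoint b a ∧ Disjoint c a}.ncard = 4 ∧
        (b ∩ c).card = 2) := by
  rw [← interCount_union_zero, s22_disjoint_two hα hB hb hc hbc]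
  constructor
  · intro h
    rw [if_pos (by rw [Finset.disjoint_iff_inter_eq_empty.1 h]; rfl)]
  · intro h
    have : (b ∩ c).card ≠ 0 := fun h0 =>
      h (Finset.disjoint_iff_inter_eq_empty.2 (Finset.card_eq_zero.1 h0))
    rw [if_neg this]
    exact ⟨rfl, (s22_inter hα hB hb hc hbc).resolve_left this⟩

/-- Blocks through one point. -/
theorem s22_through_one (hα : Fintype.card α = 22) (hB : IsSteinerSystem 3 6 B) (p : α) :
    {a : Finset α | a ∈ B ∧ p ∈ a}.ncard = 21 := by
  have := blocks_through hB {p} (by simp)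
  rw [hα, Finset.card_singleton] at this
  have h1 : Nat.choose (6 - 1) (3 - 1) = 10 := rfl
  have h2 : Nat.choose (22 - 1) (3 - 1) = 210 := rfl
  rw [h1, h2] at this
  have e : {a : Finset α | a ∈ B ∧ p ∈ a} =
      ↑((blockFinset B).filter (({p} : Finset α) ⊆ ·)) := by
    ext a; simp [mem_blockFinset]
  rw [e, Set.ncard_coe_finset]
  omega

/-- Blocks through two points. -/
theorem s22_through_two (hα : Fintype.card α = 22) (hB : IsSteinerSystem 3 6 B) {p q : α}
    (hpq : p ≠ q) : {a : Finset α | a ∈ B ∧ p ∈ a ∧ q ∈ a}.ncard = 5 := by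
  have := blocks_through hB {p, q} (by rw [Finset.card_pair hpq]; omega)
  rw [hα, Finset.card_pair hpq] at this
  have h1 : Nat.choose (6 - 2) (3 - 2) = 4 := rfl
  have h2 : Nat.choose (22 - 2) (3 - 2) = 20 := rfl
  rw [h1, h2] at this
  have e : {a : Finset α | a ∈ B ∧ p ∈ a ∧ q ∈ a} =
      ↑((blockFinset B).filter (({p, q} : Finset α) ⊆ ·)) := by
    ext a; simp [mem_blockFinset, Finset.insert_subset_iff]
  rw [e, Set.ncard_coe_finset]
  omega

/-- Blocks through a point outside a block and disjoint from it. -/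
theorem s22_point_block (hα : Fintype.card α = 22) (hB : IsSteinerSystem 3 6 B) {p : α}
    {b : Finset α} (hb : b ∈ B) (hp : p ∉ b) :
    {a : Finset α | a ∈ B ∧ p ∈ a ∧ Disjoint b a}.ncard = 6 := by
  set S := (blockFinset B).filter (fun a => p ∈ a) with hS
  have hScard : S.card = 21 := by
    rw [← s22_through_one hα hB p, ← Set.ncard_coe_finset]
    congr 1
    ext a; simp [hS, mem_blockFinset]
  have h1 : ∀ x ∈ b, (S.filter (fun a => x ∈ a)).card = 5 := by
    intro x hx
    have hpx : p ≠ x := fun h => hp (h ▸ hx)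
    rw [← s22_through_two hα hB hpx, ← Set.ncard_coe_finset]
    congr 1
    ext a; simp [hS, mem_blockFinset, and_assoc]
  have h3 := Finset.sum_card_bipartiteAbove_eq_sum_card_bipartiteBelow
    (s := S) (t := b) (fun a x => x ∈ a)
  simp only [Finset.bipartiteAbove, Finset.bipartiteBelow] at h3
  rw [Finset.sum_congr rfl h1, Finset.sum_const, hB.1 b hb, smul_eq_mul] at h3
  have h2 : ∀ a ∈ S, (b.filter (fun x => x ∈ a)).card = if Disjoint b a then 0 else 2 := by
    intro a ha
    simp only [hS, Finset.mem_filter, mem_blockFinset] at ha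
    rw [Finset.filter_mem_eq_inter]
    have hab : b ≠ a := fun h => hp (h ▸ ha.2)
    split
    · next h => rw [Finset.disjoint_iff_inter_eq_empty.1 h]; rfl
    · next h =>
      exact (s22_inter hα hB hb ha.1 hab).resolve_left fun h0 =>
        h (Finset.disjoint_iff_inter_eq_empty.2 (Finset.card_eq_zero.1 h0))
  rw [Finset.sum_congr rfl h2, Finset.sum_ite, Finset.sum_const_zero, zero_add, Finset.sum_const,
    smul_eq_mul] at h3
  have h4 := Finset.card_filter_add_card_filter_not (s := S) (fun a => Disjoint b a)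
  have e : {a : Finset α | a ∈ B ∧ p ∈ a ∧ Disjoint b a} = ↑(S.filter (fun a => Disjoint b a)) := by
    ext a; simp [hS, mem_blockFinset, and_assoc]
  rw [e, Set.ncard_coe_finset]
  omega

theorem ncard_option_sum {β γ : Type*} [Finite β] [Finite γ] (S : Set (Option (β ⊕ γ))) :
    S.ncard = (S ∩ {none}).ncard + {x | some (Sum.inl x) ∈ S}.ncard +
      {y | some (Sum.inr y) ∈ S}.ncard := by
  have e : S = (S ∩ {none}) ∪ (fun x => some (Sum.inl x)) '' {x | some (Sum.inl x) ∈ S} ∪
      (fun y => some (Sum.inr y)) '' {y | some (Sum.inr y) ∈ S} := by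
    ext v; rcases v with _ | x | y <;> simp
  conv_lhs => rw [e]
  rw [Set.ncard_union_eq, Set.ncard_union_eq,
    Set.ncard_image_of_injective _ (fun a b h => by simpa using h),
    Set.ncard_image_of_injective _ (fun a b h => by simpa using h)]
  · rw [Set.disjoint_left]
    rintro v ⟨-, rfl⟩ ⟨x, -, hx⟩
    simp at hx
  · rw [Set.disjoint_left]
    rintro v (⟨-, rfl⟩ | ⟨x, -, rfl⟩) ⟨y, -, hy⟩ <;> simp at hy

theorem pbg_none_left (v : Option (α ⊕ B)) :
    (pointBlockGraph B).Adj none v ↔ ∃ x, v = some (Sum.inl x) := by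
  rcases v with _ | x | y <;> simp [pointBlockGraph, pointBlockRel]

theorem pbg_point_left (p : α) (v : Option (α ⊕ B)) :
    (pointBlockGraph B).Adj (some (Sum.inl p)) v ↔
      v = none ∨ ∃ b : B, p ∈ b.val ∧ v = some (Sum.inr b) := by
  rcases v with _ | x | y <;> simp [pointBlockGraph, pointBlockRel]

theorem pbg_block_left (hB : IsSteinerSystem 3 6 B) (b : B) (v : Option (α ⊕ B)) :
    (pointBlockGraph B).Adj (some (Sum.inr b)) v ↔
      (∃ x ∈ b.val, v = some (Sum.inl x)) ∨
        ∃ c : B, Disjoint b.val c.val ∧ v = some (Sum.inr c) := by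
  rcases v with _ | x | y <;> simp [pointBlockGraph, pointBlockRel]
  constructor
  · rintro ⟨-, h | h⟩
    exacts [h, h.symm]
  · intro h
    refine ⟨fun he => ?_, Or.inl h⟩
    subst he
    have := hB.1 b b.2
    simp [disjoint_self.1 h] at this

end CfsgLib.Golay
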