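import Cfsg.Prelude.Def_Sporadic_a

/-!
Counting in Steiner systems: numbers of blocks through a set and intersection numbers.
-/

set_option autoImplicit false

namespace CfsgLib.Golay

open Cfsg Finset

variable {α : Type*}

theorem card_powersetCard_superset [DecidableEq α] {s u : Finset α} (hsu : s ⊆ u) {t : ℕ}
    (hst : s.card ≤ t) :
    ((u.powersetCard t).filter (s ⊆ ·)).card = (u.card - s.card).choose (t - s.card) := by
  rw [← Finset.card_sdiff_of_subset hsu, ← Finset.card_powersetCard]
  refine Finset.card_nbij' (· \ s) (s ∪ ·) ?_ ?_ ?_ ?_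
  · intro T hT
    simp only [Finset.coe_filter, Finset.mem_powersetCard, Set.mem_ofPred_eq] at hT
    simp only [Finset.mem_coe, Finset.mem_powersetCard]
    exact ⟨Finset.sdiff_subset_sdiff hT.1.1 subset_rfl,
      by rw [Finset.card_sdiff_of_subset hT.2, hT.1.2]⟩
  · intro T hT
    simp only [Finset.mem_coe, Finset.mem_powersetCard] at hT
    simp only [Finset.coe_filter, Finset.mem_powersetCard, Set.mem_ofPred_eq]
    refine ⟨⟨Finset.union_subset hsu (hT.1.trans Finset.sdiff_subset), ?_⟩, Finset.subset_union_left⟩
    rw [Finset.card_union_of_disjoint (Finset.disjoint_sdiff.mono_right hT.1), hT.2]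
    omega
  · intro T hT
    simp only [Finset.coe_filter, Set.mem_ofPred_eq] at hT
    exact Finset.union_sdiff_of_subset hT.2
  · intro T hT
    simp only [Finset.mem_coe, Finset.mem_powersetCard] at hT
    exact Finset.union_sdiff_cancel_left (Finset.disjoint_sdiff.mono_right hT.1)

/-- The blocks of a family, as a finset. -/
noncomputable def blockFinset [Fintype α] (B : Set (Finset α)) : Finset (Finset α) :=
  B.toFinite.toFinset

theorem mem_blockFinset [Fintype α] {B : Set (Finset α)} {b : Finset α} :
    b ∈ blockFinset B ↔ b ∈ B := Set.Finite.mem_toFinset _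

theorem card_blockFinset [Fintype α] (B : Set (Finset α)) : (blockFinset B).card = B.ncard :=
  (Set.ncard_eq_toFinset_card B _).symm

variable [Fintype α] [DecidableEq α]

theorem steiner_two_blocks {t k : ℕ} {B : Set (Finset α)} (hB : IsSteinerSystem t k B)
    {b c : Finset α} (hb : b ∈ B) (hc : c ∈ B) (h : t ≤ (b ∩ c).card) : b = c := by
  obtain ⟨s, hs, hst⟩ := Finset.exists_subset_card_eq h
  exact (hB.2 s hst).unique ⟨hb, hs.trans Finset.inter_subset_left⟩
    ⟨hc, hs.trans Finset.inter_subset_right⟩

/-- The number of blocks through a set of at most `t` points. -/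
theorem blocks_through {t k : ℕ} {B : Set (Finset α)} (hB : IsSteinerSystem t k B)
    (s : Finset α) (hs : s.card ≤ t) :
    ((blockFinset B).filter (s ⊆ ·)).card * (k - s.card).choose (t - s.card) =
      (Fintype.card α - s.card).choose (t - s.card) := by
  set R := ((Finset.univ : Finset α).powersetCard t).filter (s ⊆ ·) with hR
  have hRc : R.card = (Fintype.card α - s.card).choose (t - s.card) := by
    rw [hR, card_powersetCard_superset (Finset.subset_univ s) hs, Finset.card_univ]
  have h1 : ∀ T ∈ R, (((blockFinset B).filter (s ⊆ ·)).filter (T ⊆ ·)).card = 1 := by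
    intro T hT
    simp only [hR, Finset.mem_filter, Finset.mem_powersetCard] at hT
    obtain ⟨b, hb, hu⟩ := hB.2 T hT.1.2
    rw [Finset.card_eq_one]
    refine ⟨b, ?_⟩
    ext c
    simp only [Finset.mem_filter, mem_blockFinset, Finset.mem_singleton]
    refine ⟨fun h => hu c ⟨h.1.1, h.2⟩, ?_⟩
    rintro rfl
    exact ⟨⟨hb.1, hT.2.trans hb.2⟩, hb.2⟩
  have h2 : ∀ c ∈ (blockFinset B).filter (s ⊆ ·),
      (R.filter (· ⊆ c)).card = (k - s.card).choose (t - s.card) := by
    intro c hc
    simp only [Finset.mem_filter, mem_blockFinset] at hc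
    rw [← hB.1 c hc.1, ← card_powersetCard_superset hc.2 hs]
    congr 1
    ext T
    simp only [hR, Finset.mem_filter, Finset.mem_powersetCard, Finset.subset_univ, true_and]
    tauto
  have h3 := Finset.sum_card_bipartiteAbove_eq_sum_card_bipartiteBelow
    (s := (blockFinset B).filter (s ⊆ ·)) (t := R) (fun c T => T ⊆ c)
  simp only [Finset.bipartiteAbove, Finset.bipartiteBelow] at h3
  rw [Finset.sum_congr rfl h2, Finset.sum_congr rfl h1] at h3
  simpa [hRc] using h3

/-- The number of blocks of a Steiner system. -/
theorem blocks_total {t k : ℕ} {B : Set (Finset α)} (hB : IsSteinerSystem t k B) :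
    B.ncard * k.choose t = (Fintype.card α).choose t := by
  have := blocks_through hB ∅ (by simp)
  simpa [Finset.filter_true_of_mem, card_blockFinset] using this

/-- The number of blocks meeting a fixed set in exactly `i` points. -/
noncomputable def interCount (B : Set (Finset α)) (b : Finset α) (i : ℕ) : ℕ :=
  ((blockFinset B).filter fun c => (b ∩ c).card = i).card

theorem interCount_eq_ncard (B : Set (Finset α)) (b : Finset α) (i : ℕ) :
    interCount B b i = {c : Finset α | c ∈ B ∧ (b ∩ c).card = i}.ncard := by
  rw [interCount, ← Set.ncard_coe_finset]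
  congr 1
  ext c
  simp [mem_blockFinset]

/-- The weighted sum of intersection numbers. -/
theorem interCount_sum {t k : ℕ} {B : Set (Finset α)} (hB : IsSteinerSystem t k B)
    (b : Finset α) {j l : ℕ} (hj : j ≤ t)
    (hl : l * (k - j).choose (t - j) = (Fintype.card α - j).choose (t - j))
    (hpos : 0 < (k - j).choose (t - j)) :
    ∑ i ∈ Finset.range (b.card + 1), i.choose j * interCount B b i = b.card.choose j * l := by
  have h1 : ∀ s ∈ b.powersetCard j, ((blockFinset B).filter (s ⊆ ·)).card = l := by
    intro s hs
    have hsc := (Finset.mem_powersetCard.1 hs).2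
    have := blocks_through hB s (hsc ▸ hj)
    rw [hsc, ← hl] at this
    exact Nat.eq_of_mul_eq_mul_right hpos this
  have h2 : ∀ c ∈ blockFinset B,
      ((b.powersetCard j).filter (· ⊆ c)).card = (b ∩ c).card.choose j := by
    intro c _
    rw [← Finset.card_powersetCard]
    congr 1
    ext s
    simp only [Finset.mem_filter, Finset.mem_powersetCard, Finset.subset_inter_iff]
    tauto
  have h3 := Finset.sum_card_bipartiteAbove_eq_sum_card_bipartiteBelow
    (s := blockFinset B) (t := b.powersetCard j) (fun c s => s ⊆ c)
  simp only [Finset.bipartiteAbove, Finset.bipartiteBelow] at h3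
  rw [Finset.sum_congr rfl h2, Finset.sum_congr rfl h1, Finset.sum_const, Finset.card_powersetCard,
    smul_eq_mul] at h3
  rw [← h3, ← Finset.sum_fiberwise_of_maps_to (t := Finset.range (b.card + 1))
    (g := fun c => (b ∩ c).card)]
  · refine Finset.sum_congr rfl fun i _ => ?_
    rw [Finset.sum_congr rfl fun c hc => by rw [(Finset.mem_filter.1 hc).2],
      Finset.sum_const, smul_eq_mul, interCount, mul_comm]
  · intro c _
    simp only [Finset.mem_coe, Finset.mem_range]
    have := Finset.card_le_card (Finset.inter_subset_left : b ∩ c ⊆ b)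
    omega

theorem interCount_block_self {t k : ℕ} {B : Set (Finset α)} (hB : IsSteinerSystem t k B)
    (htk : t ≤ k) {b : Finset α} (hb : b ∈ B) : interCount B b k = 1 := by
  rw [interCount, Finset.card_eq_one]
  refine ⟨b, ?_⟩
  ext c
  simp only [Finset.mem_filter, mem_blockFinset, Finset.mem_singleton]
  refine ⟨fun h => (steiner_two_blocks hB hb h.1 (h.2 ▸ htk)).symm, ?_⟩
  rintro rfl
  exact ⟨hb, by rw [Finset.inter_self, hB.1 c hb]⟩

theorem interCount_large {t k : ℕ} {B : Set (Finset α)} (hB : IsSteinerSystem t k B)
    {b : Finset α} (hb : b ∈ B) {i : ℕ} (h1 : t ≤ i) (h2 : i ≠ k) : interCount B b i = 0 := by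
  rw [interCount, Finset.card_eq_zero, Finset.filter_eq_empty_iff]
  intro c hc h
  obtain rfl := steiner_two_blocks hB hb (mem_blockFinset.1 hc) (h ▸ h1)
  rw [Finset.inter_self, hB.1 b hb] at h
  exact h2 h.symm

theorem interCount_pos {B : Set (Finset α)} {b c : Finset α} (hc : c ∈ B) :
    0 < interCount B b (b ∩ c).card := by
  rw [interCount, Finset.card_pos]
  exact ⟨c, by simp [mem_blockFinset, hc]⟩

/-- Intersection numbers of a Steiner system S(5, 8, 24). -/
theorem inter_S5824 (hα : Fintype.card α = 24) {B : Set (Finset α)}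
    (hB : IsSteinerSystem 5 8 B) {b : Finset α} (hb : b ∈ B) :
    interCount B b 0 = 30 ∧ interCount B b 1 = 0 ∧ interCount B b 2 = 448 ∧
      interCount B b 3 = 0 ∧ interCount B b 4 = 280 := by
  have hbc : b.card = 8 := hB.1 b hb
  have e : ∀ j l, j ≤ 5 → l * (8 - j).choose (5 - j) = (24 - j).choose (5 - j) →
      ∑ i ∈ Finset.range 9, i.choose j * interCount B b i = Nat.choose 8 j * l := by
    intro j l hj hl
    have := interCount_sum hB b hj (hα ▸ hl) (Nat.choose_pos (by omega))
    rwa [hbc] at this
  have h0 := e 0 759 (by omega) (by decide)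
  have h1 := e 1 253 (by omega) (by decide)
  have h2 := e 2 77 (by omega) (by decide)
  have h3 := e 3 21 (by omega) (by decide)
  have h4 := e 4 5 (by omega) (by decide)
  have h5 := interCount_large hB hb (i := 5) (by omega) (by omega)
  have h6 := interCount_large hB hb (i := 6) (by omega) (by omega)
  have h7 := interCount_large hB hb (i := 7) (by omega) (by omega)
  have h8 := interCount_block_self hB (by omega) hb
  norm_num [Finset.sum_range_succ, h5, h6, h7, h8, Nat.choose] at h0 h1 h2 h3 h4
  omega

/-- Intersection numbers of a Steiner system S(4, 7, 23). -/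
theorem inter_S4723 (hα : Fintype.card α = 23) {B : Set (Finset α)}
    (hB : IsSteinerSystem 4 7 B) {b : Finset α} (hb : b ∈ B) :
    interCount B b 0 = 0 ∧ interCount B b 1 = 112 ∧ interCount B b 2 = 0 ∧
      interCount B b 3 = 140 := by
  have hbc : b.card = 7 := hB.1 b hb
  have e : ∀ j l, j ≤ 4 → l * (7 - j).choose (4 - j) = (23 - j).choose (4 - j) →
      ∑ i ∈ Finset.range 8, i.choose j * interCount B b i = Nat.choose 7 j * l := by
    intro j l hj hl
    have := interCount_sum hB b hj (hα ▸ hl) (Nat.choose_pos (by omega))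
    rwa [hbc] at this
  have h0 := e 0 253 (by omega) (by decide)
  have h1 := e 1 77 (by omega) (by decide)
  have h2 := e 2 21 (by omega) (by decide)
  have h3 := e 3 5 (by omega) (by decide)
  have h4 := interCount_large hB hb (i := 4) (by omega) (by omega)
  have h5 := interCount_large hB hb (i := 5) (by omega) (by omega)
  have h6 := interCount_large hB hb (i := 6) (by omega) (by omega)
  have h7 := interCount_block_self hB (by omega) hb
  norm_num [Finset.sum_range_succ, h4, h5, h6, h7, Nat.choose] at h0 h1 h2 h3
  omega

/-- Intersection numbers of a Steiner system S(3, 6, 22). -/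
theorem inter_S3622 (hα : Fintype.card α = 22) {B : Set (Finset α)}
    (hB : IsSteinerSystem 3 6 B) {b : Finset α} (hb : b ∈ B) :
    interCount B b 0 = 16 ∧ interCount B b 1 = 0 ∧ interCount B b 2 = 60 := by
  have hbc : b.card = 6 := hB.1 b hb
  have e : ∀ j l, j ≤ 3 → l * (6 - j).choose (3 - j) = (22 - j).choose (3 - j) →
      ∑ i ∈ Finset.range 7, i.choose j * interCount B b i = Nat.choose 6 j * l := by
    intro j l hj hl
    have := interCount_sum hB b hj (hα ▸ hl) (Nat.choose_pos (by omega))
    rwa [hbc] at this
  have h0 := e 0 77 (by omega) (by decide)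
  have h1 := e 1 21 (by omega) (by decide)
  have h2 := e 2 5 (by omega) (by decide)
  have h3 := interCount_large hB hb (i := 3) (by omega) (by omega)
  have h4 := interCount_large hB hb (i := 4) (by omega) (by omega)
  have h5 := interCount_large hB hb (i := 5) (by omega) (by omega)
  have h6 := interCount_block_self hB (by omega) hb
  norm_num [Finset.sum_range_succ, h3, h4, h5, h6, Nat.choose] at h0 h1 h2
  omega

/-- Intersection numbers of a Steiner system S(5, 6, 12). -/
theorem inter_S5612 (hα : Fintype.card α = 12) {B : Set (Finset α)}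
    (hB : IsSteinerSystem 5 6 B) {b : Finset α} (hb : b ∈ B) :
    interCount B b 0 = 1 ∧ interCount B b 1 = 0 := by
  have hbc : b.card = 6 := hB.1 b hb
  have e : ∀ j l, j ≤ 5 → l * (6 - j).choose (5 - j) = (12 - j).choose (5 - j) →
      ∑ i ∈ Finset.range 7, i.choose j * interCount B b i = Nat.choose 6 j * l := by
    intro j l hj hl
    have := interCount_sum hB b hj (hα ▸ hl) (Nat.choose_pos (by omega))
    rwa [hbc] at this
  have h0 := e 0 132 (by omega) (by decide)
  have h1 := e 1 66 (by omega) (by decide)
  have h2 := e 2 30 (by omega) (by decide)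
  have h3 := e 3 12 (by omega) (by decide)
  have h4 := e 4 4 (by omega) (by decide)
  have h5 := interCount_large hB hb (i := 5) (by omega) (by omega)
  have h6 := interCount_block_self hB (by omega) hb
  norm_num [Finset.sum_range_succ, h5, h6, Nat.choose] at h0 h1 h2 h3 h4
  omega

end CfsgLib.Golay
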