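import Cfsg.Agent.Lib.Golay.PathCheck
import Cfsg.Agent.Lib.Golay.Design22
import Cfsg.Agent.Lib.Golay.Uniq24
import Cfsg.Agent.S0357

/-!
Uniqueness of S(4, 5, 11), S(5, 6, 12) and S(3, 6, 22).
-/

set_option autoImplicit false

namespace CfsgLib.Golay

open Cfsg

theorem steiner_eq_of_subset {α : Type*} {t k : ℕ} (htk : t ≤ k) {B B' : Set (Finset α)}
    (hB : IsSteinerSystem t k B) (hB' : IsSteinerSystem t k B') (h : B ⊆ B') : B = B' := by
  refine Set.Subset.antisymm h fun b hb => ?_
  obtain ⟨s, hs, hst⟩ := Finset.exists_subset_card_eq (show t ≤ b.card by rw [hB'.1 b hb]; exact htk)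
  obtain ⟨c, ⟨hc, hsc⟩, -⟩ := hB.2 s hst
  rwa [(hB'.2 s hst).unique ⟨hb, hs⟩ ⟨h hc, hsc⟩]

/-- The derived system at a point. -/
theorem derived_steiner {α γ : Type*} [Fintype α] [DecidableEq γ] {t k : ℕ}
    {B : Set (Finset γ)} (hB : IsSteinerSystem (t + 1) (k + 1) B) (f : α ↪ γ) (p : γ)
    (hp : ∀ x, f x ≠ p) (hf : ∀ y, y ≠ p → ∃ x, f x = y) :
    IsSteinerSystem t k {b : Finset α | insert p (b.map f) ∈ B} := by
  classical
  have hnot : ∀ b : Finset α, p ∉ b.map f := fun b h => by
    obtain ⟨x, -, hx⟩ := Finset.mem_map.1 h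
    exact hp x hx
  refine ⟨fun b hb => ?_, fun s hs => ?_⟩
  · have := hB.1 _ hb
    rw [Finset.card_insert_of_notMem (hnot b), Finset.card_map] at this
    omega
  · obtain ⟨c, ⟨hc, hsc⟩, hu⟩ := hB.2 (insert p (s.map f))
      (by rw [Finset.card_insert_of_notMem (hnot s), Finset.card_map, hs])
    have he : insert p ((Finset.univ.filter fun x => f x ∈ c).map f) = c := by
      ext y
      simp only [Finset.mem_insert, Finset.mem_map, Finset.mem_filter, Finset.mem_univ, true_and]
      constructor
      · rintro (rfl | ⟨x, hx, rfl⟩)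
        exacts [hsc (Finset.mem_insert_self _ _), hx]
      · intro hy
        by_cases hyp : y = p
        · exact Or.inl hyp
        · obtain ⟨x, rfl⟩ := hf y hyp
          exact Or.inr ⟨x, hy, rfl⟩
    refine ⟨Finset.univ.filter fun x => f x ∈ c, ⟨?_, fun x hx => ?_⟩, ?_⟩
    · show insert p _ ∈ B
      rwa [he]
    · simp only [Finset.mem_filter, Finset.mem_univ, true_and]
      exact hsc (Finset.mem_insert_of_mem (Finset.mem_map_of_mem f hx))
    · rintro b ⟨hb, hsb⟩
      have := hu _ ⟨hb, Finset.insert_subset_insert p (Finset.map_subset_map.2 hsb)⟩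
      ext x
      simp only [Finset.mem_filter, Finset.mem_univ, true_and, ← this, Finset.mem_insert,
        Finset.mem_map' , hp x, false_or]

theorem s11_inter {α : Type*} [Fintype α] [DecidableEq α] (hα : Fintype.card α = 11)
    {B : Set (Finset α)} (hB : IsSteinerSystem 4 5 B) {b c : Finset α} (hb : b ∈ B) (hc : c ∈ B)
    (hbc : b ≠ c) : (b ∩ c).card ≤ 3 ∧ (b ∩ c).card ∈ [1, 2, 3] := by
  have hlt : (b ∩ c).card < 4 := by
    by_contra h
    exact hbc (steiner_two_blocks hB hb hc (by omega))
  have hbc' : b.card = 5 := hB.1 b hb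
  have e : ∀ j l, j ≤ 4 → l * (5 - j).choose (4 - j) = (11 - j).choose (4 - j) →
      ∑ i ∈ Finset.range 6, i.choose j * interCount B b i = Nat.choose 5 j * l := by
    intro j l hj hl
    have := interCount_sum hB b hj (hα ▸ hl) (Nat.choose_pos (by omega))
    rwa [hbc'] at this
  have h0 := e 0 66 (by omega) (by decide)
  have h1 := e 1 30 (by omega) (by decide)
  have h2 := e 2 12 (by omega) (by decide)
  have h3 := e 3 4 (by omega) (by decide)
  have h4 := interCount_large hB hb (i := 4) (by omega) (by omega)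
  have h5 := interCount_block_self hB (by omega) hb
  norm_num [Finset.sum_range_succ, h4, h5, Nat.choose] at h0 h1 h2 h3
  have hp := interCount_pos (b := b) hc
  have : (b ∩ c).card ≠ 0 := fun h => by rw [h] at hp; omega
  refine ⟨by omega, ?_⟩
  simp only [List.mem_cons, List.not_mem_nil, or_false]
  omega

theorem blockSet_ncard {v : ℕ} {model : List ℕ} (hnd : model.Nodup) (hlt : ∀ m ∈ model, m < 2 ^ v) :
    {b | ∃ m ∈ model, Path.blockSet v m = b}.ncard = model.length := by
  have : {b | ∃ m ∈ model, Path.blockSet v m = b} = ↑((model.map (Path.blockSet v)).toFinset) := by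
    ext b
    simp
  rw [this, Set.ncard_coe_finset, List.toFinset_card_of_nodup, List.length_map]
  refine hnd.map_on fun a ha b hb h => Nat.eq_of_testBit_eq fun i => ?_
  by_cases hi : i < v
  · have := congrArg (fun s : Finset (Fin v) => decide ((⟨i, hi⟩ : Fin v) ∈ s)) h
    simpa [Path.mem_blockSet] using this
  · have : 2 ^ v ≤ 2 ^ i := Nat.pow_le_pow_right (by omega) (by omega)
    have := hlt a ha
    have := hlt b hb
    rw [Nat.testBit_lt_two_pow (by omega), Nat.testBit_lt_two_pow (by omega)]

/-- The model S(4, 5, 11). -/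
def model11Set : Set (Finset (Fin 11)) := {b | ∃ m ∈ Path.model11, Path.blockSet 11 m = b}

/-- The model S(3, 6, 22). -/
def model22Set : Set (Finset (Fin 22)) := {b | ∃ m ∈ Path.model22, Path.blockSet 22 m = b}

theorem iso_model11 {α : Type*} [Fintype α] [DecidableEq α] (hα : Fintype.card α = 11)
    {B : Set (Finset α)} (hB : IsSteinerSystem 4 5 B) :
    ∃ e : α ≃ Fin 11, (fun b => b.image e) '' B = model11Set := by
  obtain ⟨π, hπ⟩ := Path.path_iso (v := 11) (t := 4) (k := 5) (mx := 3) (A := [1, 2, 3])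
    (model := Path.model11)
    (fun _ hC _ hb _ hc hbc => s11_inter (Fintype.card_fin 11) hC hb hc hbc)
    (fun _ hC => by
      rw [blockSet_ncard Path.model11_ok.1 Path.model11_ok.2.2, Path.model11_ok.2.1]
      have := blocks_total hC
      rw [Fintype.card_fin] at this
      have h1 : Nat.choose 5 4 = 5 := rfl
      have h2 : Nat.choose 11 4 = 330 := rfl
      rw [h1, h2] at this
      omega)
    Path.path11 [] Path.path11_ok _ (steiner_image hB (Fintype.equivFinOfCardEq hα))
    (fun _ h => absurd h List.not_mem_nil)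
  refine ⟨(Fintype.equivFinOfCardEq hα).trans π, ?_⟩
  rw [model11Set, ← hπ, Set.image_image]
  simp only [Finset.image_image, Equiv.coe_trans]

theorem iso_model22 {α : Type*} [Fintype α] [DecidableEq α] (hα : Fintype.card α = 22)
    {B : Set (Finset α)} (hB : IsSteinerSystem 3 6 B) :
    ∃ e : α ≃ Fin 22, (fun b => b.image e) '' B = model22Set := by
  obtain ⟨π, hπ⟩ := Path.path_iso (v := 22) (t := 3) (k := 6) (mx := 2) (A := [0, 2])
    (model := Path.model22)
    (fun _ hC _ hb _ hc hbc => by
      rcases s22_inter (Fintype.card_fin 22) hC hb hc hbc with h | h <;> rw [h] <;> simp)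
    (fun _ hC => by
      rw [blockSet_ncard Path.model22_ok.1 Path.model22_ok.2.2, Path.model22_ok.2.1,
        s22_count (Fintype.card_fin 22) hC])
    Path.path22 [] Path.path22_ok _ (steiner_image hB (Fintype.equivFinOfCardEq hα))
    (fun _ h => absurd h List.not_mem_nil)
  refine ⟨(Fintype.equivFinOfCardEq hα).trans π, ?_⟩
  rw [model22Set, ← hπ, Set.image_image]
  simp only [Finset.image_image, Equiv.coe_trans]

theorem iso_of_models {α β γ : Type*} [DecidableEq β] [DecidableEq γ] {B : Set (Finset α)}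
    {B' : Set (Finset β)} {M : Set (Finset γ)} (e : α ≃ γ) (he : (fun b => b.image e) '' B = M)
    (f : β ≃ γ) (hf : (fun b => b.image f) '' B' = M) : SetSystemIso B B' := by
  refine ⟨e.trans f.symm, ?_⟩
  have hinv : (fun b : Finset γ => b.image f.symm) '' M = B' := by
    rw [← hf, Set.image_image]
    simp [Finset.image_image]
  rw [← hinv, ← he, Set.image_image]
  simp only [Finset.image_image, Equiv.coe_trans]

theorem iso_5612 {α β : Type*} [Fintype α] [DecidableEq α] [Fintype β] [DecidableEq β]
    (hα : Fintype.card α = 12) (hβ : Fintype.card β = 12) {B : Set (Finset α)}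
    {B' : Set (Finset β)} (hB : IsSteinerSystem 5 6 B) (hB' : IsSteinerSystem 5 6 B') :
    SetSystemIso B B' := by
  obtain ⟨p⟩ : Nonempty α := Fintype.card_pos_iff.1 (by omega)
  obtain ⟨q⟩ : Nonempty β := Fintype.card_pos_iff.1 (by omega)
  set ι : {x : α // x ≠ p} ↪ α := Function.Embedding.subtype _
  set κ : {x : β // x ≠ q} ↪ β := Function.Embedding.subtype _
  have hd := derived_steiner (t := 4) (k := 5) hB ι p (fun x => x.2) fun y hy => ⟨⟨y, hy⟩, rfl⟩
  have hd' := derived_steiner (t := 4) (k := 5) hB' κ q (fun x => x.2) fun y hy => ⟨⟨y, hy⟩, rfl⟩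
  have hcα : Fintype.card {x : α // x ≠ p} = 11 := by
    rw [Fintype.card_subtype_compl, Fintype.card_subtype_eq, hα]
  have hcβ : Fintype.card {x : β // x ≠ q} = 11 := by
    rw [Fintype.card_subtype_compl, Fintype.card_subtype_eq, hβ]
  obtain ⟨e1, he1⟩ := iso_model11 hcα hd
  obtain ⟨e2, he2⟩ := iso_model11 hcβ hd'
  obtain ⟨g, hg⟩ := iso_of_models e1 he1 e2 he2
  set e : α ≃ β := (Equiv.optionSubtypeNe p).symm.trans (g.optionCongr.trans (Equiv.optionSubtypeNe q))
    with he
  have hep : e p = q := by simp [he]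
  have hex : ∀ x : {x : α // x ≠ p}, e x.val = (g x).val := fun x => by
    simp [he, Equiv.optionSubtypeNe_symm_of_ne x.2]
  refine ⟨e, steiner_eq_of_subset (by omega) (steiner_image hB e) hB' ?_⟩
  have hthrough : ∀ b ∈ B, p ∈ b → b.image e ∈ B' := by
    intro b hb hpb
    set b0 : Finset {x : α // x ≠ p} := b.subtype _
    have hb0 : insert p (b0.map ι) = b := by
      rw [Finset.subtype_map, Finset.filter_ne', Finset.insert_erase hpb]
    have hm : insert q ((b0.image g).map κ) ∈ B' := by
      have : b0.image g ∈ (fun b => b.image g) ''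
          {b : Finset {x : α // x ≠ p} | insert p (b.map ι) ∈ B} :=
        ⟨b0, show insert p (b0.map ι) ∈ B by rwa [hb0], rfl⟩
      rw [hg] at this
      exact this
    convert hm using 1
    conv_lhs => rw [← hb0]
    rw [Finset.image_insert, hep, Finset.map_eq_image, Finset.map_eq_image, Finset.image_image,
      Finset.image_image]
    congr 1
    exact Finset.image_congr fun x _ => hex x
  rintro _ ⟨b, hb, rfl⟩
  by_cases hpb : p ∈ b
  · exact hthrough b hb hpb
  · have hc := hthrough bᶜ (Cfsg.Agent.S0357.result hα hB hb) (Finset.mem_compl.2 hpb)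
    have := Cfsg.Agent.S0357.result hβ hB' hc
    convert this using 1
    ext y
    simp only [Finset.mem_compl, Finset.mem_image]
    constructor
    · rintro ⟨x, hx, rfl⟩ ⟨z, hz, hzx⟩
      exact hz (e.injective hzx ▸ hx)
    · intro h
      refine ⟨e.symm y, ?_, e.apply_symm_apply y⟩
      by_contra hn
      exact h ⟨e.symm y, hn, e.apply_symm_apply y⟩

end CfsgLib.Golay
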