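import Mathlib

/-!
Kernel-checked stabiliser chains for groups given by coded elements: order, centraliser search
and commutator certificates.
-/

set_option autoImplicit false

namespace CfsgLib.Golay.Bsgs

open scoped commutatorElement

/-- Coded elements of a group acting on coded points. -/
structure Ops (G : Type*) [Group G] (α : Type*) [MulAction G α] where
  /-- The value of a code. -/
  val : ℕ → G
  /-- Validity of a code. -/
  ok : ℕ → Bool
  /-- The code of the identity. -/
  one : ℕ
  /-- The product of codes. -/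
  mul : ℕ → ℕ → ℕ
  /-- The point of a code. -/
  pt : ℕ → α
  /-- Validity of a point code. -/
  ptOk : ℕ → Bool
  /-- The image of a point code. -/
  img : ℕ → ℕ → ℕ
  ok_one : ok one = true
  val_one : val one = 1
  ok_mul : ∀ a b, ok a = true → ok b = true → ok (mul a b) = true
  val_mul : ∀ a b, ok a = true → ok b = true → val (mul a b) = val a * val b
  pt_img : ∀ a p, ok a = true → ptOk p = true → val a • pt p = pt (img a p) ∧ ptOk (img a p) = true
  pt_inj : ∀ p q, ptOk p = true → ptOk q = true → pt p = pt q → p = q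

/-- One level of a chain. -/
structure Lvl where
  /-- The base point. -/
  base : ℕ
  /-- The generators first used at this level. -/
  gens : List ℕ
  /-- The transversal, the identity first. -/
  reps : List ℕ
  /-- For each later transversal element, a generator and an earlier element giving it. -/
  parent : List (ℕ × ℕ)
  /-- For each generator from this level on and each transversal element, the sifting indices. -/
  sift : List (List (List ℕ))

/-- All generators from a level on. -/
def allGens : List Lvl → List ℕ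
  | [] => []
  | l :: ls => l.gens ++ allGens ls

variable {G : Type*} [Group G] {α : Type*} [MulAction G α] (O : Ops G α)

/-- The coded product of one representative per level. -/
def prodReps : List Lvl → List ℕ → ℕ
  | l :: ls, i :: is => O.mul (l.reps.getD i O.one) (prodReps ls is)
  | _, _ => O.one

/-- The kernel check of a chain. -/
def check : List ℕ → List Lvl → Bool
  | _, [] => true
  | fixed, l :: ls =>
    let gs := l.gens ++ allGens ls
    O.ptOk l.base &&
    decide (l.reps.head? = some O.one) &&
    l.reps.all O.ok &&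
    decide (l.reps.map (fun r => O.img r l.base)).Nodup &&
    l.gens.all (fun s => O.ok s && fixed.all fun f => O.img s f == f) &&
    decide (l.parent.length + 1 = l.reps.length) &&
    (List.range l.parent.length).all (fun k =>
      let c := l.parent.getD k (0, 0)
      decide (c.1 < gs.length ∧ c.2 ≤ k) &&
        (l.reps.getD (k + 1) O.one == O.mul (gs.getD c.1 O.one) (l.reps.getD c.2 O.one))) &&
    (List.range gs.length).all (fun g => (List.range l.reps.length).all fun i =>
      O.mul (gs.getD g O.one) (l.reps.getD i O.one) ==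
        prodReps O (l :: ls) ((l.sift.getD g []).getD i [])) &&
    check (fixed ++ [l.base]) ls

/-- The group of a chain. -/
def grp (ls : List Lvl) : Subgroup G := Subgroup.closure {g | ∃ r ∈ allGens ls, O.val r = g}

/-- The elements of the group fix the earlier base points. -/
def Fixes (H : Subgroup G) (fixed : List ℕ) : Prop :=
  ∀ g ∈ H, ∀ f ∈ fixed, g • O.pt f = O.pt f

theorem getD_ok {reps : List ℕ} (h : ∀ r ∈ reps, O.ok r = true) (i : ℕ) :
    O.ok (reps.getD i O.one) = true := by
  by_cases hi : i < reps.length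
  · rw [List.getD_eq_getElem _ _ hi]; exact h _ (List.getElem_mem hi)
  · rw [List.getD_eq_default _ _ (by omega)]; exact O.ok_one

theorem closure_le_of_left_mul [Finite G] {S : Set G} {X : Set G} (h1 : (1 : G) ∈ X)
    (hS : ∀ s ∈ S, ∀ x ∈ X, s * x ∈ X) : (Subgroup.closure S : Set G) ⊆ X := by
  intro g hg
  rw [SetLike.mem_coe, ← Subgroup.mem_toSubmonoid, Subgroup.closure_toSubmonoid_of_finite] at hg
  suffices ∀ x ∈ X, g * x ∈ X by simpa using this 1 h1
  induction hg using Submonoid.closure_induction with
  | mem s hs => exact hS s hs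
  | one => simp
  | mul a b _ _ ha hb => intro x hx; rw [mul_assoc]; exact ha _ (hb x hx)

/-- The main induction. -/
theorem spec [Finite G] : ∀ {fixed : List ℕ} {ls : List Lvl}, (∀ f ∈ fixed, O.ptOk f = true) →
    check O fixed ls = true →
    Fixes O (grp O ls) fixed ∧ (∀ r ∈ allGens ls, O.ok r = true) ∧
      (∀ is, O.ok (prodReps O ls is) = true ∧ O.val (prodReps O ls is) ∈ grp O ls) ∧
      Nat.card (grp O ls) = (ls.map fun l => l.reps.length).prod ∧
      (∀ l ls', ls = l :: ls' → ∀ g ∈ grp O ls,
        ∃ r ∈ l.reps, ∃ h ∈ grp O ls', g = O.val r * h)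
  | fixed, [], _, _ => by
    have h : grp O [] = ⊥ := by simp [grp, allGens]
    refine ⟨?_, by simp [allGens], fun _ => ?_, by simp [h], fun l ls' e => by simp at e⟩
    · intro g hg f _
      rw [h, Subgroup.mem_bot] at hg
      rw [hg, one_smul]
    · simp [prodReps, O.ok_one, h, O.val_one]
  | fixed, l :: ls, hfix, hc => by
    simp only [check, Bool.and_eq_true, decide_eq_true_eq, List.all_eq_true, List.mem_range,
      beq_iff_eq] at hc
    obtain ⟨⟨⟨⟨⟨⟨⟨⟨hb, hhead⟩, hreps⟩, hnd⟩, hgens⟩, hlen⟩, hpar⟩, hsift⟩, hrec⟩ := hc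
    have hfix' : ∀ f ∈ fixed ++ [l.base], O.ptOk f = true := by
      intro f hf
      rcases List.mem_append.1 hf with hf | hf
      · exact hfix f hf
      · rw [List.mem_singleton.1 hf]; exact hb
    obtain ⟨hF, hok, hprod, hcard, -⟩ := spec hfix' hrec
    have hgs : ∀ r ∈ l.gens ++ allGens ls, O.ok r = true := by
      intro r hr
      rcases List.mem_append.1 hr with hr | hr
      exacts [(hgens r hr).1, hok r hr]
    have hle : grp O ls ≤ grp O (l :: ls) := Subgroup.closure_mono fun g ⟨r, hr, e⟩ =>
      ⟨r, List.mem_append.2 (Or.inr hr), e⟩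
    have hgen : ∀ g < (l.gens ++ allGens ls).length,
        O.val ((l.gens ++ allGens ls).getD g O.one) ∈ grp O (l :: ls) := fun g hg =>
      Subgroup.subset_closure ⟨_, by rw [List.getD_eq_getElem _ _ hg]; exact List.getElem_mem hg, rfl⟩
    have hrep : ∀ k, k < l.reps.length → O.val (l.reps.getD k O.one) ∈ grp O (l :: ls) := by
      intro k
      induction k using Nat.strong_induction_on with
      | h k ih =>
        intro hk
        rcases k with _ | k
        · have : l.reps.getD 0 O.one = O.one := by
            cases hr : l.reps with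
            | nil => rfl
            | cons a as => rw [hr] at hhead; simpa using hhead
          rw [this, O.val_one]
          exact Subgroup.one_mem _
        · obtain ⟨⟨h1, h2⟩, h3⟩ := hpar k (by omega)
          rw [h3, O.val_mul _ _ (getD_ok O hgs _) (getD_ok O hreps _)]
          exact Subgroup.mul_mem _ (hgen _ h1) (ih _ (by omega) (by omega))
    have hrep' : ∀ i, O.val (l.reps.getD i O.one) ∈ grp O (l :: ls) := fun i => by
      by_cases hi : i < l.reps.length
      · exact hrep i hi
      · rw [List.getD_eq_default _ _ (by omega), O.val_one]; exact Subgroup.one_mem _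
    have hprod' : ∀ is, O.ok (prodReps O (l :: ls) is) = true ∧
        O.val (prodReps O (l :: ls) is) ∈ grp O (l :: ls) := by
      intro is
      rcases is with _ | ⟨i, is⟩
      · simp [prodReps, O.ok_one, O.val_one]
      · simp only [prodReps]
        refine ⟨O.ok_mul _ _ (getD_ok O hreps _) (hprod is).1, ?_⟩
        rw [O.val_mul _ _ (getD_ok O hreps _) (hprod is).1]
        exact Subgroup.mul_mem _ (hrep' i) (hle (hprod is).2)
    have hone : O.one ∈ l.reps := by
      cases hr : l.reps with
      | nil => rw [hr] at hhead; simp at hhead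
      | cons a as => rw [hr] at hhead; simp at hhead; simp [hhead]
    let X : Set G := {g | ∃ r ∈ l.reps, ∃ h ∈ grp O ls, g = O.val r * h}
    have hX : (grp O (l :: ls) : Set G) ⊆ X := by
      refine closure_le_of_left_mul
        ⟨O.one, hone, 1, Subgroup.one_mem _, by rw [O.val_one, one_mul]⟩ ?_
      rintro _ ⟨s, hs, rfl⟩ _ ⟨r, hr, h, hh, rfl⟩
      obtain ⟨g, hg, rfl⟩ := List.getElem_of_mem (show s ∈ l.gens ++ allGens ls from hs)
      obtain ⟨i, hi, rfl⟩ := List.getElem_of_mem hr
      have e := hsift g hg i hi
      rw [List.getD_eq_getElem _ _ hg, List.getD_eq_getElem _ _ hi] at e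
      rw [← mul_assoc, ← O.val_mul _ _ (hgs _ (List.getElem_mem hg)) (hreps _ (List.getElem_mem hi)),
        e]
      rcases (l.sift.getD g []).getD i [] with _ | ⟨j, js⟩
      · exact ⟨O.one, hone, h, hh, by simp [prodReps, O.val_one]⟩
      · refine ⟨l.reps.getD j O.one, ?_, O.val (prodReps O ls js) * h,
          Subgroup.mul_mem _ (hprod js).2 hh, ?_⟩
        · by_cases hj : j < l.reps.length
          · rw [List.getD_eq_getElem _ _ hj]; exact List.getElem_mem hj
          · rw [List.getD_eq_default _ _ (by omega)]; exact hone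
        · simp only [prodReps]
          rw [O.val_mul _ _ (getD_ok O hreps _) (hprod js).1, mul_assoc]
    refine ⟨?_, hgs, hprod', ?_, fun l' ls' e g hg => ?_⟩
    · intro g hg f hf
      have hle2 : grp O (l :: ls) ≤ MulAction.stabilizer G (O.pt f) := by
        refine (Subgroup.closure_le _).2 ?_
        rintro _ ⟨r, hr, rfl⟩
        rw [SetLike.mem_coe, MulAction.mem_stabilizer_iff]
        rcases List.mem_append.1 hr with hr | hr
        · obtain ⟨h1, h2⟩ := hgens r hr
          rw [(O.pt_img r f h1 (hfix f hf)).1, h2 f hf]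
        · exact hF _ (Subgroup.subset_closure ⟨r, hr, rfl⟩) f (List.mem_append.2 (Or.inl hf))
      exact hle2 hg
    · rw [List.map_cons, List.prod_cons, ← hcard, ← Nat.card_fin l.reps.length, ← Nat.card_prod]
      symm
      refine Nat.card_eq_of_bijective
        (fun x : Fin l.reps.length × grp O ls =>
          (⟨O.val l.reps[x.1] * x.2, Subgroup.mul_mem _ (by
            have := hrep x.1.val x.1.isLt
            rwa [List.getD_eq_getElem _ _ x.1.isLt] at this) (hle x.2.2)⟩ : grp O (l :: ls)))
        ⟨?_, ?_⟩
      · rintro ⟨i, g⟩ ⟨j, h⟩ e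
        have e' : O.val l.reps[i] * (g : G) = O.val l.reps[j] * (h : G) := congrArg Subtype.val e
        have e2 := congrArg (fun z : G => z • O.pt l.base) e'
        simp only [mul_smul, hF _ g.2 l.base (by simp), hF _ h.2 l.base (by simp)] at e2
        obtain ⟨hi1, hi2⟩ := O.pt_img _ l.base (hreps l.reps[i] (List.getElem_mem _)) hb
        obtain ⟨hj1, hj2⟩ := O.pt_img _ l.base (hreps l.reps[j] (List.getElem_mem _)) hb
        rw [hi1, hj1] at e2
        have e3 := O.pt_inj _ _ hi2 hj2 e2
        have hij : i = j := Fin.ext (by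
          have := hnd.getElem_inj_iff (i := i.val) (j := j.val) (hi := by simp) (hj := by simp)
          exact this.1 (by simpa using e3))
        subst hij
        exact Prod.ext rfl (Subtype.ext (mul_left_cancel e'))
      · rintro ⟨g, hg⟩
        obtain ⟨r, hr, h, hh, rfl⟩ := hX hg
        obtain ⟨i, hi, rfl⟩ := List.getElem_of_mem hr
        exact ⟨(⟨i, hi⟩, ⟨h, hh⟩), rfl⟩
    · obtain ⟨rfl, rfl⟩ := List.cons.inj e
      exact hX hg

/-- Search for the elements commuting with a code `x`, pruned by the base points; a surviving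
code is listed or fails to commute at one of the witness points. -/
def centCheck (x : ℕ) (allowed pts : List ℕ) : List ℕ → ℕ → List Lvl → Bool
  | _, q, [] => allowed.contains q ||
      pts.any fun p => O.ptOk p && !(O.img q (O.img x p) == O.img x (O.img q p))
  | bs, q, l :: ls =>
    l.reps.all fun t =>
      let q' := O.mul q t
      let bs' := bs ++ [l.base]
      !(bs'.all fun bi => bs'.all fun bj =>
          !(O.img x bi == bj) || O.img q' bj == O.img x (O.img q' bi)) ||
        centCheck x allowed pts bs' q' ls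

theorem cent_sound [Finite G] {x : ℕ} (hx : O.ok x = true) {allowed pts : List ℕ} :
    ∀ {bs : List ℕ} {q : ℕ} {ls : List Lvl}, (∀ b ∈ bs, O.ptOk b = true) → O.ok q = true →
      check O bs ls = true → centCheck O x allowed pts bs q ls = true →
      ∀ g : G, g * O.val x = O.val x * g → (O.val q)⁻¹ * g ∈ grp O ls →
      ∃ r ∈ allowed, g = O.val r
  | bs, q, [], _, hq, _, hcc, g, hcomm, hg => by
    simp only [centCheck, Bool.or_eq_true, List.contains_iff_mem, List.any_eq_true,
      Bool.and_eq_true, Bool.not_eq_true', beq_eq_false_iff_ne] at hcc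
    have h : grp O [] = ⊥ := by simp [grp, allGens]
    rw [h, Subgroup.mem_bot, inv_mul_eq_one] at hg
    rcases hcc with hcc | ⟨p, -, hp, hne⟩
    · exact ⟨q, hcc, hg.symm⟩
    · exfalso
      obtain ⟨hx1, hx2⟩ := O.pt_img x p hx hp
      obtain ⟨hq1, hq2⟩ := O.pt_img q p hq hp
      refine hne (O.pt_inj _ _ (O.pt_img q _ hq hx2).2 (O.pt_img x _ hx hq2).2 ?_)
      rw [← (O.pt_img q _ hq hx2).1, ← (O.pt_img x _ hx hq2).1, ← hx1, ← hq1, ← mul_smul,
        ← mul_smul, hg, hcomm]
  | bs, q, l :: ls, hbs, hq, hc, hcc, g, hcomm, hg => by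
    obtain ⟨-, -, -, -, hdec⟩ := spec O hbs hc
    obtain ⟨t, ht, h, hh, e⟩ := hdec l ls rfl _ hg
    simp only [check, Bool.and_eq_true, decide_eq_true_eq, List.all_eq_true] at hc
    obtain ⟨⟨⟨⟨⟨⟨⟨⟨hb, -⟩, hreps⟩, -⟩, -⟩, -⟩, -⟩, -⟩, hrec⟩ := hc
    have hbs' : ∀ f ∈ bs ++ [l.base], O.ptOk f = true := by
      intro f hf
      rcases List.mem_append.1 hf with hf | hf
      · exact hbs f hf
      · rw [List.mem_singleton.1 hf]; exact hb
    have hF := (spec O hbs' hrec).1
    have hq' : O.ok (O.mul q t) = true := O.ok_mul _ _ hq (hreps t ht)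
    have hval : O.val (O.mul q t) = O.val q * O.val t := O.val_mul _ _ hq (hreps t ht)
    have hg' : (O.val (O.mul q t))⁻¹ * g = h := by
      rw [hval, mul_inv_rev, mul_assoc, e, inv_mul_cancel_left]
    have hact : ∀ f ∈ bs ++ [l.base], g • O.pt f = O.pt (O.img (O.mul q t) f) := by
      intro f hf
      rw [inv_mul_eq_iff_eq_mul.1 hg', mul_smul, hF h hh f hf, (O.pt_img _ f hq' (hbs' f hf)).1]
    simp only [centCheck, List.all_eq_true, Bool.or_eq_true, Bool.not_eq_true'] at hcc
    rcases hcc t ht with hbad | hgood
    · exfalso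
      rw [List.all_eq_false] at hbad
      obtain ⟨bi, hbi, hbad⟩ := hbad
      simp only [List.all_eq_true, Bool.or_eq_true, Bool.not_eq_true', beq_eq_false_iff_ne,
        beq_iff_eq, not_forall, not_or, not_not] at hbad
      obtain ⟨bj, hbj, hij, hne⟩ := hbad
      refine hne (O.pt_inj _ _ (O.pt_img _ bj hq' (hbs' bj hbj)).2
        (O.pt_img x _ hx (O.pt_img _ bi hq' (hbs' bi hbi)).2).2 ?_)
      rw [← hact bj hbj, ← hij, ← (O.pt_img x bi hx (hbs' bi hbi)).1, ← mul_smul, hcomm, mul_smul,
        hact bi hbi, (O.pt_img x _ hx (O.pt_img _ bi hq' (hbs' bi hbi)).2).1]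
    · exact cent_sound hx hbs' hq' hrec hgood g hcomm (hg' ▸ hh)

/-- A commutator certificate for a code. -/
def commCheck (ls : List Lvl) (g : ℕ) (u v : List ℕ) : Bool :=
  O.mul g (O.mul (prodReps O ls v) (prodReps O ls u)) ==
    O.mul (prodReps O ls u) (prodReps O ls v)

theorem comm_sound [Finite G] {ls : List Lvl} (hc : check O [] ls = true) {g : ℕ}
    (hg : O.ok g = true) {u v : List ℕ} (h : commCheck O ls g u v = true) :
    O.val g ∈ ⁅grp O ls, grp O ls⁆ := by
  obtain ⟨-, -, hp, -⟩ := spec O (fun f hf => absurd hf List.not_mem_nil) hc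
  simp only [commCheck, beq_iff_eq] at h
  have e := congrArg O.val h
  rw [O.val_mul _ _ hg (O.ok_mul _ _ (hp v).1 (hp u).1), O.val_mul _ _ (hp v).1 (hp u).1,
    O.val_mul _ _ (hp u).1 (hp v).1] at e
  have : O.val g = ⁅O.val (prodReps O ls u), O.val (prodReps O ls v)⁆ := by
    rw [commutatorElement_def, eq_mul_inv_iff_mul_eq, eq_mul_inv_iff_mul_eq, mul_assoc]
    exact e
  rw [this]
  exact Subgroup.commutator_mem_commutator (hp u).2 (hp v).2

/-- The check of a straight-line program: each step is a product or, if flagged, a quotient. -/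
def slpCheck : List ℕ → List (ℕ × Bool × ℕ × ℕ) → Bool
  | _, [] => true
  | T, (c, iv, i, j) :: rest =>
    O.ok c && decide (i < T.length ∧ j < T.length) &&
      (if iv then O.mul (T.getD i O.one) c == T.getD j O.one
        else c == O.mul (T.getD i O.one) (T.getD j O.one)) &&
      slpCheck (T ++ [c]) rest

theorem slp_sound (M : Subgroup G) : ∀ {T : List ℕ} {st : List (ℕ × Bool × ℕ × ℕ)},
    slpCheck O T st = true → (∀ c ∈ T, O.ok c = true ∧ O.val c ∈ M) →
    ∀ c ∈ T ++ st.map (·.1), O.ok c = true ∧ O.val c ∈ M
  | T, [], _, hT => by simpa using hT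
  | T, (c, iv, i, j) :: rest, h, hT => by
    simp only [slpCheck, Bool.and_eq_true, decide_eq_true_eq] at h
    obtain ⟨⟨⟨hc, hi, hj⟩, heq⟩, hrec⟩ := h
    obtain ⟨hai, hbi⟩ := hT (T.getD i O.one) (by
      rw [List.getD_eq_getElem _ _ hi]; exact List.getElem_mem hi)
    obtain ⟨haj, hbj⟩ := hT (T.getD j O.one) (by
      rw [List.getD_eq_getElem _ _ hj]; exact List.getElem_mem hj)
    have hcM : O.val c ∈ M := by
      cases iv <;> simp only [if_true, if_false, Bool.false_eq_true, beq_iff_eq] at heq
      · rw [heq, O.val_mul _ _ hai haj]; exact M.mul_mem hbi hbj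
      · rw [← heq, O.val_mul _ _ hai hc] at hbj
        simpa using M.mul_mem (M.inv_mem hbi) hbj
    have := slp_sound M hrec (T := T ++ [c]) (fun d hd => by
      rcases List.mem_append.1 hd with hd | hd
      · exact hT d hd
      · rw [List.mem_singleton.1 hd]; exact ⟨hc, hcM⟩)
    simpa [List.append_assoc] using this

end CfsgLib.Golay.Bsgs
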