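import Cfsg.Agent.Lib.Golay.PermList
import Cfsg.Agent.Lib.Golay.Bsgs

/-!
Permutations packed into natural numbers, eight bits for each image.
-/

set_option autoImplicit false

namespace CfsgLib.Golay.PackPerm

variable {n : ℕ}

/-- The image of `i`. -/
def getP (A i : ℕ) : ℕ := (A >>> (8 * i)) % 256

/-- The list of images. -/
def toL (n A : ℕ) : List ℕ := (List.range n).map (getP A)

/-- Packing a list. -/
def pack : List ℕ → ℕ
  | [] => 0
  | a :: L => a + 256 * pack L

/-- The packed product, by recursion on a list giving the degree. -/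
def mulAux (A : ℕ) : List ℕ → ℕ → ℕ
  | [], _ => 0
  | _ :: L, B => Nat.add (Nat.mod (Nat.shiftRight A (Nat.mul 8 (Nat.mod B 256))) 256)
      (Nat.mul 256 (mulAux A L (Nat.div B 256)))

theorem getP_succ (B i : ℕ) : getP B (i + 1) = getP (B / 256) i := by
  simp only [getP, Nat.shiftRight_eq_div_pow, Nat.mul_add_one, Nat.add_comm (8 * i) 8, Nat.pow_add,
    ← Nat.div_div_eq_div_mul, show (2 : ℕ) ^ 8 = 256 from rfl]

theorem mulAux_eq (A : ℕ) : ∀ (L : List ℕ) (B : ℕ),
    mulAux A L B = pack ((List.range L.length).map fun i => getP A (getP B i))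
  | [], _ => rfl
  | a :: L, B => by
    rw [List.length_cons, List.range_succ_eq_map, List.map_cons, List.map_map, pack]
    show (A >>> (8 * (B % 256))) % 256 + 256 * mulAux A L (B / 256) = _
    rw [mulAux_eq A L]
    have e : (List.range L.length).map ((fun i => getP A (getP B i)) ∘ Nat.succ) =
        (List.range L.length).map fun i => getP A (getP (B / 256) i) :=
      List.map_congr_left fun i _ => congrArg (getP A) (getP_succ B i)
    rw [e]
    simp [getP]

/-- The packed product. -/
def mulP (n A B : ℕ) : ℕ := mulAux A (List.range n) B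

theorem getP_pack : ∀ {L : List ℕ}, (∀ a ∈ L, a < 256) → ∀ i, getP (pack L) i = L.getD i 0
  | [], _, i => by simp [pack, getP]
  | a :: L, h, i => by
    rcases i with _ | i
    · simp [pack, getP, Nat.mod_eq_of_lt (h a List.mem_cons_self)]
    · rw [List.getD_cons_succ, ← getP_pack (fun b hb => h b (List.mem_cons_of_mem _ hb)) i]
      simp only [pack, getP, Nat.shiftRight_eq_div_pow]
      rw [Nat.mul_add_one, Nat.add_comm (8 * i) 8, Nat.pow_add, ← Nat.div_div_eq_div_mul,
        show (2 : ℕ) ^ 8 = 256 from rfl, Nat.add_mul_div_left _ _ (by norm_num : 0 < 256),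
        Nat.div_eq_of_lt (h a List.mem_cons_self), Nat.zero_add]

theorem toL_length (A : ℕ) : (toL n A).length = n := by simp [toL]

theorem toL_getD (A : ℕ) {i : ℕ} (hi : i < n) : (toL n A).getD i 0 = getP A i := by
  rw [List.getD_eq_getElem _ _ (by rw [toL_length]; exact hi)]
  simp [toL]

theorem toL_pack {L : List ℕ} (hn : n ≤ 256) (hlen : L.length = n) (h : ∀ a ∈ L, a < n) :
    toL n (pack L) = L := by
  refine List.ext_getElem (by rw [toL_length, hlen]) fun i h1 h2 => ?_
  simp only [toL, List.getElem_map, List.getElem_range]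
  rw [getP_pack (fun a ha => lt_of_lt_of_le (h a ha) hn), List.getD_eq_getElem _ _ h2]

theorem getP_lt {A : ℕ} (h : validL n (toL n A) = true) {i : ℕ} (hi : i < n) : getP A i < n :=
  toL_getD A hi ▸ validL_getD_lt h hi

theorem validL_comp {A B : List ℕ} (hA : validL n A = true) (hB : validL n B = true) :
    validL n (compL A B) = true := by
  rw [validL_iff]
  refine ⟨by rw [compL_length, (validL_iff.1 hB).1], fun i hi => ?_, fun j hj => ?_⟩
  · obtain ⟨b, hb, rfl⟩ := List.mem_map.1 hi
    exact validL_getD_lt hA ((validL_iff.1 hB).2.1 b hb)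
  · obtain ⟨i, hi⟩ := validL_surj hA ⟨j, hj⟩
    obtain ⟨k, hk⟩ := validL_surj hB i
    refine List.mem_map.2 ⟨B.getD k.val 0, ?_, by rw [hk, hi]⟩
    rw [List.getD_eq_getElem _ _ (by rw [(validL_iff.1 hB).1]; exact k.isLt)]
    exact List.getElem_mem _

theorem toL_mulP (hn : n ≤ 256) {A B : ℕ} (hA : validL n (toL n A) = true)
    (hB : validL n (toL n B) = true) : toL n (mulP n A B) = compL (toL n A) (toL n B) := by
  rw [mulP, mulAux_eq, List.length_range, toL_pack hn (by simp) fun a ha => ?_]
  · simp only [compL, toL, List.map_map]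
    refine List.map_congr_left fun i hi => ?_
    rw [List.mem_range] at hi
    simp only [Function.comp_apply]
    exact (toL_getD A (getP_lt hB hi)).symm
  · obtain ⟨i, hi, rfl⟩ := List.mem_map.1 ha
    exact getP_lt hA (getP_lt hB (List.mem_range.1 hi))

/-- The positions hit by a list of images. -/
def hits : List ℕ → ℕ
  | [] => 0
  | a :: L => (1 <<< a) ||| hits L

theorem testBit_hits : ∀ {L : List ℕ} {j : ℕ}, (hits L).testBit j = true → j ∈ L
  | [], j, h => by simp [hits] at h
  | a :: L, j, h => by
    simp only [hits, Nat.testBit_or, Bool.or_eq_true] at h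
    rcases h with h | h
    · rw [Nat.one_shiftLeft, Nat.testBit_two_pow] at h
      simp only [decide_eq_true_eq] at h
      exact h ▸ List.mem_cons_self
    · exact List.mem_cons_of_mem _ (testBit_hits h)

/-- A fast validity test. -/
def okP (n A : ℕ) : Bool :=
  (toL n A).all (fun a => a.blt n) && (hits (toL n A)).beq (2 ^ n - 1)

theorem validL_of_okP {A : ℕ} (h : okP n A = true) : validL n (toL n A) = true := by
  simp only [okP, Bool.and_eq_true, List.all_eq_true, Nat.beq_eq, Nat.blt_eq] at h
  refine validL_iff.2 ⟨toL_length A, h.1, fun j hj => testBit_hits ?_⟩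
  rw [h.2, Nat.testBit_two_pow_sub_one]
  exact decide_eq_true hj

theorem okP_of_validL {A : ℕ} (h : validL n (toL n A) = true) : okP n A = true := by
  simp only [okP, Bool.and_eq_true, List.all_eq_true, Nat.beq_eq, Nat.blt_eq]
  obtain ⟨-, h2, h3⟩ := validL_iff.1 h
  refine ⟨h2, Nat.eq_of_testBit_eq fun j => ?_⟩
  rw [Nat.testBit_two_pow_sub_one, Bool.eq_iff_iff, decide_eq_true_eq]
  refine ⟨fun hj => h2 j (testBit_hits hj), fun hj => ?_⟩
  have : ∀ L : List ℕ, ∀ a ∈ L, (hits L).testBit a = true := by
    intro L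
    induction L with
    | nil => intro a ha; simp at ha
    | cons b L ih =>
      intro a ha
      simp only [hits, Nat.testBit_or, Bool.or_eq_true, Nat.one_shiftLeft, Nat.testBit_two_pow,
        decide_eq_true_eq]
      rcases List.mem_cons.1 ha with rfl | ha
      · exact Or.inl rfl
      · exact Or.inr (ih a ha)
  exact this _ j (h3 j hj)

/-- The coded symmetric group of degree `n`. -/
noncomputable def ops (n : ℕ) [NeZero n] (hn : n ≤ 256) (hid : validL n (List.range n) = true) :
    Bsgs.Ops (Equiv.Perm (Fin n)) (Fin n) where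
  val A := permOf (Equiv.refl (Fin n)) (toL n A)
  ok A := okP n A
  one := pack (List.range n)
  mul := mulP n
  pt p := Fin.ofNat n p
  ptOk p := decide (p < n)
  img := getP
  ok_one := okP_of_validL (by rw [toL_pack hn (by simp) fun a ha => List.mem_range.1 ha]; exact hid)
  val_one := by
    rw [toL_pack hn (by simp) fun a ha => List.mem_range.1 ha]; exact permOf_id _ hid
  ok_mul A B hA hB := okP_of_validL (by
    rw [toL_mulP hn (validL_of_okP hA) (validL_of_okP hB)]
    exact validL_comp (validL_of_okP hA) (validL_of_okP hB))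
  val_mul A B hA' hB' := by
    have hA := validL_of_okP hA'
    have hB := validL_of_okP hB'
    rw [toL_mulP hn hA hB]; exact permOf_comp _ hA hB (validL_comp hA hB)
  pt_img A p hA' hp := by
    have hA := validL_of_okP hA'
    simp only [decide_eq_true_eq] at hp ⊢
    refine ⟨Fin.ext ?_, getP_lt hA hp⟩
    rw [Equiv.Perm.smul_def, Fin.val_ofNat, Nat.mod_eq_of_lt (getP_lt hA hp), ← toL_getD A hp]
    exact (permOf_apply (Equiv.refl (Fin n)) hA _).trans (by simp [Nat.mod_eq_of_lt hp])
  pt_inj p q hp hq h := by
    simp only [decide_eq_true_eq] at hp hq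
    simpa [Nat.mod_eq_of_lt hp, Nat.mod_eq_of_lt hq] using congrArg Fin.val h

end CfsgLib.Golay.PackPerm
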