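import Cfsg.Agent.Lib.Golay.PermList

/-!
Stabiliser chains with transversals given by kernel-checked lists.
-/

set_option autoImplicit false

namespace CfsgLib.Golay

variable {α : Type*} {n : ℕ}

/-- A level of a chain: the base point, the transversal, and its images of the base point. -/
structure Level where
  /-- The number of the base point. -/
  base : ℕ
  /-- The transversal, as lists of images. -/
  reps : List (List ℕ)
  /-- The images of the base point. -/
  imgs : List ℕ

/-- The kernel check of a chain below the fixed points `fixed`. -/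
def chainOk (n : ℕ) : List ℕ → List Level → Bool
  | _, [] => true
  | fixed, l :: ls =>
    decide (l.base < n) && decide (l.reps.map (fun L => L.getD l.base 0) = l.imgs) &&
      decide l.imgs.Nodup &&
      l.reps.all (fun L => validL n L && fixed.all fun f => decide (f < n ∧ L.getD f 0 = f)) &&
        chainOk n (fixed ++ [l.base]) ls

/-- All representatives of a chain lie in `K`. -/
def RepsMem (e : α ≃ Fin n) (K : Subgroup (Equiv.Perm α)) (ls : List Level) : Prop :=
  ∀ l ∈ ls, ∀ L ∈ l.reps, permOf e L ∈ K

/-- The orbits of the chain are no larger than the listed images. -/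
def CoverOk (e : α ≃ Fin n) (K : Subgroup (Equiv.Perm α)) : List ℕ → List Level → Prop
  | fixed, [] => ∀ g ∈ K, (∀ q : α, (e q).val ∈ fixed → g q = q) → g = 1
  | fixed, l :: ls =>
    (∀ g ∈ K, (∀ q : α, (e q).val ∈ fixed → g q = q) →
      ∀ q : α, (e q).val = l.base → (e (g q)).val ∈ l.imgs) ∧ CoverOk e K (fixed ++ [l.base]) ls

theorem getD_of_fixed {e : α ≃ Fin n} {L : List ℕ} (hv : validL n L = true) {q : α}
    (h : L.getD (e q).val 0 = (e q).val) : permOf e L q = q :=
  e.injective (Fin.ext ((permOf_apply e hv q).trans h))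

/-- The subgroup of the elements of `K` fixing the points with numbers in `fixed`. -/
def fixNums (e : α ≃ Fin n) (K : Subgroup (Equiv.Perm α)) (fixed : List ℕ) :
    Subgroup (Equiv.Perm α) where
  carrier := {g | g ∈ K ∧ ∀ q : α, (e q).val ∈ fixed → g q = q}
  one_mem' := ⟨K.one_mem, fun _ _ => rfl⟩
  mul_mem' := fun {a b} ha hb => ⟨K.mul_mem ha.1 hb.1, fun q hq => by
    rw [Equiv.Perm.mul_apply, hb.2 q hq, ha.2 q hq]⟩
  inv_mem' := fun {a} ha => ⟨K.inv_mem ha.1, fun q hq => by
    conv_lhs => rw [← ha.2 q hq]
    simp⟩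

theorem mem_fixNums {e : α ≃ Fin n} {K : Subgroup (Equiv.Perm α)} {fixed : List ℕ}
    {g : Equiv.Perm α} :
    g ∈ fixNums e K fixed ↔ g ∈ K ∧ ∀ q : α, (e q).val ∈ fixed → g q = q := Iff.rfl

theorem fixNums_nil (e : α ≃ Fin n) (K : Subgroup (Equiv.Perm α)) : fixNums e K [] = K := by
  ext g; simp [mem_fixNums]

theorem fixNums_snoc (e : α ≃ Fin n) (K : Subgroup (Equiv.Perm α)) (fixed : List ℕ) (p : α) :
    fixNums e K fixed ⊓ MulAction.stabilizer (Equiv.Perm α) p =
      fixNums e K (fixed ++ [(e p).val]) := by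
  ext g
  simp only [Subgroup.mem_inf, mem_fixNums, MulAction.mem_stabilizer_iff, Equiv.Perm.smul_def,
    List.mem_append, List.mem_singleton]
  constructor
  · rintro ⟨⟨h1, h2⟩, h3⟩
    refine ⟨h1, fun q hq => ?_⟩
    rcases hq with hq | hq
    · exact h2 q hq
    · obtain rfl : q = p := e.injective (Fin.ext hq)
      exact h3
  · rintro ⟨h1, h2⟩
    exact ⟨⟨h1, fun q hq => h2 q (Or.inl hq)⟩, h2 p (Or.inr rfl)⟩

/-- Facts about one checked level. -/
theorem level_facts (e : α ≃ Fin n) (K : Subgroup (Equiv.Perm α)) {fixed : List ℕ} {l : Level}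
    {ls : List Level} (hok : chainOk n fixed (l :: ls) = true) (hmem : RepsMem e K (l :: ls)) :
    (∀ t ∈ l.reps.map (permOf e), t ∈ fixNums e K fixed) ∧
      (∀ p : α, (e p).val = l.base →
        (l.reps.map (permOf e)).map (fun t => (e (t p)).val) = l.imgs) ∧
      l.imgs.Nodup ∧ l.base < n ∧ chainOk n (fixed ++ [l.base]) ls = true := by
  simp only [chainOk, Bool.and_eq_true, decide_eq_true_eq, List.all_eq_true] at hok
  obtain ⟨⟨⟨⟨hb, himg⟩, hnd⟩, hrep⟩, hrec⟩ := hok
  refine ⟨?_, ?_, hnd, hb, hrec⟩
  · intro t ht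
    obtain ⟨L, hL, rfl⟩ := List.mem_map.1 ht
    refine ⟨hmem l List.mem_cons_self L hL, fun q hq => ?_⟩
    exact getD_of_fixed (hrep L hL).1 ((hrep L hL).2 _ hq).2
  · intro p hp
    rw [← himg, List.map_map]
    refine List.map_congr_left fun L hL => ?_
    simp only [Function.comp_apply]
    rw [permOf_apply e (hrep L hL).1, hp]

theorem chain_card (e : α ≃ Fin n) (K : Subgroup (Equiv.Perm α)) :
    ∀ {fixed : List ℕ} {ls : List Level}, chainOk n fixed ls = true → RepsMem e K ls →
      CoverOk e K fixed ls →
      Nat.card ↥(fixNums e K fixed) = (ls.map fun l => l.imgs.length).prod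
  | fixed, [], _, _, hcov => by
    have : fixNums e K fixed = ⊥ :=
      (Subgroup.eq_bot_iff_forall _).2 fun g hg => hcov g hg.1 hg.2
    simp [this]
  | fixed, l :: ls, hok, hmem, hcov => by
    obtain ⟨hT, himg, hnd, hb, hrec⟩ := level_facts e K hok hmem
    set p := e.symm ⟨l.base, hb⟩ with hp
    have hpv : (e p).val = l.base := by simp [hp]
    have himg' := himg p hpv
    have h1 : ((l.reps.map (permOf e)).map (· p)).Nodup := by
      refine List.Nodup.of_map (fun a => (e a).val) ?_
      rw [List.map_map]
      exact himg' ▸ hnd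
    have h2 : ∀ h ∈ fixNums e K fixed, h p ∈ (l.reps.map (permOf e)).map (· p) := by
      intro h hh
      have := hcov.1 h hh.1 hh.2 p hpv
      rw [← himg'] at this
      obtain ⟨t, ht, hte⟩ := List.mem_map.1 this
      exact List.mem_map.2 ⟨t, ht, e.injective (Fin.ext hte)⟩
    have hlen : (l.reps.map (permOf e)).length = l.imgs.length := by
      rw [← himg']; simp
    have hrest := chain_card e K hrec (fun m hm => hmem m (List.mem_cons_of_mem _ hm)) hcov.2
    have := card_eq_of_transversal (fixNums e K fixed) p (l.reps.map (permOf e)) hT h1 h2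
    rw [fixNums_snoc, hpv, hrest, hlen] at this
    simpa using this

theorem chain_le (e : α ≃ Fin n) (K M : Subgroup (Equiv.Perm α)) :
    ∀ {fixed : List ℕ} {ls : List Level}, chainOk n fixed ls = true → RepsMem e K ls →
      CoverOk e K fixed ls → RepsMem e M ls → fixNums e K fixed ≤ M
  | fixed, [], _, _, hcov, _ => by
    intro g hg
    rw [hcov g hg.1 hg.2]
    exact M.one_mem
  | fixed, l :: ls, hok, hmem, hcov, hM => by
    obtain ⟨hT, himg, hnd, hb, hrec⟩ := level_facts e K hok hmem
    set p := e.symm ⟨l.base, hb⟩ with hp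
    have hpv : (e p).val = l.base := by simp [hp]
    have h2 : ∀ h ∈ fixNums e K fixed, h p ∈ (l.reps.map (permOf e)).map (· p) := by
      intro h hh
      have := hcov.1 h hh.1 hh.2 p hpv
      rw [← himg p hpv] at this
      obtain ⟨t, ht, hte⟩ := List.mem_map.1 this
      exact List.mem_map.2 ⟨t, ht, e.injective (Fin.ext hte)⟩
    refine le_of_transversal _ M p _ hT ?_ h2 ?_
    · intro t ht
      obtain ⟨L, hL, rfl⟩ := List.mem_map.1 ht
      exact hM l List.mem_cons_self L hL
    · rw [fixNums_snoc, hpv]
      exact chain_le e K M hrec (fun m hm => hmem m (List.mem_cons_of_mem _ hm)) hcov.2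
        (fun m hm => hM m (List.mem_cons_of_mem _ hm))

/-- The listed images are attained. -/
theorem level_attained (e : α ≃ Fin n) (K : Subgroup (Equiv.Perm α)) {fixed : List ℕ} {l : Level}
    {ls : List Level} (hok : chainOk n fixed (l :: ls) = true) (hmem : RepsMem e K (l :: ls))
    (p q : α) (hp : (e p).val = l.base) (hq : (e q).val ∈ l.imgs) :
    ∃ g ∈ fixNums e K fixed, g p = q := by
  obtain ⟨hT, himg, -⟩ := level_facts e K hok hmem
  rw [← himg p hp] at hq
  obtain ⟨t, ht, hte⟩ := List.mem_map.1 hq
  exact ⟨t, hT t ht, e.injective (Fin.ext hte)⟩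

/-- Levels that realise every point of an invariant set give transitivity on tuples from it. -/
theorem chain_map (e : α ≃ Fin n) (K : Subgroup (Equiv.Perm α)) (S : Set α)
    (hS : ∀ g ∈ K, ∀ x ∈ S, g x ∈ S) :
    ∀ {fixed : List ℕ} {ls : List Level}, chainOk n fixed ls = true → RepsMem e K ls →
      (∀ k, ∀ l, ls[k]? = some l → ∀ x ∈ S,
        (e x).val ∉ fixed ++ ((ls.take k).map (·.base)) → (e x).val ∈ l.imgs) →
      ∀ ys : List α, ys.length = ls.length → ys.Nodup → (∀ y ∈ ys, y ∈ S) →
      (∀ y ∈ ys, (e y).val ∉ fixed) →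
      ∃ g ∈ fixNums e K fixed,
        ∀ i (hi : i < ls.length) (hi' : i < ys.length) (p : α), (e p).val = ls[i].base → g p = ys[i]
  | fixed, [], _, _, _, _, _, _, _, _ => ⟨1, Subgroup.one_mem _, by simp⟩
  | fixed, l :: ls, hok, hmem, hfull, ys, hlen, hnd, hyS, hyf => by
    match ys, hlen with
    | y :: ys, hlen =>
      simp only [List.length_cons, Nat.add_right_cancel_iff] at hlen
      obtain ⟨hT, himg, -, hb, hrec⟩ := level_facts e K hok hmem
      set p := e.symm ⟨l.base, hb⟩ with hp
      have hpv : (e p).val = l.base := by simp [hp]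
      have hy : (e y).val ∈ l.imgs := hfull 0 l rfl y (hyS y List.mem_cons_self)
        (by simpa using hyf y List.mem_cons_self)
      obtain ⟨t, htK, htp⟩ := level_attained e K hok hmem p y hpv hy
      rw [List.nodup_cons] at hnd
      have hfixinv : ∀ q : α, (e q).val ∈ fixed → t⁻¹ q = q := fun q hq =>
        ((fixNums e K fixed).inv_mem htK).2 q hq
      obtain ⟨g, hg, hgi⟩ := chain_map e K S hS hrec
        (fun m hm => hmem m (List.mem_cons_of_mem _ hm))
        (fun k m hk x hx hx' => hfull (k + 1) m (by simpa using hk) x hx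
          (by simpa [List.take_succ_cons, List.append_assoc] using hx'))
        (ys.map (t⁻¹ ·)) (by simpa using hlen) (hnd.2.map t⁻¹.injective)
        (fun z hz => by
          obtain ⟨w, hw, rfl⟩ := List.mem_map.1 hz
          exact hS _ (K.inv_mem htK.1) w (hyS w (List.mem_cons_of_mem _ hw)))
        (fun z hz => by
          obtain ⟨w, hw, rfl⟩ := List.mem_map.1 hz
          intro hmemf
          rcases List.mem_append.1 hmemf with h | h
          · have h' : t (t⁻¹ w) = t⁻¹ w := htK.2 _ h
            have hw' : t (t⁻¹ w) = w := by simp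
            rw [hw'] at h'
            exact hyf w (List.mem_cons_of_mem _ hw) (h'.symm ▸ h)
          · rw [List.mem_singleton, ← hpv] at h
            have : t⁻¹ w = p := e.injective (Fin.ext h)
            have : w = y := by rw [← htp, ← this]; simp
            exact hnd.1 (this ▸ hw))
      refine ⟨t * g, Subgroup.mul_mem _ htK ⟨hg.1, fun q hq => hg.2 q (List.mem_append_left _ hq)⟩, ?_⟩
      intro i hi hi' q hq
      rw [Equiv.Perm.mul_apply]
      rcases i with _ | i
      · obtain rfl : q = p := e.injective (Fin.ext (by simpa [hpv] using hq))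
        rw [hg.2 _ (by simp [hpv]), htp]
        rfl
      · simp only [List.length_cons, Nat.add_lt_add_iff_right] at hi hi'
        rw [hgi i hi (by simpa using hi') q (by simpa using hq)]
        simp

end CfsgLib.Golay
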