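import Cfsg.Agent.Lib.Golay.Uniq24

/-!
A doubly even self-orthogonal code of length 24, dimension 12 and without words of weight 4
has its words of weight 8 forming a Steiner system S(5, 8, 24); it is then the code of the octads.
-/

set_option autoImplicit false

namespace CfsgLib.Golay

open Cfsg

open scoped symmDiff

/-- The indicator word of a set of positions. -/
def indWord {α : Type*} [DecidableEq α] (s : Finset α) : α → ZMod 2 := fun i => if i ∈ s then 1 else 0

section

variable {α : Type*} [Fintype α] [DecidableEq α]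

theorem support_indWord (s : Finset α) : support₂ (indWord s) = s := by
  ext i
  simp [support₂, indWord]

theorem hammingNorm_indWord (s : Finset α) : hammingNorm (indWord s) = s.card := by
  rw [hammingNorm]
  congr 1
  ext i
  simp [indWord]

theorem zmod_two_cases : ∀ a : ZMod 2, a = 0 ∨ a = 1 := by decide

theorem indWord_support (w : α → ZMod 2) : indWord (support₂ w) = w := by
  ext i
  rcases zmod_two_cases (w i) with h | h <;> simp [indWord, support₂, h]

theorem indWord_symmDiff (s t : Finset α) : indWord (s ∆ t) = indWord s + indWord t := by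
  ext i
  by_cases hs : i ∈ s <;> by_cases ht : i ∈ t <;>
    simp [indWord, Finset.mem_symmDiff, hs, ht, (by decide : (1 : ZMod 2) + 1 = 0)]

theorem symmDiff_card (s t : Finset α) :
    (s ∆ t).card + 2 * (s ∩ t).card = s.card + t.card := by
  have h1 : (s ∆ t).card = (s \ t).card + (t \ s).card :=
    Finset.card_union_of_disjoint disjoint_sdiff_sdiff
  have h2 := Finset.card_sdiff_add_card_inter s t
  have h3 := Finset.card_sdiff_add_card_inter t s
  rw [Finset.inter_comm t s] at h3
  omega

end

theorem choose_eq : Nat.choose 24 0 = 1 ∧ Nat.choose 24 1 = 24 ∧ Nat.choose 24 2 = 276 ∧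
    Nat.choose 24 3 = 2024 ∧ Nat.choose 24 4 = 10626 := by decide +kernel

/-- The weight 8 words form an S(5, 8, 24). -/
theorem code_steiner (C : Submodule (ZMod 2) (Fin 24 → ZMod 2))
    (hdim : Module.finrank (ZMod 2) C = 12) (h4 : ∀ w ∈ C, 4 ∣ hammingNorm w)
    (hno4 : ∀ w ∈ C, hammingNorm w ≠ 4) :
    IsSteinerSystem 5 8 (wordsOfWeight (C : Set (Fin 24 → ZMod 2)) 8) := by
  classical
  let F : Finset (Fin 24) → (Fin 24 → ZMod 2) ⧸ C := fun s => Submodule.Quotient.mk (indWord s)
  have hneg : ∀ w : Fin 24 → ZMod 2, -w = w := fun w => funext fun i => ZMod.neg_eq_self_mod_two _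
  have hF : ∀ {s t}, F s = F t → indWord (s ∆ t) ∈ C := fun {s t} h => by
    have := (Submodule.Quotient.eq C).1 h
    rwa [sub_eq_add_neg, hneg, ← indWord_symmDiff] at this
  have hwt : ∀ {s t : Finset (Fin 24)}, F s = F t →
      4 ∣ (s ∆ t).card ∧ (s ∆ t).card ≠ 4 := fun {s t} h => by
    have := hF h
    exact ⟨by simpa [hammingNorm_indWord] using h4 _ this,
      by simpa [hammingNorm_indWord] using hno4 _ this⟩
  have hsmall : ∀ {s t : Finset (Fin 24)}, F s = F t → s.card + t.card < 8 → s = t := by
    intro s t h hlt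
    obtain ⟨h1, h2⟩ := hwt h
    have := symmDiff_card s t
    have h0 : (s ∆ t).card = 0 := by omega
    exact symmDiff_eq_bot.1 (Finset.card_eq_zero.1 h0)
  set U : ℕ → Finset (Finset (Fin 24)) := fun k => Finset.univ.powersetCard k with hU
  have hcardU : ∀ k, (U k).card = Nat.choose 24 k := fun k => by
    simp [hU, Finset.card_powersetCard]
  set S3 := U 0 ∪ U 1 ∪ U 2 ∪ U 3 with hS3
  have hmem3 : ∀ {s}, s ∈ S3 → s.card ≤ 3 := fun {s} hs => by
    simp only [hS3, hU, Finset.mem_union, Finset.mem_powersetCard, Finset.subset_univ, true_and] at hs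
    omega
  have hc3 : S3.card = 2325 := by
    have d : ∀ i j, i ≠ j → Disjoint (U i) (U j) := fun i j hij =>
      Finset.pairwise_disjoint_powersetCard _ hij
    rw [hS3, Finset.card_union_of_disjoint, Finset.card_union_of_disjoint,
      Finset.card_union_of_disjoint, hcardU, hcardU, hcardU, hcardU]
    · obtain ⟨c0, c1, c2, c3, -⟩ := choose_eq
      rw [c0, c1, c2, c3]
    · exact d 0 1 (by omega)
    · simp only [Finset.disjoint_union_left]
      exact ⟨d 0 2 (by omega), d 1 2 (by omega)⟩
    · simp only [Finset.disjoint_union_left]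
      exact ⟨⟨d 0 3 (by omega), d 1 3 (by omega)⟩, d 2 3 (by omega)⟩
  have hi3 : (S3.image F).card = 2325 := by
    rw [Finset.card_image_of_injOn, hc3]
    intro s hs t ht h
    have := hmem3 hs
    have := hmem3 ht
    exact hsmall h (by omega)
  have hfib : ∀ x ∈ (U 4).image F, ((U 4).filter fun s => F s = x).card ≤ 6 := by
    intro x _
    set f := (U 4).filter fun s => F s = x
    have hd : ∀ s ∈ f, ∀ t ∈ f, s ≠ t → Disjoint s t := by
      intro s hs t ht hne
      simp only [f, hU, Finset.mem_filter, Finset.mem_powersetCard] at hs ht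
      have h := hs.2.trans ht.2.symm
      obtain ⟨h1, h2⟩ := hwt h
      have h3 := symmDiff_card s t
      have hn : (s ∆ t).card ≠ 0 := fun h0 => hne (symmDiff_eq_bot.1 (Finset.card_eq_zero.1 h0))
      rw [Finset.disjoint_iff_inter_eq_empty, ← Finset.card_eq_zero]
      omega
    have hle := Finset.card_le_univ (f.biUnion fun x => x)
    rw [Finset.card_biUnion hd, Fintype.card_fin, Finset.sum_const_nat (m := 4)] at hle
    · omega
    · intro s hs
      simp only [f, hU, Finset.mem_filter, Finset.mem_powersetCard] at hs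
      exact hs.1.2
  have hi4 : 1771 ≤ ((U 4).image F).card := by
    have := Finset.card_le_mul_card_image (U 4) 6 hfib
    rw [hcardU, choose_eq.2.2.2.2] at this
    omega
  have hdisj : Disjoint (S3.image F) ((U 4).image F) := by
    rw [Finset.disjoint_left]
    intro x hx hx'
    obtain ⟨s, hs, rfl⟩ := Finset.mem_image.1 hx
    obtain ⟨t, ht, hts⟩ := Finset.mem_image.1 hx'
    simp only [hU, Finset.mem_powersetCard] at ht
    have := hmem3 hs
    have := congrArg Finset.card (hsmall hts.symm (by omega))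
    omega
  have hcardQ : Fintype.card ((Fin 24 → ZMod 2) ⧸ C) = 4096 := by
    rw [Module.card_eq_pow_finrank (K := ZMod 2), ZMod.card, Submodule.finrank_quotient, hdim,
      Module.finrank_fin_fun]
    rfl
  have hall : ∀ x, x ∈ S3.image F ∪ (U 4).image F := fun x => by
    rw [Finset.eq_univ_of_card (S3.image F ∪ (U 4).image F) ?_]
    · exact Finset.mem_univ x
    · have := Finset.card_le_univ (S3.image F ∪ (U 4).image F)
      rw [Finset.card_union_of_disjoint hdisj] at this ⊢
      omega
  refine ⟨fun b hb => hb.2, fun s hs => ?_⟩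
  have hex : ∃ t : Finset (Fin 24), t.card ≤ 4 ∧ F s = F t := by
    rcases Finset.mem_union.1 (hall (F s)) with h | h <;> obtain ⟨t, ht, hts⟩ := Finset.mem_image.1 h
    · exact ⟨t, (hmem3 ht).trans (by omega), hts.symm⟩
    · simp only [hU, Finset.mem_powersetCard] at ht
      exact ⟨t, ht.2.le, hts.symm⟩
  obtain ⟨t, ht, hst⟩ := hex
  obtain ⟨h1, h2⟩ := hwt hst
  have h3 := symmDiff_card s t
  have hne : (s ∆ t).card ≠ 0 := fun h0 => by
    have := symmDiff_eq_bot.1 (Finset.card_eq_zero.1 h0)
    rw [← this] at ht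
    omega
  have hi : (s ∩ t).card ≤ t.card := Finset.card_le_card Finset.inter_subset_right
  have h8 : (s ∆ t).card = 8 := by omega
  have hd : (s ∩ t).card = 0 := by omega
  refine ⟨s ∆ t, ⟨⟨⟨indWord (s ∆ t), hF hst, support_indWord _⟩, h8⟩, fun i hi => ?_⟩, ?_⟩
  · rw [Finset.mem_symmDiff]
    refine Or.inl ⟨hi, fun hit => ?_⟩
    exact Finset.notMem_empty i (Finset.card_eq_zero.1 hd ▸ Finset.mem_inter.2 ⟨hi, hit⟩)
  · rintro b ⟨⟨⟨w, hw, rfl⟩, hb8⟩, hsb⟩
    have hsub : s ⊆ support₂ w ∩ (s ∆ t) := fun i hi =>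
      Finset.mem_inter.2 ⟨hsb hi, Finset.mem_symmDiff.2 (Or.inl ⟨hi, fun hit =>
        Finset.notMem_empty i (Finset.card_eq_zero.1 hd ▸ Finset.mem_inter.2 ⟨hi, hit⟩)⟩)⟩
    have h5 := Finset.card_le_card hsub
    have hmem : indWord (support₂ w ∆ (s ∆ t)) ∈ C := by
      rw [indWord_symmDiff, indWord_support]
      exact add_mem hw (hF hst)
    have hd4 := h4 _ hmem
    have hn4 := hno4 _ hmem
    rw [hammingNorm_indWord] at hd4 hn4
    have h6 := symmDiff_card (support₂ w) (s ∆ t)
    have h0 : (support₂ w ∆ (s ∆ t)).card = 0 := by omega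
    exact symmDiff_eq_bot.1 (Finset.card_eq_zero.1 h0)

theorem golayBasis_weight : ∀ b ∈ golayBasis, bitCount b = 8 := by decide +kernel

/-- Such a code is a relabelling of the Golay code. -/
theorem code_unique (C : Submodule (ZMod 2) (Fin 24 → ZMod 2))
    (hdim : Module.finrank (ZMod 2) C = 12) (horth : ∀ v ∈ C, ∀ w ∈ C, ∑ i, v i * w i = 0)
    (h4 : ∀ w ∈ C, 4 ∣ hammingNorm w) (hno4 : ∀ w ∈ C, hammingNorm w ≠ 4) :
    ∃ e : Fin 24 ≃ GolayPt, ∀ w : GolayPt → ZMod 2, w ∈ golayCode ↔ (fun i => w (e i)) ∈ C := by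
  classical
  obtain ⟨e, he⟩ := iso_octads (Fintype.card_fin 24) (code_steiner C hdim h4 hno4)
  have hbasis : ∀ b ∈ golayBasis, (fun i => toWord b (e i)) ∈ C := by
    intro b hb
    have ho : toSet b ∈ octads :=
      mem_wordsOfWeight.2 ⟨b, mem_spanList_self hb, golayBasis_weight b hb, rfl⟩
    rw [← he] at ho
    obtain ⟨c, ⟨⟨v, hv, rfl⟩, -⟩, hc⟩ := ho
    suffices h : (fun i => toWord b (e i)) = v by rwa [h]
    rw [← indWord_support v, ← indWord_support fun i => toWord b (e i)]
    congr 1
    apply Finset.image_injective e.injective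
    rw [show (support₂ v).image e = toSet b from hc, ← support_toWord]
    ext p
    simp only [support₂, Finset.mem_image, Finset.mem_filter, Finset.mem_univ, true_and]
    exact ⟨fun ⟨a, ha, h⟩ => h ▸ ha, fun h => ⟨e.symm p, by simpa using h, by simp⟩⟩
  refine ⟨e, fun w => ⟨fun hw => ?_, fun hw => ?_⟩⟩
  · obtain ⟨n, hn, rfl⟩ := mem_golayCode.1 hw
    refine spanList_induction (bs := golayBasis) (P := fun n => (fun i => toWord n (e i)) ∈ C)
      ?_ ?_ n hn
    · rw [toWord_zero]
      exact C.zero_mem
    · intro b hb m hm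
      rw [toWord_xor]
      exact C.add_mem (hbasis b hb) hm
  · have hs : support₂ w ∈ supports (golayCode : Set (GolayPt → ZMod 2)) := by
      refine supports_of_orth fun b hb => ?_
      have h := horth _ hw _ (hbasis b hb)
      rw [Equiv.sum_comp e fun p => w p * toWord b p] at h
      rw [← h, ← support_toWord b]
      rw [show ((support₂ w ∩ support₂ (toWord b)).card : ZMod 2) =
          ∑ p, if p ∈ support₂ w ∩ support₂ (toWord b) then 1 else 0 by
        rw [Finset.sum_boole, Finset.filter_univ_mem]]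
      refine Finset.sum_congr rfl fun p _ => ?_
      rcases zmod_two_cases (w p) with h | h <;> rcases zmod_two_cases (toWord b p) with h' | h' <;>
        simp [support₂, h, h']
    obtain ⟨v, hv, hvs⟩ := hs
    rwa [← indWord_support w, ← hvs, indWord_support]

end CfsgLib.Golay
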