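import Cfsg.Agent.Lib.Golay.Octad
import Cfsg.Agent.Lib.Golay.Design

/-!
# The short vectors in the cosets of the length-24 code
-/

set_option autoImplicit false

namespace CfsgLib.Golay

open Cfsg

open scoped symmDiff

/-- The word with a given support. -/
def cosetWord {α : Type*} [DecidableEq α] (s : Finset α) : α → ZMod 2 := fun p => if p ∈ s then 1 else 0

theorem support_cosetWord {α : Type*} [Fintype α] [DecidableEq α] (s : Finset α) : support₂ (cosetWord s) = s := by
  ext p; simp [support₂, cosetWord]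

theorem zmod_two_or : ∀ a : ZMod 2, a = 0 ∨ a = 1 := by decide

theorem cosetWord_support {α : Type*} [Fintype α] [DecidableEq α] (v : α → ZMod 2) : cosetWord (support₂ v) = v := by
  ext p
  rcases zmod_two_or (v p) with h | h <;> simp [support₂, cosetWord, h]

theorem support_sub {α : Type*} [Fintype α] [DecidableEq α] (v w : α → ZMod 2) :
    support₂ (v - w) = support₂ v ∆ support₂ w := by
  ext p
  simp only [support₂, Finset.mem_filter, Finset.mem_univ, true_and, Finset.mem_symmDiff, Pi.sub_apply]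
  rcases zmod_two_or (v p) with h | h <;> rcases zmod_two_or (w p) with h' | h' <;> simp [h, h']

theorem mem_golayCode_iff {v : GolayPt → ZMod 2} :
    v ∈ golayCode ↔ support₂ v ∈ supports (golayCode : Set (GolayPt → ZMod 2)) := by
  refine ⟨fun h => ⟨v, h, rfl⟩, ?_⟩
  rintro ⟨u, hu, e⟩
  rw [← cosetWord_support v, ← e, cosetWord_support]
  exact hu

theorem empty_mem_supports : (∅ : Finset GolayPt) ∈ supports (golayCode : Set (GolayPt → ZMod 2)) :=
  ⟨0, golayCode.zero_mem, by ext p; simp [support₂]⟩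

/-- The supports of weight at most four in the coset of a given support. -/
def shortIn (W : Finset GolayPt) : Set (Finset GolayPt) :=
  {s | s.card ≤ 4 ∧ W ∆ s ∈ supports (golayCode : Set (GolayPt → ZMod 2))}

theorem shortIn_nonempty (W : Finset GolayPt) : (shortIn W).Nonempty := by
  suffices ∀ n, ∀ s : Finset GolayPt, s.card = n → W ∆ s ∈ supports (golayCode : Set (GolayPt → ZMod 2)) →
      (shortIn W).Nonempty from
    this _ W rfl (by rw [symmDiff_self]; exact empty_mem_supports)
  intro n
  induction n using Nat.strong_induction_on with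
  | _ n ih =>
    intro s hs hW
    by_cases h4 : s.card ≤ 4
    · exact ⟨s, h4, hW⟩
    obtain ⟨t, hts, ht⟩ := Finset.exists_subset_card_eq (show 5 ≤ s.card by omega)
    obtain ⟨o, ⟨ho, hto⟩, -⟩ := octads_steiner.2 t ht
    have h5 : 5 ≤ (s ∩ o).card := ht ▸ Finset.card_le_card (Finset.subset_inter hts hto)
    have hc := card_symmDiff_add s o
    have ho8 : o.card = 8 := ho.2
    refine ih _ (show (s ∆ o).card < n by omega) _ rfl ?_
    rw [← symmDiff_assoc]
    exact symmDiff_mem_supports hW ho.1

theorem shortIn_pair {W s s' : Finset GolayPt} (hs : s ∈ shortIn W) (hs' : s' ∈ shortIn W) (hne : s ≠ s') :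
    s.card = 4 ∧ s'.card = 4 ∧ Disjoint s s' ∧ s ∪ s' ∈ octads := by
  have hmem : s ∆ s' ∈ supports (golayCode : Set (GolayPt → ZMod 2)) := by
    have := symmDiff_mem_supports hs.2 hs'.2
    rwa [symmDiff_comm W s, symmDiff_assoc, ← symmDiff_assoc W, symmDiff_self, bot_symmDiff] at this
  have hc := card_symmDiff_add s s'
  have h1 := hs.1
  have h2 := hs'.1
  have hpos : (s ∆ s').card ≠ 0 := fun h => hne (symmDiff_eq_bot.1 (Finset.card_eq_zero.1 h))
  have h8 : (s ∆ s').card = 8 := by rcases supports_weight hmem with h | h | h | h | h <;> omega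
  have hd : Disjoint s s' := by
    rw [Finset.disjoint_iff_inter_eq_empty, ← Finset.card_eq_zero]; omega
  refine ⟨by omega, by omega, hd, ?_⟩
  have e : s ∪ s' = s ∆ s' := by
    rw [hd.symmDiff_eq_sup]; rfl
  rw [e]
  exact ⟨hmem, h8⟩

/-- A coset has one short support, of size at most three, or six, all of size four. -/
theorem shortIn_cases (W : Finset GolayPt) :
    (∃ s, shortIn W = {s} ∧ s.card ≤ 3) ∨
      ((shortIn W).ncard = 6 ∧ (∀ s ∈ shortIn W, s.card = 4) ∧ ∀ p, ∃ s ∈ shortIn W, p ∈ s) := by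
  by_cases h3 : ∃ s ∈ shortIn W, s.card ≤ 3
  · obtain ⟨s, hs, hs3⟩ := h3
    refine Or.inl ⟨s, Set.eq_singleton_iff_unique_mem.2 ⟨hs, fun s' hs' => ?_⟩, hs3⟩
    by_contra hne
    have := (shortIn_pair hs hs' (Ne.symm hne)).1
    omega
  push Not at h3
  have h4 : ∀ s ∈ shortIn W, s.card = 4 := fun s hs => by
    have := h3 s hs
    have := hs.1
    omega
  refine Or.inr ?_
  obtain ⟨T, hT⟩ := shortIn_nonempty W
  have hTc := h4 T hT
  set O := (blockFinset octads).filter (T ⊆ ·) with hO
  have h5 : O.card = 5 := by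
    have := blocks_through octads_steiner T (by omega)
    rw [Fintype.card_congr ptEquiv, Fintype.card_fin, hTc] at this
    norm_num [Nat.choose] at this
    rw [hO]; omega
  have hOmem : ∀ o, o ∈ O ↔ o ∈ octads ∧ T ⊆ o := fun o => by rw [hO, Finset.mem_filter, mem_blockFinset]
  have hset : shortIn W = ↑(insert T (O.image (· \ T))) := by
    ext s
    rw [Finset.coe_insert, Finset.coe_image, Set.mem_insert_iff, Set.mem_image]
    constructor
    · intro hs
      by_cases he : s = T
      · exact Or.inl he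
      obtain ⟨-, -, hd, ho⟩ := shortIn_pair hT hs (Ne.symm he)
      refine Or.inr ⟨T ∪ s, Finset.mem_coe.2 ((hOmem _).2 ⟨ho, Finset.subset_union_left⟩), ?_⟩
      rw [Finset.union_sdiff_left]
      exact Finset.sdiff_eq_self_of_disjoint hd.symm
    · rintro (rfl | ⟨o, ho, rfl⟩)
      · exact hT
      obtain ⟨ho, hTo⟩ := (hOmem o).1 (Finset.mem_coe.1 ho)
      have e : o \ T = T ∆ o := (symmDiff_of_le (show T ≤ o from hTo)).symm
      refine ⟨?_, ?_⟩
      · rw [Finset.card_sdiff_of_subset hTo, ho.2, hTc]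
      · rw [e, ← symmDiff_assoc]
        exact symmDiff_mem_supports hT.2 ho.1
  have hinj : Set.InjOn (fun o => o \ T) (O : Set (Finset GolayPt)) := by
    intro o ho o' ho' e
    rw [← Finset.union_sdiff_of_subset ((hOmem o).1 ho).2, ← Finset.union_sdiff_of_subset ((hOmem o').1 ho').2]
    exact congrArg (T ∪ ·) e
  have hnot : T ∉ O.image (· \ T) := by
    intro h
    obtain ⟨o, -, e⟩ := Finset.mem_image.1 h
    have hd : Disjoint (o \ T) T := Finset.sdiff_disjoint
    rw [e, Finset.disjoint_self_iff_empty] at hd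
    rw [hd, Finset.card_empty] at hTc
    omega
  refine ⟨?_, h4, fun p => ?_⟩
  · rw [hset, Set.ncard_coe_finset, Finset.card_insert_of_notMem hnot, Finset.card_image_of_injOn hinj, h5]
  by_cases hp : p ∈ T
  · exact ⟨T, hT, hp⟩
  obtain ⟨o, ⟨ho, hsub⟩, -⟩ := octads_steiner.2 (insert p T) (by rw [Finset.card_insert_of_notMem hp, hTc])
  refine ⟨o \ T, ?_, Finset.mem_sdiff.2 ⟨hsub (Finset.mem_insert_self p T), hp⟩⟩
  rw [hset, Finset.coe_insert, Finset.coe_image]
  exact Or.inr ⟨o, Finset.mem_coe.2 ((hOmem o).2 ⟨ho, (Finset.subset_insert p T).trans hsub⟩), rfl⟩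

end CfsgLib.Golay
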