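import Cfsg.Agent.Lib.Golay.UniqSmall

/-!
A strongly regular graph with parameters (100, 22, 0, 6) is the point-block graph of an S(3, 6, 22).
-/

set_option autoImplicit false

namespace CfsgLib.Golay

open Cfsg

/-- Isomorphic systems have isomorphic point-block graphs. -/
theorem pbg_iso_of_systemIso {α β : Type*} [DecidableEq β] {B : Set (Finset α)}
    {B' : Set (Finset β)} (h : SetSystemIso B B') :
    Nonempty (pointBlockGraph B ≃g pointBlockGraph B') := by
  obtain ⟨e, he⟩ := h
  have hmem : ∀ b : Finset α, b ∈ B ↔ e.finsetCongr b ∈ B' := by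
    intro b
    rw [← he, Equiv.finsetCongr_apply, Finset.map_eq_image]
    exact ⟨fun h => ⟨b, h, rfl⟩, fun ⟨c, hc, hcb⟩ =>
      Finset.image_injective e.injective hcb ▸ hc⟩
  let φ : Option (α ⊕ B) ≃ Option (β ⊕ B') :=
    Equiv.optionCongr (e.sumCongr (e.finsetCongr.subtypeEquiv hmem))
  have hrel : ∀ u v, pointBlockRel B' (φ u) (φ v) ↔ pointBlockRel B u v := by
    intro u v
    rcases u with _ | x | b <;> rcases v with _ | y | c <;>
      simp [φ, pointBlockRel, Equiv.subtypeEquiv_apply]
  refine ⟨⟨φ, fun {u v} => ?_⟩⟩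
  simp only [pointBlockGraph, SimpleGraph.fromRel_adj, hrel, φ.injective.ne_iff]

section Srg

variable {V : Type*} [Fintype V] {G : SimpleGraph V} [DecidableRel G.Adj]

theorem srg_common [DecidableEq V] {n k l μ : ℕ} (hG : G.IsSRGWith n k l μ) {v w : V} (hvw : v ≠ w) :
    (G.Adj v w → (Finset.univ.filter fun u => G.Adj v u ∧ G.Adj w u).card = l) ∧
      (¬ G.Adj v w → (Finset.univ.filter fun u => G.Adj v u ∧ G.Adj w u).card = μ) := by
  have e : Fintype.card (G.commonNeighbors v w) =
      (Finset.univ.filter fun u => G.Adj v u ∧ G.Adj w u).card := by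
    rw [← Set.toFinset_card]
    congr 1
    ext u
    simp [SimpleGraph.mem_commonNeighbors]
  exact ⟨fun h => e ▸ hG.of_adj v w h, fun h => e ▸ hG.of_not_adj hvw h⟩

theorem srg100_no_triangle (hG : G.IsSRGWith 100 22 0 6) {a b c : V} (hab : G.Adj a b)
    (hac : G.Adj a c) : ¬ G.Adj b c := by
  classical
  intro hbc
  have := (srg_common hG hab.ne).1 hab
  rw [Finset.card_eq_zero] at this
  exact Finset.notMem_empty c (this ▸ Finset.mem_filter.2 ⟨Finset.mem_univ _, hac, hbc⟩)

theorem srg100_system (hG : G.IsSRGWith 100 22 0 6) :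
    Nonempty (G ≃g pointBlockGraph model22Set) := by
  classical
  obtain ⟨v0⟩ : Nonempty V := Fintype.card_pos_iff.1 (by rw [hG.card]; omega)
  have deg : ∀ v, (Finset.univ.filter fun u => G.Adj v u).card = 22 := fun v => by
    rw [← hG.regular v, ← SimpleGraph.card_neighborFinset_eq_degree]
    congr 1
    ext u
    simp
  set R : Finset V := Finset.univ.filter fun r => r ≠ v0 ∧ ¬ G.Adj v0 r with hR
  have memR : ∀ r, r ∈ R ↔ r ≠ v0 ∧ ¬ G.Adj v0 r := fun r => by simp [hR]
  have hN : Fintype.card {v // G.Adj v0 v} = 22 := by rw [Fintype.card_subtype, deg]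
  have hRc : R.card = 77 := by
    have e : R = ((Finset.univ : Finset V).erase v0) \ (Finset.univ.filter fun u => G.Adj v0 u) := by
      ext r; simp [memR]
    rw [e, Finset.card_sdiff_of_subset (fun u hu => ?_), Finset.card_erase_of_mem (Finset.mem_univ _),
      Finset.card_univ, hG.card, deg]
    simp only [Finset.mem_filter] at hu
    exact Finset.mem_erase.2 ⟨hu.2.ne', Finset.mem_univ _⟩
  let blk : V → Finset {v // G.Adj v0 v} := fun r => Finset.univ.filter fun p => G.Adj r p.val
  have mblk : ∀ (r : V) (p : {v // G.Adj v0 v}), p ∈ blk r ↔ G.Adj r p.val := fun r p => by simp [blk]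
  have hblk : ∀ r ∈ R, (blk r).card = 6 := by
    intro r hr
    rw [memR] at hr
    rw [← (srg_common hG hr.1.symm).2 hr.2, ← Finset.card_map (Function.Embedding.subtype _)]
    congr 1
    ext u
    simp [mblk, and_comm]
  have hpoint : ∀ p : {v // G.Adj v0 v}, (R.filter fun r => p ∈ blk r).card = 21 := by
    intro p
    have e : (R.filter fun r => p ∈ blk r) = (Finset.univ.filter fun u => G.Adj p.val u).erase v0 := by
      ext r
      simp only [Finset.mem_filter, memR, mblk, Finset.mem_erase, Finset.mem_univ, true_and]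
      exact ⟨fun h => ⟨h.1.1, h.2.symm⟩,
        fun h => ⟨⟨h.1, fun h' => srg100_no_triangle hG p.2 h' h.2⟩, h.2.symm⟩⟩
    rw [e, Finset.card_erase_of_mem (by simpa using p.2.symm), deg]
  have hpair : ∀ p q : {v // G.Adj v0 v}, p ≠ q →
      (R.filter fun r => p ∈ blk r ∧ q ∈ blk r).card = 5 := by
    intro p q hpq
    have hne : p.val ≠ q.val := fun h => hpq (Subtype.ext h)
    have e : (R.filter fun r => p ∈ blk r ∧ q ∈ blk r) =
        (Finset.univ.filter fun u => G.Adj p.val u ∧ G.Adj q.val u).erase v0 := by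
      ext r
      simp only [Finset.mem_filter, memR, mblk, Finset.mem_erase, Finset.mem_univ, true_and]
      exact ⟨fun h => ⟨h.1.1, h.2.1.symm, h.2.2.symm⟩,
        fun h => ⟨⟨h.1, fun h' => srg100_no_triangle hG p.2 h' h.2.1⟩, h.2.1.symm, h.2.2.symm⟩⟩
    rw [e, Finset.card_erase_of_mem (by simp [p.2.symm, q.2.symm]),
      (srg_common hG hne).2 (srg100_no_triangle hG p.2 q.2)]
  -- the intersections of the blocks
  have hadj_inter : ∀ b c, G.Adj b c → blk b ∩ blk c = ∅ := by
    intro b c h
    rw [Finset.eq_empty_iff_forall_notMem]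
    intro p hp
    rw [Finset.mem_inter, mblk, mblk] at hp
    exact srg100_no_triangle hG h hp.1 hp.2
  have hinter : ∀ b ∈ R, ∀ c ∈ R, b ≠ c → ¬ G.Adj b c → (blk b ∩ blk c).card = 2 := by
    intro b hb
    have h1 : ∑ c ∈ R, (blk b ∩ blk c).card = 126 := by
      have h3 := Finset.sum_card_bipartiteAbove_eq_sum_card_bipartiteBelow
        (s := R) (t := blk b) (fun c p => p ∈ blk c)
      simp only [Finset.bipartiteAbove, Finset.bipartiteBelow, Finset.filter_mem_eq_inter] at h3
      rw [h3, Finset.sum_congr rfl fun p _ => hpoint p, Finset.sum_const, hblk b hb]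
      rfl
    have h2 : ∑ c ∈ R, (blk b ∩ blk c).offDiag.card = 150 := by
      have h3 := Finset.sum_card_bipartiteAbove_eq_sum_card_bipartiteBelow
        (s := R) (t := (blk b).offDiag) (fun c pq => pq.1 ∈ blk c ∧ pq.2 ∈ blk c)
      simp only [Finset.bipartiteAbove, Finset.bipartiteBelow] at h3
      have e : ∀ c : V, ((blk b).offDiag.filter fun pq => pq.1 ∈ blk c ∧ pq.2 ∈ blk c) =
          (blk b ∩ blk c).offDiag := by
        intro c
        ext pq
        simp only [Finset.mem_filter, Finset.mem_offDiag, Finset.mem_inter]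
        tauto
      simp only [e] at h3
      rw [h3, Finset.sum_congr rfl fun pq hpq => hpair pq.1 pq.2 (Finset.mem_offDiag.1 hpq).2.2,
        Finset.sum_const, Finset.offDiag_card, hblk b hb]
      rfl
    have hA : (R.filter fun c => G.Adj b c).card = 16 := by
      have h := deg b
      rw [← Finset.card_filter_add_card_filter_not (fun u => G.Adj v0 u)] at h
      have e1 : ((Finset.univ.filter fun u => G.Adj b u).filter fun u => G.Adj v0 u) =
          (blk b).map (Function.Embedding.subtype _) := by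
        ext u; simp [mblk, and_comm]
      have e2 : ((Finset.univ.filter fun u => G.Adj b u).filter fun u => ¬ G.Adj v0 u) =
          R.filter fun c => G.Adj b c := by
        ext u
        simp only [Finset.mem_filter, Finset.mem_univ, true_and, memR]
        refine ⟨fun h => ⟨⟨?_, h.2⟩, h.1⟩, fun h => ⟨h.2, h.1.2⟩⟩
        rintro rfl
        exact ((memR b).1 hb).2 h.1.symm
      rw [e1, e2, Finset.card_map, hblk b hb] at h
      omega
    set O := (R.filter fun c => ¬ G.Adj b c).erase b with hO
    have hbO : b ∈ R.filter fun c => ¬ G.Adj b c := Finset.mem_filter.2 ⟨hb, G.irrefl⟩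
    have hOc : O.card = 60 := by
      have := Finset.card_filter_add_card_filter_not (s := R) (fun c => G.Adj b c)
      rw [hO, Finset.card_erase_of_mem hbO]
      omega
    have split : ∀ f : V → ℕ, ∑ c ∈ R, f c =
        ∑ c ∈ R.filter (fun c => G.Adj b c), f c + (f b + ∑ c ∈ O, f c) := by
      intro f
      rw [Finset.add_sum_erase _ _ hbO, Finset.sum_filter_add_sum_filter_not]
    rw [split, Finset.inter_self, hblk b hb,
      Finset.sum_eq_zero (fun c hc => by rw [hadj_inter b c (Finset.mem_filter.1 hc).2]; rfl)] at h1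
    rw [split, Finset.inter_self, Finset.offDiag_card, hblk b hb,
      Finset.sum_eq_zero (fun c hc => by rw [hadj_inter b c (Finset.mem_filter.1 hc).2]; rfl)] at h2
    have hsq : ∑ c ∈ O, (((blk b ∩ blk c).card : ℤ) - 2) ^ 2 = 0 := by
      have e : ∀ c, (((blk b ∩ blk c).card : ℤ) - 2) ^ 2 =
          ((blk b ∩ blk c).offDiag.card : ℤ) - 3 * (blk b ∩ blk c).card + 4 := by
        intro c
        rw [Finset.offDiag_card, Nat.cast_sub (Nat.le_mul_self _)]
        push_cast
        ring
      rw [Finset.sum_congr rfl fun c _ => e c, Finset.sum_add_distrib, Finset.sum_sub_distrib,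
        ← Finset.mul_sum, Finset.sum_const, hOc, ← Nat.cast_sum, ← Nat.cast_sum]
      have h1' : ∑ c ∈ O, (blk b ∩ blk c).card = 120 := by omega
      have h2' : ∑ c ∈ O, (blk b ∩ blk c).offDiag.card = 120 := by omega
      rw [h1', h2']
      norm_num
    intro c hc hbc hnadj
    have hcO : c ∈ O := Finset.mem_erase.2 ⟨hbc.symm, Finset.mem_filter.2 ⟨hc, hnadj⟩⟩
    have := (Finset.sum_eq_zero_iff_of_nonneg fun c _ => sq_nonneg _).1 hsq c hcO
    have := pow_eq_zero_iff (by norm_num : 2 ≠ 0) |>.1 this
    omega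
  have hle2 : ∀ b ∈ R, ∀ c ∈ R, b ≠ c → (blk b ∩ blk c).card ≤ 2 := by
    intro b hb c hc hbc
    by_cases h : G.Adj b c
    · rw [hadj_inter b c h]; simp
    · exact (hinter b hb c hc hbc h).le
  have hinj : ∀ b ∈ R, ∀ c ∈ R, blk b = blk c → b = c := by
    intro b hb c hc h
    by_contra hne
    have := hle2 b hb c hc hne
    rw [h, Finset.inter_self, hblk c hc] at this
    omega
  set C : Set (Finset {v // G.Adj v0 v}) := blk '' (R : Set V) with hC
  have hst : IsSteinerSystem 3 6 C := by
    refine ⟨?_, fun s hs => ?_⟩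
    · rintro _ ⟨r, hr, rfl⟩
      exact hblk r hr
    have huniv : R.biUnion (fun r => (blk r).powersetCard 3) = Finset.univ.powersetCard 3 := by
      refine Finset.eq_of_subset_of_card_le (fun t ht => ?_) ?_
      · obtain ⟨r, -, ht⟩ := Finset.mem_biUnion.1 ht
        exact Finset.mem_powersetCard.2 ⟨Finset.subset_univ _, (Finset.mem_powersetCard.1 ht).2⟩
      · rw [Finset.card_biUnion]
        · rw [Finset.sum_congr rfl fun r hr => by rw [Finset.card_powersetCard, hblk r hr],
            Finset.sum_const, Finset.card_powersetCard, Finset.card_univ, hN, hRc]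
          decide +kernel
        · intro b hb c hc hbc
          simp only [Function.onFun, Finset.disjoint_left, Finset.mem_powersetCard]
          intro t ht ht'
          have := Finset.card_le_card (Finset.subset_inter ht.1 ht'.1)
          have := hle2 b hb c hc hbc
          omega
    have hmem : s ∈ R.biUnion (fun r => (blk r).powersetCard 3) := by
      rw [huniv]; exact Finset.mem_powersetCard.2 ⟨Finset.subset_univ _, hs⟩
    obtain ⟨r, hr, hsr⟩ := Finset.mem_biUnion.1 hmem
    have hsr' := (Finset.mem_powersetCard.1 hsr).1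
    refine ⟨blk r, ⟨⟨r, hr, rfl⟩, hsr'⟩, ?_⟩
    rintro _ ⟨⟨r', hr', rfl⟩, hsr''⟩
    by_contra hne
    have hle := hle2 r' hr' r hr fun h => hne (by rw [h])
    have := Finset.card_le_card (Finset.subset_inter hsr'' hsr')
    omega
  let ψ : V → Option ({v // G.Adj v0 v} ⊕ C) := fun v =>
    if h0 : v = v0 then none else if h : G.Adj v0 v then some (Sum.inl ⟨v, h⟩)
      else some (Sum.inr ⟨blk v, v, (memR v).2 ⟨h0, h⟩, rfl⟩)
  have ψ0 : ψ v0 = none := by simp [ψ]
  have ψN : ∀ v (h : G.Adj v0 v), ψ v = some (Sum.inl ⟨v, h⟩) := fun v h => by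
    simp [ψ, h.ne', h]
  have ψR : ∀ v (h : v ∈ R), ψ v = some (Sum.inr ⟨blk v, v, h, rfl⟩) := fun v h => by
    simp [ψ, ((memR v).1 h).1, ((memR v).1 h).2]
  have trich : ∀ v, v = v0 ∨ G.Adj v0 v ∨ v ∈ R := by
    intro v
    rw [memR]
    tauto
  have hbij : Function.Bijective ψ := by
    constructor
    · intro v w h
      rcases trich v with rfl | hv | hv <;> rcases trich w with rfl | hw | hw
      · rfl
      · simp [ψ0, ψN w hw] at h
      · simp [ψ0, ψR w hw] at h
      · simp [ψ0, ψN v hv] at h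
      · simpa [ψN v hv, ψN w hw] using h
      · simp [ψN v hv, ψR w hw] at h
      · simp [ψ0, ψR v hv] at h
      · simp [ψR v hv, ψN w hw] at h
      · rw [ψR v hv, ψR w hw] at h
        exact hinj v hv w hw (congrArg Subtype.val (Sum.inr_injective (Option.some_injective _ h)))
    · rintro (_ | p | ⟨_, r, hr, rfl⟩)
      exacts [⟨v0, ψ0⟩, ⟨p.val, ψN p.val p.2⟩, ⟨r, ψR r hr⟩]
  have hadj : ∀ v w, (pointBlockGraph C).Adj (ψ v) (ψ w) ↔ G.Adj v w := by
    intro v w
    have bb : ∀ b ∈ R, ∀ c ∈ R, b ≠ c → (Disjoint (blk b) (blk c) ↔ G.Adj b c) := by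
      intro b hb c hc hbc
      constructor
      · intro h
        by_contra hn
        have := hinter b hb c hc hbc hn
        rw [Finset.disjoint_iff_inter_eq_empty.1 h] at this
        simp at this
      · exact fun h => Finset.disjoint_iff_inter_eq_empty.2 (hadj_inter b c h)
    simp only [pointBlockGraph, SimpleGraph.fromRel_adj, hbij.1.ne_iff]
    rcases trich v with hv | hv | hv <;> rcases trich w with hw | hw | hw
    · subst hv; subst hw; simp
    · subst hv; simp [ψ0, ψN w hw, pointBlockRel, hw, hw.ne]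
    · subst hv; simp [ψ0, ψR w hw, pointBlockRel, ((memR w).1 hw).2]
    · subst hw; simp [ψ0, ψN v hv, pointBlockRel, hv.symm, hv.ne']
    · simp [ψN v hv, ψN w hw, pointBlockRel, srg100_no_triangle hG hv hw]
    · simp only [ψN v hv, ψR w hw, pointBlockRel, mblk, or_false]
      exact ⟨fun h => h.2.symm, fun h => ⟨h.ne, h.symm⟩⟩
    · subst hw; simp [ψ0, ψR v hv, pointBlockRel]; exact fun h => ((memR v).1 hv).2 h.symm
    · simp only [ψR v hv, ψN w hw, pointBlockRel, mblk, false_or]
      exact ⟨fun h => h.2, fun h => ⟨h.ne, h⟩⟩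
    · simp only [ψR v hv, ψR w hw, pointBlockRel]
      constructor
      · rintro ⟨hne, h | h⟩
        exacts [(bb v hv w hw hne).1 h, ((bb w hw v hv hne.symm).1 h).symm]
      · exact fun h => ⟨h.ne, Or.inl ((bb v hv w hw h.ne).2 h)⟩
  obtain ⟨e, he⟩ := iso_model22 hN hst
  obtain ⟨f⟩ := pbg_iso_of_systemIso ⟨e, he⟩
  exact ⟨SimpleGraph.Iso.comp f ⟨Equiv.ofBijective ψ hbij, fun {v w} => hadj v w⟩⟩

end Srg

end CfsgLib.Golay
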