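import Cfsg.Agent.Lib.Golay.Sys23

/-!
The group of S(3, 6, 22): the setwise stabiliser of a pair of points in the group of the code.
-/

set_option autoImplicit false

namespace CfsgLib.Golay

open Cfsg

open scoped Pointwise

/-- The pair of points removed to form the system on 22 points. -/
def basePair : Finset GolayPt := {pt 0, pt 1}

/-- The setwise stabiliser of the pair. -/
def pairGroup : Subgroup (Equiv.Perm GolayPt) :=
  M24 ⊓ MulAction.stabilizer (Equiv.Perm GolayPt) basePair

theorem pt_mem_basePair {q : GolayPt} : q ∈ basePair ↔ (ptEquiv q).val < 2 := by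
  revert q
  decide +kernel

/-- The other 22 points. -/
def restEquiv : Fin 22 ≃ {q : GolayPt // q ∉ basePair} where
  toFun i := ⟨pt (i.val + 2), by rw [pt_mem_basePair, ptEquiv_pt (by omega)]; omega⟩
  invFun q := ⟨(ptEquiv q.val).val - 2, by have := (ptEquiv q.val).isLt; omega⟩
  left_inv i := Fin.ext (by simp only; rw [ptEquiv_pt (by omega)]; omega)
  right_inv q := Subtype.ext (by
    have h := q.2
    rw [pt_mem_basePair] at h
    show pt ((ptEquiv q.val).val - 2 + 2) = q.val
    rw [show (ptEquiv q.val).val - 2 + 2 = (ptEquiv q.val).val by omega, pt_ptEquiv])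

theorem pairGroup_mem_iff (k : pairGroup) (q : GolayPt) : k.val q ∉ basePair ↔ q ∉ basePair := by
  have h : k.val • basePair = basePair := (Subgroup.mem_inf.1 k.2).2
  conv_lhs => rw [← h]
  exact not_congr (Finset.smul_mem_smul_finset_iff k.val)

/-- The action on the 22 points. -/
noncomputable def res22 : pairGroup →* Equiv.Perm (Fin 22) where
  toFun k := restEquiv.symm.permCongr (k.val.subtypePerm (pairGroup_mem_iff k))
  map_one' := by
    refine Equiv.ext fun i => ?_
    simp [Equiv.permCongr_apply]
  map_mul' a b := by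
    refine Equiv.ext fun i => ?_
    simp [Equiv.permCongr_apply, Equiv.Perm.mul_apply]

theorem res22_apply (k : pairGroup) (i : Fin 22) :
    (restEquiv (res22 k i)).val = k.val (restEquiv i).val := by
  simp [res22, Equiv.permCongr_apply]

theorem mem_hexOctad (m : ℕ) (q : GolayPt) :
    q ∈ hexOctad m ↔ q ∈ basePair ∨ ∃ i ∈ Path.blockSet 22 m, (restEquiv i).val = q := by
  rw [hexOctad, mem_toSet, testBit_hex]
  by_cases hq : (ptEquiv q).val < 2
  · simp [hq, pt_mem_basePair.2 hq]
  · have hqp : q ∉ basePair := fun h => hq (pt_mem_basePair.1 h)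
    rw [if_neg hq, or_iff_right hqp]
    constructor
    · intro h
      have := (ptEquiv q).isLt
      refine ⟨⟨(ptEquiv q).val - 2, by omega⟩, Path.mem_blockSet.2 h, ?_⟩
      show pt ((ptEquiv q).val - 2 + 2) = q
      rw [show (ptEquiv q).val - 2 + 2 = (ptEquiv q).val by omega, pt_ptEquiv]
    · rintro ⟨i, hi, rfl⟩
      show m.testBit ((ptEquiv (pt (i.val + 2))).val - 2) = true
      rw [ptEquiv_pt (by omega), Nat.add_sub_cancel]
      exact Path.mem_blockSet.1 hi

theorem res22_mem (k : pairGroup) : res22 k ∈ setSystemAut model22Set := by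
  rw [mem_setSystemAut_iff]
  rintro _ ⟨m, hm, rfl⟩
  have hk := Subgroup.mem_inf.1 k.2
  have hpair : k.val • basePair = basePair := hk.2
  have ho := octads_smul hk.1 (hexOctad_octad hm)
  have hin : ∀ q ∈ basePair, q ∈ k.val • hexOctad m := by
    intro q hq
    rw [← hpair] at hq
    refine Finset.smul_finset_subset_smul_finset ?_ hq
    exact fun r hr => (mem_hexOctad m r).2 (Or.inl hr)
  obtain ⟨n, hn, h8, hno⟩ := mem_wordsOfWeight.1 ho
  have h0 : n.testBit 0 = true :=
    (pt_mem_toSet (by omega)).1 (hno ▸ hin _ (by simp [basePair]))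
  have h1 : n.testBit 1 = true :=
    (pt_mem_toSet (by omega)).1 (hno ▸ hin _ (by simp [basePair]))
  obtain ⟨hm', he⟩ := allOctads n hn h8 h0 h1
  refine ⟨n / 4, hm', ?_⟩
  ext i
  have key : (restEquiv i).val ∈ hexOctad (n / 4) ↔ (restEquiv i).val ∈ k.val • hexOctad m := by
    rw [← hno, hexOctad, he]
  have hnot : ∀ (m' : ℕ) (j : Fin 22), (restEquiv j).val ∈ hexOctad m' ↔ j ∈ Path.blockSet 22 m' := by
    intro m' j
    rw [mem_hexOctad, or_iff_right (restEquiv j).2]
    exact ⟨fun ⟨l, hl, hlj⟩ => restEquiv.injective (Subtype.ext hlj) ▸ hl, fun h => ⟨j, h, rfl⟩⟩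
  rw [← hnot, key, Finset.mem_image]
  constructor
  · intro hi
    obtain ⟨r, hr, hri⟩ := Finset.mem_smul_finset.1 hi
    have hr' : r ∉ basePair := (pairGroup_mem_iff k r).1 (by
      have : k.val r = (restEquiv i).val := hri
      rw [this]; exact (restEquiv i).2)
    refine ⟨restEquiv.symm ⟨r, hr'⟩, (hnot m _).1 (by rw [Equiv.apply_symm_apply]; exact hr), ?_⟩
    apply restEquiv.injective
    apply Subtype.ext
    rw [res22_apply, Equiv.apply_symm_apply]
    exact hri
  · rintro ⟨j, hj, rfl⟩
    rw [res22_apply]
    exact Finset.smul_mem_smul_finset ((hnot m j).2 hj)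

theorem res22_injective : Function.Injective res22 := by
  rw [← MonoidHom.ker_eq_bot_iff, eq_bot_iff]
  intro k hk
  rw [Subgroup.mem_bot]
  refine Subtype.ext (Equiv.ext fun q => ?_)
  have hrest : ∀ q, q ∉ basePair → k.val q = q := fun q hq => by
    have := res22_apply k (restEquiv.symm ⟨q, hq⟩)
    rw [MonoidHom.mem_ker.1 hk] at this
    simpa using this.symm
  have hmem : ∀ q ∈ basePair, k.val q ∈ basePair := fun q hq => by
    by_contra h
    exact ((pairGroup_mem_iff k q).1 h) hq
  have h0 : k.val (pt 0) = pt 0 := by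
    have := hmem (pt 0) (by simp [basePair])
    simp only [basePair, Finset.mem_insert, Finset.mem_singleton] at this
    rcases this with h | h
    · exact h
    exfalso
    obtain ⟨hcode, h8, hbit0⟩ := ext23Words_octads 15777 (by rw [ext23Words_head.1]; exact List.mem_cons_self)
    have ho : toSet 15777 ∈ octads := mem_wordsOfWeight.2 ⟨15777, mem_golayList_of_inCode hcode, h8, rfl⟩
    have hm0 : pt 0 ∈ toSet 15777 := (pt_mem_toSet (by omega)).2 hbit0
    have hm1 : pt 1 ∉ toSet 15777 := fun hm => by
      rw [pt_mem_toSet (by omega), ext23Words_head.2] at hm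
      exact Bool.noConfusion hm
    have hko := octads_smul (Subgroup.mem_inf.1 k.2).1 ho
    have hinter : toSet 15777 ∩ k.val • toSet 15777 = (toSet 15777).erase (pt 0) := by
      ext r
      rw [Finset.mem_inter, Finset.mem_erase, Finset.mem_smul_finset]
      constructor
      · rintro ⟨hr, s, hs, rfl⟩
        refine ⟨fun h' => ?_, hr⟩
        have h'' : k.val s = pt 0 := h'
        by_cases hsp : s ∈ basePair
        · simp only [basePair, Finset.mem_insert, Finset.mem_singleton] at hsp
          rcases hsp with rfl | rfl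
          · exact pt01_ne (h''.symm.trans h)
          · exact hm1 hs
        · exact hsp (by rw [← hrest s hsp, h'']; simp [basePair])
      · rintro ⟨hr0, hr⟩
        refine ⟨hr, r, hr, hrest r ?_⟩
        simp only [basePair, Finset.mem_insert, Finset.mem_singleton, not_or]
        exact ⟨hr0, fun h1 => hm1 (h1 ▸ hr)⟩
    have hcard := congrArg Finset.card hinter
    rw [Finset.card_erase_of_mem hm0, ho.2] at hcard
    rcases s24_inter (by rw [Fintype.card_congr ptEquiv, Fintype.card_fin]) octads_steiner ho hko
      with h' | h' | h' | h' <;> omega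
  by_cases hq : q ∈ basePair
  · simp only [basePair, Finset.mem_insert, Finset.mem_singleton] at hq
    rcases hq with rfl | rfl
    · exact h0
    · have := hmem (pt 1) (by simp [basePair])
      simp only [basePair, Finset.mem_insert, Finset.mem_singleton] at this
      rcases this with h | h
      · exact absurd (k.val.injective (h.trans h0.symm)) pt01_ne.symm
      · exact h
  · exact hrest q hq

theorem smul_pair_of_mem {g : Equiv.Perm GolayPt} {s : Finset GolayPt}
    (h : ∀ x ∈ s, g x ∈ s) : g • s = s := by
  refine Finset.eq_of_subset_of_card_le ?_ (by rw [Finset.card_smul_finset])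
  intro x hx
  obtain ⟨y, hy, rfl⟩ := Finset.mem_smul_finset.1 hx
  exact h y hy

theorem res22_surj {σ : Equiv.Perm (Fin 22)} (hσ : σ ∈ setSystemAut model22Set) :
    ∃ k, res22 k = σ := by
  set k0 : Equiv.Perm GolayPt := σ.extendDomain restEquiv with hk0
  have hk0r : ∀ i, k0 (restEquiv i).val = (restEquiv (σ i)).val := fun i =>
    Equiv.Perm.extendDomain_apply_image σ restEquiv i
  have hk0p : ∀ q ∈ basePair, k0 q = q := fun q hq =>
    Equiv.Perm.extendDomain_apply_not_subtype σ restEquiv (by simpa using hq)
  set g0 : Option {y : GolayPt // y ≠ pt 0} ≃ GolayPt := Equiv.optionSubtypeNe (pt 0) with hg0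
  have hα : Fintype.card {y : GolayPt // y ≠ pt 0} = 23 := by
    rw [Fintype.card_subtype_compl, Fintype.card_subtype_eq, Fintype.card_congr ptEquiv, Fintype.card_fin]
  set p : {y : GolayPt // y ≠ pt 0} := ⟨pt 1, pt01_ne.symm⟩
  set j := g0.trans k0 with hj
  have hg0n : g0 none = pt 0 := rfl
  have hg0s : ∀ x, g0 (some x) = x.val := fun x => rfl
  have hj0 : j none = pt 0 := hk0p (pt 0) (by simp [basePair])
  have hj1 : j (some p) = pt 1 := hk0p (pt 1) (by simp [basePair])
  have hblocks : ∀ m ∈ Path.model22, ∃ b ∈ octDerived g0, p ∈ b ∧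
      insert (pt 0) (b.image fun x => j (some x)) = hexOctad m := by
    intro m hm
    have hmem : Path.blockSet 22 m ∈ model22Set := ⟨m, hm, rfl⟩
    rw [← MulAction.mem_stabilizer_iff.1 hσ] at hmem
    obtain ⟨_, ⟨m', hm', rfl⟩, hmm⟩ := hmem
    have hmm' : (Path.blockSet 22 m').image σ = Path.blockSet 22 m := hmm
    set b : Finset {y : GolayPt // y ≠ pt 0} := Finset.univ.filter fun x => x.val ∈ hexOctad m'
    have hb : insert (g0 none) (b.image fun x => g0 (some x)) = hexOctad m' := by
      ext q
      rw [Finset.mem_insert, Finset.mem_image, hg0n]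
      constructor
      · rintro (rfl | ⟨x, hx, rfl⟩)
        · exact (mem_hexOctad _ _).2 (Or.inl (by simp [basePair]))
        · exact (Finset.mem_filter.1 hx).2
      · intro hq
        by_cases hq0 : q = pt 0
        · exact Or.inl hq0
        · exact Or.inr ⟨⟨q, hq0⟩, Finset.mem_filter.2 ⟨Finset.mem_univ _, hq⟩, rfl⟩
    refine ⟨b, ?_, ?_, ?_⟩
    · show insert _ _ ∈ octads
      rw [hb]
      exact hexOctad_octad hm'
    · exact Finset.mem_filter.2 ⟨Finset.mem_univ _, (mem_hexOctad _ _).2 (Or.inl (by simp [basePair, p]))⟩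
    · have h2 : k0 • hexOctad m' = hexOctad m := by
        ext q
        rw [Finset.mem_smul_finset]
        constructor
        · rintro ⟨r, hr, rfl⟩
          show k0 r ∈ hexOctad m
          rcases (mem_hexOctad m' r).1 hr with hr | ⟨i, hi, rfl⟩
          · rw [hk0p r hr]; exact (mem_hexOctad m r).2 (Or.inl hr)
          · rw [hk0r]
            refine (mem_hexOctad m _).2 (Or.inr ⟨σ i, ?_, rfl⟩)
            rw [← hmm']
            exact Finset.mem_image_of_mem _ hi
        · intro hq
          rcases (mem_hexOctad m q).1 hq with hq | ⟨i, hi, rfl⟩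
          · exact ⟨q, (mem_hexOctad m' q).2 (Or.inl hq), hk0p q hq⟩
          · rw [← hmm', Finset.mem_image] at hi
            obtain ⟨l, hl, rfl⟩ := hi
            exact ⟨(restEquiv l).val, (mem_hexOctad m' _).2 (Or.inr ⟨l, hl, rfl⟩), hk0r l⟩
      rw [← h2, ← hb, smul_insert_image, hg0n, hk0p (pt 0) (by simp [basePair])]
      rfl
  obtain ⟨g, hgor, hg⟩ := ext23 hα (octDerived_steiner g0) p j hj0 hj1 hblocks
  set k : Equiv.Perm GolayPt := g0.symm.trans g with hk
  have hkg : ∀ o, k (g0 o) = g o := fun o => by simp [hk]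
  have hkM : k ∈ M24 := by
    refine smul_octads_mem_M24 k fun o ho h0o => ?_
    set b : Finset {y : GolayPt // y ≠ pt 0} := Finset.univ.filter fun x => x.val ∈ o
    have hb : insert (g0 none) (b.image fun x => g0 (some x)) = o := by
      ext q
      rw [Finset.mem_insert, Finset.mem_image, hg0n]
      constructor
      · rintro (rfl | ⟨x, hx, rfl⟩)
        · exact h0o
        · exact (Finset.mem_filter.1 hx).2
      · intro hq
        by_cases hq0 : q = pt 0
        · exact Or.inl hq0
        · exact Or.inr ⟨⟨q, hq0⟩, Finset.mem_filter.2 ⟨Finset.mem_univ _, hq⟩, rfl⟩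
    have hbB : b ∈ octDerived g0 := by
      show insert _ _ ∈ octads
      rwa [hb]
    rw [← hb, smul_insert_image]
    simp only [hkg]
    exact hg b hbB
  have hkrest : ∀ q, q ∉ basePair → k q = k0 q := by
    intro q hq
    simp only [basePair, Finset.mem_insert, Finset.mem_singleton, not_or] at hq
    have e1 : g0 (some ⟨q, hq.1⟩) = q := rfl
    conv_lhs => rw [← e1, hkg]
    rcases hgor with rfl | rfl
    · rfl
    · rw [Equiv.trans_apply, Equiv.swap_apply_of_ne_of_ne (by simp)
        (fun h => hq.2 (congrArg Subtype.val (Option.some_injective _ h)))]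
      rfl
  have hpair : k • basePair = basePair := by
    refine smul_pair_of_mem fun q hq => ?_
    by_contra hout
    set r := k0.symm (k q) with hr
    have hr' : r ∉ basePair := fun h => hout (by
      have := hk0p r h
      rw [hr, Equiv.apply_symm_apply] at this
      rw [hr] at h
      rwa [← this] at h)
    have : k r = k q := by rw [hkrest r hr', hr, Equiv.apply_symm_apply]
    exact hr' (k.injective this ▸ hq)
  refine ⟨⟨k, Subgroup.mem_inf.2 ⟨hkM, hpair⟩⟩, Equiv.ext fun i => ?_⟩
  apply restEquiv.injective
  apply Subtype.ext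
  rw [res22_apply]
  show k (restEquiv i).val = _
  rw [hkrest _ (restEquiv i).2, hk0r]

/-- The group of the model is the stabiliser of the pair. -/
noncomputable def aut22Equiv : pairGroup ≃* setSystemAut model22Set :=
  MulEquiv.ofBijective (res22.codRestrict _ res22_mem)
    ⟨fun _ _ h => res22_injective (congrArg Subtype.val h),
      fun σ => (res22_surj σ.2).imp fun _ hk => Subtype.ext hk⟩

theorem stabTwo_le_pairGroup : stabTwo ≤ pairGroup := by
  intro g hg
  rw [stabTwo, fix_nums_pair (by omega) (by omega)] at hg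
  refine Subgroup.mem_inf.2 ⟨hg.1, ?_⟩
  show g • basePair = basePair
  refine smul_pair_of_mem fun q hq => ?_
  simp only [basePair, Finset.mem_insert, Finset.mem_singleton] at hq ⊢
  rcases hq with rfl | rfl
  exacts [Or.inl hg.2.1, Or.inr hg.2.2]

theorem card_pairGroup : Nat.card pairGroup = 887040 := by
  obtain ⟨τ, hτ, hτ0, hτ1⟩ := M24_map_two pt01_ne pt01_ne.symm
  have hτmem : τ ∈ pairGroup := by
    refine Subgroup.mem_inf.2 ⟨hτ, smul_pair_of_mem fun q hq => ?_⟩
    simp only [basePair, Finset.mem_insert, Finset.mem_singleton] at hq ⊢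
    rcases hq with rfl | rfl
    exacts [Or.inr hτ0, Or.inl hτ1]
  have hcov : ∀ h ∈ pairGroup, h (pt 0) ∈ [(1 : Equiv.Perm GolayPt), τ].map (· (pt 0)) := by
    intro h hh
    have h' : h (pt 0) ∈ basePair := by
      by_contra hc
      exact (pairGroup_mem_iff ⟨h, hh⟩ (pt 0)).1 hc (by simp [basePair])
    simp only [basePair, Finset.mem_insert, Finset.mem_singleton] at h'
    simpa [hτ0] using h'
  have he : pairGroup ⊓ MulAction.stabilizer (Equiv.Perm GolayPt) (pt 0) = stabTwo := by
    refine le_antisymm (fun g hg => ?_) (le_inf stabTwo_le_pairGroup fun g hg => ?_)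
    · obtain ⟨hgp, hg0⟩ := Subgroup.mem_inf.1 hg
      have hg0' : g (pt 0) = pt 0 := hg0
      rw [stabTwo, fix_nums_pair (by omega) (by omega)]
      refine ⟨(Subgroup.mem_inf.1 hgp).1, hg0', ?_⟩
      have h1 : g (pt 1) ∈ basePair := by
        by_contra hc
        exact (pairGroup_mem_iff ⟨g, hgp⟩ (pt 1)).1 hc (by simp [basePair])
      simp only [basePair, Finset.mem_insert, Finset.mem_singleton] at h1
      rcases h1 with h1 | h1
      · exact absurd (g.injective (h1.trans hg0'.symm)) pt01_ne.symm
      · exact h1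
    · rw [stabTwo, fix_nums_pair (by omega) (by omega)] at hg
      exact hg.2.1
  rw [card_eq_of_transversal pairGroup (pt 0) [1, τ]
    (by simp [pairGroup.one_mem, hτmem]) (by simp [hτ0, pt01_ne]) hcov, he, card_stabTwo]
  norm_num

theorem pairGroup_trans (x y : Fin 3 ↪ Fin 22) : ∃ k, ∀ i, res22 k (x i) = y i := by
  let ext5 : (Fin 3 ↪ Fin 22) → (Fin 5 ↪ GolayPt) := fun z =>
    ⟨fun i => Fin.cases (pt 0) (fun i => Fin.cases (pt 1) (fun i => (restEquiv (z i)).val) i) i, by
      have hne : ∀ l : Fin 3, pt 0 ≠ (restEquiv (z l)).val ∧ pt 1 ≠ (restEquiv (z l)).val := by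
        intro l
        constructor <;> intro h <;> exact (restEquiv (z l)).2 (h ▸ by simp [basePair])
      intro a b h
      cases a using Fin.cases with
      | zero =>
        cases b using Fin.cases with
        | zero => rfl
        | succ b =>
          cases b using Fin.cases with
          | zero => exact absurd h pt01_ne
          | succ b => exact absurd h (hne b).1
      | succ a =>
        cases a using Fin.cases with
        | zero =>
          cases b using Fin.cases with
          | zero => exact absurd h pt01_ne.symm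
          | succ b =>
            cases b using Fin.cases with
            | zero => rfl
            | succ b => exact absurd h (hne b).2
        | succ a =>
          cases b using Fin.cases with
          | zero => exact absurd h (hne a).1.symm
          | succ b =>
            cases b using Fin.cases with
            | zero => exact absurd h (hne a).2.symm
            | succ b =>
              have e : (restEquiv (z a)).val = (restEquiv (z b)).val := h
              obtain rfl := z.injective (restEquiv.injective (Subtype.ext e))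
              rfl⟩
  obtain ⟨g, hg, hgxy⟩ := M24_exists_map (k := 5) le_rfl (ext5 x) (ext5 y)
  have h0 : g (pt 0) = pt 0 := hgxy 0
  have h1 : g (pt 1) = pt 1 := hgxy 1
  refine ⟨⟨g, stabTwo_le_pairGroup (by
    rw [stabTwo, fix_nums_pair (by omega) (by omega)]; exact ⟨hg, h0, h1⟩)⟩, fun i => ?_⟩
  apply restEquiv.injective
  apply Subtype.ext
  rw [res22_apply]
  fin_cases i
  exacts [hgxy 2, hgxy 3, hgxy 4]

theorem model22_aut : Nat.card (setSystemAut model22Set) = 887040 ∧
    MulAction.IsMultiplyPretransitive (setSystemAut model22Set) (Fin 22) 3 ∧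
    ∃ H : Subgroup (setSystemAut model22Set), H.index = 2 ∧ IsM22 H := by
  have hcard : Nat.card (setSystemAut model22Set) = 887040 := by
    rw [← Nat.card_congr aut22Equiv.toEquiv, card_pairGroup]
  refine ⟨hcard, ⟨fun x y => ?_⟩, ?_⟩
  · obtain ⟨k, hk⟩ := pairGroup_trans x y
    exact ⟨aut22Equiv k, DFunLike.ext _ _ hk⟩
  · set H0 := stabTwo.subgroupOf pairGroup
    refine ⟨H0.map aut22Equiv.toMonoidHom, ?_, ?_⟩
    · have e : H0.map aut22Equiv.toMonoidHom ≃* stabTwo :=
        ((H0.equivMapOfInjective _ aut22Equiv.injective).symm).trans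
          (Subgroup.subgroupOfEquivOfLe stabTwo_le_pairGroup)
      have := Subgroup.index_mul_card (H0.map aut22Equiv.toMonoidHom)
      rw [Nat.card_congr e.toEquiv, card_stabTwo, hcard] at this
      omega
    · let e : H0.map aut22Equiv.toMonoidHom ≃* stabTwo :=
        ((H0.equivMapOfInjective _ aut22Equiv.injective).symm).trans
          (Subgroup.subgroupOfEquivOfLe stabTwo_le_pairGroup)
      haveI := stabTwo_simple
      exact ⟨e.isSimpleGroup, (Nat.card_congr e.toEquiv).trans card_stabTwo⟩

theorem aut22 {α : Type*} [Fintype α] [DecidableEq α] (hα : Fintype.card α = 22)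
    {B : Set (Finset α)} (hB : IsSteinerSystem 3 6 B) :
    Nat.card (setSystemAut B) = 887040 ∧ MulAction.IsMultiplyPretransitive (setSystemAut B) α 3 ∧
      ∃ H : Subgroup (setSystemAut B), H.index = 2 ∧ IsM22 H := by
  obtain ⟨e, he⟩ := iso_model22 hα hB
  obtain ⟨hc, ht, H, hi, hs, ho⟩ := model22_aut
  let φ := autEquiv e he
  refine ⟨(Nat.card_congr φ.toEquiv).trans hc, pretransitive_transfer e he ht,
    H.map φ.symm.toMonoidHom, (Subgroup.index_map_equiv H φ.symm).trans hi, ?_⟩
  let ψ : H.map φ.symm.toMonoidHom ≃* H := (H.equivMapOfInjective _ φ.symm.injective).symm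
  haveI := hs
  exact ⟨ψ.isSimpleGroup, (Nat.card_congr ψ.toEquiv).trans ho⟩

end CfsgLib.Golay
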