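import Cfsg.Agent.Lib.Golay.HSData
import Cfsg.Agent.Lib.Golay.Sys22
import Cfsg.Agent.Lib.Golay.Graph100

/-!
The automorphism group of the graph on 100 vertices: its even part is simple of order 44352000.
-/

set_option autoImplicit false

namespace CfsgLib.Golay.HS

open Cfsg

open scoped Pointwise

/-- Adjacency in the numbered graph. -/
def adjN (a b : ℕ) : Bool := (nbMasks.getD a 0).testBit b

/-- The vertices of the point-block graph of the model. -/
abbrev V100 : Type := Option (Fin 22 ⊕ model22Set)

theorem model_getD_mem (j : ℕ) (h : j < 77) : Path.model22.getD j 0 ∈ Path.model22 := by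
  rw [List.getD_eq_getElem _ _ (by rw [Path.model22_ok.2.1]; exact h)]
  exact List.getElem_mem _

/-- The vertex with a given number. -/
def vtx (i : Fin 100) : V100 :=
  if _h0 : i.val = 0 then none
  else if h1 : i.val < 23 then some (Sum.inl ⟨i.val - 1, by omega⟩)
  else some (Sum.inr ⟨Path.blockSet 22 (Path.model22.getD (i.val - 23) 0),
    ⟨_, model_getD_mem _ (by omega), rfl⟩⟩)

theorem vtx_injective : Function.Injective vtx := by
  intro i j h
  unfold vtx at h
  split_ifs at h with h1 h2 h3 h4 h5
  · exact Fin.ext (by omega)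
  · simp only [Option.some.injEq, Sum.inl.injEq, Fin.mk.injEq] at h
    exact Fin.ext (by omega)
  · simp at h
  · simp at h
  · simp only [Option.some.injEq, Sum.inr.injEq] at h
    replace h := congrArg Subtype.val h
    simp only at h
    have hlen := Path.model22_ok.2.1
    have hi : i.val - 23 < Path.model22.length := by omega
    have hj : j.val - 23 < Path.model22.length := by omega
    rw [List.getD_eq_getElem _ _ hi, List.getD_eq_getElem _ _ hj] at h
    have he : Path.model22[i.val - 23] = Path.model22[j.val - 23] := by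
      refine Nat.eq_of_testBit_eq fun k => ?_
      by_cases hk : k < 22
      · have := congrArg (fun s : Finset (Fin 22) => decide ((⟨k, hk⟩ : Fin 22) ∈ s)) h
        simpa [Path.mem_blockSet] using this
      · have : 2 ^ 22 ≤ 2 ^ k := Nat.pow_le_pow_right (by omega) (by omega)
        have := Path.model22_ok.2.2 _ (List.getElem_mem hi)
        have := Path.model22_ok.2.2 _ (List.getElem_mem hj)
        rw [Nat.testBit_lt_two_pow (by omega), Nat.testBit_lt_two_pow (by omega)]
    have := (Path.model22_ok.1.getElem_inj_iff).1 he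
    exact Fin.ext (by omega)

instance : Finite V100 := inferInstance

theorem card_V100 : Nat.card V100 = 100 := by
  have hs : model22Set.ncard = 77 := by
    rw [model22Set, blockSet_ncard Path.model22_ok.1 Path.model22_ok.2.2, Path.model22_ok.2.1]
  rw [Finite.card_option, Nat.card_sum, Nat.card_fin, Nat.card_coe_set_eq, hs]

/-- The numbering of the vertices. -/
noncomputable def e100 : V100 ≃ Fin 100 :=
  (Equiv.ofBijective vtx ((Nat.bijective_iff_injective_and_card vtx).2
    ⟨vtx_injective, by rw [Nat.card_fin, card_V100]⟩)).symm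

theorem e100_symm (i : Fin 100) : e100.symm i = vtx i := rfl

theorem e100_vtx (i : Fin 100) : e100 (vtx i) = i := e100.apply_symm_apply i

theorem vtx_e100 (u : V100) : vtx (e100 u) = u := e100.symm_apply_apply u

theorem e100_none : e100 none = 0 := e100_vtx 0

/-- The adjacency of the numbered graph, from the blocks. -/
def adjSpec (a b : ℕ) : Bool :=
  if a = 0 then decide (1 ≤ b ∧ b < 23)
  else if a < 23 then (if b = 0 then true else decide (23 ≤ b) &&
    (Path.model22.getD (b - 23) 0).testBit (a - 1))
  else if b = 0 then false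
  else if b < 23 then (Path.model22.getD (a - 23) 0).testBit (b - 1)
  else decide (a ≠ b) && (Path.model22.getD (a - 23) 0 &&& Path.model22.getD (b - 23) 0 == 0)

theorem nbMasks_check : (List.range 100).all (fun a => (List.range 100).all fun b =>
    adjN a b == adjSpec a b) = true := by decide +kernel

theorem adjN_spec (i j : Fin 100) : adjN i.val j.val = adjSpec i.val j.val := by
  have h := nbMasks_check
  simp only [List.all_eq_true, List.mem_range, beq_iff_eq] at h
  exact h _ i.isLt _ j.isLt

theorem vtx_adj (i j : Fin 100) :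
    (pointBlockGraph model22Set).Adj (vtx i) (vtx j) ↔ adjN i.val j.val = true := by
  rw [adjN_spec, pointBlockGraph, SimpleGraph.fromRel_adj, vtx_injective.ne_iff, Ne, Fin.ext_iff]
  unfold vtx adjSpec
  by_cases hi0 : i.val = 0
  · by_cases hj0 : j.val = 0
    · simp [hi0, hj0, pointBlockRel]
    · by_cases hj1 : j.val < 23
      · simp [hi0, hj0, hj1, pointBlockRel]; omega
      · simp [hi0, hj0, hj1, pointBlockRel]
  by_cases hi1 : i.val < 23
  · by_cases hj0 : j.val = 0
    · simp [hi0, hi1, hj0, pointBlockRel]
    · by_cases hj1 : j.val < 23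
      · simp [hi0, hi1, hj0, hj1, pointBlockRel]
      · simp only [dif_neg hi0, dif_neg hj0, dif_pos hi1, dif_neg hj1, if_neg hi0, if_pos hi1,
          if_neg hj0, pointBlockRel, or_false, Path.mem_blockSet]
        simp only [show (23 : ℕ) ≤ j.val by omega, decide_true, Bool.true_and]
        exact ⟨fun h => h.2, fun h => ⟨by omega, h⟩⟩
  by_cases hj0 : j.val = 0
  · simp [hi0, hi1, hj0, pointBlockRel]
  by_cases hj1 : j.val < 23
  · simp only [dif_neg hi0, dif_neg hj0, dif_pos hj1, dif_neg hi1, if_neg hi0, if_neg hi1,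
      if_neg hj0, if_pos hj1, pointBlockRel, false_or, Path.mem_blockSet]
    exact ⟨fun h => h.2, fun h => ⟨by omega, h⟩⟩
  simp only [dif_neg hi0, dif_neg hj0, dif_neg hi1, dif_neg hj1, if_neg hi0, if_neg hi1, if_neg hj0,
    if_neg hj1, pointBlockRel, Bool.and_eq_true, decide_eq_true_eq, beq_iff_eq]
  refine and_congr Iff.rfl ?_
  have key : ∀ a b : ℕ, a ∈ Path.model22 → b ∈ Path.model22 →
      (Disjoint (Path.blockSet 22 a) (Path.blockSet 22 b) ↔ a &&& b = 0) := by
    intro a b ha _
    rw [Finset.disjoint_left]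
    constructor
    · intro h
      refine Nat.eq_of_testBit_eq fun k => ?_
      rw [Nat.testBit_and, Nat.zero_testBit]
      by_cases hk : k < 22
      · by_contra hne
        rw [Bool.not_eq_false, Bool.and_eq_true] at hne
        exact h (a := ⟨k, hk⟩) (Path.mem_blockSet.2 hne.1) (Path.mem_blockSet.2 hne.2)
      · have : 2 ^ 22 ≤ 2 ^ k := Nat.pow_le_pow_right (by omega) (by omega)
        have := Path.model22_ok.2.2 _ ha
        rw [Nat.testBit_lt_two_pow (show a < 2 ^ k by omega), Bool.false_and]
    · intro h x hx hy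
      rw [Path.mem_blockSet] at hx hy
      have := congrArg (fun n : ℕ => n.testBit x.val) h
      simp [Nat.testBit_and, hx, hy] at this
  rw [key _ _ (model_getD_mem _ (by omega)) (model_getD_mem _ (by omega)),
    key _ _ (model_getD_mem _ (by omega)) (model_getD_mem _ (by omega)), Nat.land_comm, or_self_iff]

/-- The automorphisms of the numbered graph. -/
def graphAut : Subgroup (Equiv.Perm (Fin 100)) where
  carrier := {g | ∀ i j, adjN (g i).val (g j).val = adjN i.val j.val}
  one_mem' _ _ := rfl
  mul_mem' {f g} hf hg i j := (hf (g i) (g j)).trans (hg i j)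
  inv_mem' {f} hf i j := by
    have := hf (f.symm i) (f.symm j)
    simp only [Equiv.apply_symm_apply] at this
    exact this.symm

theorem mem_graphAut {g : Equiv.Perm (Fin 100)} :
    g ∈ graphAut ↔ ∀ i j, adjN (g i).val (g j).val = adjN i.val j.val := Iff.rfl

/-- Check that a list is an automorphism, through the images of the neighbourhoods. -/
def autOk (L : List ℕ) : Bool :=
  validL 100 L && (List.range 100).all fun a =>
    nbMasks.getD (L.getD a 0) 0 == Path.imgV 100 L (nbMasks.getD a 0)

theorem permOf_mem {L : List ℕ} (h : autOk L = true) :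
    permOf (Equiv.refl (Fin 100)) L ∈ graphAut := by
  simp only [autOk, Bool.and_eq_true, List.all_eq_true, List.mem_range, beq_iff_eq] at h
  obtain ⟨hv, hm⟩ := h
  intro i j
  set g := permOf (Equiv.refl (Fin 100)) L
  have hval : ∀ k, (g k).val = L.getD k.val 0 := fun k => permOf_apply (Equiv.refl (Fin 100)) hv k
  have h1 := hm i.val i.isLt
  rw [← hval] at h1
  rw [Bool.eq_iff_iff, adjN, adjN, h1, Path.imgV, Path.testBit_maskL]
  simp only [List.mem_map, List.mem_filter, List.mem_range]
  constructor
  · rintro ⟨k, ⟨hk, hbit⟩, hkj⟩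
    have : g ⟨k, hk⟩ = g j := Fin.ext ((hval ⟨k, hk⟩).trans hkj)
    rw [← g.injective this]
    exact hbit
  · exact fun hbit => ⟨j.val, ⟨j.isLt, hbit⟩, (hval j).symm⟩

/-- The automorphism fixing vertex 0. -/
noncomputable def tau0 : Equiv.Perm (Fin 100) := permOf (Equiv.refl (Fin 100)) tauFix

/-- The automorphism moving vertex 0. -/
noncomputable def tau1 : Equiv.Perm (Fin 100) := permOf (Equiv.refl (Fin 100)) tauMove

theorem tau_ok : autOk tauFix = true ∧ autOk tauMove = true := by decide +kernel

theorem tauFix_valid : validL 100 tauFix = true ∧ validL 100 tauMove = true := by decide +kernel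

theorem tau0_mem : tau0 ∈ graphAut := permOf_mem tau_ok.1

theorem tau1_mem : tau1 ∈ graphAut := permOf_mem tau_ok.2

theorem tau0_val (i : Fin 100) : (tau0 i).val = tauFix.getD i.val 0 :=
  permOf_apply (Equiv.refl (Fin 100)) tauFix_valid.1 i

theorem tau1_val (i : Fin 100) : (tau1 i).val = tauMove.getD i.val 0 :=
  permOf_apply (Equiv.refl (Fin 100)) tauFix_valid.2 i

/-- The transpositions of the fixing automorphism. -/
def swapList : List (Equiv.Perm (Fin 100)) :=
  tauSwaps.map fun p => Equiv.swap (Fin.ofNat 100 p.1) (Fin.ofNat 100 p.2)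

theorem swapList_prod : ∀ i : Fin 100, (swapList.prod i).val = tauFix.getD i.val 0 := by
  decide +kernel

theorem tauSwaps_ne : (∀ p ∈ tauSwaps, Fin.ofNat 100 p.1 ≠ Fin.ofNat 100 p.2) ∧
    tauSwaps.length = 35 := by decide +kernel

theorem sign_tau0 : Equiv.Perm.sign tau0 = -1 := by
  have e : tau0 = swapList.prod := Equiv.ext fun i => Fin.ext (by rw [tau0_val, swapList_prod])
  rw [e, map_list_prod, List.prod_eq_pow_card _ (-1)]
  · rw [List.length_map, swapList, List.length_map, tauSwaps_ne.2]
    decide
  · intro u hu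
    obtain ⟨g, hg, rfl⟩ := List.mem_map.1 hu
    obtain ⟨p, hp, rfl⟩ := List.mem_map.1 hg
    exact Equiv.Perm.sign_swap (tauSwaps_ne.1 p hp)

/-- An automorphism of the system as a permutation of the vertices. -/
noncomputable def liftPerm : setSystemAut model22Set →* Equiv.Perm V100 where
  toFun σ := Equiv.optionCongr (σ.val.sumCongr (σ.val.finsetCongr.subtypeEquiv fun b => by
    rw [Equiv.finsetCongr_apply, Finset.map_eq_image]
    constructor
    · exact fun hb => mem_setSystemAut_iff.1 σ.2 b hb
    · intro hb
      have h2 := mem_setSystemAut_iff.1 ((setSystemAut model22Set).inv_mem σ.2) _ hb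
      rw [Finset.image_image] at h2
      simpa [Function.comp_def] using h2))
  map_one' := by
    refine Equiv.ext fun v => ?_
    rcases v with _ | x | b <;> simp [Finset.map_eq_image]
  map_mul' σ τ := by
    refine Equiv.ext fun v => ?_
    rcases v with _ | x | b <;>
      simp [Equiv.Perm.mul_apply, Finset.map_eq_image, Finset.image_image]

theorem liftPerm_adj (σ : setSystemAut model22Set) (u v : V100) :
    (pointBlockGraph model22Set).Adj (liftPerm σ u) (liftPerm σ v) ↔
      (pointBlockGraph model22Set).Adj u v := by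
  have hrel : ∀ u v, pointBlockRel model22Set (liftPerm σ u) (liftPerm σ v) ↔
      pointBlockRel model22Set u v := by
    intro u v
    rcases u with _ | x | b <;> rcases v with _ | y | c <;>
      simp [liftPerm, pointBlockRel, Equiv.subtypeEquiv_apply]
  simp only [pointBlockGraph, SimpleGraph.fromRel_adj, hrel, (liftPerm σ).injective.ne_iff]

/-- The same in the numbering. -/
noncomputable def num : setSystemAut model22Set →* Equiv.Perm (Fin 100) :=
  e100.permCongrHom.toMonoidHom.comp liftPerm

theorem num_apply (σ : setSystemAut model22Set) (i : Fin 100) :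
    num σ i = e100 (liftPerm σ (vtx i)) := rfl

theorem vtx_num (σ : setSystemAut model22Set) (i : Fin 100) :
    vtx (num σ i) = liftPerm σ (vtx i) := by
  rw [num_apply, ← e100_symm, Equiv.symm_apply_apply]

theorem num_mem (σ : setSystemAut model22Set) : num σ ∈ graphAut := by
  intro i j
  rw [Bool.eq_iff_iff, ← vtx_adj, ← vtx_adj, vtx_num, vtx_num, liftPerm_adj]

theorem vtx_zero : vtx 0 = none := rfl

theorem num_zero (σ : setSystemAut model22Set) : num σ 0 = 0 := by
  apply vtx_injective
  rw [vtx_num, vtx_zero]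
  rfl

theorem num_injective : Function.Injective num := by
  intro σ τ h
  refine Subtype.ext (Equiv.ext fun x => ?_)
  have := congrArg (fun g : Equiv.Perm (Fin 100) => vtx (g (e100 (some (Sum.inl x))))) h
  simp only [vtx_num, vtx_e100] at this
  simpa [liftPerm] using this

theorem stab_eq_num {g : Equiv.Perm (Fin 100)} (hg : g ∈ graphAut) (h0 : g 0 = 0) :
    ∃ σ, num σ = g := by
  set w : Equiv.Perm V100 := e100.symm.permCongr g with hw
  have hvtx : ∀ u, vtx (g (e100 u)) = w u := fun u => rfl
  have hwadj : ∀ u v, (pointBlockGraph model22Set).Adj (w u) (w v) ↔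
      (pointBlockGraph model22Set).Adj u v := by
    intro u v
    rw [← hvtx, ← hvtx, vtx_adj, hg, ← vtx_adj, ← e100_symm, ← e100_symm, Equiv.symm_apply_apply,
      Equiv.symm_apply_apply]
  have hnone : w none = none := by
    rw [← hvtx, e100_none, h0, vtx_zero]
  have hinl : ∀ x, ∃ y, w (some (Sum.inl x)) = some (Sum.inl y) := by
    intro x
    have h := (hwadj none (some (Sum.inl x))).2 ((pbg_none_left _).2 ⟨x, rfl⟩)
    rw [hnone, pbg_none_left] at h
    exact h
  choose f hf using hinl
  have hfi : Function.Injective f := fun a b h => by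
    have := w.injective ((hf a).trans (h ▸ (hf b).symm))
    simpa using this
  set σ : Equiv.Perm (Fin 22) := Equiv.ofBijective f (Finite.injective_iff_bijective.1 hfi) with hσ
  have hblock : ∀ b : model22Set, ∃ c : model22Set,
      w (some (Sum.inr b)) = some (Sum.inr c) ∧ c.val = b.val.image σ := by
    intro b
    rcases hcase : w (some (Sum.inr b)) with _ | x | c
    · exact absurd (w.injective (hcase.trans hnone.symm)) (by simp)
    · exfalso
      obtain ⟨y, rfl⟩ := σ.surjective x
      exact absurd (w.injective (hcase.trans (hf y).symm)) (by simp)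
    · refine ⟨c, rfl, ?_⟩
      ext x
      obtain ⟨y, rfl⟩ := σ.surjective x
      have h := hwadj (some (Sum.inl y)) (some (Sum.inr b))
      rw [hf y, hcase] at h
      simp only [pbg_point_left, reduceCtorEq, Option.some.injEq, Sum.inr.injEq, exists_eq_right',
        false_or] at h
      rw [Finset.mem_image]
      exact h.trans ⟨fun hy => ⟨y, hy, rfl⟩, fun ⟨z, hz, hzy⟩ => σ.injective hzy ▸ hz⟩
  have hσmem : σ ∈ setSystemAut model22Set := by
    rw [mem_setSystemAut_iff]
    intro b hb
    obtain ⟨c, -, hc⟩ := hblock ⟨b, hb⟩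
    exact hc ▸ c.2
  refine ⟨⟨σ, hσmem⟩, ?_⟩
  have he : liftPerm ⟨σ, hσmem⟩ = w := by
    refine Equiv.ext fun u => ?_
    rcases u with _ | x | b
    · rw [hnone]; rfl
    · rw [hf x]; rfl
    · obtain ⟨c, hc, hcv⟩ := hblock b
      rw [hc]
      show some (Sum.inr _) = _
      congr 2
      apply Subtype.ext
      rw [hcv]
      exact Finset.map_eq_image _ _
  refine Equiv.ext fun i => ?_
  rw [num_apply, he, ← hvtx, ← e100_symm, ← e100_symm, Equiv.apply_symm_apply,
    Equiv.apply_symm_apply]

/-- The elements coming from the stabiliser of two points in M₂₄. -/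
noncomputable def numM : stabTwo →* Equiv.Perm (Fin 100) :=
  num.comp (aut22Equiv.toMonoidHom.comp (Subgroup.inclusion stabTwo_le_pairGroup))

theorem numM_injective : Function.Injective numM :=
  num_injective.comp (aut22Equiv.injective.comp (Subgroup.inclusion_injective _))

theorem numM_sign (k : stabTwo) : Equiv.Perm.sign (numM k) = 1 := by
  haveI := stabTwo_simple
  have h : (Equiv.Perm.sign.comp numM).ker = ⊤ := by
    refine ((Equiv.Perm.sign.comp numM).normal_ker.eq_bot_or_eq_top).resolve_left fun hbot => ?_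
    have hinj := (MonoidHom.ker_eq_bot_iff _).1 hbot
    have := Nat.card_le_card_of_injective _ hinj
    rw [card_stabTwo, Nat.card_eq_fintype_card, Fintype.card_units_int] at this
    omega
  have : k ∈ (Equiv.Perm.sign.comp numM).ker := h ▸ Subgroup.mem_top k
  exact MonoidHom.mem_ker.1 this

theorem numM_mem (k : stabTwo) : numM k ∈ graphAut := num_mem _

theorem numM_zero (k : stabTwo) : numM k 0 = 0 := num_zero _

theorem model22Set_steiner : IsSteinerSystem 3 6 model22Set := by
  obtain ⟨p, -⟩ : ∃ p : GolayPt, p = pt 0 := ⟨_, rfl⟩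
  have h23 := octDerived_steiner (Equiv.optionSubtypeNe p)
  obtain ⟨q⟩ : Nonempty {y : GolayPt // y ≠ p} := Fintype.card_pos_iff.1 (by
    rw [Fintype.card_subtype_compl, Fintype.card_subtype_eq, Fintype.card_congr ptEquiv,
      Fintype.card_fin]; omega)
  have h22 := derived_steiner (t := 3) (k := 6) h23
    (Function.Embedding.subtype fun x => x ≠ q) q (fun x => x.2) fun y hy => ⟨⟨y, hy⟩, rfl⟩
  obtain ⟨e, he⟩ := iso_model22 (α := {x : {y : GolayPt // y ≠ p} // x ≠ q}) (by
    simp only [Fintype.card_subtype_compl, Fintype.card_subtype_eq, Fintype.card_congr ptEquiv,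
      Fintype.card_fin]) h22
  exact he ▸ steiner_image h22 e

theorem pairGroup_trans' (x y : Fin 3 ↪ Fin 22) :
    ∃ k, ∃ hk : k ∈ stabTwo, ∀ i, (aut22Equiv ⟨k, stabTwo_le_pairGroup hk⟩).val (x i) = y i := by
  let ext5 : (Fin 3 ↪ Fin 22) → (Fin 5 ↪ GolayPt) := fun z =>
    ⟨fun i => Fin.cases (pt 0) (fun i => Fin.cases (pt 1) (fun i => (restEquiv (z i)).val) i) i, by
      have hne : ∀ l : Fin 3, pt 0 ≠ (restEquiv (z l)).val ∧ pt 1 ≠ (restEquiv (z l)).val := by
        intro l
        constructor <;> intro h <;> exact (restEquiv (z l)).2 (h ▸ by simp [basePair])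
      intro a b h
      cases a using Fin.cases with
      | zero =>
        cases b using Fin.cases with
        | zero => rfl
        | succ b =>
          cases b using Fin.cases with
          | zero => exact absurd h pt01_ne
          | succ b => exact absurd h (hne b).1
      | succ a =>
        cases a using Fin.cases with
        | zero =>
          cases b using Fin.cases with
          | zero => exact absurd h pt01_ne.symm
          | succ b =>
            cases b using Fin.cases with
            | zero => rfl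
            | succ b => exact absurd h (hne b).2
        | succ a =>
          cases b using Fin.cases with
          | zero => exact absurd h (hne a).1.symm
          | succ b =>
            cases b using Fin.cases with
            | zero => exact absurd h (hne a).2.symm
            | succ b =>
              have e : (restEquiv (z a)).val = (restEquiv (z b)).val := h
              obtain rfl := z.injective (restEquiv.injective (Subtype.ext e))
              rfl⟩
  obtain ⟨g, hg, hgxy⟩ := M24_exists_map (k := 5) le_rfl (ext5 x) (ext5 y)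
  have hk : g ∈ stabTwo := by
    rw [stabTwo, fix_nums_pair (by omega) (by omega)]; exact ⟨hg, hgxy 0, hgxy 1⟩
  refine ⟨g, hk, fun i => ?_⟩
  apply restEquiv.injective
  apply Subtype.ext
  exact (res22_apply _ (x i)).trans (hgxy i.succ.succ)

theorem trans_points (i j : Fin 22) :
    ∃ k : stabTwo, vtx (numM k (e100 (some (Sum.inl i)))) = some (Sum.inl j) := by
  obtain ⟨g, hg, h0, h1, hi⟩ := M24_map_three pt01_ne
    (show pt 0 ≠ (restEquiv i).val from fun h => (restEquiv i).2 (h ▸ by simp [basePair]))
    (show pt 1 ≠ (restEquiv i).val from fun h => (restEquiv i).2 (h ▸ by simp [basePair]))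
    pt01_ne
    (show pt 0 ≠ (restEquiv j).val from fun h => (restEquiv j).2 (h ▸ by simp [basePair]))
    (show pt 1 ≠ (restEquiv j).val from fun h => (restEquiv j).2 (h ▸ by simp [basePair]))
  have hk : g ∈ stabTwo := by
    rw [stabTwo, fix_nums_pair (by omega) (by omega)]; exact ⟨hg, h0, h1⟩
  refine ⟨⟨g, hk⟩, ?_⟩
  show vtx (num _ _) = _
  rw [vtx_num, ← e100_symm, Equiv.symm_apply_apply]
  show some (Sum.inl _) = _
  congr 2
  apply restEquiv.injective
  apply Subtype.ext
  exact (res22_apply _ i).trans hi

theorem trans_blocks (b c : model22Set) :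
    ∃ k : stabTwo, vtx (numM k (e100 (some (Sum.inr b)))) = some (Sum.inr c) := by
  obtain ⟨m, hm, hmb⟩ := b.2
  obtain ⟨m', hm', hmc⟩ := c.2
  have h3 : ∀ d : model22Set, ∃ x : Fin 3 ↪ Fin 22, ∀ i, x i ∈ d.val := by
    intro d
    obtain ⟨s, hs, hsc⟩ := Finset.exists_subset_card_eq (show 3 ≤ d.val.card by
      rw [model22Set_steiner.1 _ d.2]; omega)
    refine ⟨(s.equivFinOfCardEq hsc).symm.toEmbedding.trans (Function.Embedding.subtype _),
      fun i => hs ((s.equivFinOfCardEq hsc).symm i).2⟩
  obtain ⟨x, hx⟩ := h3 b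
  obtain ⟨y, hy⟩ := h3 c
  obtain ⟨k, hk, hmap⟩ := pairGroup_trans' x y
  refine ⟨⟨k, hk⟩, ?_⟩
  show vtx (num _ _) = _
  rw [vtx_num, ← e100_symm, Equiv.symm_apply_apply]
  show some (Sum.inr _) = _
  congr 2
  apply Subtype.ext
  have hσ := (aut22Equiv ⟨k, stabTwo_le_pairGroup hk⟩).2
  set σ := (aut22Equiv ⟨k, stabTwo_le_pairGroup hk⟩).val with hσdef
  show Finset.map σ.toEmbedding b.val = c.val
  rw [Finset.map_eq_image]
  have hs : (Finset.univ.map y).card = 3 := by simp
  refine (model22Set_steiner.2 _ hs).unique ⟨mem_setSystemAut_iff.1 hσ _ b.2, ?_⟩ ⟨c.2, ?_⟩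
  · intro z hz
    obtain ⟨i, -, rfl⟩ := Finset.mem_map.1 hz
    exact Finset.mem_image.2 ⟨x i, hx i, hmap i⟩
  · intro z hz
    obtain ⟨i, -, rfl⟩ := Finset.mem_map.1 hz
    exact hy i

theorem graphAut_pretransitive : MulAction.IsPretransitive graphAut (Fin 100) := by
  suffices h0 : ∀ i : Fin 100, ∃ g : graphAut, g • (0 : Fin 100) = i by
    refine ⟨fun i j => ?_⟩
    obtain ⟨g, rfl⟩ := h0 i
    obtain ⟨g', rfl⟩ := h0 j
    exact ⟨g' * g⁻¹, by rw [mul_smul, inv_smul_smul]⟩
  intro i
  have hp : ∀ x : Fin 22, ∃ g ∈ graphAut, g 0 = e100 (some (Sum.inl x)) := by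
    intro x
    have h1 : vtx (tau1 0) = some (Sum.inl 0) := by
      rw [show tau1 0 = 1 from Fin.ext (by rw [tau1_val]; decide +kernel)]
      rfl
    obtain ⟨k, hk⟩ := trans_points 0 x
    refine ⟨numM k * tau1, graphAut.mul_mem (numM_mem k) tau1_mem, ?_⟩
    rw [← h1, e100_vtx] at hk
    rw [Equiv.Perm.mul_apply, ← e100_vtx (numM k (tau1 0)), hk]
  have hb : ∀ b : model22Set, ∃ g ∈ graphAut, g 0 = e100 (some (Sum.inr b)) := by
    intro b
    obtain ⟨g, hg, hg0⟩ := hp 1
    set j : Fin 100 := Fin.ofNat 100 (79) with hj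
    obtain ⟨b0, hb0⟩ : ∃ b0, vtx j = some (Sum.inr b0) := ⟨_, rfl⟩
    have htau : tau1 (e100 (some (Sum.inl 1))) = j := by
      have : e100 (some (Sum.inl 1)) = (2 : Fin 100) := by
        apply e100.symm.injective
        rw [Equiv.symm_apply_apply, e100_symm]
        rfl
      rw [this]
      exact Fin.ext (by rw [tau1_val]; decide +kernel)
    obtain ⟨k, hk⟩ := trans_blocks b0 b
    refine ⟨numM k * (tau1 * g), graphAut.mul_mem (numM_mem k) (graphAut.mul_mem tau1_mem hg), ?_⟩
    rw [← hb0, e100_vtx] at hk
    rw [Equiv.Perm.mul_apply, Equiv.Perm.mul_apply, hg0, htau, ← e100_vtx (numM k j), hk]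
  obtain ⟨u, rfl⟩ := e100.surjective i
  rcases u with _ | x | b
  · exact ⟨1, (one_smul _ _).trans (by rw [← vtx_zero, ← e100_symm, Equiv.apply_symm_apply])⟩
  · obtain ⟨g, hg, h⟩ := hp x
    exact ⟨⟨g, hg⟩, h⟩
  · obtain ⟨g, hg, h⟩ := hb b
    exact ⟨⟨g, hg⟩, h⟩

end CfsgLib.Golay.HS
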