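import Cfsg.Agent.Lib.Golay.HS

/-!
The even automorphisms of the graph on 100 vertices form a simple group of order 44352000.
-/

set_option autoImplicit false

namespace CfsgLib.Golay.HS

open Cfsg

open scoped Pointwise

/-- The even part of the automorphism group. -/
def hsGroup : Subgroup (Equiv.Perm (Fin 100)) := graphAut ⊓ alternatingGroup (Fin 100)

theorem mem_hsGroup {g : Equiv.Perm (Fin 100)} :
    g ∈ hsGroup ↔ g ∈ graphAut ∧ Equiv.Perm.sign g = 1 := by
  rw [hsGroup, Subgroup.mem_inf, Equiv.Perm.mem_alternatingGroup]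

theorem tau0_zero : tau0 0 = 0 := Fin.ext (by rw [tau0_val]; decide +kernel)

theorem numM_mem_hs (k : stabTwo) : numM k ∈ hsGroup := mem_hsGroup.2 ⟨numM_mem k, numM_sign k⟩

theorem hs_pretransitive : MulAction.IsPretransitive hsGroup (Fin 100) := by
  haveI := graphAut_pretransitive
  refine ⟨fun i j => ?_⟩
  obtain ⟨a, ha⟩ := MulAction.exists_smul_eq graphAut (0 : Fin 100) i
  obtain ⟨b, hb⟩ := MulAction.exists_smul_eq graphAut (0 : Fin 100) j
  have ha' : a.val 0 = i := ha
  have hb' : b.val 0 = j := hb
  rcases Int.units_eq_one_or (Equiv.Perm.sign (b.val * a.val⁻¹)) with h | h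
  · exact ⟨⟨b.val * a.val⁻¹, mem_hsGroup.2 ⟨graphAut.mul_mem b.2 (graphAut.inv_mem a.2), h⟩⟩, by
      show (b.val * a.val⁻¹) i = j
      simp [← ha', hb']⟩
  · refine ⟨⟨b.val * tau0 * a.val⁻¹, mem_hsGroup.2
      ⟨graphAut.mul_mem (graphAut.mul_mem b.2 tau0_mem) (graphAut.inv_mem a.2), ?_⟩⟩, ?_⟩
    · rw [map_mul, map_mul, sign_tau0, mul_neg, mul_one, neg_mul, ← map_mul, h, neg_neg]
    · show (b.val * tau0 * a.val⁻¹) i = j
      simp [← ha', hb', tau0_zero]

theorem card_graphAut : Nat.card graphAut = 88704000 := by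
  haveI := graphAut_pretransitive
  let f : setSystemAut model22Set → MulAction.stabilizer graphAut (0 : Fin 100) := fun σ =>
    ⟨⟨num σ, num_mem σ⟩, num_zero σ⟩
  have hf : Function.Bijective f := by
    refine ⟨fun σ τ h => num_injective (congrArg (fun z => z.val.val) h), fun g => ?_⟩
    obtain ⟨σ, hσ⟩ := stab_eq_num g.val.2 g.2
    exact ⟨σ, Subtype.ext (Subtype.ext hσ)⟩
  have hs : Nat.card (MulAction.stabilizer graphAut (0 : Fin 100)) = 887040 := by
    rw [← Nat.card_eq_of_bijective f hf, model22_aut.1]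
  rw [← Subgroup.index_mul_card (MulAction.stabilizer graphAut (0 : Fin 100)), hs,
    MulAction.index_stabilizer_of_transitive, Nat.card_fin]

theorem card_hsGroup : Nat.card hsGroup = 44352000 := by
  set s : graphAut →* ℤˣ := Equiv.Perm.sign.comp graphAut.subtype
  have hsurj : Function.Surjective s := by
    intro u
    rcases Int.units_eq_one_or u with rfl | rfl
    exacts [⟨1, map_one s⟩, ⟨⟨tau0, tau0_mem⟩, sign_tau0⟩]
  have e : Nat.card s.ker = Nat.card hsGroup :=
    Nat.card_congr
      { toFun := fun g => ⟨g.val.val, mem_hsGroup.2 ⟨g.val.2, MonoidHom.mem_ker.1 g.2⟩⟩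
        invFun := fun g => ⟨⟨g.val, (mem_hsGroup.1 g.2).1⟩, MonoidHom.mem_ker.2 (mem_hsGroup.1 g.2).2⟩
        left_inv := fun _ => rfl
        right_inv := fun _ => rfl }
  have h2 : s.ker.index = 2 := by
    rw [Subgroup.index_ker, MonoidHom.range_eq_top.2 hsurj, Subgroup.card_top,
      Nat.card_eq_fintype_card, Fintype.card_units_int]
  have := Subgroup.index_mul_card s.ker
  rw [h2, e, card_graphAut] at this
  omega

theorem hs_stab_simple : IsSimpleGroup (MulAction.stabilizer hsGroup (0 : Fin 100)) := by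
  let f : stabTwo →* MulAction.stabilizer hsGroup (0 : Fin 100) :=
    (numM.codRestrict hsGroup numM_mem_hs).codRestrict _ fun k => numM_zero k
  have hinj : Function.Injective f := fun a b h => numM_injective (congrArg (fun z => z.val.val) h)
  haveI := hs_pretransitive
  have hc : Nat.card (MulAction.stabilizer hsGroup (0 : Fin 100)) = 443520 := by
    have := Subgroup.index_mul_card (MulAction.stabilizer hsGroup (0 : Fin 100))
    rw [MulAction.index_stabilizer_of_transitive, Nat.card_fin, card_hsGroup] at this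
    omega
  haveI := stabTwo_simple
  exact (MulEquiv.ofBijective f ((Nat.bijective_iff_injective_and_card f).2
    ⟨hinj, by rw [hc, card_stabTwo]⟩)).symm.isSimpleGroup

theorem orbit_sets : ∀ a b : Bool,
    (Finset.univ.filter fun i : Fin 100 =>
      i.val = 0 ∨ (a = true ∧ 1 ≤ i.val ∧ i.val < 23) ∨ (b = true ∧ 23 ≤ i.val)).card =
      1 + (if a then 22 else 0) + (if b then 77 else 0) := by decide +kernel

theorem vtx_point {i : Fin 100} (h : 1 ≤ i.val ∧ i.val < 23) : ∃ x, vtx i = some (Sum.inl x) := by
  refine ⟨⟨i.val - 1, by omega⟩, ?_⟩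
  rw [vtx, dif_neg (by omega), dif_pos h.2]

theorem vtx_block {i : Fin 100} (h : 23 ≤ i.val) : ∃ b, vtx i = some (Sum.inr b) := by
  refine ⟨⟨Path.blockSet 22 (Path.model22.getD (i.val - 23) 0), _, model_getD_mem _ (by omega), rfl⟩, ?_⟩
  rw [vtx, dif_neg (by omega), dif_neg (by omega)]

theorem normal_orbit {N : Subgroup hsGroup} [N.Normal] (hN : N ≠ ⊥) :
    MulAction.orbit N (0 : Fin 100) = Set.univ := by
  classical
  haveI := hs_pretransitive
  set O := MulAction.orbit N (0 : Fin 100) with hO
  have h0 : (0 : Fin 100) ∈ O := MulAction.mem_orbit_self _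
  have hblk : MulAction.IsBlock hsGroup O := MulAction.IsBlock.orbit_of_normal _
  have hinv : ∀ k : stabTwo, ∀ i ∈ O, numM k i ∈ O := by
    intro k i hi
    have hne : ¬ Disjoint ((⟨numM k, numM_mem_hs k⟩ : hsGroup) • O) O := by
      rw [Set.not_disjoint_iff]
      exact ⟨0, ⟨0, h0, numM_zero k⟩, h0⟩
    have := (MulAction.isBlock_iff_smul_eq_or_disjoint.1 hblk ⟨numM k, numM_mem_hs k⟩).resolve_right hne
    rw [← this]
    exact ⟨i, hi, rfl⟩
  set a : Bool := decide (∃ i : Fin 100, i ∈ O ∧ 1 ≤ i.val ∧ i.val < 23) with ha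
  set b : Bool := decide (∃ i : Fin 100, i ∈ O ∧ 23 ≤ i.val) with hb
  have hOeq : O = ↑(Finset.univ.filter fun i : Fin 100 =>
      i.val = 0 ∨ (a = true ∧ 1 ≤ i.val ∧ i.val < 23) ∨ (b = true ∧ 23 ≤ i.val)) := by
    ext i
    simp only [ha, hb, decide_eq_true_eq, Finset.coe_filter, Finset.mem_univ, true_and,
      Set.mem_ofPred_eq]
    constructor
    · intro hi
      by_cases h1 : i.val < 23
      · by_cases h2 : i.val = 0
        · exact Or.inl h2
        · exact Or.inr (Or.inl ⟨⟨i, hi, by omega, h1⟩, by omega, h1⟩)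
      · exact Or.inr (Or.inr ⟨⟨i, hi, by omega⟩, by omega⟩)
    · rintro (h | ⟨⟨j, hj, hj1⟩, h⟩ | ⟨⟨j, hj, hj1⟩, h⟩)
      · rwa [show i = 0 from Fin.ext h]
      · obtain ⟨x, hx⟩ := vtx_point hj1
        obtain ⟨y, hy⟩ := vtx_point h
        obtain ⟨k, hk⟩ := trans_points x y
        rw [← hx, e100_vtx, ← hy] at hk
        rw [← vtx_injective hk]
        exact hinv k j hj
      · obtain ⟨x, hx⟩ := vtx_block hj1
        obtain ⟨y, hy⟩ := vtx_block h
        obtain ⟨k, hk⟩ := trans_blocks x y
        rw [← hx, e100_vtx, ← hy] at hk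
        rw [← vtx_injective hk]
        exact hinv k j hj
  have hdvd := hblk.ncard_dvd_card ⟨0, h0⟩
  have hcard : O.ncard = 1 + (if a then 22 else 0) + (if b then 77 else 0) := by
    rw [hOeq, Set.ncard_coe_finset, orbit_sets]
  rw [hcard, Nat.card_fin] at hdvd
  obtain ⟨hat, hbt⟩ | ⟨haf, hbf⟩ : (a = true ∧ b = true) ∨ (a = false ∧ b = false) := by
    revert hdvd
    cases a <;> cases b <;> decide
  · refine (Set.eq_univ_of_forall fun i => ?_)
    rw [hOeq, hat, hbt]
    simp
    omega
  · exfalso
    rw [haf, hbf] at hcard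
    simp only [Bool.false_eq_true, if_false, add_zero] at hcard
    have hO1 : ∀ i ∈ O, i = (0 : Fin 100) := fun i hi =>
      (Set.ncard_le_one (Set.toFinite _)).1 hcard.le i hi 0 h0
    refine hN ((Subgroup.eq_bot_iff_forall N).2 fun x hx => ?_)
    refine Subtype.ext (Equiv.ext fun i => ?_)
    obtain ⟨g, rfl⟩ := MulAction.exists_smul_eq hsGroup (0 : Fin 100) i
    have hconj : g⁻¹ * x * g ∈ N := by
      simpa using Subgroup.Normal.conj_mem ‹N.Normal› x hx g⁻¹
    have h2 : (g⁻¹ * x * g) • (0 : Fin 100) = 0 :=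
      hO1 _ ⟨⟨g⁻¹ * x * g, hconj⟩, rfl⟩
    rw [mul_smul, mul_smul, inv_smul_eq_iff] at h2
    exact h2

theorem hs_simple : IsSimpleGroup hsGroup := by
  haveI := hs_pretransitive
  haveI := hs_stab_simple
  set S := MulAction.stabilizer hsGroup (0 : Fin 100)
  haveI : Nontrivial hsGroup := Function.Injective.nontrivial S.subtype_injective
  refine ⟨fun N hN => ?_⟩
  by_cases hbot : N = ⊥
  · exact Or.inl hbot
  refine Or.inr ?_
  have htrans := normal_orbit hbot
  rcases IsSimpleGroup.eq_bot_or_eq_top_of_normal (N.subgroupOf S) inferInstance with h | h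
  · exfalso
    have hfree : ∀ x ∈ N, x • (0 : Fin 100) = 0 → x = 1 := by
      intro x hx hxa
      have : (⟨x, hxa⟩ : S) ∈ N.subgroupOf S := hx
      rw [h, Subgroup.mem_bot] at this
      exact congrArg Subtype.val this
    have hbij : Function.Bijective fun x : N => (x.val • (0 : Fin 100)) := by
      refine ⟨fun x y hxy => ?_, fun i => ?_⟩
      · have : y.val⁻¹ * x.val = 1 :=
          hfree _ (N.mul_mem (N.inv_mem y.2) x.2) (by
            rw [mul_smul]; exact inv_smul_eq_iff.2 hxy)
        exact Subtype.ext (inv_mul_eq_one.1 this).symm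
      · have hi : i ∈ MulAction.orbit N (0 : Fin 100) := by rw [htrans]; trivial
        obtain ⟨x, hx⟩ := hi
        exact ⟨x, hx⟩
    have hN100 : Nat.card N = 100 := by rw [Nat.card_eq_of_bijective _ hbij, Nat.card_fin]
    haveI : Fact (Nat.Prime 5) := ⟨by norm_num⟩
    let P : Sylow 5 N := default
    have hPc : Nat.card (P : Subgroup N) = 25 := by
      rw [P.card_eq_multiplicity, hN100]
      have : (100 : ℕ).factorization 5 = 2 := by
        rw [show (100 : ℕ) = 5 ^ 2 * 4 by norm_num, Nat.factorization_mul (by norm_num) (by norm_num),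
          Finsupp.add_apply, Nat.Prime.factorization_pow (by norm_num), Finsupp.single_eq_same,
          Nat.factorization_eq_zero_of_not_dvd (by norm_num)]
      rw [this]; norm_num
    have hPi : (P : Subgroup N).index = 4 := by
      have := Subgroup.index_mul_card (P : Subgroup N)
      rw [hPc, hN100] at this
      omega
    have hone : Nat.card (Sylow 5 N) = 1 := by
      have h1 := card_sylow_modEq_one 5 N
      have h2 := P.card_dvd_index
      rw [hPi] at h2
      have := Nat.le_of_dvd (by norm_num) h2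
      unfold Nat.ModEq at h1
      omega
    haveI : Subsingleton (Sylow 5 N) := (Nat.card_eq_one_iff_unique.1 hone).1
    haveI : (P : Subgroup N).Characteristic := P.characteristic_of_subsingleton
    haveI : ((P : Subgroup N).map N.subtype).Normal := inferInstance
    have hP' : (P : Subgroup N).map N.subtype ≠ ⊥ := by
      intro hb
      rw [Subgroup.map_eq_bot_iff_of_injective _ N.subtype_injective] at hb
      rw [hb, Subgroup.card_bot] at hPc
      omega
    have horb := normal_orbit hP'
    have hsur : Function.Surjective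
        fun x : (P : Subgroup N).map N.subtype => x • (0 : Fin 100) := fun i => by
      have hi : i ∈ MulAction.orbit ((P : Subgroup N).map N.subtype) (0 : Fin 100) := by
        rw [horb]; trivial
      exact hi
    have := Nat.card_le_card_of_surjective _ hsur
    rw [Nat.card_fin, ← Nat.card_congr
      ((P : Subgroup N).equivMapOfInjective N.subtype N.subtype_injective).toEquiv, hPc] at this
    omega
  · rw [eq_top_iff]
    intro g _
    have hle : S ≤ N := Subgroup.subgroupOf_eq_top.1 h
    have hg : g • (0 : Fin 100) ∈ MulAction.orbit N (0 : Fin 100) := by rw [htrans]; trivial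
    obtain ⟨x, hx⟩ := hg
    have hmem : x.val⁻¹ * g ∈ S := by
      rw [MulAction.mem_stabilizer_iff, mul_smul, inv_smul_eq_iff]
      exact hx.symm
    simpa using N.mul_mem x.2 (hle hmem)

theorem hs_isHS : IsHS hsGroup := ⟨hs_simple, card_hsGroup⟩

/-- The automorphism of the point-block graph given by a numbered automorphism. -/
noncomputable def toIso : graphAut →* (pointBlockGraph model22Set ≃g pointBlockGraph model22Set) where
  toFun g := ⟨e100.symm.permCongr g.val, fun {u v} => by
    show (pointBlockGraph model22Set).Adj (vtx (g.val (e100 u))) (vtx (g.val (e100 v))) ↔ _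
    rw [vtx_adj, g.2, ← vtx_adj, vtx_e100, vtx_e100]⟩
  map_one' := RelIso.ext fun u => vtx_e100 u
  map_mul' g h := RelIso.ext fun u => by
    show vtx ((g.val * h.val) (e100 u)) = vtx (g.val (e100 (vtx (h.val (e100 u)))))
    rw [e100_vtx]
    rfl

theorem toIso_injective : Function.Injective toIso := by
  intro g h hgh
  refine Subtype.ext (Equiv.ext fun i => ?_)
  have h' : vtx (g.val (e100 (vtx i))) = vtx (h.val (e100 (vtx i))) := RelIso.ext_iff.1 hgh (vtx i)
  rw [e100_vtx] at h'
  exact vtx_injective h'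

theorem exists_hs_subgroup {α : Type*} [Fintype α] (hα : Fintype.card α = 22)
    {B : Set (Finset α)} (hB : IsSteinerSystem 3 6 B) :
    ∃ H : Subgroup (pointBlockGraph B ≃g pointBlockGraph B), IsHS H := by
  classical
  obtain ⟨e, he⟩ := iso_model22 hα hB
  obtain ⟨f⟩ := pbg_iso_of_systemIso (⟨e, he⟩ : SetSystemIso B model22Set)
  let c : (pointBlockGraph model22Set ≃g pointBlockGraph model22Set) →*
      (pointBlockGraph B ≃g pointBlockGraph B) :=
    { toFun := fun a => (f.trans a).trans f.symm
      map_one' := RelIso.ext fun u => f.symm_apply_apply u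
      map_mul' := fun a b => RelIso.ext fun u => by
        show f.symm (a (b (f u))) = f.symm (a (f (f.symm (b (f u)))))
        rw [f.apply_symm_apply] }
  have hcinj : Function.Injective c := fun a b h => RelIso.ext fun u => by
    have := RelIso.ext_iff.1 h (f.symm u)
    have h' : f.symm (a (f (f.symm u))) = f.symm (b (f (f.symm u))) := this
    rw [f.apply_symm_apply] at h'
    exact f.symm.injective h'
  let φ : hsGroup →* (pointBlockGraph B ≃g pointBlockGraph B) :=
    c.comp (toIso.comp (Subgroup.inclusion inf_le_left))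
  have hφ : Function.Injective φ :=
    hcinj.comp (toIso_injective.comp (Subgroup.inclusion_injective _))
  haveI := hs_simple
  exact ⟨φ.range, (MonoidHom.ofInjective hφ).symm.isSimpleGroup,
    (Nat.card_congr (MonoidHom.ofInjective hφ).toEquiv).symm.trans card_hsGroup⟩

end CfsgLib.Golay.HS
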