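import Cfsg.Agent.Lib.Golay.M22Index
import Cfsg.Agent.Lib.Golay.Design22
import Cfsg.Agent.Lib.Golay.HSSimple
import Cfsg.Agent.Lib.Golay.Spor

/-!
# A rank three extension of M₂₂ of degree 100 has the hundred-vertex graph
-/

set_option autoImplicit false

namespace CfsgLib.Golay.Rank3

open Cfsg CfsgLib.Golay

open scoped Pointwise

variable {Ω : Type*} [Fintype Ω] [DecidableEq Ω]

/-- The orbital of the orbit of `b`. -/
def Rel (G : Subgroup (Equiv.Perm Ω)) (a b x y : Ω) : Prop :=
  ∃ g ∈ G, g a = x ∧ g b = y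

theorem rel_smul {G : Subgroup (Equiv.Perm Ω)} {a b x y : Ω} {g : Equiv.Perm Ω} (hg : g ∈ G)
    (h : Rel G a b x y) : Rel G a b (g x) (g y) := by
  obtain ⟨k, hk, rfl, rfl⟩ := h
  exact ⟨g * k, mul_mem hg hk, rfl, rfl⟩

theorem rel_smul_iff {G : Subgroup (Equiv.Perm Ω)} {a b x y : Ω} {g : Equiv.Perm Ω} (hg : g ∈ G) :
    Rel G a b (g x) (g y) ↔ Rel G a b x y := by
  refine ⟨fun h => ?_, rel_smul hg⟩
  have := rel_smul (inv_mem hg) h
  simpa using this

/-- An automorphism group of degree 100 with such a graph is isomorphic to the graph group. -/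
theorem to_hsGroup {G : Subgroup (Equiv.Perm Ω)} (hG : Nat.card G = 44352000) {B : Set (Finset (Fin 22))}
    (hB : IsSteinerSystem 3 6 B) (R : Ω → Ω → Prop) (hR : ∀ g ∈ G, ∀ x y, R (g x) (g y) ↔ R x y)
    (φ : Option (Fin 22 ⊕ B) ≃ Ω) (hφ : ∀ u v, R (φ u) (φ v) ↔ (pointBlockGraph B).Adj u v) :
    ∃ f : G →* Equiv.Perm (Fin 100), Function.Injective f ∧ (∀ g, f g ∈ HS.graphAut) := by
  classical
  obtain ⟨e, he⟩ := iso_model22 (Fintype.card_fin 22) hB
  obtain ⟨ψ⟩ := pbg_iso_of_systemIso (⟨e, he⟩ : SetSystemIso B model22Set)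
  let Φ : Ω ≃ Fin 100 := (φ.symm.trans ψ.toEquiv).trans HS.e100
  refine ⟨Φ.permCongrHom.toMonoidHom.comp G.subtype, Φ.permCongrHom.injective.comp Subtype.val_injective,
    fun g => ?_⟩
  rw [HS.mem_graphAut]
  intro i j
  have key : ∀ x y, HS.adjN (Φ x).val (Φ y).val = true ↔ R x y := fun x y => by
    rw [← HS.vtx_adj]
    show (pointBlockGraph model22Set).Adj (HS.vtx (HS.e100 (ψ (φ.symm x)))) (HS.vtx (HS.e100 (ψ (φ.symm y)))) ↔ _
    rw [HS.vtx_e100, HS.vtx_e100]
    refine ψ.map_rel_iff.trans ?_
    rw [← hφ, φ.apply_symm_apply, φ.apply_symm_apply]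
  rw [Bool.eq_iff_iff]
  show HS.adjN (Φ (g.val (Φ.symm i))).val (Φ (g.val (Φ.symm j))).val = true ↔ _
  rw [key, hR _ g.2, ← key, Φ.apply_symm_apply, Φ.apply_symm_apply]

/-- Natural numbering of an orbit of length 22 of a copy of M₂₂. -/
theorem exists_numbering {G : Subgroup (Equiv.Perm Ω)} {a b : Ω}
    (f : MulAction.stabilizer G a →* Equiv.Perm (Fin 22)) (hf : Function.Injective f) (hfr : f.range = M22Idx.grp)
    (hb : (MulAction.orbit (MulAction.stabilizer G a) b).ncard = 22) :
    ∃ ψ : Fin 22 → Ω, Function.Injective ψ ∧ Set.range ψ = MulAction.orbit (MulAction.stabilizer G a) b ∧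
      ∀ k : MulAction.stabilizer G a, ∀ i, ψ (f k i) = k.val.val (ψ i) := by
  classical
  have hK : Nat.card (MulAction.stabilizer G a) = 443520 := by
    rw [Nat.card_congr (MonoidHom.ofInjective hf).toEquiv, hfr, M22Idx.card_grp]
  set H := (MulAction.stabilizer (MulAction.stabilizer G a) b).map f with hH
  have hst : Nat.card (MulAction.stabilizer (MulAction.stabilizer G a) b) = 20160 := by
    have h := (MulAction.stabilizer (MulAction.stabilizer G a) b).index_mul_card
    rw [MulAction.index_stabilizer, hb, hK] at h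
    omega
  obtain ⟨i, hi⟩ := M22Idx.index_twentyTwo (H := H) (fun x hx => by
      obtain ⟨k, -, rfl⟩ := hx; rw [← hfr]; exact ⟨k, rfl⟩)
    (by rw [hH, Subgroup.card_map_of_injective hf, hst])
  have htr : ∀ j, ∃ k : MulAction.stabilizer G a, f k i = j := fun j => by
    have := M22Idx.grp_pretransitive (i := 1) (by omega)
    have hp : MulAction.IsPretransitive M22Idx.grp (Fin 22) := MulAction.is_one_pretransitive_iff.1 this
    obtain ⟨g, hg⟩ := MulAction.exists_smul_eq M22Idx.grp i j
    obtain ⟨k, hk⟩ : g.val ∈ f.range := by rw [hfr]; exact g.2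
    exact ⟨k, by rw [hk]; exact hg⟩
  choose pick hpick using htr
  have hsub : ∀ k : (MulAction.stabilizer G a), k • b = b → f k i = i := fun k hk => hi _ ⟨k, hk, rfl⟩
  have heq : ∀ k : (MulAction.stabilizer G a), f k i = i → k • b = b := by
    intro k hk
    let S : Subgroup (MulAction.stabilizer G a) := (MulAction.stabilizer (Equiv.Perm (Fin 22)) i).comap f
    have hle : MulAction.stabilizer (MulAction.stabilizer G a) b ≤ S := fun k hk => hsub k hk
    have horb : MulAction.orbit (MulAction.stabilizer G a) b = MulAction.orbit (MulAction.stabilizer G a) b := rfl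
    have hS : S.index = 22 := by
      let F : (MulAction.stabilizer G a) ⧸ S → Fin 22 := fun q => Quotient.liftOn' q (fun k => f k i) fun x y h => by
        have h' : f (x⁻¹ * y) i = i := QuotientGroup.leftRel_apply.1 h
        rw [map_mul, map_inv, Equiv.Perm.mul_apply, Equiv.Perm.inv_eq_iff_eq] at h'
        exact h'.symm
      have hF : Function.Bijective F := by
        refine ⟨fun p q => ?_, fun j => ⟨QuotientGroup.mk (pick j), hpick j⟩⟩
        induction p using QuotientGroup.induction_on with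
        | _ x =>
          induction q using QuotientGroup.induction_on with
          | _ y =>
            intro h
            refine QuotientGroup.eq.2 ?_
            show f (x⁻¹ * y) i = i
            rw [map_mul, map_inv, Equiv.Perm.mul_apply, Equiv.Perm.inv_eq_iff_eq]
            exact h.symm
      rw [Subgroup.index, Nat.card_eq_of_bijective F hF, Nat.card_fin]
    have hScard : Nat.card S = 20160 := by
      have h := S.index_mul_card
      rw [hS, hK] at h
      omega
    have : MulAction.stabilizer (MulAction.stabilizer G a) b = S := Subgroup.eq_of_le_of_card_ge hle (by rw [hScard, hst])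
    have hkS : k ∈ S := hk
    rw [← this] at hkS
    exact hkS
  have hwell : ∀ x y : (MulAction.stabilizer G a), f x i = f y i → x • b = y • b := by
    intro x y e
    have h := heq (y⁻¹ * x) (by rw [map_mul, map_inv, Equiv.Perm.mul_apply, e]; simp)
    rw [mul_smul, inv_smul_eq_iff] at h
    exact h
  refine ⟨fun j => pick j • b, fun p q e => ?_, ?_, fun k j => ?_⟩
  · have h : (pick q)⁻¹ * pick p ∈ MulAction.stabilizer (MulAction.stabilizer G a) b := by
      show ((pick q)⁻¹ * pick p) • b = b
      rw [mul_smul, inv_smul_eq_iff]; exact e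
    have h' := hsub _ h
    rw [map_mul, map_inv, Equiv.Perm.mul_apply, Equiv.Perm.inv_eq_iff_eq, hpick, hpick] at h'
    exact h'
  · ext x
    constructor
    · rintro ⟨j, rfl⟩; exact ⟨pick j, rfl⟩
    · rintro ⟨k, rfl⟩
      exact ⟨f k i, hwell _ k (hpick _)⟩
  · show pick (f k j) • b = k • (pick j • b)
    rw [← mul_smul]
    refine hwell _ _ ?_
    rw [hpick, map_mul, Equiv.Perm.mul_apply, hpick]

theorem orbit_split {G : Subgroup (Equiv.Perm Ω)} (hΩ : Fintype.card Ω = 100) {a b c : Ω}
    (hb : (MulAction.orbit (MulAction.stabilizer G a) b).ncard = 22)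
    (hc : (MulAction.orbit (MulAction.stabilizer G a) c).ncard = 77) :
    (∀ x, x = a ∨ x ∈ MulAction.orbit (MulAction.stabilizer G a) b ∨ x ∈ MulAction.orbit (MulAction.stabilizer G a) c) ∧
      a ∉ MulAction.orbit (MulAction.stabilizer G a) b ∧ a ∉ MulAction.orbit (MulAction.stabilizer G a) c ∧
      Disjoint (MulAction.orbit (MulAction.stabilizer G a) b) (MulAction.orbit (MulAction.stabilizer G a) c) := by
  set Ob := MulAction.orbit (MulAction.stabilizer G a) b with hOb
  set Oc := MulAction.orbit (MulAction.stabilizer G a) c with hOc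
  have ha : MulAction.orbit (MulAction.stabilizer G a) a = {a} := by
    ext x
    constructor
    · rintro ⟨k, rfl⟩; exact k.2
    · rintro rfl; exact MulAction.mem_orbit_self x
  have hab : a ∉ Ob := fun h => by
    rw [hOb, ← MulAction.orbit_eq_iff] at h
    rw [hOb, ← h, ha, Set.ncard_singleton] at hb
    omega
  have hac : a ∉ Oc := fun h => by
    rw [hOc, ← MulAction.orbit_eq_iff] at h
    rw [hOc, ← h, ha, Set.ncard_singleton] at hc
    omega
  have hdis : Disjoint Ob Oc := by
    rw [Set.disjoint_left]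
    intro x h1 h2
    rw [hOb, ← MulAction.orbit_eq_iff] at h1
    rw [hOc, ← MulAction.orbit_eq_iff] at h2
    rw [hOb, ← h1, h2, ← hOc, hc] at hb
    omega
  refine ⟨fun x => ?_, hab, hac, hdis⟩
  by_contra hx
  push Not at hx
  have h1 : ({x, a} ∪ (Ob ∪ Oc) : Set Ω).ncard = 101 := by
    rw [Set.ncard_union_eq ?_ (Set.toFinite _) (Set.toFinite _), Set.ncard_union_eq hdis (Set.toFinite _) (Set.toFinite _),
      Set.ncard_pair hx.1, hb, hc]
    rw [Set.disjoint_left]
    rintro y (rfl | rfl) (h | h)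
    exacts [hx.2.1 h, hx.2.2 h, hab h, hac h]
  have h2 := Set.ncard_le_ncard (Set.subset_univ ({x, a} ∪ (Ob ∪ Oc) : Set Ω)) (Set.toFinite _)
  rw [h1, Set.ncard_univ, Nat.card_eq_fintype_card, hΩ] at h2
  omega

/-- The graph of the orbit of length 22. -/
theorem exists_graph (hΩ : Fintype.card Ω = 100) (G : Subgroup (Equiv.Perm Ω)) [MulAction.IsPretransitive G Ω]
    (a : Ω) (f : MulAction.stabilizer G a →* Equiv.Perm (Fin 22)) (hf : Function.Injective f)
    (hfr : f.range = M22Idx.grp) (b c : Ω)
    (hb : (MulAction.orbit (MulAction.stabilizer G a) b).ncard = 22)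
    (hc : (MulAction.orbit (MulAction.stabilizer G a) c).ncard = 77) :
    ∃ (B : Set (Finset (Fin 22))) (_ : IsSteinerSystem 3 6 B) (φ : Option (Fin 22 ⊕ B) ≃ Ω),
      ∀ u v, Rel G a b (φ u) (φ v) ↔ (pointBlockGraph B).Adj u v := by
  classical
  obtain ⟨hcases, hab, hac, hdis⟩ := orbit_split (G := G) hΩ hb hc
  obtain ⟨ψ, ψinj, ψrange, ψeq⟩ := exists_numbering f hf hfr hb
  set Ob := MulAction.orbit (MulAction.stabilizer G a) b
  set Oc := MulAction.orbit (MulAction.stabilizer G a) c
  set R := Rel G a b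
  have htrans : ∀ x : Ω, ∃ g ∈ G, g a = x := fun x => by
    obtain ⟨g, hg⟩ := MulAction.exists_smul_eq G a x
    exact ⟨g.val, g.2, hg⟩
  have hRa : ∀ y, R a y ↔ y ∈ Ob := by
    intro y
    constructor
    · rintro ⟨g, hg, hga, rfl⟩
      exact ⟨⟨⟨g, hg⟩, hga⟩, rfl⟩
    · rintro ⟨k, rfl⟩
      exact ⟨k.val.val, k.val.2, k.2, rfl⟩
  have hnb : ∀ x, {y | R x y}.ncard = 22 := by
    intro x
    obtain ⟨g, hg, rfl⟩ := htrans x
    have e : {y | R (g a) y} = g '' Ob := by
      ext y
      constructor
      · intro h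
        refine ⟨g.symm y, (hRa _).1 ?_, g.apply_symm_apply y⟩
        have := rel_smul (inv_mem hg) h
        simpa using this
      · rintro ⟨z, hz, rfl⟩
        exact rel_smul hg ((hRa z).2 hz)
    rw [e, Set.ncard_image_of_injective _ g.injective]
    exact hb
  have hcol : ∀ y, {x | R x y}.ncard = {x | R x a}.ncard := by
    intro y
    obtain ⟨g, hg, rfl⟩ := htrans y
    have e : {x | R x (g a)} = g '' {x | R x a} := by
      ext x
      constructor
      · intro h
        refine ⟨g.symm x, ?_, g.apply_symm_apply x⟩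
        have := rel_smul (inv_mem hg) h
        simpa using this
      · rintro ⟨z, hz, rfl⟩
        exact rel_smul hg hz
    rw [e, Set.ncard_image_of_injective _ g.injective]
  have hcol22 : {x | R x a}.ncard = 22 := by
    have h := Finset.sum_card_bipartiteAbove_eq_sum_card_bipartiteBelow R
      (s := (Finset.univ : Finset Ω)) (t := (Finset.univ : Finset Ω))
    have h1 : ∀ x, (Finset.univ.bipartiteAbove R x).card = 22 := fun x => by
      rw [← hnb x, ← Set.ncard_coe_finset]
      congr 1
      ext y; simp [Finset.bipartiteAbove]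
    have h2 : ∀ y, (Finset.univ.bipartiteBelow R y).card = {x | R x a}.ncard := fun y => by
      rw [← hcol y, ← Set.ncard_coe_finset]
      congr 1
      ext x; simp [Finset.bipartiteBelow]
    simp only [h1, h2, Finset.sum_const, Finset.card_univ, hΩ, smul_eq_mul] at h
    omega
  have hinvk : ∀ (k : MulAction.stabilizer G a) (x : Ω), R (k.val.val x) a ↔ R x a := fun k x => by
    have hk : k.val.val a = a := k.2
    have h := rel_smul_iff (a := a) (b := b) (x := x) (y := a) k.val.2
    rwa [hk] at h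
  have hback : ∀ x, R x a → x ∈ Ob := by
    intro x hx
    by_contra hxb
    rcases hcases x with rfl | h | h
    · exact hab ((hRa x).1 hx)
    · exact hxb h
    · have hsub : Oc ⊆ {y | R y a} := by
        intro y hy
        obtain ⟨k, hk⟩ : y ∈ MulAction.orbit (MulAction.stabilizer G a) x := by
          rw [MulAction.orbit_eq_iff.2 h]; exact hy
        rw [← hk]
        exact (hinvk k x).2 hx
      have := Set.ncard_le_ncard hsub (Set.toFinite _)
      omega
  have hsymm : ∀ x y, R x y → R y x := by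
    intro x y h
    obtain ⟨g, hg, rfl⟩ := htrans y
    have h' : R (g.symm x) a := by
      have := rel_smul (inv_mem hg) h
      simpa using this
    have h'' := rel_smul hg ((hRa _).2 (hback _ h'))
    simpa using h''
  have hirr : ∀ x, ¬ R x x := by
    intro x h
    obtain ⟨g, hg, rfl⟩ := htrans x
    exact hab ((hRa a).1 ((rel_smul_iff hg).1 h))
  -- no triangles
  have hψmem : ∀ i, ψ i ∈ Ob := fun i => ψrange ▸ ⟨i, rfl⟩
  have hψsurj : ∀ x ∈ Ob, ∃ i, ψ i = x := fun x hx => by rw [← ψrange] at hx; exact hx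
  have hpair : ∀ {i j i' j' : Fin 22}, i ≠ j → i' ≠ j' → R (ψ i) (ψ j) → R (ψ i') (ψ j') := by
    intro i j i' j' hne hne' h
    have := M22Idx.grp_pretransitive (i := 2) (by omega)
    obtain ⟨g, hg1, hg2⟩ := MulAction.is_two_pretransitive_iff.1 this hne hne'
    obtain ⟨k, hk⟩ : g.val ∈ f.range := by rw [hfr]; exact g.2
    have h' := rel_smul k.val.2 h
    rw [← ψeq, ← ψeq, hk] at h'
    rwa [show g.val i = i' from hg1, show g.val j = j' from hg2] at h'
  have hflat : ∀ x ∈ Ob, ∀ y ∈ Ob, ¬ R x y := by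
    intro x hx y hy hxy
    obtain ⟨i, rfl⟩ := hψsurj x hx
    obtain ⟨j, rfl⟩ := hψsurj y hy
    have hne : i ≠ j := fun e => hirr _ (e ▸ hxy)
    let E : Ω → Ω → Prop := fun p q => p = q ∨ R p q
    have hclique : ∀ p q, p ∈ Ob → q ∈ Ob → E p q := by
      intro p q hp hq
      obtain ⟨i', rfl⟩ := hψsurj p hp
      obtain ⟨j', rfl⟩ := hψsurj q hq
      by_cases e : i' = j'
      · exact Or.inl (e ▸ rfl)
      · exact Or.inr (hpair hne e hxy)
    have htransE : ∀ p q r, E p q → E q r → E p r := by
      rintro p q r (rfl | h1) (rfl | h2)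
      · exact Or.inl rfl
      · exact Or.inr h2
      · exact Or.inr h1
      · obtain ⟨g, hg, rfl⟩ := htrans q
        have h1' : g.symm p ∈ Ob := (hRa _).1 (by
          have := rel_smul (inv_mem hg) (hsymm _ _ h1); simpa using this)
        have h2' : g.symm r ∈ Ob := (hRa _).1 (by
          have := rel_smul (inv_mem hg) h2; simpa using this)
        rcases hclique _ _ h1' h2' with e | e
        · exact Or.inl (g.symm.injective e)
        · refine Or.inr ?_
          have := rel_smul hg e
          simpa using this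
    let C : Ω → Finset Ω := fun p => Finset.univ.filter (E p)
    have hC : ∀ p, (C p).card = 23 := fun p => by
      have e : ((C p : Finset Ω) : Set Ω) = insert p {q | R p q} := by
        ext q; simp [C, E, eq_comm]
      rw [← Set.ncard_coe_finset, e, Set.ncard_insert_of_notMem (show p ∉ {q | R p q} from hirr p) (Set.toFinite _), hnb]
    have hfib := Finset.card_eq_sum_card_image C (Finset.univ : Finset Ω)
    have hfc : ∀ X ∈ Finset.univ.image C, (Finset.univ.filter fun p => C p = X).card = 23 := by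
      intro X hX
      obtain ⟨p, -, rfl⟩ := Finset.mem_image.1 hX
      rw [← hC p]
      congr 1
      ext q
      simp only [C, Finset.mem_filter, Finset.mem_univ, true_and]
      constructor
      · intro h
        have : q ∈ Finset.univ.filter (E q) := Finset.mem_filter.2 ⟨Finset.mem_univ _, Or.inl rfl⟩
        rw [h] at this
        exact (Finset.mem_filter.1 this).2
      · intro h
        ext r
        simp only [Finset.mem_filter, Finset.mem_univ, true_and]
        refine ⟨fun hr => htransE _ _ _ h hr, fun hr => htransE _ _ _ ?_ hr⟩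
        rcases h with rfl | h
        · exact Or.inl rfl
        · exact Or.inr (hsymm _ _ h)
    rw [Finset.sum_congr rfl hfc, Finset.sum_const, smul_eq_mul, Finset.card_univ, hΩ] at hfib
    omega
  have htri : ∀ x y z, R x y → R x z → ¬ R y z := by
    intro x y z hxy hxz hyz
    obtain ⟨g, hg, rfl⟩ := htrans x
    have h1 := rel_smul (inv_mem hg) hxy
    have h2 := rel_smul (inv_mem hg) hxz
    have h3 := rel_smul (inv_mem hg) hyz
    simp only [Equiv.Perm.coe_inv, Equiv.symm_apply_apply] at h1 h2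
    exact hflat _ ((hRa _).1 h1) _ ((hRa _).1 h2) h3
  -- the blocks
  let blk : Ω → Finset (Fin 22) := fun d => Finset.univ.filter fun i => R (ψ i) d
  have hblk : ∀ (k : MulAction.stabilizer G a) (d : Ω), blk (k.val.val d) = (blk d).image (f k) := by
    intro k d
    ext i
    simp only [blk, Finset.mem_filter, Finset.mem_univ, true_and, Finset.mem_image]
    constructor
    · intro h
      refine ⟨(f k)⁻¹ i, ?_, (f k).apply_symm_apply i⟩
      have hi : ψ i = k.val.val (ψ ((f k)⁻¹ i)) := by
        rw [← ψeq]; exact congrArg ψ ((f k).apply_symm_apply i).symm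
      rw [hi] at h
      exact (rel_smul_iff k.val.2).1 h
    · rintro ⟨j, hj, rfl⟩
      rw [ψeq]
      exact rel_smul k.val.2 hj
  set Ocf : Finset Ω := Finset.univ.filter (· ∈ Oc) with hOcf
  have hOcard : Ocf.card = 77 := by
    rw [← Set.ncard_coe_finset, ← hc]; congr 1; ext x; simp [hOcf, Oc]
  have hOck : ∀ d ∈ Oc, ∃ k : MulAction.stabilizer G a, k.val.val c = d := fun d hd => hd
  have hOcinv : ∀ (k : MulAction.stabilizer G a) (d : Ω), d ∈ Oc → k.val.val d ∈ Oc := fun k d hd => by
    obtain ⟨k', rfl⟩ := hOck d hd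
    exact ⟨k * k', rfl⟩
  have hsize : ∀ d ∈ Oc, (blk d).card = (blk c).card := fun d hd => by
    obtain ⟨k, rfl⟩ := hOck d hd
    rw [hblk, Finset.card_image_of_injective _ (f k).injective]
  have hm6 : (blk c).card = 6 := by
    have h := Finset.sum_card_bipartiteAbove_eq_sum_card_bipartiteBelow (fun i d => R (ψ i) d)
      (s := (Finset.univ : Finset (Fin 22))) (t := Ocf)
    have h1 : ∀ i, (Ocf.bipartiteAbove (fun i d => R (ψ i) d) i).card = 21 := by
      intro i
      have e : ((Ocf.bipartiteAbove (fun i d => R (ψ i) d) i : Finset Ω) : Set Ω) = {y | R (ψ i) y} \ {a} := by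
        ext y
        simp only [Finset.bipartiteAbove, hOcf, Finset.coe_filter, Finset.mem_filter, Finset.mem_univ, true_and,
          Set.mem_ofPred_eq, Set.mem_sdiff, Set.mem_singleton_iff]
        constructor
        · rintro ⟨h1, h2⟩; exact ⟨h2, fun e => hac (e ▸ h1)⟩
        · rintro ⟨h2, hne⟩
          rcases hcases y with e | e | e
          · exact absurd e hne
          · exact absurd h2 (hflat _ (hψmem i) _ e)
          · exact ⟨e, h2⟩
      rw [← Set.ncard_coe_finset, e, Set.ncard_sdiff_singleton_of_mem (show a ∈ {y | R (ψ i) y} from hsymm _ _ ((hRa _).2 (hψmem i))), hnb]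
    have h2 : ∀ d ∈ Ocf, ((Finset.univ : Finset (Fin 22)).bipartiteBelow (fun i d => R (ψ i) d) d).card = (blk c).card :=
      fun d hd => hsize d (Finset.mem_filter.1 hd).2
    rw [Finset.sum_congr rfl (fun i _ => h1 i), Finset.sum_congr rfl h2, Finset.sum_const, Finset.sum_const,
      hOcard, Finset.card_univ, Fintype.card_fin, smul_eq_mul, smul_eq_mul] at h
    omega
  set BF : Finset (Finset (Fin 22)) := Ocf.image blk with hBF
  have hk6 : ∀ X ∈ BF, X.card = 6 := fun X hX => by
    obtain ⟨d, hd, rfl⟩ := Finset.mem_image.1 hX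
    rw [hsize d (Finset.mem_filter.1 hd).2, hm6]
  have hBinv : ∀ g ∈ M22Idx.grp, ∀ X ∈ BF, X.image g ∈ BF := fun g hg X hX => by
    obtain ⟨d, hd, rfl⟩ := Finset.mem_image.1 hX
    obtain ⟨k, rfl⟩ : g ∈ f.range := hfr.symm ▸ hg
    exact Finset.mem_image.2 ⟨_, Finset.mem_filter.2 ⟨Finset.mem_univ _, hOcinv k d (Finset.mem_filter.1 hd).2⟩, hblk k d⟩
  obtain ⟨l, hl, hlam⟩ := M22Idx.exists_lambda (i := 3) (by omega) BF hk6 hBinv
  have hBpos : 1 ≤ BF.card := Finset.card_pos.2 (Finset.Nonempty.image
    (Finset.card_pos.1 (by omega)) _)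
  have hBle : BF.card ≤ 77 := hOcard ▸ Finset.card_image_le
  have hB77 : BF.card = 77 := by
    have e1 : (6 : ℕ).choose 3 = 20 := rfl
    have e2 : (22 : ℕ).choose 3 = 1540 := rfl
    rw [e1, e2] at hl
    omega
  have hl1 : l = 1 := by
    have e1 : (6 : ℕ).choose 3 = 20 := rfl
    have e2 : (22 : ℕ).choose 3 = 1540 := rfl
    rw [e1, e2, hB77] at hl
    omega
  have hblkinj : Set.InjOn blk ↑Ocf := Finset.card_image_iff.1 (by rw [← hBF, hB77, hOcard])
  let B : Set (Finset (Fin 22)) := ↑BF
  have hB : IsSteinerSystem 3 6 B := by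
    refine ⟨fun X hX => hk6 X hX, fun s hs => ?_⟩
    obtain ⟨X, hX⟩ := Finset.card_eq_one.1 ((hlam s hs).trans hl1)
    have hXm : X ∈ BF.filter (s ⊆ ·) := hX ▸ Finset.mem_singleton_self X
    rw [Finset.mem_filter] at hXm
    refine ⟨X, hXm, fun Y hY => Finset.mem_singleton.1 (hX ▸ Finset.mem_filter.2 hY)⟩
  have hpre : ∀ X : B, ∃ d ∈ Oc, blk d = X.val := fun X => by
    obtain ⟨d, hd, e⟩ := Finset.mem_image.1 X.2
    exact ⟨d, (Finset.mem_filter.1 hd).2, e⟩
  choose vec hvec hvblk using hpre
  have hmemOcf : ∀ {d}, d ∈ Oc → d ∈ (↑Ocf : Set Ω) := fun {d} hd =>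
    Finset.mem_coe.2 (Finset.mem_filter.2 ⟨Finset.mem_univ d, hd⟩)
  have hBmem : ∀ {d}, d ∈ Oc → blk d ∈ B := fun {d} hd =>
    Finset.mem_coe.2 (Finset.mem_image_of_mem blk (Finset.mem_coe.1 (hmemOcf hd)))
  have hvec_of : ∀ {d} (hd : d ∈ Oc), vec ⟨blk d, hBmem hd⟩ = d := fun {d} hd =>
    hblkinj (hmemOcf (hvec _)) (hmemOcf hd) (hvblk _)
  let φ0 : Option (Fin 22 ⊕ B) → Ω := fun u => match u with
    | none => a
    | some (Sum.inl i) => ψ i
    | some (Sum.inr X) => vec X
  have hφ0 : Function.Bijective φ0 := by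
    constructor
    · rintro (_ | i | X) (_ | j | Y) h <;> simp only [φ0] at h
      · rfl
      · exact absurd (h ▸ hψmem j) hab
      · exact absurd (h ▸ hvec Y) hac
      · exact absurd (h.symm ▸ hψmem i) hab
      · rw [ψinj h]
      · exact absurd (hvec Y) (Set.disjoint_left.1 hdis (h ▸ hψmem i))
      · exact absurd (h.symm ▸ hvec X) hac
      · exact absurd (hvec X) (Set.disjoint_left.1 hdis (h.symm ▸ hψmem j))
      · have : X = Y := Subtype.ext (by rw [← hvblk X, ← hvblk Y, h])
        rw [this]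
    · intro x
      rcases hcases x with rfl | hx | hx
      · exact ⟨none, rfl⟩
      · obtain ⟨i, rfl⟩ := hψsurj x hx
        exact ⟨some (Sum.inl i), rfl⟩
      · exact ⟨some (Sum.inr ⟨blk x, hBmem hx⟩), hvec_of hx⟩
  have hdisj : ∀ X Y : B, X ≠ Y → (R (vec X) (vec Y) ↔ Disjoint X.val Y.val) := by
    intro X Y hXY
    have hto : ∀ Y : B, R (vec X) (vec Y) → Disjoint X.val Y.val := by
      intro Y h
      rw [Finset.disjoint_left]
      intro i hi hi'
      rw [← hvblk X, Finset.mem_filter] at hi
      rw [← hvblk Y, Finset.mem_filter] at hi'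
      exact htri _ _ _ hi.2 hi'.2 h
    refine ⟨hto Y, fun hd => ?_⟩
    let S : Set B := {Z | R (vec X) (vec Z)}
    let D : Set B := {Z | Disjoint X.val Z.val}
    have hD : D.ncard = 16 := by
      rw [ncard_blockSet (fun Z => Disjoint X.val Z)]
      exact s22_disjoint_one (Fintype.card_fin 22) hB X.2
    have hSeq : vec '' S = {y | R (vec X) y} \ (ψ '' ↑X.val) := by
      ext y
      constructor
      · rintro ⟨Z, hZ, rfl⟩
        refine ⟨hZ, ?_⟩
        rintro ⟨i, -, hi⟩
        exact Set.disjoint_left.1 hdis (hi ▸ hψmem i) (hvec Z)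
      · rintro ⟨h1, h2⟩
        rcases hcases y with rfl | hy | hy
        · exact absurd ((hback _ h1)) fun h => Set.disjoint_left.1 hdis h (hvec X)
        · obtain ⟨i, rfl⟩ := hψsurj y hy
          refine absurd ⟨i, ?_, rfl⟩ h2
          rw [← hvblk X]
          exact Finset.mem_coe.2 (Finset.mem_filter.2 ⟨Finset.mem_univ _, hsymm _ _ h1⟩)
        · exact ⟨⟨blk y, hBmem hy⟩, by show R (vec X) _; rw [hvec_of hy]; exact h1, hvec_of hy⟩
    have hS : S.ncard = 16 := by
      have vinj : Function.Injective vec := fun Z W e => Subtype.ext (by rw [← hvblk Z, ← hvblk W, e])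
      rw [← Set.ncard_image_of_injective S vinj, hSeq, Set.ncard_sdiff ?_ (Set.toFinite _), hnb,
        Set.ncard_image_of_injective _ ψinj, Set.ncard_coe_finset, hk6 _ X.2]
      rintro _ ⟨i, hi, rfl⟩
      rw [← hvblk X] at hi
      exact hsymm _ _ (Finset.mem_filter.1 (Finset.mem_coe.1 hi)).2
    have hSD : S = D := Set.eq_of_subset_of_ncard_le (fun Z hZ => hto Z hZ) (by rw [hS, hD]) (Set.toFinite _)
    have : Y ∈ S := by rw [hSD]; exact hd
    exact this
  refine ⟨B, hB, Equiv.ofBijective φ0 hφ0, fun u v => ?_⟩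
  show R (φ0 u) (φ0 v) ↔ _
  simp only [pointBlockGraph, SimpleGraph.fromRel_adj]
  rcases u with _ | i | X <;> rcases v with _ | j | Y <;> simp only [φ0, pointBlockRel]
  · simp [hirr]
  · simp [(hRa (ψ j)).2 (hψmem j)]
  · simp only [reduceCtorEq, ne_eq, not_false_eq_true, or_self, and_false, iff_false]
    exact fun h => Set.disjoint_left.1 hdis ((hRa _).1 h) (hvec Y)
  · simp [hsymm _ _ ((hRa (ψ i)).2 (hψmem i))]
  · simp only [or_self, and_false, iff_false]
    exact hflat _ (hψmem i) _ (hψmem j)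
  · simp only [ne_eq, reduceCtorEq, not_false_eq_true, Option.some.injEq, or_false, true_and]
    rw [← hvblk Y]
    simp [blk]
  · simp only [reduceCtorEq, ne_eq, not_false_eq_true, or_self, and_false, iff_false]
    exact fun h => Set.disjoint_left.1 hdis (hback _ h) (hvec X)
  · simp only [ne_eq, reduceCtorEq, not_false_eq_true, Option.some.injEq, false_or, true_and]
    rw [← hvblk X]
    simp only [blk, Finset.mem_filter, Finset.mem_univ, true_and]
    exact ⟨hsymm _ _, hsymm _ _⟩
  · by_cases e : X = Y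
    · subst e; simp [hirr]
    · rw [hdisj X Y e]
      simp [e, disjoint_comm]

end CfsgLib.Golay.Rank3
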