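import Cfsg.Prelude.Def_SporadicCombinatorics

/-!
# The hexacode over a field of four elements, by tables
-/

set_option autoImplicit false

namespace CfsgLib.Golay.Hexacode

open Cfsg

/-- Addition on the codes of the four field elements. -/
def addT (a b : Fin 4) : Fin 4 := ![![0, 1, 2, 3], ![1, 0, 3, 2], ![2, 3, 0, 1], ![3, 2, 1, 0]] a b

/-- Multiplication on the codes of the four field elements. -/
def mulT (a b : Fin 4) : Fin 4 := ![![0, 0, 0, 0], ![0, 1, 2, 3], ![0, 2, 3, 1], ![0, 3, 1, 2]] a b

/-- The three spanning words, coded. -/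
def gen : Fin 3 → Fin 6 → Fin 4 := ![![2, 3, 3, 2, 3, 2], ![3, 2, 2, 3, 3, 2], ![3, 2, 3, 2, 2, 3]]

/-- The coded combination of the spanning words. -/
def codeWord (a : Fin 4 × Fin 4 × Fin 4) : Fin 6 → Fin 4 := fun i =>
  addT (addT (mulT a.1 (gen 0 i)) (mulT a.2.1 (gen 1 i))) (mulT a.2.2 (gen 2 i))

theorem codeWord_injective : Function.Injective codeWord := by
  have h : ∀ a b, (∀ i, codeWord a i = codeWord b i) → a = b := by decide +kernel
  exact fun a b e => h a b (congrFun e)

variable {F : Type*} [Field F] (ω : F)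

/-- The element with a given code. -/
def el (a : Fin 4) : F := ![0, 1, ω, ω ^ 2] a

variable [Fintype F] (hF : Fintype.card F = 4) (hω : ω ^ 2 + ω + 1 = 0)

include hF in
theorem two_eq_zero : (2 : F) = 0 := by
  have h := Nat.cast_card_eq_zero F
  rw [hF, Nat.cast_ofNat] at h
  have : (2 : F) * 2 = 0 := by rw [← h]; norm_num
  rcases mul_eq_zero.1 this with e | e <;> exact e

include hF hω

theorem sq_eq : ω ^ 2 = ω + 1 := by
  linear_combination hω - (ω + 1) * two_eq_zero hF

theorem el_add (a b : Fin 4) : el ω (addT a b) = el ω a + el ω b := by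
  have h2 := two_eq_zero hF
  have hs := sq_eq ω hF hω
  have hself : ∀ x : F, x + x = 0 := fun x => by linear_combination x * h2
  fin_cases a <;> fin_cases b <;> simp [addT, el, hs, hself] <;>
    first
      | ring1
      | (linear_combination h2) | (linear_combination -h2) | (linear_combination ω * h2) | (linear_combination -ω * h2)
      | (linear_combination (ω + 1) * h2) | (linear_combination -(ω + 1) * h2)

theorem el_mul (a b : Fin 4) : el ω (mulT a b) = el ω a * el ω b := by
  have h3 : ω * ω ^ 2 = 1 := by linear_combination (ω - 1) * hω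
  fin_cases a <;> fin_cases b <;> simp [mulT, el] <;>
    first
      | ring1 | (linear_combination h3) | (linear_combination -h3) | (linear_combination ω * h3) | (linear_combination -ω * h3)

theorem el_injective : Function.Injective (el ω) := by
  have h0 : ω ≠ 0 := by rintro rfl; simp at hω
  have h1 : ω ≠ 1 := by
    rintro rfl
    apply one_ne_zero (α := F)
    linear_combination hω - two_eq_zero hF
  have hs := sq_eq ω hF hω
  intro a b
  have h4 : ω + 1 ≠ 0 := fun h => h1 (by linear_combination h - two_eq_zero hF)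
  fin_cases a <;> fin_cases b <;> simp [el, h0, h1, Ne.symm h0, Ne.symm h1, h4, Ne.symm h4, hs]

theorem el_bijective : Function.Bijective (el ω) :=
  (Fintype.bijective_iff_injective_and_card _).2 ⟨el_injective ω hF hω, by rw [hF, Fintype.card_fin]⟩

theorem mem_iff {x : Fin 6 → F} : x ∈ hexacode F ω ↔ ∃ a, el ω ∘ codeWord a = x := by
  have key : ∀ a : Fin 4 × Fin 4 × Fin 4, el ω ∘ codeWord a =
      el ω a.1 • ![ω, ω ^ 2, ω ^ 2, ω, ω ^ 2, ω] + (el ω a.2.1 • ![ω ^ 2, ω, ω, ω ^ 2, ω ^ 2, ω] +
        el ω a.2.2 • ![ω ^ 2, ω, ω ^ 2, ω, ω, ω ^ 2]) := by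
    intro a
    funext i
    simp only [Function.comp_apply, codeWord, el_add ω hF hω, el_mul ω hF hω, Pi.add_apply, Pi.smul_apply,
      smul_eq_mul, add_assoc]
    fin_cases i <;> simp [gen, el]
  rw [hexacode, Submodule.mem_span_triple]
  constructor
  · rintro ⟨p, q, r, rfl⟩
    obtain ⟨i, rfl⟩ := (el_bijective ω hF hω).2 p
    obtain ⟨j, rfl⟩ := (el_bijective ω hF hω).2 q
    obtain ⟨k, rfl⟩ := (el_bijective ω hF hω).2 r
    exact ⟨(i, j, k), by rw [key, add_assoc]⟩
  · rintro ⟨a, rfl⟩
    exact ⟨el ω a.1, el ω a.2.1, el ω a.2.2, by rw [key, add_assoc]⟩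

theorem elWord_injective : Function.Injective fun a => el ω ∘ codeWord a := fun _ _ e =>
  codeWord_injective (funext fun i => el_injective ω hF hω (congrFun e i))

theorem el_ne_zero {a : Fin 4} : el ω a ≠ 0 ↔ a ≠ 0 := by
  rw [show (0 : F) = el ω 0 from rfl]
  exact (el_injective ω hF hω).ne_iff

end CfsgLib.Golay.Hexacode
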