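import Cfsg.Agent.Lib.Golay.J1Ops
import Cfsg.Agent.Lib.Golay.J1Data

/-!
The centraliser search for the element of order nineteen.
-/

set_option autoImplicit false
set_option maxRecDepth 100000

namespace CfsgLib.Golay.J1

open scoped Pointwise

theorem cent_ok :
    Bsgs.centCheck ops elt19 elt19Pows witnessPts [] oneM levels = true := by decide +kernel

end CfsgLib.Golay.J1
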