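import Cfsg.Agent.Lib.Golay.J1Ops
import Cfsg.Agent.Lib.Golay.J1Data

/-!
Kernel checks of the chain data for the smallest Janko group.
-/

set_option autoImplicit false
set_option maxRecDepth 100000

namespace CfsgLib.Golay.J1

open scoped Pointwise

open Bsgs

theorem elt19_ok : okM elt19 = true ∧ prodReps ops levels elt19Idx = elt19 ∧
    elt19Pows.length = 19 ∧ elt19Pows.getD 0 0 = oneM ∧
    ((List.range 19).all fun k =>
      mulM elt19 (elt19Pows.getD k 0) == elt19Pows.getD ((k + 1) % 19) 0) = true ∧
    elt19 ≠ oneM := by decide +kernel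

theorem slp_ok : slpCheck ops [codeX, codeY] slp = true ∧
    (allGens levels).all (fun g => ([codeX, codeY] ++ slp.map (·.1)).contains g) = true ∧
    (allGens levels).contains codeX = true ∧ (allGens levels).contains codeY = true ∧
    okM codeX = true ∧ okM codeY = true := by decide +kernel

/-- The power of a code. -/
def powM (A : ℕ) : ℕ → ℕ
  | 0 => oneM
  | k + 1 => mulM A (powM A k)

theorem word_ok : wordData = (1, 2, 11) ∧ powM codeX 7 = oneM ∧ powM codeY 5 = oneM ∧
    powM (mulM codeX (powM codeY 2)) 11 = oneM ∧ codeX ≠ oneM := by decide +kernel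

theorem gens_coe : toMat codeX = Cfsg.jankoMatrixX ∧ toMat codeY = Cfsg.jankoMatrixY := by
  decide +kernel

end CfsgLib.Golay.J1
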