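import Mathlib

/-!
Simplicity of a perfect group with a self-centralising element of prime order.
-/

set_option autoImplicit false

namespace CfsgLib.Golay.SimpleCrit

open MulAction

open scoped commutatorElement Pointwise

variable {G : Type*} [Group G] [Finite G]

/-- The prime-power parts of a normal subgroup on which an element of order `p` has no fixed point
are congruent to one modulo `p`. -/
theorem part_modEq {p : ℕ} [Fact p.Prime] {x : G} (hx : orderOf x = p)
    (hcent : ∀ g : G, g * x = x * g → g ∈ Subgroup.zpowers x) {N : Subgroup G} [N.Normal]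
    (hp : ¬ p ∣ Nat.card N) {q : ℕ} [Fact q.Prime] :
    q ^ (Nat.card N).factorization q ≡ 1 [MOD p] := by
  classical
  set P := Subgroup.zpowers x with hP
  have hPcard : Nat.card P = p := by rw [hP, Nat.card_zpowers, hx]
  have hPp : IsPGroup p P := IsPGroup.of_card (n := 1) (by rw [hPcard, pow_one])
  let c : P →* MulAut N := (MulAut.conjNormal (H := N)).comp P.subtype
  letI : MulDistribMulAction P N := MulDistribMulAction.compHom N c
  have hfp : ∀ n : N, (∀ g : P, g • n = n) → n = 1 := by
    intro n hn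
    have h := congrArg Subtype.val (hn ⟨x, Subgroup.mem_zpowers x⟩)
    have h' : x * (n : G) * x⁻¹ = n := h
    have hmem : (n : G) ∈ P := hcent n (mul_inv_eq_iff_eq_mul.1 h').symm
    have h1 : orderOf (n : G) ∣ p := hPcard ▸ by
      have := orderOf_dvd_natCard (⟨(n : G), hmem⟩ : P)
      rwa [← Subgroup.orderOf_coe] at this
    have h2 : orderOf (n : G) ∣ Nat.card N := by
      have := orderOf_dvd_natCard n
      rwa [← Subgroup.orderOf_coe] at this
    rcases (Nat.dvd_prime (Fact.out : p.Prime)).1 h1 with h3 | h3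
    · exact Subtype.ext (orderOf_eq_one_iff.1 h3)
    · exact absurd (h3 ▸ h2) hp
  obtain ⟨S₀⟩ : Nonempty (Sylow q N) := inferInstance
  have hn : ¬ p ∣ Nat.card (Sylow q N) := fun h =>
    hp (h.trans ((Sylow.card_dvd_index S₀).trans (Subgroup.index_dvd_card _)))
  obtain ⟨S, hS⟩ := hPp.nonempty_fixed_point_of_prime_not_dvd_card (Sylow q N) hn
  have hinv : ∀ g : P, ∀ n ∈ (S : Subgroup N), g • n ∈ (S : Subgroup N) := fun g n hn' => by
    have := Subgroup.smul_mem_pointwise_smul n g _ hn'
    rw [← Sylow.pointwise_smul_def, hS g] at this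
    exact this
  letI : MulAction P (S : Subgroup N) :=
    { smul := fun g n => ⟨g • (n : N), hinv g n n.2⟩
      one_smul := fun n => Subtype.ext (one_smul P (n : N))
      mul_smul := fun g h n => Subtype.ext (mul_smul g h (n : N)) }
  have hfix : fixedPoints P (S : Subgroup N) = {1} := by
    ext n
    refine ⟨fun h => Subtype.ext (hfp n fun g => congrArg Subtype.val (h g)), ?_⟩
    rintro rfl g
    exact Subtype.ext (smul_one g)
  have := hPp.card_modEq_card_fixedPoints (S : Subgroup N)
  rw [hfix, Nat.card_coe_set_eq, Set.ncard_singleton, S.card_eq_multiplicity] at this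
  exact this

/-- A perfect group with a self-centralising element `x` of prime order `p`, `p²` not dividing the
order, is simple as soon as it has no nontrivial normal subgroup of order prime to `p`. -/
theorem isSimple {p : ℕ} [Fact p.Prime] {x : G} (hx : orderOf x = p)
    (hcent : ∀ g : G, g * x = x * g → g ∈ Subgroup.zpowers x) (hsq : ¬ p ^ 2 ∣ Nat.card G)
    (hperf : commutator G = ⊤)
    (hsmall : ∀ N : Subgroup G, N.Normal → ¬ p ∣ Nat.card N → N = ⊥) : IsSimpleGroup G := by
  haveI : Nontrivial G := ⟨x, 1, fun h => by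
    rw [h, orderOf_one] at hx; exact (Fact.out : p.Prime).one_lt.ne hx⟩
  refine ⟨fun N hN => ?_⟩
  haveI := hN
  by_cases hp : p ∣ Nat.card N
  swap
  · exact Or.inl (hsmall N hN hp)
  refine Or.inr ?_
  obtain ⟨y, hy⟩ := exists_prime_orderOf_dvd_card' p hp
  have hy' : orderOf (y : G) = p := by rw [Subgroup.orderOf_coe, hy]
  set P : Sylow p G := Sylow.ofCard (Subgroup.zpowers x) (by
    rw [Nat.card_zpowers, hx]
    have h1 : (Nat.card G).factorization p = 1 := by
      have ha : 1 ≤ (Nat.card G).factorization p :=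
        (Nat.Prime.dvd_iff_one_le_factorization Fact.out Nat.card_pos.ne').1
          (hx ▸ orderOf_dvd_natCard x)
      have hb : ¬ 2 ≤ (Nat.card G).factorization p := fun h =>
        hsq ((Nat.Prime.pow_dvd_iff_le_factorization Fact.out Nat.card_pos.ne').2 h)
      omega
    rw [h1, pow_one])
  have hNP : ∀ g : G, g ∈ (P : Subgroup G) → g ∈ N := by
    obtain ⟨Q, hQ⟩ := (IsPGroup.of_card (n := 1)
      (show Nat.card (Subgroup.zpowers (y : G)) = p ^ 1 by rw [Nat.card_zpowers, hy', pow_one]
      )).exists_le_sylow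
    obtain ⟨a, ha⟩ := MulAction.exists_smul_eq G Q P
    have hQeq : (Q : Subgroup G) = Subgroup.zpowers (y : G) := by
      refine (Subgroup.eq_of_le_of_card_ge hQ ?_).symm
      rw [Nat.card_congr (Q.equiv P).toEquiv, Nat.card_zpowers, hy', Sylow.coe_ofCard,
        Nat.card_zpowers, hx]
    intro g hg
    rw [← ha, Sylow.smul_def, Sylow.pointwise_smul_def, Subgroup.mem_smul_pointwise_iff_exists] at hg
    obtain ⟨q, hq, rfl⟩ := hg
    rw [hQeq] at hq
    exact hN.conj_mem q ((Subgroup.zpowers_le.2 y.2) hq) a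
  have hxN : x ∈ N := hNP x (Subgroup.mem_zpowers x)
  have habel : ∀ g h : G, ⁅g, h⁆ ∈ N := by
    intro g h
    suffices H : ∀ g : G, ∃ n ∈ N, ∃ a : G, a ∈ Subgroup.normalizer ((Subgroup.zpowers x : Subgroup G) : Set G) ∧ g = n * a by
      obtain ⟨n, hn, a, ha, rfl⟩ := H g
      obtain ⟨m, hm, b, hb, rfl⟩ := H h
      have hab : ⁅a, b⁆ ∈ N := by
        have hmul : ∀ c ∈ Subgroup.normalizer ((Subgroup.zpowers x : Subgroup G) : Set G), ∃ k : ℤ,
            c * x * c⁻¹ = x ^ k := fun c hc => by
          obtain ⟨k, hk⟩ := Subgroup.mem_zpowers_iff.1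
            ((Subgroup.mem_normalizer_iff.1 hc x).1 (Subgroup.mem_zpowers x))
          exact ⟨k, hk.symm⟩
        obtain ⟨i, hi⟩ := hmul a ha
        obtain ⟨j, hj⟩ := hmul b hb
        have hpow : ∀ (c : G) (k l : ℤ), c * x * c⁻¹ = x ^ k → c * x ^ l * c⁻¹ = x ^ (k * l) :=
          fun c k l h => by rw [← MulAut.conj_apply, map_zpow, MulAut.conj_apply, h, zpow_mul]
        have e1 : (a * b) * x * (a * b)⁻¹ = x ^ (i * j) := by
          rw [← hpow a i j hi, ← hj]; group
        have e2 : (b * a) * x * (b * a)⁻¹ = x ^ (i * j) := by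
          rw [mul_comm i j, ← hpow b j i hj, ← hi]; group
        refine (Subgroup.zpowers_le.2 hxN) ?_
        have hmem : ((b * a)⁻¹ * (a * b)) ∈ Subgroup.zpowers x := hcent _ (by
          have e := e1.trans e2.symm
          calc (b * a)⁻¹ * (a * b) * x
              = (b * a)⁻¹ * ((a * b) * x * (a * b)⁻¹) * (a * b) := by group
            _ = (b * a)⁻¹ * ((b * a) * x * (b * a)⁻¹) * (a * b) := by rw [e]
            _ = x * ((b * a)⁻¹ * (a * b)) := by group)
        have : ⁅a, b⁆ = (b * a) * ((b * a)⁻¹ * (a * b)) * (b * a)⁻¹ := by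
          rw [commutatorElement_def]; group
        rw [this]
        exact (Subgroup.mem_normalizer_iff.1 (Subgroup.mul_mem _ hb ha) _).1 hmem
      have hq : QuotientGroup.mk' N ⁅n * a, m * b⁆ = 1 := by
        rw [map_commutatorElement, map_mul, map_mul,
          (QuotientGroup.eq_one_iff (N := N) n).2 hn |> fun e => (e : QuotientGroup.mk' N n = 1),
          (QuotientGroup.eq_one_iff (N := N) m).2 hm |> fun e => (e : QuotientGroup.mk' N m = 1),
          one_mul, one_mul, ← map_commutatorElement]
        exact (QuotientGroup.eq_one_iff _).2 hab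
      exact (QuotientGroup.eq_one_iff _).1 hq
    intro g
    set Pn : Sylow p N := P.subtype (fun z hz => hNP z hz)
    have hfr := Sylow.normalizer_sup_eq_top (N := N) Pn
    have hmap : (Pn : Subgroup N).map N.subtype = Subgroup.zpowers x := by
      rw [Sylow.coe_subtype, Subgroup.map_subgroupOf_eq_of_le (fun z hz => hNP z hz)]
      rfl
    rw [hmap, sup_comm] at hfr
    have hg : g ∈ N ⊔ Subgroup.normalizer ((Subgroup.zpowers x : Subgroup G) : Set G) :=
      hfr ▸ Subgroup.mem_top g
    rw [← SetLike.mem_coe, Subgroup.normal_mul] at hg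
    obtain ⟨n, hn, a, ha, e⟩ := hg
    exact ⟨n, hn, a, ha, e.symm⟩
  refine eq_top_iff.2 (hperf ▸ ?_)
  rw [commutator_def, Subgroup.commutator_le]
  exact fun g _ h _ => habel g h

end CfsgLib.Golay.SimpleCrit
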