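import Cfsg.Agent.Lib.Golay.J1Chain
import Cfsg.Agent.Lib.Golay.J1Cent
import Cfsg.Agent.Lib.Golay.J1Check
import Cfsg.Agent.Lib.Golay.SimpleCriterion
import Cfsg.Prelude.Def_Sporadic

/-!
The two matrices generate a simple group of order 175560.
-/

set_option autoImplicit false

namespace CfsgLib.Golay.J1

open Bsgs Cfsg
open scoped MatrixGroups Pointwise commutatorElement

theorem powM_zero (A : ℕ) : powM A 0 = oneM := rfl

theorem powM_succ (A k : ℕ) : powM A (k + 1) = mulM A (powM A k) := rfl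

theorem ops_val : ops.val = val := rfl

theorem ops_one : ops.one = oneM := rfl

attribute [local irreducible] mulM okM val powM oneM elt19 codeX codeY toMat elt19Pows levels
  witnessPts elt19Idx slp

/-- The group of the chain. -/
noncomputable def grpJ1 : Subgroup (GL (Fin 7) (ZMod 11)) := grp ops levels

theorem spec1 : Fixes ops (grp ops levels) [] ∧ (∀ r ∈ allGens levels, ops.ok r = true) ∧
    (∀ is, ops.ok (prodReps ops levels is) = true ∧
      ops.val (prodReps ops levels is) ∈ grp ops levels) ∧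
    Nat.card (grp ops levels) = (levels.map fun l => l.reps.length).prod ∧
    (∀ l ls', levels = l :: ls' → ∀ g ∈ grp ops levels,
      ∃ r ∈ l.reps, ∃ h ∈ grp ops ls', g = ops.val r * h) :=
  spec ops (fixed := []) (fun f hf => absurd hf List.not_mem_nil) levels_ok

theorem prod_lengths : (levels.map fun l => l.reps.length).prod = 175560 := by
  unfold levels
  decide +kernel

theorem card_grpJ1 : Nat.card grpJ1 = 175560 := by
  rw [grpJ1, spec1.2.2.2.1, prod_lengths]

theorem val_mem {r : ℕ} (h : (allGens levels).contains r = true) : val r ∈ grpJ1 :=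
  Subgroup.subset_closure ⟨r, List.contains_iff_mem.1 h, rfl⟩

theorem grpJ1_eq : grpJ1 = Subgroup.closure {val codeX, val codeY} := by
  obtain ⟨hs, hcont, hX, hY, okX, okY⟩ := slp_ok
  refine le_antisymm ((Subgroup.closure_le _).2 ?_) ((Subgroup.closure_le _).2 ?_)
  · rintro _ ⟨r, hr, rfl⟩
    simp only [List.all_eq_true, List.contains_iff_mem] at hcont
    refine (slp_sound ops _ hs (fun c hc => ?_) r (hcont r hr)).2
    rcases List.mem_cons.1 hc with rfl | hc
    · exact ⟨okX, Subgroup.subset_closure (Or.inl rfl)⟩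
    · rw [List.mem_singleton.1 hc]; exact ⟨okY, Subgroup.subset_closure (Or.inr rfl)⟩
  · rintro g (rfl | rfl)
    exacts [val_mem hX, val_mem hY]

theorem val_powM {A : ℕ} (hA : okM A = true) : ∀ k,
    okM (powM A k) = true ∧ val (powM A k) = val A ^ k
  | 0 => by rw [powM_zero, pow_zero]; exact ⟨ok_one', val_one'⟩
  | k + 1 => by
    obtain ⟨h1, h2⟩ := val_powM hA k
    rw [powM_succ, pow_succ', ← h2]
    exact ⟨ok_mul' _ _ hA h1, val_mul' _ _ hA h1⟩

theorem grpJ1_perfect : commutator grpJ1 = ⊤ := by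
  obtain ⟨-, -, hX, hY, okX, okY⟩ := slp_ok
  obtain ⟨-, e7, e5, e11, -⟩ := word_ok
  set a : grpJ1 := ⟨val codeX, val_mem hX⟩
  set b : grpJ1 := ⟨val codeY, val_mem hY⟩
  have pX := (val_powM okX 7).2
  have pY := (val_powM okY 5).2
  rw [e7] at pX; rw [e5] at pY
  have ha7 : a ^ 7 = 1 := Subtype.ext (pX.symm.trans val_one')
  have hb5 : b ^ 5 = 1 := Subtype.ext (pY.symm.trans val_one')
  have hab : (a * b ^ 2) ^ 11 = 1 := by
    have h2 := val_powM okY 2
    have hm : okM (mulM codeX (powM codeY 2)) = true := ok_mul' _ _ okX h2.1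
    have h11 := (val_powM hm 11).2
    rw [e11, show val (mulM codeX (powM codeY 2)) = val codeX * val codeY ^ 2 by
      rw [← h2.2]; exact val_mul' _ _ okX h2.1] at h11
    exact Subtype.ext (h11.symm.trans val_one')
  let f := Abelianization.of (G := grpJ1)
  have fa7 : f a ^ 7 = 1 := by rw [← map_pow, ha7, map_one]
  have fb5 : f b ^ 5 = 1 := by rw [← map_pow, hb5, map_one]
  have fab : (f a * f b ^ 2) ^ 11 = 1 := by rw [← map_pow, ← map_mul, ← map_pow, hab, map_one]
  have hfa : f a = 1 := by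
    have h55 : f a ^ 55 = 1 := by
      have h1 : ((f a * f b ^ 2) ^ 11) ^ 5 = 1 := by rw [fab, one_pow]
      rw [← pow_mul, mul_pow, ← pow_mul] at h1
      rw [show (2 * (11 * 5) : ℕ) = 5 * 22 by norm_num, pow_mul (f b), fb5, one_pow, mul_one] at h1
      exact h1
    refine orderOf_eq_one_iff.1 (Nat.dvd_one.1 ?_)
    exact (Nat.dvd_gcd (orderOf_dvd_of_pow_eq_one fa7) (orderOf_dvd_of_pow_eq_one h55)).trans
      (by norm_num)
  have hfb : f b = 1 := by
    rw [hfa, one_mul, ← pow_mul] at fab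
    refine orderOf_eq_one_iff.1 (Nat.dvd_one.1 ?_)
    exact (Nat.dvd_gcd (orderOf_dvd_of_pow_eq_one fb5) (orderOf_dvd_of_pow_eq_one fab)).trans
      (by norm_num)
  rw [eq_top_iff, ← Abelianization.ker_of]
  intro g _
  have hle : ∀ x (hx : x ∈ grpJ1), f ⟨x, hx⟩ = 1 := by
    intro x hx
    suffices h : grpJ1 ≤ (f.ker).map grpJ1.subtype by
      obtain ⟨y, hy, rfl⟩ := h hx
      exact hy
    conv_lhs => rw [grpJ1_eq]
    refine (Subgroup.closure_le _).2 ?_
    rintro z (rfl | rfl)
    exacts [⟨a, hfa, rfl⟩, ⟨b, hfb, rfl⟩]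
  exact hle g.1 g.2

theorem pows_val : ∀ k, k < 19 →
    okM (elt19Pows.getD k 0) = true ∧ val (elt19Pows.getD k 0) = val elt19 ^ k := by
  obtain ⟨hok, -, -, h0, hstep, -⟩ := elt19_ok
  intro k
  induction k with
  | zero => intro _; rw [h0, pow_zero]; exact ⟨ok_one', val_one'⟩
  | succ k ih =>
    intro hk
    obtain ⟨h1, h2⟩ := ih (by omega)
    simp only [List.all_eq_true, List.mem_range, beq_iff_eq] at hstep
    have e := hstep k (by omega)
    rw [Nat.mod_eq_of_lt hk] at e
    rw [← e, pow_succ', ← h2]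
    exact ⟨ok_mul' _ _ hok h1, val_mul' _ _ hok h1⟩

theorem elt19_pow : val elt19 ^ 19 = 1 := by
  obtain ⟨hok, -, -, h0, hstep, -⟩ := elt19_ok
  obtain ⟨h1, h2⟩ := pows_val 18 (by norm_num)
  simp only [List.all_eq_true, List.mem_range, beq_iff_eq] at hstep
  rw [pow_succ', ← h2, ← val_mul' _ _ hok h1]
  rw [hstep 18 (by norm_num), h0]
  exact val_one'

theorem elt19_mem : val elt19 ∈ grpJ1 := by
  rw [← elt19_ok.2.1, ← ops_val]
  exact (spec1.2.2.1 _).2

theorem elt19_mat : toMat elt19 ≠ 1 := by decide +kernel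

theorem elt19_ne : val elt19 ≠ 1 := by
  intro h
  have h1 : toMat elt19 = 1 := by rw [← val_coe elt19_ok.1, h]; rfl
  exact elt19_mat h1

theorem grpJ1_simple : IsSimpleGroup grpJ1 := by
  haveI : Fact (Nat.Prime 19) := ⟨by norm_num⟩
  set x : grpJ1 := ⟨val elt19, elt19_mem⟩
  have hord : orderOf x = 19 := by
    rw [← Subgroup.orderOf_coe]
    exact orderOf_eq_prime elt19_pow elt19_ne
  have hcent : ∀ g : grpJ1, g * x = x * g → g ∈ Subgroup.zpowers x := by
    intro g hg
    obtain ⟨r, hr, hgr⟩ := cent_sound ops (x := elt19) elt19_ok.1 (allowed := elt19Pows)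
      (pts := witnessPts) (bs := []) (fun b hb => absurd hb List.not_mem_nil) ok_one' levels_ok
      cent_ok g.1 (congrArg Subtype.val hg)
      (by rw [ops_val, val_one', inv_one, one_mul]; exact g.2)
    obtain ⟨k, hk, rfl⟩ := List.getElem_of_mem hr
    refine Subgroup.mem_zpowers_iff.2 ⟨(k : ℤ), Subtype.ext ?_⟩
    rw [zpow_natCast, Subgroup.coe_pow, hgr, ← List.getD_eq_getElem _ 0 hk]
    exact (pows_val k (elt19_ok.2.2.1 ▸ hk)).2.symm
  refine SimpleCrit.isSimple hord hcent (by rw [card_grpJ1]; norm_num) grpJ1_perfect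
    fun N hN hp => ?_
  haveI := hN
  by_contra hbot
  have hd : Nat.card N ∣ 2 ^ 3 * 3 * 5 * 7 * 11 * 19 := by
    have := Subgroup.card_subgroup_dvd_card N
    rwa [card_grpJ1] at this
  have hq : ∀ q v : ℕ, q.Prime → ¬ q ^ (v + 1) ∣ 175560 →
      (∀ w, 1 ≤ w → w ≤ v → ¬ q ^ w ≡ 1 [MOD 19]) → Nat.Coprime (Nat.card N) q := by
    intro q v hq hv hw
    haveI : Fact q.Prime := ⟨hq⟩
    refine ((Nat.Prime.coprime_iff_not_dvd hq).2 fun hdq => ?_).symm
    have hne : Nat.card N ≠ 0 := Nat.card_pos.ne'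
    refine hw _ ((hq.dvd_iff_one_le_factorization hne).1 hdq) ?_
      (SimpleCrit.part_modEq hord hcent hp)
    by_contra hgt
    refine hv (dvd_trans ?_ (card_grpJ1 ▸ Subgroup.card_subgroup_dvd_card N))
    exact (hq.pow_dvd_iff_le_factorization hne).2 (by omega)
  have c2 := hq 2 3 (by norm_num) (by norm_num) fun w h1 h2 => by interval_cases w <;> decide
  have c3 := hq 3 1 (by norm_num) (by norm_num) fun w h1 h2 => by interval_cases w; decide
  have c5 := hq 5 1 (by norm_num) (by norm_num) fun w h1 h2 => by interval_cases w; decide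
  have c7 := hq 7 1 (by norm_num) (by norm_num) fun w h1 h2 => by interval_cases w; decide
  have c11 := hq 11 1 (by norm_num) (by norm_num) fun w h1 h2 => by interval_cases w; decide
  have c19 : Nat.Coprime (Nat.card N) 19 :=
    ((Nat.Prime.coprime_iff_not_dvd (by norm_num)).2 hp).symm
  have h1 : Nat.card N = 1 := Nat.Coprime.eq_one_of_dvd
    ((((((c2.pow_right 3).mul_right c3).mul_right c5).mul_right c7).mul_right c11).mul_right c19) hd
  exact hbot (Subgroup.card_eq_one.1 h1)

theorem exists_J1 : ∃ x y : GL (Fin 7) (ZMod 11),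
    (x : Matrix (Fin 7) (Fin 7) (ZMod 11)) = jankoMatrixX ∧
    (y : Matrix (Fin 7) (Fin 7) (ZMod 11)) = jankoMatrixY ∧
    IsJ1 (Subgroup.closure ({x, y} : Set (GL (Fin 7) (ZMod 11)))) := by
  obtain ⟨-, -, -, -, okX, okY⟩ := slp_ok
  refine ⟨val codeX, val codeY, by rw [val_coe okX, gens_coe.1], by rw [val_coe okY, gens_coe.2], ?_⟩
  rw [← grpJ1_eq]
  exact ⟨grpJ1_simple, card_grpJ1⟩

end CfsgLib.Golay.J1
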