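import Cfsg.Agent.Lib.Golay.J1ChainDefs

/-!
Sifting checks for one generator of the chain of the smallest Janko group.
-/

set_option autoImplicit false
set_option maxRecDepth 100000

namespace CfsgLib.Golay.J1

theorem sift1_0 : siftPart 1 0 = true := by decide +kernel

theorem sift1_1 : siftPart 1 1 = true := by decide +kernel

theorem sift1_2 : siftPart 1 2 = true := by decide +kernel

theorem sift1_3 : siftPart 1 3 = true := by decide +kernel

theorem sift1_4 : siftPart 1 4 = true := by decide +kernel

theorem sift1_5 : siftPart 1 5 = true := by decide +kernel

theorem sift1_6 : siftPart 1 6 = true := by decide +kernel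

theorem sift1_7 : siftPart 1 7 = true := by decide +kernel

theorem siftGen1 : ∀ k, k < 8 → siftPart 1 k = true := by
  intro k hk
  interval_cases k
  exacts [sift1_0, sift1_1, sift1_2, sift1_3, sift1_4, sift1_5, sift1_6, sift1_7]

end CfsgLib.Golay.J1
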