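import Cfsg.Agent.Lib.Golay.J1ChainDefs

/-!
Sifting checks for one generator of the chain of the smallest Janko group.
-/

set_option autoImplicit false
set_option maxRecDepth 100000

namespace CfsgLib.Golay.J1

theorem sift2_0 : siftPart 2 0 = true := by decide +kernel

theorem sift2_1 : siftPart 2 1 = true := by decide +kernel

theorem sift2_2 : siftPart 2 2 = true := by decide +kernel

theorem sift2_3 : siftPart 2 3 = true := by decide +kernel

theorem sift2_4 : siftPart 2 4 = true := by decide +kernel

theorem sift2_5 : siftPart 2 5 = true := by decide +kernel

theorem sift2_6 : siftPart 2 6 = true := by decide +kernel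

theorem sift2_7 : siftPart 2 7 = true := by decide +kernel

theorem siftGen2 : ∀ k, k < 8 → siftPart 2 k = true := by
  intro k hk
  interval_cases k
  exacts [sift2_0, sift2_1, sift2_2, sift2_3, sift2_4, sift2_5, sift2_6, sift2_7]

end CfsgLib.Golay.J1
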