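import Cfsg.Agent.Lib.Golay.J1ChainDefs

/-!
Sifting checks for one generator of the chain of the smallest Janko group.
-/

set_option autoImplicit false
set_option maxRecDepth 100000

namespace CfsgLib.Golay.J1

theorem sift3_0 : siftPart 3 0 = true := by decide +kernel

theorem sift3_1 : siftPart 3 1 = true := by decide +kernel

theorem sift3_2 : siftPart 3 2 = true := by decide +kernel

theorem sift3_3 : siftPart 3 3 = true := by decide +kernel

theorem sift3_4 : siftPart 3 4 = true := by decide +kernel

theorem sift3_5 : siftPart 3 5 = true := by decide +kernel

theorem sift3_6 : siftPart 3 6 = true := by decide +kernel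

theorem sift3_7 : siftPart 3 7 = true := by decide +kernel

theorem siftGen3 : ∀ k, k < 8 → siftPart 3 k = true := by
  intro k hk
  interval_cases k
  exacts [sift3_0, sift3_1, sift3_2, sift3_3, sift3_4, sift3_5, sift3_6, sift3_7]

end CfsgLib.Golay.J1
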