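import Cfsg.Agent.Lib.Golay.J1Sift0
import Cfsg.Agent.Lib.Golay.J1Sift1
import Cfsg.Agent.Lib.Golay.J1Sift2
import Cfsg.Agent.Lib.Golay.J1Sift3

/-!
The check of the chain of the smallest Janko group.
-/

set_option autoImplicit false
set_option maxRecDepth 100000

namespace CfsgLib.Golay.J1

open scoped Pointwise

theorem par_ok : ∀ k, k < 8 → parPart k = true := by decide +kernel

theorem rep_ok : ∀ k, k < 8 → okPart k = true := by decide +kernel

theorem rank_ok : ∀ k, k < 8 → rankPart k = true := by decide +kernel

theorem sorted_ok : (List.range 1539).all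
    (fun k => (look sortedC k 0 + 1).ble (look sortedC (k + 1) 0)) = true := by decide +kernel

theorem rank_mask : (PackPerm.hits rankC.flatten).beq (2 ^ 1540 - 1) = true := by decide +kernel

theorem shape_ok : chunked repsC = true ∧ chunked parC = true ∧ chunked rankC = true ∧
    chunked siftC0 = true ∧ chunked siftC1 = true ∧ chunked siftC2 = true ∧
    chunked siftC3 = true ∧ repsC.flatten.length = 1540 ∧ parC.flatten.length = 1539 ∧
    rankC.flatten.length = 1540 ∧ gens0.length = 4 ∧ repsC.flatten.head? = some oneM := by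
  decide +kernel

theorem head_ok : ops.ptOk lvl0.base = true ∧ lvl0.gens.all okM = true ∧
    Bsgs.check ops [lvl0.base] [lvl1, lvl2] = true := by decide +kernel

theorem sorted_strict : ∀ a b : ℕ, a < b → b < 1540 → look sortedC a 0 < look sortedC b 0 := by
  intro a b hab
  have h := sorted_ok
  simp only [List.all_eq_true, List.mem_range, Nat.ble_eq] at h
  induction b with
  | zero => omega
  | succ b ih =>
    intro hb
    have := h b (by omega)
    rcases Nat.lt_or_ge a b with h' | h'
    · have := ih h' (by omega); omega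
    · obtain rfl : a = b := by omega
      omega

theorem rank_nodup : rankC.flatten.Nodup := by
  have h := rank_mask
  rw [Nat.beq_eq] at h
  have hsub : Finset.range 1540 ⊆ rankC.flatten.toFinset := fun j hj => by
    rw [List.mem_toFinset]
    refine PackPerm.testBit_hits ?_
    rw [h, Nat.testBit_two_pow_sub_one]
    exact decide_eq_true (Finset.mem_range.1 hj)
  have h1 := Finset.card_le_card hsub
  rw [Finset.card_range, List.card_toFinset] at h1
  have h2 := shape_ok.2.2.2.2.2.2.2.2.2.1
  have h3 : rankC.flatten.dedup.Sublist rankC.flatten := List.dedup_sublist _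
  rw [← h3.eq_of_length_le (by omega)]
  exact List.nodup_dedup _

theorem imgs_nodup : (lvl0.reps.map fun r => ops.img r lvl0.base).Nodup := by
  obtain ⟨c1, -, c3, -, -, -, -, l1, -, l3, -⟩ := shape_ok
  rw [List.nodup_iff_injective_getElem]
  intro i j hij
  simp only [List.getElem_map] at hij
  have key : ∀ i : ℕ, (hi : i < lvl0.reps.length) →
      ops.img lvl0.reps[i] lvl0.base = look sortedC (rankC.flatten.getD i 0) 0 ∧
        rankC.flatten.getD i 0 < 1540 := by
    intro i hi
    have hi' : i < 1540 := l1 ▸ hi
    have h := of_part (P := fun i => (look rankC i 0).blt 1540 &&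
      (ops.img (look repsC i oneM) lvl0.base).beq (look sortedC (look rankC i 0) 0))
      rank_ok (by norm_num) hi'
    simp only [Bool.and_eq_true, Nat.blt_eq, Nat.beq_eq] at h
    rw [← flatten_getD c3, ← flatten_getD c1] at h
    refine ⟨?_, h.1⟩
    rw [← h.2, List.getD_eq_getElem _ _ (by simpa [lvl0] using hi)]
    rfl
  obtain ⟨hi1, hi2⟩ := key i.val (by simpa using i.isLt)
  obtain ⟨hj1, hj2⟩ := key j.val (by simpa using j.isLt)
  rw [hi1, hj1] at hij
  have heq : rankC.flatten.getD i.val 0 = rankC.flatten.getD j.val 0 := by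
    rcases lt_trichotomy (rankC.flatten.getD i.val 0) (rankC.flatten.getD j.val 0) with h | h | h
    · exact absurd hij (sorted_strict _ _ h hj2).ne
    · exact h
    · exact absurd hij (sorted_strict _ _ h hi2).ne'
  have hi' : i.val < rankC.flatten.length := by
    have := i.isLt; simp only [List.length_map] at this; rw [l3, ← l1]; exact this
  have hj' : j.val < rankC.flatten.length := by
    have := j.isLt; simp only [List.length_map] at this; rw [l3, ← l1]; exact this
  rw [List.getD_eq_getElem _ _ hi', List.getD_eq_getElem _ _ hj'] at heq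
  exact Fin.ext (rank_nodup.getElem_inj_iff.1 heq)

theorem sift_ok {g i : ℕ} (hg : g < 4) (hi : i < 1540) : siftAt g i = true := by
  refine of_part (P := siftAt g) ?_ (by norm_num) hi
  interval_cases g
  exacts [siftGen0, siftGen1, siftGen2, siftGen3]

theorem levels_ok : Bsgs.check ops [] levels = true := by
  obtain ⟨c1, c2, -, s0, s1, s2, s3, l1, l2, -, l4, hh⟩ := shape_ok
  obtain ⟨hb, hg, htail⟩ := head_ok
  simp only [List.all_eq_true] at hg
  rw [levels, Bsgs.check]
  simp only [Bool.and_eq_true, decide_eq_true_eq, List.all_eq_true, List.mem_range, beq_iff_eq]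
  refine ⟨⟨⟨⟨⟨⟨⟨⟨hb, hh⟩, ?_⟩, imgs_nodup⟩, fun s hs => ⟨hg s hs, fun f hf => absurd hf List.not_mem_nil⟩⟩,
    ?_⟩, ?_⟩, ?_⟩, htail⟩
  · intro r hr
    obtain ⟨i, hi, rfl⟩ := List.getElem_of_mem hr
    have hi' : i < 1540 := l1 ▸ hi
    have h := rep_ok (i / 200) (by omega)
    simp only [okPart, List.all_eq_true, List.mem_range] at h
    have h2 := h (i % 200) (Nat.mod_lt _ (by norm_num))
    rw [Nat.div_add_mod, ← flatten_getD c1, List.getD_eq_getElem _ _ (by simpa [lvl0] using hi)] at h2
    exact h2
  · show parC.flatten.length + 1 = repsC.flatten.length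
    rw [l1, l2]
  · intro k hk
    have hk' : k < 1539 := l2 ▸ hk
    have h := of_part (P := parAt) par_ok (by norm_num) hk'
    simp only [parAt, Bool.and_eq_true, Nat.blt_eq, Nat.ble_eq, Nat.beq_eq] at h
    rw [← flatten_getD c2, ← flatten_getD c1, ← flatten_getD c1] at h
    exact ⟨⟨lt_of_lt_of_le h.1.1 l4.ge, h.1.2⟩, h.2⟩
  · intro g hg' i hi
    have hg4 : g < 4 := l4 ▸ hg'
    have hi' : i < 1540 := l1 ▸ hi
    have h := sift_ok hg4 hi'
    have hrow : (lvl0.sift.getD g []).getD i [] = look (siftOf g) i [] := by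
      have : chunked (siftOf g) = true ∧ lvl0.sift.getD g [] = (siftOf g).flatten := by
        interval_cases g
        exacts [⟨s0, rfl⟩, ⟨s1, rfl⟩, ⟨s2, rfl⟩, ⟨s3, rfl⟩]
      rw [this.2, flatten_getD this.1]
    rw [hrow]
    unfold siftAt at h
    rcases hl : look (siftOf g) i [] with _ | ⟨j, js⟩ <;> rw [hl] at h
    · exact absurd h Bool.false_ne_true
    · simp only [Nat.beq_eq] at h
      rw [← flatten_getD c1, ← flatten_getD c1] at h
      exact h

end CfsgLib.Golay.J1
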