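import Cfsg.Agent.Lib.Golay.J1Ops
import Cfsg.Agent.Lib.Golay.PackPerm
import Cfsg.Agent.Lib.Golay.J1Data

/-!
Chunked checks for the first level of the chain of the smallest Janko group.
-/

set_option autoImplicit false

namespace CfsgLib.Golay.J1

open scoped Pointwise

/-- Chunks of forty, the last at most forty. -/
def chunked {α : Type*} : List (List α) → Bool
  | [] => true
  | [a] => a.length.ble 40
  | a :: b :: rest => a.length.beq 40 && chunked (b :: rest)

/-- Two-step lookup. -/
def look {α : Type*} (C : List (List α)) (i : ℕ) (d : α) : α := (C.getD (i / 40) []).getD (i % 40) d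

theorem flatten_getD {α : Type*} : ∀ {C : List (List α)}, chunked C = true → ∀ (i : ℕ) (d : α),
    C.flatten.getD i d = look C i d
  | [], _, i, d => by simp [look]
  | [a], h, i, d => by
    simp only [chunked, Nat.ble_eq] at h
    rcases Nat.lt_or_ge i 40 with hi | hi
    · simp [look, Nat.div_eq_of_lt hi, Nat.mod_eq_of_lt hi]
    · have h1 : 1 ≤ i / 40 := (Nat.le_div_iff_mul_le (by norm_num)).2 (by omega)
      rw [look, List.getD_eq_default ([a] : List (List α)) _ (by simpa using h1)]
      simp only [List.flatten_cons, List.flatten_nil, List.append_nil, List.getD_nil]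
      exact List.getD_eq_default _ _ (by omega)
  | a :: b :: rest, h, i, d => by
    simp only [chunked, Bool.and_eq_true, Nat.beq_eq] at h
    have ih := flatten_getD h.2
    rw [List.flatten_cons]
    rcases Nat.lt_or_ge i 40 with hi | hi
    · rw [List.getD_append _ _ _ _ (by omega)]
      simp [look, Nat.div_eq_of_lt hi, Nat.mod_eq_of_lt hi]
    · rw [List.getD_append_right _ _ _ _ (by omega), h.1, ih]
      obtain ⟨k, rfl⟩ : ∃ k, i = k + 40 := ⟨i - 40, by omega⟩
      simp [look, Nat.add_div_right]

/-- All generators. -/
def gens0 : List ℕ := lvl0.gens ++ Bsgs.allGens [lvl1, lvl2]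

/-- The sifting table of a generator. -/
def siftOf (g : ℕ) : List (List (List ℕ)) := [siftC0, siftC1, siftC2, siftC3].getD g []

/-- The check of the sifting at one position. -/
noncomputable def siftAt (g i : ℕ) : Bool :=
  match look (siftOf g) i [] with
  | [] => false
  | j :: js => (mulM (gens0.getD g oneM) (look repsC i oneM)).beq
      (mulM (look repsC j oneM) (Bsgs.prodReps ops [lvl1, lvl2] js))

/-- The sifting check on a block of chunks. -/
noncomputable def siftPart (g k : ℕ) : Bool :=
  (List.range 200).all fun i => !(200 * k + i).blt 1540 || siftAt g (200 * k + i)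

/-- The parent check at one position. -/
def parAt (k : ℕ) : Bool :=
  (look parC k (0, 0)).1.blt 4 && (look parC k (0, 0)).2.ble k &&
    (look repsC (k + 1) oneM).beq
      (mulM (gens0.getD (look parC k (0, 0)).1 oneM) (look repsC (look parC k (0, 0)).2 oneM))

/-- The parent check on a block. -/
def parPart (k : ℕ) : Bool :=
  (List.range 200).all fun i => !(200 * k + i).blt 1539 || parAt (200 * k + i)

/-- The validity check on a block. -/
def okPart (k : ℕ) : Bool :=
  (List.range 200).all fun i => okM (look repsC (200 * k + i) oneM)

/-- The rank check on a block. -/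
noncomputable def rankPart (k : ℕ) : Bool :=
  (List.range 200).all fun i => !(200 * k + i).blt 1540 ||
    ((look rankC (200 * k + i) 0).blt 1540 &&
      (ops.img (look repsC (200 * k + i) oneM) lvl0.base).beq
        (look sortedC (look rankC (200 * k + i) 0) 0))

theorem of_part {P : ℕ → Bool} {n : ℕ}
    (h : ∀ k, k < 8 → ((List.range 200).all fun i => !(200 * k + i).blt n || P (200 * k + i)) = true)
    (hn : n ≤ 1600) {i : ℕ} (hi : i < n) : P i = true := by
  have h' := h (i / 200) (by omega)
  simp only [List.all_eq_true, List.mem_range, Bool.or_eq_true, Bool.not_eq_true'] at h'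
  have h2 := h' (i % 200) (Nat.mod_lt _ (by norm_num))
  rw [Nat.div_add_mod] at h2
  refine h2.resolve_left fun e => ?_
  have : Nat.blt i n = true := by rw [Nat.blt_eq]; exact hi
  rw [this] at e
  exact Bool.noConfusion e

end CfsgLib.Golay.J1
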