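import Cfsg.Agent.Lib.Golay.Bsgs
import Cfsg.Prelude.Def_SporadicB

/-!
Orthogonal 7 × 7 matrices over the integers modulo 11 packed into natural numbers.
-/

set_option autoImplicit false

namespace CfsgLib.Golay.J1

open Matrix
open scoped MatrixGroups Pointwise

/-- An entry slot of a packed row. -/
def slot (c j : ℕ) : ℕ := (c >>> (16 * j)) % 65536

/-- A packed row of a packed matrix. -/
def rowC (A i : ℕ) : ℕ := (A >>> (112 * i)) % 5192296858534827628530496329220096

/-- Packing seven entries. -/
def packV (f : ℕ → ℕ) : ℕ :=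
  f 0 + 65536 * (f 1 + 65536 * (f 2 + 65536 * (f 3 + 65536 * (f 4 + 65536 * (f 5 + 65536 * f 6)))))

/-- Packing seven rows. -/
def packM (r : ℕ → ℕ) : ℕ :=
  r 0 + 5192296858534827628530496329220096 * (r 1 + 5192296858534827628530496329220096 *
    (r 2 + 5192296858534827628530496329220096 * (r 3 + 5192296858534827628530496329220096 *
      (r 4 + 5192296858534827628530496329220096 * (r 5 + 5192296858534827628530496329220096 *
        r 6)))))

/-- Reduction of every slot modulo 11. -/
def redV (c : ℕ) : ℕ := packV fun j => slot c j % 11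

/-- The unreduced combination of the rows of `B` with the coefficients of a packed row. -/
def comb (a B : ℕ) : ℕ :=
  slot a 0 * rowC B 0 + slot a 1 * rowC B 1 + slot a 2 * rowC B 2 + slot a 3 * rowC B 3 +
    slot a 4 * rowC B 4 + slot a 5 * rowC B 5 + slot a 6 * rowC B 6

/-- The packed product. -/
def mulM (A B : ℕ) : ℕ := packM fun i => redV (comb (rowC A i) B)

/-- The packed transpose. -/
def trM (A : ℕ) : ℕ := packM fun i => packV fun j => slot (rowC A j) i

/-- The packed identity. -/
def oneM : ℕ := packM fun i => packV fun j => if i = j then 1 else 0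

/-- Entries in range. -/
def smallM (A : ℕ) : Bool :=
  (List.range 7).all fun i => (List.range 7).all fun j => (slot (rowC A i) j).blt 11

/-- Validity: orthogonal with entries in range. -/
def okM (A : ℕ) : Bool := smallM A && (mulM A (trM A)).beq oneM

/-- The matrix of a code. -/
def toMat (A : ℕ) : Matrix (Fin 7) (Fin 7) (ZMod 11) := fun i j => (slot (rowC A i.val) j.val : ZMod 11)

/-- The vector of a code. -/
def toVec (c : ℕ) : Fin 7 → ZMod 11 := fun i => (slot c i.val : ZMod 11)

theorem slot_packV {f : ℕ → ℕ} (h : ∀ j < 7, f j < 65536) {j : ℕ} (hj : j < 7) :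
    slot (packV f) j = f j := by
  have := h 0 (by omega); have := h 1 (by omega); have := h 2 (by omega); have := h 3 (by omega)
  have := h 4 (by omega); have := h 5 (by omega); have := h 6 (by omega)
  simp only [slot, packV, Nat.shiftRight_eq_div_pow]
  interval_cases j <;> norm_num <;> omega

theorem packV_lt {f : ℕ → ℕ} (h : ∀ j < 7, f j < 65536) :
    packV f < 5192296858534827628530496329220096 := by
  have := h 0 (by omega); have := h 1 (by omega); have := h 2 (by omega); have := h 3 (by omega)
  have := h 4 (by omega); have := h 5 (by omega); have := h 6 (by omega)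
  simp only [packV]
  omega

theorem rowC_packM {r : ℕ → ℕ} (h : ∀ i < 7, r i < 5192296858534827628530496329220096) {i : ℕ}
    (hi : i < 7) : rowC (packM r) i = r i := by
  have := h 0 (by omega); have := h 1 (by omega); have := h 2 (by omega); have := h 3 (by omega)
  have := h 4 (by omega); have := h 5 (by omega); have := h 6 (by omega)
  simp only [rowC, packM, Nat.shiftRight_eq_div_pow]
  interval_cases i <;> norm_num <;> omega

theorem packM_congr {r r' : ℕ → ℕ} (h : ∀ i < 7, r i = r' i) : packM r = packM r' := by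
  simp only [packM, h 0 (by omega), h 1 (by omega), h 2 (by omega), h 3 (by omega), h 4 (by omega),
    h 5 (by omega), h 6 (by omega)]

theorem rowC_lt (A i : ℕ) : rowC A i < 5192296858534827628530496329220096 :=
  Nat.mod_lt _ (by norm_num)

theorem packV_slot {c : ℕ} (hc : c < 5192296858534827628530496329220096) :
    packV (slot c) = c := by
  simp only [packV, slot, Nat.shiftRight_eq_div_pow]
  norm_num
  omega

theorem smallM_spec {A : ℕ} (h : smallM A = true) {i j : ℕ} (hi : i < 7) (hj : j < 7) :
    slot (rowC A i) j < 11 := by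
  simp only [smallM, List.all_eq_true, List.mem_range, Nat.blt_eq] at h
  exact h i hi j hj

theorem slot_comb {a B : ℕ} (ha : ∀ j < 7, slot a j < 11) (hB : smallM B = true) {j : ℕ}
    (hj : j < 7) : slot (comb a B) j = ∑ k : Fin 7, slot a k.val * slot (rowC B k.val) j := by
  have e : comb a B = packV fun j => slot a 0 * slot (rowC B 0) j + slot a 1 * slot (rowC B 1) j +
      slot a 2 * slot (rowC B 2) j + slot a 3 * slot (rowC B 3) j + slot a 4 * slot (rowC B 4) j +
      slot a 5 * slot (rowC B 5) j + slot a 6 * slot (rowC B 6) j := by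
    rw [comb]
    conv_lhs =>
      rw [← packV_slot (rowC_lt B 0), ← packV_slot (rowC_lt B 1), ← packV_slot (rowC_lt B 2),
        ← packV_slot (rowC_lt B 3), ← packV_slot (rowC_lt B 4), ← packV_slot (rowC_lt B 5),
        ← packV_slot (rowC_lt B 6)]
    simp only [packV]
    ring
  have bd : ∀ k, k < 7 → ∀ j, j < 7 → slot a k * slot (rowC B k) j ≤ 100 := fun k hk j hj => by
    have h1 := ha k hk
    have h2 := smallM_spec hB hk hj
    calc slot a k * slot (rowC B k) j ≤ 10 * 10 := Nat.mul_le_mul (by omega) (by omega)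
      _ = 100 := rfl
  rw [e, slot_packV (fun j hj => ?_) hj]
  · simp [Fin.sum_univ_seven]
  · have := bd 0 (by omega) j hj; have := bd 1 (by omega) j hj; have := bd 2 (by omega) j hj
    have := bd 3 (by omega) j hj; have := bd 4 (by omega) j hj; have := bd 5 (by omega) j hj
    have := bd 6 (by omega) j hj
    omega

theorem redV_lt (c : ℕ) : ∀ j < 7, slot c j % 11 < 65536 :=
  fun j _ => (Nat.mod_lt _ (by norm_num)).trans (by norm_num)

theorem entry_mulM (A B : ℕ) {i j : ℕ} (hi : i < 7) (hj : j < 7) :
    slot (rowC (mulM A B) i) j = slot (comb (rowC A i) B) j % 11 := by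
  rw [mulM, rowC_packM (r := fun i => redV (comb (rowC A i) B))
    (fun k _ => packV_lt (redV_lt _)) hi, redV, slot_packV (redV_lt _) hj]

theorem smallM_mulM (A B : ℕ) : smallM (mulM A B) = true := by
  simp only [smallM, List.all_eq_true, List.mem_range, Nat.blt_eq]
  intro i hi j hj
  rw [entry_mulM A B hi hj]
  exact Nat.mod_lt _ (by norm_num)

theorem toMat_mulM {A B : ℕ} (hA : smallM A = true) (hB : smallM B = true) :
    toMat (mulM A B) = toMat A * toMat B := by
  ext i j
  simp only [toMat, Matrix.mul_apply, entry_mulM A B i.isLt j.isLt,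
    slot_comb (fun j hj => smallM_spec hA i.isLt hj) hB j.isLt, ZMod.natCast_mod,
    Nat.cast_sum, Nat.cast_mul]

theorem entry_trM {A : ℕ} {i j : ℕ} (hi : i < 7) (hj : j < 7) :
    slot (rowC (trM A) i) j = slot (rowC A j) i := by
  have hb : ∀ i, ∀ j < 7, slot (rowC A j) i < 65536 := fun i j _ => Nat.mod_lt _ (by norm_num)
  rw [trM, rowC_packM (r := fun i => packV fun j => slot (rowC A j) i)
    (fun k _ => packV_lt (hb k)) hi, slot_packV (hb i) hj]

theorem toMat_trM (A : ℕ) : toMat (trM A) = (toMat A)ᵀ := by
  ext i j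
  simp only [toMat, Matrix.transpose_apply, entry_trM i.isLt j.isLt]

theorem smallM_trM {A : ℕ} (h : smallM A = true) : smallM (trM A) = true := by
  simp only [smallM, List.all_eq_true, List.mem_range, Nat.blt_eq]
  intro i hi j hj
  rw [entry_trM hi hj]
  exact smallM_spec h hj hi

theorem toMat_one : toMat oneM = 1 := by decide +kernel

theorem orth_of_ok {A : ℕ} (h : okM A = true) : smallM A = true ∧ toMat A * (toMat A)ᵀ = 1 := by
  simp only [okM, Bool.and_eq_true, Nat.beq_eq] at h
  refine ⟨h.1, ?_⟩
  rw [← toMat_trM, ← toMat_mulM h.1 (smallM_trM h.1), h.2, toMat_one]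

theorem code_ext {A B : ℕ} (hA : smallM A = true) (hB : smallM B = true)
    (h : toMat A = toMat B) {i j : ℕ} (hi : i < 7) (hj : j < 7) :
    slot (rowC A i) j = slot (rowC B i) j := by
  have e := congrArg ZMod.val (congrFun (congrFun h ⟨i, hi⟩) ⟨j, hj⟩)
  simp only [toMat, ZMod.val_natCast] at e
  rwa [Nat.mod_eq_of_lt (smallM_spec hA hi hj), Nat.mod_eq_of_lt (smallM_spec hB hi hj)] at e

theorem mulM_eq_packM (A B : ℕ) : mulM A B = packM fun i => rowC (mulM A B) i := by
  have key : ∀ r : ℕ → ℕ, (∀ i < 7, r i < 5192296858534827628530496329220096) →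
      packM r = packM fun i => rowC (packM r) i :=
    fun r hr => packM_congr fun i hi => (rowC_packM hr hi).symm
  show packM (fun i => redV (comb (rowC A i) B)) =
    packM fun i => rowC (packM fun i => redV (comb (rowC A i) B)) i
  exact key (fun i => redV (comb (rowC A i) B)) fun k _ => packV_lt (redV_lt (comb (rowC A k) B))

theorem okM_mulM {A B : ℕ} (hA : okM A = true) (hB : okM B = true) : okM (mulM A B) = true := by
  obtain ⟨ha, hA'⟩ := orth_of_ok hA
  obtain ⟨hb, hB'⟩ := orth_of_ok hB
  have hab := smallM_mulM A B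
  have e : toMat (mulM (mulM A B) (trM (mulM A B))) = toMat oneM := by
    rw [toMat_mulM hab (smallM_trM hab), toMat_trM, toMat_mulM ha hb, toMat_one, transpose_mul,
      Matrix.mul_assoc, ← Matrix.mul_assoc (toMat B), hB', Matrix.one_mul, hA']
  simp only [okM, Bool.and_eq_true, Nat.beq_eq]
  refine ⟨hab, ?_⟩
  have h1 : smallM oneM = true := by decide +kernel
  have h2 := smallM_mulM (mulM A B) (trM (mulM A B))
  generalize hC : mulM (mulM A B) (trM (mulM A B)) = C at e h2
  have hrow : ∀ i < 7, rowC C i = rowC oneM i := fun i hi => by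
    rw [← packV_slot (rowC_lt C i), ← packV_slot (rowC_lt oneM i)]
    simp only [packV]
    rw [code_ext h2 h1 e hi (by omega : 0 < 7), code_ext h2 h1 e hi (by omega : 1 < 7),
      code_ext h2 h1 e hi (by omega : 2 < 7), code_ext h2 h1 e hi (by omega : 3 < 7),
      code_ext h2 h1 e hi (by omega : 4 < 7), code_ext h2 h1 e hi (by omega : 5 < 7),
      code_ext h2 h1 e hi (by omega : 6 < 7)]
  have hC' : C = packM fun i => rowC C i := by
    rw [← hC]
    exact mulM_eq_packM _ _
  rw [hC']
  simp only [packM, hrow 0 (by omega), hrow 1 (by omega), hrow 2 (by omega), hrow 3 (by omega),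
    hrow 4 (by omega), hrow 5 (by omega), hrow 6 (by omega)]
  decide +kernel

/-- The group element of a code. -/
def val (A : ℕ) : GL (Fin 7) (ZMod 11) :=
  if h : toMat A * (toMat A)ᵀ = 1 then ⟨toMat A, (toMat A)ᵀ, h, mul_eq_one_comm.1 h⟩ else 1

theorem val_coe {A : ℕ} (h : okM A = true) : (val A : Matrix (Fin 7) (Fin 7) (ZMod 11)) = toMat A := by
  rw [val, dif_pos (orth_of_ok h).2]

end CfsgLib.Golay.J1
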