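import Cfsg.Agent.Lib.Golay.J1Mat

/-!
The coded action of orthogonal matrices on vectors up to sign.
-/

set_option autoImplicit false

namespace CfsgLib.Golay.J1

open Matrix
open scoped MatrixGroups Pointwise

/-- A coded inner product. -/
def dot7 (a c : ℕ) : ℕ :=
  slot a 0 * slot c 0 + slot a 1 * slot c 1 + slot a 2 * slot c 2 + slot a 3 * slot c 3 +
    slot a 4 * slot c 4 + slot a 5 * slot c 5 + slot a 6 * slot c 6

/-- The negated vector. -/
def negV (c : ℕ) : ℕ := packV fun j => (11 - slot c j) % 11

/-- The smaller of a vector and its negative. -/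
def canon (c : ℕ) : ℕ := if c.ble (negV c) then c else negV c

/-- The image of a vector code. -/
def imgV (A c : ℕ) : ℕ := packV fun i => dot7 (rowC A i) c % 11

/-- The entries of a vector code are in range and nothing lies outside the seven slots. -/
def smallV (c : ℕ) : Bool :=
  ((List.range 7).all fun j => (slot c j).blt 11) && (packV (slot c)).beq c

/-- Canonical vector codes. -/
def ptOk (c : ℕ) : Bool := smallV c && c.ble (negV c)

/-- The point of a code. -/
def ptV (c : ℕ) : Set (Fin 7 → ZMod 11) := {toVec c, -toVec c}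

theorem smallV_packV {f : ℕ → ℕ} (h : ∀ j < 7, f j < 11) : smallV (packV f) = true := by
  have h' : ∀ j < 7, f j < 65536 := fun j hj => (h j hj).trans (by norm_num)
  simp only [smallV, Bool.and_eq_true, List.all_eq_true, List.mem_range, Nat.blt_eq, Nat.beq_eq]
  refine ⟨fun j hj => by rw [slot_packV h' hj]; exact h j hj, ?_⟩
  exact packV_slot (packV_lt h')

theorem slot_lt {c : ℕ} (h : smallV c = true) {j : ℕ} (hj : j < 7) : slot c j < 11 := by
  simp only [smallV, Bool.and_eq_true, List.all_eq_true, List.mem_range, Nat.blt_eq] at h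
  exact h.1 j hj

theorem toVec_packV {f : ℕ → ℕ} (h : ∀ j < 7, f j < 65536) :
    toVec (packV f) = fun i => (f i.val : ZMod 11) := by
  funext i
  simp only [toVec, slot_packV h i.isLt]

theorem mod_lt_11 (f : ℕ → ℕ) : ∀ j < 7, f j % 11 < 11 := fun _ _ => Nat.mod_lt _ (by norm_num)

theorem mod_lt_slot (f : ℕ → ℕ) : ∀ j < 7, f j % 11 < 65536 :=
  fun _ _ => (Nat.mod_lt _ (by norm_num)).trans (by norm_num)

theorem smallV_negV (c : ℕ) : smallV (negV c) = true := smallV_packV (mod_lt_11 _)

theorem toVec_negV {c : ℕ} (h : smallV c = true) : toVec (negV c) = -toVec c := by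
  rw [negV, toVec_packV (mod_lt_slot _)]
  funext i
  have h11 : ((11 : ℕ) : ZMod 11) = 0 := by decide
  rw [ZMod.natCast_mod, Nat.cast_sub (slot_lt h i.isLt).le, h11, zero_sub]
  rfl

theorem toVec_inj {c d : ℕ} (hc : smallV c = true) (hd : smallV d = true)
    (h : toVec c = toVec d) : c = d := by
  have e : ∀ j < 7, slot c j = slot d j := fun j hj => by
    have := congrArg ZMod.val (congrFun h ⟨j, hj⟩)
    simp only [toVec, ZMod.val_natCast] at this
    rwa [Nat.mod_eq_of_lt (slot_lt hc hj), Nat.mod_eq_of_lt (slot_lt hd hj)] at this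
  simp only [smallV, Bool.and_eq_true, Nat.beq_eq] at hc hd
  rw [← hc.2, ← hd.2]
  simp only [packV, e 0 (by omega), e 1 (by omega), e 2 (by omega), e 3 (by omega), e 4 (by omega),
    e 5 (by omega), e 6 (by omega)]

theorem negV_negV {c : ℕ} (h : smallV c = true) : negV (negV c) = c :=
  toVec_inj (smallV_negV _) h (by rw [toVec_negV (smallV_negV c), toVec_negV h, neg_neg])

theorem canon_spec {c : ℕ} (h : smallV c = true) :
    ptV (canon c) = ptV c ∧ ptOk (canon c) = true := by
  by_cases hle : c.ble (negV c) = true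
  · simp [canon, hle, ptOk, h]
  · simp only [canon, if_neg hle, ptV, toVec_negV h, neg_neg, Set.pair_comm (-toVec c), true_and]
    rw [Nat.ble_eq] at hle
    simp only [ptOk, smallV_negV, Bool.true_and, negV_negV h, Nat.ble_eq]
    omega

theorem val_smul_ptV {A : ℕ} (hA : okM A = true) (c : ℕ) :
    val A • ptV c = ({toMat A *ᵥ toVec c, -(toMat A *ᵥ toVec c)} : Set (Fin 7 → ZMod 11)) := by
  have e : ∀ v : Fin 7 → ZMod 11, val A • v = toMat A *ᵥ v := fun v => by
    rw [Units.smul_def, val_coe hA, Matrix.smul_eq_mulVec]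
  rw [ptV, ← Set.image_smul, Set.image_pair, e, e, mulVec_neg]

theorem toVec_imgV (A c : ℕ) : toVec (imgV A c) = toMat A *ᵥ toVec c := by
  rw [imgV, toVec_packV (mod_lt_slot _)]
  funext i
  simp [Matrix.mulVec, dotProduct, toMat, toVec, Fin.sum_univ_seven, dot7]

/-- The coded group. -/
noncomputable def ops : Bsgs.Ops (GL (Fin 7) (ZMod 11)) (Set (Fin 7 → ZMod 11)) where
  val := val
  ok := okM
  one := oneM
  mul := mulM
  pt := ptV
  ptOk := ptOk
  img A c := canon (imgV A c)
  ok_one := by decide +kernel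
  val_one := Units.ext (by rw [val_coe (by decide +kernel), toMat_one]; rfl)
  ok_mul _ _ := okM_mulM
  val_mul A B hA hB := Units.ext (by
    rw [Units.val_mul, val_coe (okM_mulM hA hB), val_coe hA, val_coe hB,
      toMat_mulM (orth_of_ok hA).1 (orth_of_ok hB).1])
  pt_img A c hA _ := by
    obtain ⟨h1, h2⟩ := canon_spec (c := imgV A c) (smallV_packV (mod_lt_11 _))
    refine ⟨?_, h2⟩
    rw [val_smul_ptV hA, h1, ptV, toVec_imgV]
  pt_inj c d hc hd h := by
    simp only [ptOk, Bool.and_eq_true, Nat.ble_eq] at hc hd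
    have hmem : toVec c ∈ ptV d := h ▸ Set.mem_insert _ _
    rcases hmem with e | e
    · exact toVec_inj hc.1 hd.1 e
    · rw [Set.mem_singleton_iff, ← toVec_negV hd.1] at e
      have e' := toVec_inj hc.1 (smallV_negV d) e
      have h2 := hc.2
      rw [e', negV_negV hd.1] at h2
      omega

theorem ok_one' : okM oneM = true := by decide +kernel

theorem val_one' : val oneM = 1 := Units.ext (by rw [val_coe ok_one', toMat_one]; rfl)

theorem ok_mul' (a b : ℕ) (ha : okM a = true) (hb : okM b = true) : okM (mulM a b) = true :=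
  okM_mulM ha hb

theorem val_mul' (a b : ℕ) (ha : okM a = true) (hb : okM b = true) :
    val (mulM a b) = val a * val b := Units.ext (by
  rw [Units.val_mul, val_coe (okM_mulM ha hb), val_coe ha, val_coe hb,
    toMat_mulM (orth_of_ok ha).1 (orth_of_ok hb).1])

end CfsgLib.Golay.J1
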