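import Cfsg.Agent.Lib.Golay.J1ChainDefs

/-!
Sifting checks for one generator of the chain of the smallest Janko group.
-/

set_option autoImplicit false
set_option maxRecDepth 100000

namespace CfsgLib.Golay.J1

theorem sift0_0 : siftPart 0 0 = true := by decide +kernel

theorem sift0_1 : siftPart 0 1 = true := by decide +kernel

theorem sift0_2 : siftPart 0 2 = true := by decide +kernel

theorem sift0_3 : siftPart 0 3 = true := by decide +kernel

theorem sift0_4 : siftPart 0 4 = true := by decide +kernel

theorem sift0_5 : siftPart 0 5 = true := by decide +kernel

theorem sift0_6 : siftPart 0 6 = true := by decide +kernel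

theorem sift0_7 : siftPart 0 7 = true := by decide +kernel

theorem siftGen0 : ∀ k, k < 8 → siftPart 0 k = true := by
  intro k hk
  interval_cases k
  exacts [sift0_0, sift0_1, sift0_2, sift0_3, sift0_4, sift0_5, sift0_6, sift0_7]

end CfsgLib.Golay.J1
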