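import Cfsg.Agent.Lib.Golay.JordanSharp
import Cfsg.Agent.Lib.Golay.Sharp

/-!
Descent to a point stabiliser, and Jordan's theorem in all degrees of transitivity at least four.
-/

set_option autoImplicit false

namespace CfsgLib.Golay.Jordan

variable {α : Type*} [Fintype α] [DecidableEq α]

/-- The point stabiliser acting on the other points. -/
def descend (G : Subgroup (Equiv.Perm α)) (a : α) : Subgroup (Equiv.Perm {x : α // x ≠ a}) where
  carrier := {s | ∃ g : Equiv.Perm α, g ∈ G ∧ g a = a ∧ ∀ x : {x : α // x ≠ a}, g x.val = (s x).val}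
  one_mem' := ⟨1, G.one_mem, rfl, fun _ => rfl⟩
  mul_mem' := by
    rintro s t ⟨g, hg, hga, hgs⟩ ⟨h, hh, hha, hht⟩
    exact ⟨g * h, G.mul_mem hg hh, by simp [hga, hha], fun x => by simp [hht, hgs]⟩
  inv_mem' := by
    rintro s ⟨g, hg, hga, hgs⟩
    refine ⟨g⁻¹, G.inv_mem hg, ?_, fun x => ?_⟩
    · show g.symm a = a
      exact g.symm_apply_eq.2 hga.symm
    · show g.symm x.val = (s.symm x).val
      rw [g.symm_apply_eq, hgs, Equiv.apply_symm_apply]

/-- Prefix a point. -/
def consPt {k : ℕ} (a : α) (x : Fin k ↪ {x : α // x ≠ a}) : Fin (k + 1) ↪ α :=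
  ⟨Fin.cons a fun i => (x i).val, Fin.cons_injective_iff.2
    ⟨by rintro ⟨i, hi⟩; exact (x i).2 hi, Subtype.val_injective.comp x.injective⟩⟩

theorem descend_pretransitive {k : ℕ} {G : Subgroup (Equiv.Perm α)}
    (ht : MulAction.IsMultiplyPretransitive G α (k + 1)) (a : α) :
    MulAction.IsMultiplyPretransitive (descend G a) {x : α // x ≠ a} k := by
  rw [MulAction.isMultiplyPretransitive_iff]
  intro x y
  obtain ⟨g, hg⟩ := exists_map ht (consPt a x) (consPt a y)
  have hga : g.val a = a := hg 0
  have hne : ∀ z, g.val z ≠ a ↔ z ≠ a := fun z => by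
    conv_lhs => rw [← hga]
    exact g.val.injective.ne_iff
  refine ⟨⟨g.val.subtypePerm hne, g.val, g.2, hga, fun z => rfl⟩, DFunLike.ext _ _ fun i => Subtype.ext ?_⟩
  exact hg i.succ

theorem descend_sharp {k : ℕ} {G : Subgroup (Equiv.Perm α)}
    (hsharp : ∀ x : Fin (k + 1) ↪ α, MulAction.stabilizer G x = ⊥) (a : α)
    (x : Fin k ↪ {x : α // x ≠ a}) : MulAction.stabilizer (descend G a) x = ⊥ := by
  rw [eq_bot_iff]
  intro s hs
  obtain ⟨g, hg, hga, hgs⟩ := s.2
  have hfix : ∀ i, s.val (x i) = x i := fun i => DFunLike.congr_fun hs i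
  have hg1 : (⟨g, hg⟩ : G) = 1 := by
    refine eq_of_agree hsharp (consPt a x) fun i => ?_
    refine Fin.cases ?_ (fun l => ?_) i
    · exact hga
    · show g (x l).val = (x l).val
      rw [hgs, hfix]
  rw [Subgroup.mem_bot]
  refine Subtype.ext (Equiv.ext fun z => Subtype.ext ?_)
  rw [← hgs, show g = 1 from congrArg Subtype.val hg1]
  rfl

theorem card_compl (a : α) : Fintype.card {x : α // x ≠ a} = Fintype.card α - 1 := by
  rw [Fintype.card_subtype_compl, Fintype.card_subtype_eq]

theorem degree_five {G : Subgroup (Equiv.Perm α)} (hn : 5 ≤ Fintype.card α)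
    (ht : MulAction.IsMultiplyPretransitive G α 5)
    (hsharp : ∀ x : Fin 5 ↪ α, MulAction.stabilizer G x = ⊥) :
    Fintype.card α = 5 ∨ Fintype.card α = 6 ∨ Fintype.card α = 7 ∨ Fintype.card α = 12 := by
  classical
  obtain ⟨a⟩ : Nonempty α := Fintype.card_pos_iff.1 (by omega)
  have := degree_four (G := descend G a) (descend_pretransitive ht a) (descend_sharp hsharp a)
    (by rw [card_compl]; omega)
  rw [card_compl] at this
  omega

omit [DecidableEq α] in
theorem not_sharp_six_thirteen {G : Subgroup (Equiv.Perm α)} (hn : Fintype.card α = 13)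
    (hcard : Nat.card G = 1235520) : False := by
  classical
  haveI : Fact (Nat.Prime 13) := ⟨by norm_num⟩
  let P : Sylow 13 G := default
  have hPc : Nat.card (P : Subgroup G) = 13 := by
    rw [P.card_eq_multiplicity, hcard]
    have : (1235520 : ℕ).factorization 13 = 1 := by
      rw [show (1235520 : ℕ) = 13 * 95040 by norm_num, Nat.factorization_mul (by norm_num) (by norm_num),
        Finsupp.add_apply, Nat.Prime.factorization_self (by norm_num),
        Nat.factorization_eq_zero_of_not_dvd (by norm_num)]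
    rw [this]; norm_num
  haveI : IsCyclic (P : Subgroup G) := isCyclic_of_prime_card hPc
  obtain ⟨⟨p, hp⟩, hgen⟩ := IsCyclic.exists_generator (α := (P : Subgroup G))
  have hord : orderOf p.val = 13 := by
    rw [Subgroup.orderOf_coe, ← Subgroup.orderOf_mk p hp, orderOf_eq_card_of_forall_mem_zpowers hgen, hPc]
  have hsupp : p.val.support = Finset.univ ∧ p.val.IsCycle := by
    obtain ⟨m, hm⟩ := Equiv.Perm.cycleType_prime_order (σ := p.val) (by rw [hord]; norm_num)
    rw [hord] at hm
    have hs := Equiv.Perm.sum_cycleType p.val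
    rw [hm, Multiset.sum_replicate, smul_eq_mul] at hs
    have hle := Finset.card_le_univ p.val.support
    rw [hn] at hle
    have hm0 : m = 0 := by omega
    subst hm0
    refine ⟨Finset.eq_univ_of_card _ (by omega), ?_⟩
    rw [← Equiv.Perm.card_cycleType_eq_one, hm]
    simp
  have hcomm : ∀ g : Equiv.Perm α, Commute g p.val → g ∈ Subgroup.zpowers p.val := by
    intro g hg
    obtain ⟨a⟩ : Nonempty α := Fintype.card_pos_iff.1 (by omega)
    have hsame : ∀ x, p.val.SameCycle a x := fun x =>
      hsupp.2.sameCycle (Equiv.Perm.mem_support.1 (hsupp.1 ▸ Finset.mem_univ a))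
        (Equiv.Perm.mem_support.1 (hsupp.1 ▸ Finset.mem_univ x))
    obtain ⟨i, hi⟩ := hsame (g a)
    refine ⟨i, Equiv.ext fun x => ?_⟩
    obtain ⟨l, rfl⟩ := hsame x
    have h1 : g ((p.val ^ l) a) = (p.val ^ l) (g a) := by
      rw [← Equiv.Perm.mul_apply, (hg.zpow_right l).eq, Equiv.Perm.mul_apply]
    rw [h1, ← hi, ← Equiv.Perm.mul_apply, ← Equiv.Perm.mul_apply, ← zpow_add, ← zpow_add, add_comm]
  set N := Subgroup.normalizer ((P : Subgroup G) : Set G)
  let ψ : N → {y : G // y ∈ (P : Subgroup G) ∧ y ≠ 1} := fun g =>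
    ⟨g.val * p * g.val⁻¹, (g.2 p).1 hp, fun h => by
      have hp1 : p = 1 := conj_eq_one_iff.1 h
      rw [hp1] at hord
      simp at hord⟩
  haveI : Fintype N := Fintype.ofFinite _
  haveI : Fintype {y : G // y ∈ (P : Subgroup G) ∧ y ≠ 1} := Fintype.ofFinite _
  have hfib : ∀ y, (Finset.univ.filter fun g => ψ g = y).card ≤ 13 := by
    intro y
    by_cases hy : ∃ g0, ψ g0 = y
    · obtain ⟨g0, rfl⟩ := hy
      have hz : Fintype.card (Subgroup.zpowers p.val) = 13 := by rw [Fintype.card_zpowers, hord]
      refine le_of_le_of_eq (Finset.card_le_card_of_injOn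
        (t := (Finset.univ : Finset (Subgroup.zpowers p.val))) (fun g => if h : g0.val.val⁻¹ * g.val.val ∈ Subgroup.zpowers p.val
        then ⟨_, h⟩ else 1) (fun _ _ => Finset.mem_coe.2 (Finset.mem_univ _)) ?_) (Finset.card_univ.trans hz)
      intro g hg g' hg' hgg
      simp only [Finset.coe_filter, Finset.mem_univ, true_and, Set.mem_ofPred_eq] at hg hg'
      have key : ∀ g : N, ψ g = ψ g0 → g0.val.val⁻¹ * g.val.val ∈ Subgroup.zpowers p.val := by
        intro g hg
        have e : g.val * p * g.val⁻¹ = g0.val * p * g0.val⁻¹ := congrArg Subtype.val hg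
        refine hcomm _ ?_
        have e' : g.val.val * p.val * g.val.val⁻¹ = g0.val.val * p.val * g0.val.val⁻¹ :=
          congrArg Subtype.val e
        calc g0.val.val⁻¹ * g.val.val * p.val
            = g0.val.val⁻¹ * (g.val.val * p.val * g.val.val⁻¹) * g.val.val := by group
          _ = p.val * (g0.val.val⁻¹ * g.val.val) := by rw [e']; group
      simp only at hgg
      rw [dif_pos (key g hg), dif_pos (key g' hg')] at hgg
      have := mul_left_cancel (congrArg Subtype.val hgg)
      exact Subtype.ext (Subtype.ext this)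
    · rw [Finset.filter_eq_empty_iff.2 fun g _ h => hy ⟨g, h⟩]
      simp
  have hle := Finset.card_le_mul_card_image (f := ψ) (Finset.univ : Finset N) 13 (fun y _ => hfib y)
  have himg : (Finset.univ.image ψ).card ≤ 12 := by
    refine (Finset.card_le_univ _).trans ?_
    rw [← Nat.card_eq_fintype_card]
    have h13 : Nat.card {y : G // y ∈ (P : Subgroup G)} = 13 := hPc
    have : Nat.card {y : G // y ∈ (P : Subgroup G) ∧ y ≠ 1} < Nat.card {y : G // y ∈ (P : Subgroup G)} := by
      haveI : Fintype {y : G // y ∈ (P : Subgroup G)} := Fintype.ofFinite _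
      rw [Nat.card_eq_fintype_card, Nat.card_eq_fintype_card]
      refine Fintype.card_lt_of_injective_of_notMem (fun y => ⟨y.val, y.2.1⟩)
        (fun a b h => Subtype.ext (congrArg Subtype.val h :)) (b := ⟨1, (P : Subgroup G).one_mem⟩) ?_
      rintro ⟨y, hy⟩
      exact y.2.2 (congrArg Subtype.val hy)
    omega
  rw [Finset.card_univ, ← Nat.card_eq_fintype_card] at hle
  have hidx := Subgroup.index_mul_card N
  have hns : Nat.card (Sylow 13 G) = N.index := P.card_eq_index_normalizer
  rw [← hns, hcard] at hidx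
  have hmod := card_sylow_modEq_one 13 G
  unfold Nat.ModEq at hmod
  have hN13 : 13 ∣ Nat.card N := hPc ▸ Subgroup.card_dvd_of_le Subgroup.le_normalizer
  obtain ⟨d, hd⟩ := hN13
  rw [hd] at hidx hle
  have hdb : d ≤ 12 := by omega
  -- the only numerical possibility gives an element of order 5 centralising `p`
  have hd10 : d = 10 := by interval_cases d <;> omega
  haveI : Fact (Nat.Prime 5) := ⟨by norm_num⟩
  obtain ⟨g, hg5⟩ := exists_prime_orderOf_dvd_card' (G := N) 5 ⟨26, by rw [hd, hd10]⟩
  have hgp : g.val * p * g.val⁻¹ ∈ (P : Subgroup G) := (g.2 p).1 hp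
  obtain ⟨k, hk⟩ : ∃ k : ℕ, p ^ k = g.val * p * g.val⁻¹ := by
    obtain ⟨z, hz⟩ := hgen ⟨_, hgp⟩
    have hz' : p ^ z = g.val * p * g.val⁻¹ := congrArg Subtype.val hz
    obtain ⟨k, hk⟩ : g.val * p * g.val⁻¹ ∈ Submonoid.powers p :=
      mem_powers_iff_mem_zpowers.2 ⟨z, hz'⟩
    exact ⟨k, hk⟩
  have hpord : orderOf p = 13 := by rw [← hord, Subgroup.orderOf_coe]
  have hiter : ∀ i : ℕ, g.val ^ i * p * (g.val ^ i)⁻¹ = p ^ (k ^ i) := by
    intro i
    induction i with
    | zero => simp
    | succ i ih =>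
      calc g.val ^ (i + 1) * p * (g.val ^ (i + 1))⁻¹
          = g.val * (g.val ^ i * p * (g.val ^ i)⁻¹) * g.val⁻¹ := by rw [pow_succ']; group
        _ = p ^ (k ^ (i + 1)) := by rw [ih, ← conj_pow, ← hk, ← pow_mul, pow_succ']
  have hg1 : g.val ^ 5 = 1 := by
    have := pow_orderOf_eq_one g
    rw [hg5] at this
    simpa using congrArg Subtype.val this
  have h5 := hiter 5
  rw [hg1, one_mul, inv_one, mul_one] at h5
  have hk5 : k ^ 5 ≡ 1 [MOD 13] := by
    rw [← hpord, ← pow_eq_pow_iff_modEq, ← h5, pow_one]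
  have hk1 : k % 13 = 1 := by
    have hz : ∀ r : Fin 13, (r.val ^ 5) % 13 = 1 → r.val = 1 := by decide
    have := hz ⟨k % 13, Nat.mod_lt _ (by norm_num)⟩ (by
      simp only [← Nat.pow_mod]
      exact hk5)
    exact this
  have hcm : Commute g.val.val p.val := by
    have e : g.val * p * g.val⁻¹ = p := by
      rw [← hk, ← pow_mod_orderOf, hpord, hk1, pow_one]
    have e' : g.val * p = p * g.val := by
      calc g.val * p = (g.val * p * g.val⁻¹) * g.val := by group
        _ = p * g.val := by rw [e]
    exact congrArg Subtype.val e'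
  have hmem := hcomm _ hcm
  have hdvd : orderOf g.val.val ∣ 13 := hord ▸ orderOf_dvd_of_mem_zpowers hmem
  rw [Subgroup.orderOf_coe, Subgroup.orderOf_coe, hg5] at hdvd
  norm_num at hdvd

theorem degree_ge_six : ∀ (k : ℕ) (α : Type _) [Fintype α] [DecidableEq α]
    (G : Subgroup (Equiv.Perm α)), 6 ≤ k → k ≤ Fintype.card α →
    MulAction.IsMultiplyPretransitive G α k →
    (∀ x : Fin k ↪ α, MulAction.stabilizer G x = ⊥) →
    Fintype.card α = k ∨ Fintype.card α = k + 1 ∨ Fintype.card α = k + 2 := by
  intro k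
  induction k with
  | zero => intro α _ _ G h; omega
  | succ k ih =>
    intro α _ _ G hk hn ht hsharp
    classical
    obtain ⟨a⟩ : Nonempty α := Fintype.card_pos_iff.1 (by omega)
    by_cases h6 : k = 5
    · subst h6
      have h := degree_five (G := descend G a) (by rw [card_compl]; omega)
        (descend_pretransitive ht a) (descend_sharp hsharp a)
      rw [card_compl] at h
      by_cases h13 : Fintype.card α = 13
      · exfalso
        refine not_sharp_six_thirteen (G := G) h13 ?_
        rw [CfsgLib.Golay.card_of_sharp (5 + 1) ht (by rw [Nat.card_eq_fintype_card]; omega) hsharp,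
          Nat.card_eq_fintype_card, h13]
        rfl
      · omega
    · have h := ih {x : α // x ≠ a} (descend G a) (by omega) (by rw [card_compl]; omega)
        (descend_pretransitive ht a) (descend_sharp hsharp a)
      rw [card_compl] at h
      omega

end CfsgLib.Golay.Jordan
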