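import Mathlib

/-!
Jordan's theorem on the degrees of sharply multiply transitive groups, by counting involutions.
-/

set_option autoImplicit false

namespace CfsgLib.Golay.Jordan

open Finset

variable {α : Type*} [Fintype α] [DecidableEq α] {G : Subgroup (Equiv.Perm α)}

theorem exists_map {k : ℕ} (ht : MulAction.IsMultiplyPretransitive G α k) (x y : Fin k ↪ α) :
    ∃ g : G, ∀ i, g.val (x i) = y i := by
  obtain ⟨g, hg⟩ := (MulAction.isMultiplyPretransitive_iff.1 ht) x y
  exact ⟨g, fun i => DFunLike.congr_fun hg i⟩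

theorem eq_of_agree {k : ℕ} (hsharp : ∀ x : Fin k ↪ α, MulAction.stabilizer G x = ⊥)
    (x : Fin k ↪ α) {g h : G} (hgh : ∀ i, g.val (x i) = h.val (x i)) : g = h := by
  have hm : h⁻¹ * g ∈ MulAction.stabilizer G x := by
    refine DFunLike.ext _ _ fun i => ?_
    show h.val⁻¹ (g.val (x i)) = x i
    rw [hgh]; simp
  rw [hsharp, Subgroup.mem_bot, inv_mul_eq_one] at hm
  exact hm.symm

/-- The moved points. -/
def mov (g : G) : Finset α := univ.filter fun a => g.val a ≠ a

/-- The fixed points. -/
def fx (g : G) : Finset α := univ.filter fun a => g.val a = a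

theorem mem_mov {g : G} {a : α} : a ∈ mov g ↔ g.val a ≠ a := by simp [mov]

theorem mem_fx {g : G} {a : α} : a ∈ fx g ↔ g.val a = a := by simp [fx]

theorem fx_add_mov (g : G) : (fx g).card + (mov g).card = Fintype.card α :=
  Finset.card_filter_add_card_filter_not (s := univ) fun a => g.val a = a

variable [DecidablePred fun g : Equiv.Perm α => g ∈ G]

/-- The involutions. -/
noncomputable def invs (G : Subgroup (Equiv.Perm α)) : Finset G := by
  classical exact univ.filter fun g => g ≠ 1 ∧ g * g = 1

theorem mem_invs {g : G} : g ∈ invs G ↔ g ≠ 1 ∧ g * g = 1 := by simp [invs]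

theorem invs_apply {g : G} (hg : g ∈ invs G) (a : α) : g.val (g.val a) = a := by
  have := congrArg (fun z : G => z.val a) (mem_invs.1 hg).2
  simpa [Equiv.Perm.mul_apply] using this

theorem mov_apply {g : G} (hg : g ∈ invs G) {a : α} (ha : a ∈ mov g) : g.val a ∈ mov g := by
  rw [mem_mov] at ha ⊢
  exact fun h => ha (g.val.injective h)

/-- A quadruple of different points as an embedding. -/
def quad (a b c d : α) (h : [a, b, c, d].Nodup) : Fin 4 ↪ α :=
  ⟨![a, b, c, d], by
    simp only [List.nodup_cons, List.mem_cons, List.not_mem_nil, or_false, List.nodup_nil, and_true,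
      not_or, not_false_eq_true] at h
    intro i j
    fin_cases i <;> fin_cases j <;>
      simp [h.1.1, h.1.2.1, h.1.2.2, h.2.1.1, h.2.1.2, h.2.2, Ne.symm h.1.1, Ne.symm h.1.2.1,
        Ne.symm h.1.2.2, Ne.symm h.2.1.1, Ne.symm h.2.1.2, Ne.symm h.2.2]⟩

theorem card_quads : Fintype.card (Fin 4 ↪ α) = (Fintype.card α).descFactorial 4 := by
  rw [Fintype.card_embedding_eq, Fintype.card_fin]

section Four

variable (ht : MulAction.IsMultiplyPretransitive G α 4)
  (hsharp : ∀ x : Fin 4 ↪ α, MulAction.stabilizer G x = ⊥)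

include hsharp in
theorem fx_le_three {g : G} (hg : g ∈ invs G) : (fx g).card ≤ 3 := by
  by_contra h
  obtain ⟨f⟩ : Nonempty (Fin 4 ↪ (fx g : Finset α)) :=
    Function.Embedding.nonempty_of_card_le (by rw [Fintype.card_fin, Fintype.card_coe]; omega)
  apply (mem_invs.1 hg).1
  refine eq_of_agree hsharp (f.trans (Function.Embedding.subtype _)) fun i => ?_
  exact mem_fx.1 (f i).2

include ht hsharp in
/-- Quadruples and pairs of moved pairs. -/
theorem sum_moved :
    ∑ g ∈ invs G, (mov g).card * ((mov g).card - 2) = (Fintype.card α).descFactorial 4 := by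
  classical
  rw [← card_quads, ← Finset.card_univ]
  let X : Finset (Σ _ : G, α × α) := (invs G).sigma fun g =>
    (mov g ×ˢ mov g).filter fun p => p.2 ≠ p.1 ∧ p.2 ≠ g.val p.1
  have hX : X.card = ∑ g ∈ invs G, (mov g).card * ((mov g).card - 2) := by
    rw [Finset.card_sigma]
    refine Finset.sum_congr rfl fun g hg => ?_
    rw [Finset.card_filter, Finset.sum_product]
    rw [Finset.sum_congr rfl (g := fun _ => (mov g).card - 2) fun a ha => ?_, Finset.sum_const,
      smul_eq_mul]
    rw [← Finset.card_filter, show ((mov g).filter fun c => c ≠ a ∧ c ≠ g.val a) =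
        ((mov g).erase a).erase (g.val a) by ext c; simp; tauto]
    have hga : g.val a ∈ (mov g).erase a :=
      Finset.mem_erase.2 ⟨mem_mov.1 ha, mov_apply hg ha⟩
    rw [Finset.card_erase_of_mem hga, Finset.card_erase_of_mem ha]
    omega
  rw [← hX]
  have hnd : ∀ z ∈ X, [z.2.1, z.1.val z.2.1, z.2.2, z.1.val z.2.2].Nodup := by
    rintro ⟨g, a, c⟩ hz
    obtain ⟨hg, hz⟩ := Finset.mem_sigma.1 hz
    obtain ⟨hac, hca, hcga⟩ := Finset.mem_filter.1 hz
    obtain ⟨ha, hc⟩ := Finset.mem_product.1 hac
    rw [mem_mov] at ha hc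
    simp only [List.nodup_cons, List.mem_cons, List.not_mem_nil, or_false, List.nodup_nil, and_true,
      not_or, not_false_eq_true]
    refine ⟨⟨Ne.symm ha, Ne.symm hca, fun h => hcga ?_⟩, ⟨Ne.symm hcga, fun h => hca (g.val.injective h).symm⟩,
      Ne.symm hc⟩
    show c = g.val a
    rw [show a = g.val c from h, invs_apply hg]
  refine Finset.card_bij (fun z hz => quad _ _ _ _ (hnd z hz)) (fun _ _ => Finset.mem_univ _) ?_ ?_
  · rintro ⟨g, a, c⟩ hz ⟨g', a', c'⟩ hz' h
    have h0 : a = a' := DFunLike.congr_fun h 0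
    have h1 : g.val a = g'.val a' := DFunLike.congr_fun h 1
    have h2 : c = c' := DFunLike.congr_fun h 2
    have h3 : g.val c = g'.val c' := DFunLike.congr_fun h 3
    subst h0 h2
    obtain ⟨hg, -⟩ := Finset.mem_sigma.1 hz
    obtain ⟨hg', -⟩ := Finset.mem_sigma.1 hz'
    have hgg : g = g' := by
      refine eq_of_agree hsharp (quad _ _ _ _ (hnd ⟨g, a, c⟩ hz)) fun i => ?_
      fin_cases i
      · exact h1
      · show g.val (g.val a) = g'.val (g.val a)
        rw [invs_apply hg, h1, invs_apply hg']
      · exact h3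
      · show g.val (g.val c) = g'.val (g.val c)
        rw [invs_apply hg, h3, invs_apply hg']
    subst hgg
    rfl
  · intro x _
    have hne : ∀ i j : Fin 4, i ≠ j → x i ≠ x j := fun i j hij h => hij (x.injective h)
    obtain ⟨g, hg⟩ := exists_map ht x
      ⟨fun i => x (![1, 0, 3, 2] i), x.injective.comp (by decide)⟩
    have h0 : g.val (x 0) = x 1 := hg 0
    have h1 : g.val (x 1) = x 0 := hg 1
    have h2 : g.val (x 2) = x 3 := hg 2
    have h3 : g.val (x 3) = x 2 := hg 3
    have hgi : g ∈ invs G := by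
      refine mem_invs.2 ⟨fun h => ?_, eq_of_agree hsharp x fun i => ?_⟩
      · rw [h] at h0
        exact hne 0 1 (by decide) h0
      · show g.val (g.val (x i)) = x i
        fin_cases i <;> simp [h0, h1, h2, h3]
    have hmem : (⟨g, x 0, x 2⟩ : Σ _ : G, α × α) ∈ X := by
      refine Finset.mem_sigma.2 ⟨hgi, Finset.mem_filter.2 ⟨Finset.mem_product.2 ⟨?_, ?_⟩, ?_, ?_⟩⟩
      · rw [mem_mov]; simp only [h0]; exact hne 1 0 (by decide)
      · rw [mem_mov]; simp only [h2]; exact hne 3 2 (by decide)
      · exact hne 2 0 (by decide)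
      · simp only [h0]; exact hne 2 1 (by decide)
    refine ⟨_, hmem, DFunLike.ext _ _ fun i => ?_⟩
    fin_cases i
    exacts [rfl, h0, rfl, h2]

include ht hsharp in
/-- Quadruples and two fixed points with a moved pair. -/
theorem sum_fixed :
    ∑ g ∈ invs G, ((fx g).card * (fx g).card - (fx g).card) * (mov g).card =
      (Fintype.card α).descFactorial 4 := by
  classical
  rw [← card_quads, ← Finset.card_univ]
  let X : Finset (Σ _ : G, (α × α) × α) := (invs G).sigma fun g => (fx g).offDiag ×ˢ mov g
  have hX : X.card = ∑ g ∈ invs G, ((fx g).card * (fx g).card - (fx g).card) * (mov g).card := by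
    rw [Finset.card_sigma]
    refine Finset.sum_congr rfl fun g hg => ?_
    rw [Finset.card_product, Finset.offDiag_card]
  rw [← hX]
  have hnd : ∀ z ∈ X, [z.2.1.1, z.2.1.2, z.2.2, z.1.val z.2.2].Nodup := by
    rintro ⟨g, ⟨a, b⟩, c⟩ hz
    obtain ⟨hg, hz⟩ := Finset.mem_sigma.1 hz
    obtain ⟨hab, hc⟩ := Finset.mem_product.1 hz
    obtain ⟨ha, hb, hne⟩ := Finset.mem_offDiag.1 hab
    rw [mem_fx] at ha hb
    rw [mem_mov] at hc
    simp only [List.nodup_cons, List.mem_cons, List.not_mem_nil, or_false, List.nodup_nil, and_true,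
      not_or, not_false_eq_true]
    refine ⟨⟨hne, fun h => hc ?_, fun h => hc ?_⟩, ⟨fun h => hc ?_, fun h => hc ?_⟩, Ne.symm hc⟩
    · show g.val c = c
      rw [← show a = c from h, ha]
    · have : g.val c = g.val a := (show a = g.val c from h).symm.trans ha.symm
      exact (g.val.injective this) ▸ ha
    · show g.val c = c
      rw [← show b = c from h, hb]
    · have : g.val c = g.val b := (show b = g.val c from h).symm.trans hb.symm
      exact (g.val.injective this) ▸ hb
  refine Finset.card_bij (fun z hz => quad _ _ _ _ (hnd z hz)) (fun _ _ => Finset.mem_univ _) ?_ ?_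
  · rintro ⟨g, ⟨a, b⟩, c⟩ hz ⟨g', ⟨a', b'⟩, c'⟩ hz' h
    have h0 : a = a' := DFunLike.congr_fun h 0
    have h1 : b = b' := DFunLike.congr_fun h 1
    have h2 : c = c' := DFunLike.congr_fun h 2
    have h3 : g.val c = g'.val c' := DFunLike.congr_fun h 3
    subst h0 h1 h2
    obtain ⟨hg, hz1⟩ := Finset.mem_sigma.1 hz
    obtain ⟨hg', hz1'⟩ := Finset.mem_sigma.1 hz'
    obtain ⟨hab, -⟩ := Finset.mem_product.1 hz1
    obtain ⟨hab', -⟩ := Finset.mem_product.1 hz1'
    obtain ⟨ha, hb, -⟩ := Finset.mem_offDiag.1 hab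
    obtain ⟨ha', hb', -⟩ := Finset.mem_offDiag.1 hab'
    rw [mem_fx] at ha hb ha' hb'
    have hgg : g = g' := by
      refine eq_of_agree hsharp (quad _ _ _ _ (hnd ⟨g, ⟨a, b⟩, c⟩ hz)) fun i => ?_
      fin_cases i
      · exact ha.trans ha'.symm
      · exact hb.trans hb'.symm
      · exact h3
      · show g.val (g.val c) = g'.val (g.val c)
        rw [invs_apply hg, h3, invs_apply hg']
    subst hgg
    rfl
  · intro x _
    have hne : ∀ i j : Fin 4, i ≠ j → x i ≠ x j := fun i j hij h => hij (x.injective h)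
    obtain ⟨g, hg⟩ := exists_map ht x
      ⟨fun i => x (![0, 1, 3, 2] i), x.injective.comp (by decide)⟩
    have h0 : g.val (x 0) = x 0 := hg 0
    have h1 : g.val (x 1) = x 1 := hg 1
    have h2 : g.val (x 2) = x 3 := hg 2
    have h3 : g.val (x 3) = x 2 := hg 3
    have hgi : g ∈ invs G := by
      refine mem_invs.2 ⟨fun h => ?_, eq_of_agree hsharp x fun i => ?_⟩
      · rw [h] at h2
        exact hne 2 3 (by decide) h2
      · show g.val (g.val (x i)) = x i
        fin_cases i <;> simp [h0, h1, h2, h3]
    have hmem : (⟨g, (x 0, x 1), x 2⟩ : Σ _ : G, (α × α) × α) ∈ X := by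
      refine Finset.mem_sigma.2 ⟨hgi, Finset.mem_product.2 ⟨Finset.mem_offDiag.2
        ⟨mem_fx.2 h0, mem_fx.2 h1, hne 0 1 (by decide)⟩, ?_⟩⟩
      rw [mem_mov]; simp only [h2]; exact hne 3 2 (by decide)
    refine ⟨_, hmem, DFunLike.ext _ _ fun i => ?_⟩
    fin_cases i
    exacts [rfl, rfl, rfl, h2]

include ht in
theorem card_fixing_const {P : G → Prop} [DecidablePred P]
    (hP : ∀ g h : G, P h → P (g * h * g⁻¹)) (a b : α) (hn : 4 ≤ Fintype.card α) :
    ((invs G).filter fun h => P h ∧ h.val a = a).card =
      ((invs G).filter fun h => P h ∧ h.val b = b).card := by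
  classical
  haveI : MulAction.IsMultiplyPretransitive G α 4 := ht
  haveI : MulAction.IsMultiplyPretransitive G α 1 :=
    MulAction.isMultiplyPretransitive_of_le (by omega : 1 ≤ 4) (by rw [Nat.card_eq_fintype_card]; exact hn)
  haveI : MulAction.IsPretransitive G α := MulAction.is_one_pretransitive_iff.1 inferInstance
  have key : ∀ a b : α, ∀ g : G, g.val a = b →
      ((invs G).filter fun h => P h ∧ h.val a = a).card ≤
        ((invs G).filter fun h => P h ∧ h.val b = b).card := by
    intro a b g hg
    refine Finset.card_le_card_of_injOn (fun h => g * h * g⁻¹) (fun h hh => ?_) ?_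
    · simp only [Finset.coe_filter, Set.mem_ofPred_eq, Finset.mem_filter] at hh ⊢
      obtain ⟨hi, hp, ha⟩ := hh
      rw [mem_invs] at hi ⊢
      refine ⟨⟨fun h1 => hi.1 ?_, ?_⟩, hP g h hp, ?_⟩
      · rwa [conj_eq_one_iff] at h1
      · rw [show g * h * g⁻¹ * (g * h * g⁻¹) = g * (h * h) * g⁻¹ by group, hi.2, mul_one,
          mul_inv_cancel]
      · show g.val (h.val (g.val⁻¹ b)) = b
        rw [← hg]; simp [ha]
    · intro u _ v _ huv
      simpa using huv
  obtain ⟨g, hg⟩ := MulAction.exists_smul_eq G a b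
  have hg' : g.val a = b := hg
  exact le_antisymm (key a b g hg') (key b a g⁻¹ (by rw [← hg']; simp))

theorem conj_fx (g h : G) : (fx (g * h * g⁻¹)).card = (fx h).card := by
  rw [← Finset.card_map g.val.toEmbedding (s := fx h)]
  congr 1
  ext a
  rw [mem_fx, Finset.mem_map]
  constructor
  · intro ha
    refine ⟨g.val.symm a, mem_fx.2 ?_, g.val.apply_symm_apply a⟩
    have hh : g.val (h.val (g.val.symm a)) = a := ha
    apply g.val.injective
    rw [hh, Equiv.apply_symm_apply]
  · rintro ⟨b, hb, rfl⟩
    show g.val (h.val (g.val.symm (g.val b))) = g.val b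
    rw [Equiv.symm_apply_apply, mem_fx.1 hb]

include ht hsharp in
theorem degree_four (hn : 4 ≤ Fintype.card α) :
    Fintype.card α = 4 ∨ Fintype.card α = 5 ∨ Fintype.card α = 6 ∨ Fintype.card α = 11 := by
  classical
  set n := Fintype.card α with hndef
  by_contra hcon
  simp only [not_or] at hcon
  obtain ⟨h4, h5, h6, h11⟩ := hcon
  have hA := sum_moved ht hsharp
  have hB := sum_fixed ht hsharp
  rw [← hndef] at hA hB
  have hdesc : n.descFactorial 4 = (n - 3) * ((n - 2) * ((n - 1) * n)) := by
    simp [Nat.descFactorial_succ]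
  have hinfo : ∀ g ∈ invs G, (fx g).card ≤ 3 ∧ (fx g).card % 2 = n % 2 ∧
      (mov g).card = n - (fx g).card := by
    intro g hg
    have h3 := fx_le_three hsharp hg
    have hsum := fx_add_mov g
    have hev : Even (mov g).card := by
      have hsupp : (mov g) = g.val.support := by ext a; simp [mem_mov]
      rw [hsupp]
      have hord : g.val ^ 2 = 1 := by
        rw [pow_two]; exact congrArg Subtype.val (mem_invs.1 hg).2
      rw [← Equiv.Perm.sum_cycleType, Equiv.Perm.cycleType_of_pow_prime_eq_one (p := 2) hord,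
        Multiset.sum_replicate, smul_eq_mul]
      exact even_two.mul_left _
    obtain ⟨r, hr⟩ := hev
    omega
  rcases Nat.mod_two_eq_zero_or_one n with hpar | hpar
  · -- even degree
    set N2 := ((invs G).filter fun g => (fx g).card = 2).card with hN2
    have hB' : N2 * (2 * (n - 2)) = n.descFactorial 4 := by
      rw [← hB, hN2, Finset.card_eq_sum_ones, Finset.sum_mul, Finset.sum_filter]
      refine Finset.sum_congr rfl fun g hg => ?_
      obtain ⟨h3, hp, hm⟩ := hinfo g hg
      rcases (show (fx g).card = 0 ∨ (fx g).card = 2 by omega) with h | h <;> simp [h, hm]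
    have hA' : N2 * ((n - 2) * (n - 4)) ≤ n.descFactorial 4 := by
      rw [← hA, hN2, Finset.card_eq_sum_ones, Finset.sum_mul, Finset.sum_filter]
      refine Finset.sum_le_sum fun g hg => ?_
      obtain ⟨h3, hp, hm⟩ := hinfo g hg
      split
      · next h => simp [hm, h, Nat.sub_sub]
      · simp
    have hpos : 0 < N2 * (n - 2) := by
      rcases Nat.eq_zero_or_pos N2 with h | h
      · rw [h, zero_mul] at hB'
        have : 0 < n.descFactorial 4 := Nat.descFactorial_pos.2 (by omega)
        omega
      · exact Nat.mul_pos h (by omega)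
    have h1 : N2 * (n - 2) * (n - 4) ≤ N2 * (n - 2) * 2 := by
      calc N2 * (n - 2) * (n - 4) = N2 * ((n - 2) * (n - 4)) := by ring
        _ ≤ N2 * (2 * (n - 2)) := hB' ▸ hA'
        _ = N2 * (n - 2) * 2 := by ring
    have := Nat.le_of_mul_le_mul_left h1 hpos
    omega
  · -- odd degree
    set N1 := ((invs G).filter fun g => (fx g).card = 1).card with hN1
    set N3 := ((invs G).filter fun g => (fx g).card = 3).card with hN3
    have hB' : N3 * (6 * (n - 3)) = n.descFactorial 4 := by
      rw [← hB, hN3, Finset.card_eq_sum_ones, Finset.sum_mul, Finset.sum_filter]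
      refine Finset.sum_congr rfl fun g hg => ?_
      obtain ⟨h3, hp, hm⟩ := hinfo g hg
      rcases (show (fx g).card = 1 ∨ (fx g).card = 3 by omega) with h | h <;> simp [h, hm]
    have hA' : N1 * ((n - 1) * (n - 3)) + N3 * ((n - 3) * (n - 5)) = n.descFactorial 4 := by
      rw [← hA, hN1, hN3, Finset.card_eq_sum_ones, Finset.card_eq_sum_ones, Finset.sum_mul,
        Finset.sum_mul, Finset.sum_filter, Finset.sum_filter, ← Finset.sum_add_distrib]
      refine Finset.sum_congr rfl fun g hg => ?_
      obtain ⟨h3, hp, hm⟩ := hinfo g hg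
      rcases (show (fx g).card = 1 ∨ (fx g).card = 3 by omega) with h | h <;>
        simp [h, hm, Nat.sub_sub]
    have hle : n ≤ 11 := by
      have hpos : 0 < N3 * (n - 3) := by
        rcases Nat.eq_zero_or_pos N3 with h | h
        · rw [h, zero_mul] at hB'
          have : 0 < n.descFactorial 4 := Nat.descFactorial_pos.2 (by omega)
          omega
        · exact Nat.mul_pos h (by omega)
      have h1 : N3 * (n - 3) * (n - 5) ≤ N3 * (n - 3) * 6 := by
        calc N3 * (n - 3) * (n - 5) = N3 * ((n - 3) * (n - 5)) := by ring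
          _ ≤ N3 * (6 * (n - 3)) := by omega
          _ = N3 * (n - 3) * 6 := by ring
      have := Nat.le_of_mul_le_mul_left h1 hpos
      omega
    rcases (show n = 7 ∨ n = 9 by omega) with h7 | h9
    · rw [h7] at hB' hA'
      have hd7 : Nat.descFactorial 7 4 = 840 := rfl
      rw [hd7] at hB' hA'
      omega
    · rw [h9] at hB' hA'
      have hd9 : Nat.descFactorial 9 4 = 3024 := rfl
      rw [hd9] at hB' hA'
      have hN1v : N1 = 21 := by omega
      obtain ⟨a⟩ : Nonempty α := Fintype.card_pos_iff.1 (by omega)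
      have hcount : N1 = n * ((invs G).filter fun h => (fx h).card = 1 ∧ h.val a = a).card := by
        have h2 := Finset.sum_card_bipartiteAbove_eq_sum_card_bipartiteBelow
          (s := (invs G).filter fun g => (fx g).card = 1) (t := (univ : Finset α))
          (fun g x => g.val x = x)
        simp only [Finset.bipartiteAbove, Finset.bipartiteBelow, Finset.filter_filter] at h2
        have e1 : ∀ g ∈ (invs G).filter (fun g => (fx g).card = 1),
            (univ.filter fun x => g.val x = x).card = 1 := fun g hg => (Finset.mem_filter.1 hg).2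
        rw [Finset.sum_congr rfl e1, Finset.sum_congr rfl fun x _ =>
          card_fixing_const ht (P := fun h => (fx h).card = 1)
            (fun g h hh => (conj_fx g h).trans hh) x a hn,
          Finset.sum_const, Finset.sum_const, Finset.card_univ, smul_eq_mul, smul_eq_mul, mul_one] at h2
        exact h2
      rw [h9] at hcount
      omega

end Four

end CfsgLib.Golay.Jordan
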