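import Mathlib.Data.List.Basic

/-!
Generated data: a labelling of the 21 points left by three points of the octad system by vectors
over the field with four elements, and the permutations given by the elementary transvections.
-/

set_option autoImplicit false

namespace CfsgLib.Golay.PG24

/-- The vectors. -/
def vecs : List (List ℕ) :=
  [[0, 0, 1], [0, 1, 0], [1, 0, 0], [1, 1, 1], [0, 1, 2], [1, 2, 1], [1, 1, 0], 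
    [0, 1, 3], [1, 1, 2], [0, 1, 1], [1, 3, 3], [1, 0, 1], [1, 2, 2], [1, 2, 3], 
    [1, 0, 2], [1, 3, 0], [1, 2, 0], [1, 3, 1], [1, 3, 2], [1, 1, 3], [1, 0, 3]]

/-- For each transvection (row, column, scalar), the permutation of the 24 positions. -/
def tvPerms : List (ℕ × ℕ × ℕ × List ℕ) :=
  [
    (0, 1, 1, [0, 1, 2, 3, 9, 5, 12, 11, 21, 4, 22, 7, 6, 15, 14, 13, 20, 17, 19, 18, 16, 8, 10, 23]),
    (0, 1, 2, [0, 1, 2, 3, 18, 5, 15, 20, 22, 19, 21, 16, 13, 12, 14, 6, 11, 17, 4, 9, 7, 10, 8, 23]),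
    (0, 1, 3, [0, 1, 2, 3, 19, 5, 13, 16, 10, 18, 8, 20, 15, 6, 14, 12, 7, 17, 9, 4, 11, 22, 21, 23]),
    (0, 2, 1, [0, 1, 2, 14, 4, 5, 12, 20, 10, 9, 8, 16, 6, 15, 3, 13, 11, 23, 18, 19, 7, 22, 21, 17]),
    (0, 2, 2, [0, 1, 2, 23, 4, 5, 15, 16, 21, 9, 22, 20, 13, 12, 17, 6, 7, 14, 18, 19, 11, 8, 10, 3]),
    (0, 2, 3, [0, 1, 2, 17, 4, 5, 13, 11, 22, 9, 21, 7, 15, 6, 23, 12, 20, 3, 18, 19, 16, 10, 8, 14]),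
    (1, 0, 1, [0, 1, 2, 3, 4, 9, 14, 7, 20, 5, 10, 17, 12, 16, 6, 21, 13, 11, 19, 18, 8, 15, 23, 22]),
    (1, 0, 2, [0, 1, 2, 3, 4, 19, 20, 7, 14, 18, 10, 21, 12, 22, 8, 17, 23, 15, 9, 5, 6, 11, 13, 16]),
    (1, 0, 3, [0, 1, 2, 3, 4, 18, 8, 7, 6, 19, 10, 15, 12, 23, 20, 11, 22, 21, 5, 9, 14, 17, 16, 13]),
    (1, 2, 1, [0, 1, 2, 12, 4, 5, 14, 10, 20, 9, 7, 21, 3, 23, 6, 17, 22, 15, 18, 19, 8, 11, 16, 13]),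
    (1, 2, 2, [0, 1, 2, 10, 4, 5, 20, 12, 14, 9, 3, 15, 7, 16, 8, 11, 13, 21, 18, 19, 6, 17, 23, 22]),
    (1, 2, 3, [0, 1, 2, 7, 4, 5, 8, 3, 6, 9, 12, 17, 10, 22, 20, 21, 23, 11, 18, 19, 14, 15, 13, 16]),
    (2, 0, 1, [0, 1, 2, 3, 4, 14, 9, 7, 19, 6, 10, 22, 12, 21, 5, 16, 15, 23, 20, 8, 18, 13, 11, 17]),
    (2, 0, 2, [0, 1, 2, 3, 4, 17, 22, 7, 16, 11, 10, 9, 12, 20, 23, 19, 8, 5, 21, 15, 13, 18, 6, 14]),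
    (2, 0, 3, [0, 1, 2, 3, 4, 23, 11, 7, 15, 22, 10, 6, 12, 18, 17, 8, 19, 14, 13, 16, 21, 20, 9, 5]),
    (2, 1, 1, [0, 1, 2, 3, 12, 5, 9, 10, 16, 6, 7, 22, 4, 18, 14, 19, 8, 17, 13, 15, 21, 20, 11, 23]),
    (2, 1, 2, [0, 1, 2, 3, 7, 5, 22, 4, 15, 11, 12, 9, 10, 21, 14, 8, 19, 17, 20, 16, 18, 13, 6, 23]),
    (2, 1, 3, [0, 1, 2, 3, 10, 5, 11, 12, 19, 22, 4, 6, 7, 20, 14, 16, 15, 17, 21, 8, 13, 18, 9, 23])]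

end CfsgLib.Golay.PG24
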