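import Cfsg.Agent.Lib.Generation.SL3Four
import Cfsg.Agent.Lib.Classical.SLBasic
import Cfsg.Agent.Lib.Golay.M24Sub
import Cfsg.Agent.Lib.Golay.PG24Data

/-!
The stabiliser of three points in the group of the code is the projective special linear group
of degree three over the field with four elements.
-/

set_option autoImplicit false

namespace CfsgLib.Golay.PG24

open Cfsg Matrix CfsgLib.Generation

/-- The tabulated coordinates of the labelled points. -/
def vecT (i : Fin 21) (k : Fin 3) : Fin 4 :=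
  Fin.ofNat 4 ((vecs.getD i.val []).getD k.val 0)

theorem vecT_ne : ∀ i, ∃ k, vecT i k ≠ 0 := by decide +kernel

theorem vecT_prop : ∀ j j' : Fin 21, ∀ c : Fin 4,
    (∀ k, vecT j k = mul4 c (vecT j' k)) → j = j' := by decide +kernel

theorem pt_cases : ∀ x : GolayPt,
    x = pt 0 ∨ x = pt 1 ∨ x = pt 2 ∨ ∃ i : Fin 21, x = pt (i.val + 3) := by decide +kernel

theorem pt_shift_inj : ∀ i j : Fin 21, pt (i.val + 3) = pt (j.val + 3) → i = j := by decide +kernel

/-- The check of a single transvection entry. -/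
def entryOk (i j : Fin 3) (c : Fin 4) (L : List ℕ) : Bool :=
  m24Test L && validL 24 L && L.getD 0 24 == 0 && L.getD 1 24 == 1 && L.getD 2 24 == 2 &&
    decide (∀ k : Fin 21, 3 ≤ L.getD (k.val + 3) 0 ∧ L.getD (k.val + 3) 0 < 24 ∧
      ∃ s : Fin 4, ∀ r : Fin 3,
        (if r = i then add4 (vecT k i) (mul4 c (vecT k j)) else vecT k r) =
          mul4 s (vecT (Fin.ofNat 21 (L.getD (k.val + 3) 0 - 3)) r))

/-- Every elementary transvection has a permutation. -/
def tvOk (i j : Fin 3) (c : Fin 4) : Bool :=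
  tvPerms.any fun e =>
    e.1 == i.val && e.2.1 == j.val && e.2.2.1 == c.val && entryOk i j c e.2.2.2

theorem tvOk_all : ∀ i j : Fin 3, i ≠ j → ∀ c : Fin 4, c ≠ 0 → tvOk i j c = true := by
  decide +kernel

section

variable {F : Type} [Field F]

/-- The vector of a labelled point. -/
def vec (ω : F) (i : Fin 21) : Fin 3 → F := fun k => val4 ω (vecT i k)

/-- The relation between a matrix and the permutation it induces. -/
def Rel (ω : F) (g : Matrix.SpecialLinearGroup (Fin 3) F) (π : M24) : Prop :=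
  π • pt 0 = pt 0 ∧ π • pt 1 = pt 1 ∧ π • pt 2 = pt 2 ∧
    ∀ i : Fin 21, ∃ j : Fin 21, π • pt (i.val + 3) = pt (j.val + 3) ∧
      ∃ s : F, g.1 *ᵥ vec ω i = s • vec ω j

theorem rel_one (ω : F) : Rel ω 1 1 :=
  ⟨one_smul _ _, one_smul _ _, one_smul _ _, fun i => ⟨i, one_smul _ _, 1, by simp⟩⟩

theorem rel_mul {ω : F} {g g' : Matrix.SpecialLinearGroup (Fin 3) F} {π π' : M24}
    (h : Rel ω g π) (h' : Rel ω g' π') : Rel ω (g * g') (π * π') := by
  obtain ⟨h0, h1, h2, hg⟩ := h
  obtain ⟨h0', h1', h2', hg'⟩ := h'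
  refine ⟨by rw [mul_smul, h0', h0], by rw [mul_smul, h1', h1], by rw [mul_smul, h2', h2],
    fun i => ?_⟩
  obtain ⟨j, hj, s, hs⟩ := hg' i
  obtain ⟨k, hk, t, ht⟩ := hg j
  refine ⟨k, by rw [mul_smul, hj, hk], s * t, ?_⟩
  rw [Matrix.SpecialLinearGroup.coe_mul, ← mulVec_mulVec, hs, mulVec_smul, ht, smul_smul]

variable [Fintype F]

theorem exists_omega (hF : Fintype.card F = 4) :
    CharP F 2 ∧ ∃ ω : F, ω * ω = 1 + ω ∧ Function.Bijective (val4 ω) := by
  classical
  have h2 : (2 : F) = 0 := by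
    have h : ((Fintype.card F : ℕ) : F) = 0 := Nat.cast_card_eq_zero F
    rw [hF] at h
    have : (2 : F) * 2 = 0 := by rw [← h]; norm_num
    exact mul_self_eq_zero.1 this
  have hc : CharP F 2 := CharTwo.of_one_ne_zero_of_two_eq_zero one_ne_zero h2
  obtain ⟨ω, hω0, hω1⟩ : ∃ y : F, y ≠ 0 ∧ y ≠ 1 := by
    by_contra h
    push Not at h
    have h' : (Finset.univ : Finset F) ⊆ {0, 1} := fun y _ => by
      by_cases hy : y = 0
      · simp [hy]
      · simp [h y hy]
    have := (Finset.card_le_card h').trans Finset.card_le_two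
    rw [Finset.card_univ, hF] at this
    omega
  have h3 : ω ^ 3 = 1 := by
    have := FiniteField.pow_card_sub_one_eq_one ω hω0
    rwa [hF] at this
  have hω : ω * ω = 1 + ω := by
    have hq : (ω - 1) * (ω * ω + ω + 1) = 0 := by linear_combination h3
    rcases mul_eq_zero.1 hq with h | h
    · exact absurd (sub_eq_zero.1 h) hω1
    · linear_combination h - (1 + ω) * h2
  refine ⟨hc, ω, hω, (Fintype.bijective_iff_injective_and_card _).2 ⟨?_, by simp [hF]⟩⟩
  intro a b
  have e1 : ω ≠ 1 + ω := fun h => one_ne_zero (by linear_combination -h : (1 : F) = 0)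
  have e2 : (1 : F) ≠ 1 + ω := fun h => hω0 (by linear_combination -h)
  have e3 : (0 : F) ≠ 1 + ω := fun h => hω1 (by linear_combination -h - h2)
  fin_cases a <;> fin_cases b <;>
    simp [val4, Ne.symm hω0, Ne.symm hω1, e1, e2, e3, hω0, hω1, Ne.symm e1, Ne.symm e2, Ne.symm e3]

variable [CharP F 2] {ω : F}

omit [Fintype F] in
theorem rel_unique (hω : ω * ω = 1 + ω) (hb : Function.Bijective (val4 ω))
    {g : Matrix.SpecialLinearGroup (Fin 3) F} {π π' : M24}
    (h : Rel ω g π) (h' : Rel ω g π') : π = π' := by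
  obtain ⟨h0, h1, h2, hg⟩ := h
  obtain ⟨h0', h1', h2', hg'⟩ := h'
  refine Subtype.ext (Equiv.ext fun x => ?_)
  rcases pt_cases x with rfl | rfl | rfl | ⟨i, rfl⟩
  · exact h0.trans h0'.symm
  · exact h1.trans h1'.symm
  · exact h2.trans h2'.symm
  obtain ⟨j, hj, s, hs⟩ := hg i
  obtain ⟨j', hj', s', hs'⟩ := hg' i
  have hne : g.1 *ᵥ vec ω i ≠ 0 := by
    intro h
    have : ((g⁻¹ * g : Matrix.SpecialLinearGroup (Fin 3) F)).1 *ᵥ vec ω i = 0 := by
      rw [Matrix.SpecialLinearGroup.coe_mul, ← mulVec_mulVec, h, mulVec_zero]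
    rw [inv_mul_cancel, Matrix.SpecialLinearGroup.coe_one, one_mulVec] at this
    obtain ⟨k, hk⟩ := vecT_ne i
    refine hk (hb.1 ?_)
    simpa [vec, val4] using congrFun this k
  have hs0 : s ≠ 0 := by rintro rfl; exact hne (by rw [hs, zero_smul])
  obtain ⟨c, hc⟩ := hb.2 (s⁻¹ * s')
  have hv : vec ω j = (s⁻¹ * s') • vec ω j' := by
    rw [mul_smul, ← hs', hs, smul_smul, inv_mul_cancel₀ hs0, one_smul]
  have : j = j' := vecT_prop j j' c fun k => hb.1 (by
    rw [val4_mul hω, hc]
    exact congrFun hv k)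
  exact hj.trans (this ▸ hj'.symm)

omit [Fintype F] in
theorem rel_transvection (hω : ω * ω = 1 + ω) {i j : Fin 3} (hij : i ≠ j) {c : Fin 4} (hc : c ≠ 0) :
    ∃ e ∈ tvPerms, e.1 = i.val ∧ e.2.1 = j.val ∧ e.2.2.1 = c.val ∧
      ∃ π : M24, (π : Equiv.Perm GolayPt) = permOf ptEquiv e.2.2.2 ∧
        Rel ω (SpecialLinearGroup.transvection hij (val4 ω c)) π := by
  have h := tvOk_all i j hij c hc
  simp only [tvOk, entryOk, List.any_eq_true, Bool.and_eq_true, beq_iff_eq, decide_eq_true_eq] at h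
  obtain ⟨e, he, ⟨⟨hi, hj⟩, hcc⟩, ⟨⟨⟨⟨htest, hv⟩, h0⟩, h1⟩, h2⟩, hall⟩ := h
  set L := e.2.2.2
  have key : ∀ a b : ℕ, a < 24 → b < 24 → L.getD a 24 = b → permOf ptEquiv L (pt a) = pt b := by
    intro a b ha hb' hab
    refine ptEquiv.injective (Fin.ext ?_)
    rw [permOf_apply ptEquiv hv, ptEquiv_pt ha, ptEquiv_pt hb']
    have hlen : a < L.length := by
      by_contra hh
      rw [List.getD_eq_default _ _ (by omega)] at hab
      omega
    rw [List.getD_eq_getElem _ _ hlen] at hab ⊢
    exact hab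
  refine ⟨e, he, hi, hj, hcc, ⟨_, mem_M24_of_test htest⟩, rfl,
    key 0 0 (by omega) (by omega) h0, key 1 1 (by omega) (by omega) h1,
    key 2 2 (by omega) (by omega) h2, fun k => ?_⟩
  obtain ⟨hlo, hhi, s, hs⟩ := hall k
  refine ⟨Fin.ofNat 21 (L.getD (k.val + 3) 0 - 3), ?_, val4 ω s, ?_⟩
  · have e2 : (Fin.ofNat 21 (L.getD (k.val + 3) 0 - 3)).val + 3 = L.getD (k.val + 3) 0 := by
      simp only [Fin.val_ofNat]
      rw [Nat.mod_eq_of_lt (by omega)]
      omega
    refine key _ _ (by omega) (by rw [e2]; omega) ?_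
    rw [e2]
    have hlen : k.val + 3 < L.length := by
      by_contra hh
      rw [List.getD_eq_default _ _ (by omega)] at hlo
      omega
    rw [List.getD_eq_getElem _ _ hlen, List.getD_eq_getElem _ _ hlen]
  · funext r
    simp only [Pi.smul_apply, smul_eq_mul, vec]
    rw [← val4_mul hω, ← hs r]
    simp only [SpecialLinearGroup.transvection, Matrix.transvection, add_mulVec, one_mulVec, Pi.add_apply]
    by_cases hr : r = i
    · subst hr
      rw [if_pos rfl, val4_add hω, val4_mul hω]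
      rw [Matrix.single_mulVec]
      simp [vec]
    · rw [if_neg hr]
      rw [Matrix.single_mulVec]
      simp [vec, hr, Ne.symm hr]

theorem rel_exists (hω : ω * ω = 1 + ω) (hb : Function.Bijective (val4 ω))
    (g : Matrix.SpecialLinearGroup (Fin 3) F) : ∃ π, Rel ω g π := by
  classical
  let S : Subgroup (Matrix.SpecialLinearGroup (Fin 3) F) :=
    { carrier := {g | ∃ π, Rel ω g π}
      one_mem' := ⟨1, rel_one ω⟩
      mul_mem' := fun ⟨π, h⟩ ⟨π', h'⟩ => ⟨π * π', rel_mul h h'⟩
      inv_mem' := fun {g} ⟨π, h⟩ => by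
        have hp : ∀ n : ℕ, Rel ω (g ^ n) (π ^ n) := fun n => by
          induction n with
          | zero => simpa using rel_one ω
          | succ m ih => rw [pow_succ, pow_succ]; exact rel_mul ih h
        refine ⟨π ^ (orderOf g - 1), ?_⟩
        have : g⁻¹ = g ^ (orderOf g - 1) := by
          refine inv_eq_of_mul_eq_one_right ?_
          rw [← pow_succ', Nat.sub_add_cancel (orderOf_pos g), pow_orderOf_eq_one]
        rw [this]
        exact hp _ }
  have hS : S = ⊤ := CfsgLib.Classical.SL_le_of_transvections S fun i j hij a => by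
    obtain ⟨c, rfl⟩ := hb.2 a
    by_cases hc : c = 0
    · subst hc
      have : SpecialLinearGroup.transvection hij (val4 ω 0) = 1 := by
        apply Subtype.ext
        simp [SpecialLinearGroup.transvection_coe, Matrix.transvection, val4]
      rw [this]
      exact S.one_mem
    · obtain ⟨e, -, -, -, -, π, -, hπ⟩ := rel_transvection hω hij hc
      exact ⟨π, hπ⟩
  exact hS.ge (Subgroup.mem_top g)

/-- The stabiliser of the three base points. -/
def base3 : Subgroup M24 :=
  MulAction.stabilizer M24 (pt 0) ⊓ MulAction.stabilizer M24 (pt 1) ⊓ MulAction.stabilizer M24 (pt 2)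

theorem card_base3 : Nat.card base3 = 20160 := by
  let x : Fin 3 ↪ GolayPt := ⟨fun k => pt k.val, by
    intro a b h
    revert a b
    decide +kernel⟩
  have e : MulAction.stabilizer M24 x = base3 := by
    ext g
    simp only [base3, Subgroup.mem_inf, MulAction.mem_stabilizer_iff]
    constructor
    · intro h
      exact ⟨⟨DFunLike.congr_fun h 0, DFunLike.congr_fun h 1⟩, DFunLike.congr_fun h 2⟩
    · rintro ⟨⟨h0, h1⟩, h2⟩
      refine DFunLike.ext _ _ fun k => ?_
      fin_cases k
      exacts [h0, h1, h2]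
  have h := card_stabilizer_tuple (k := 3) (by omega) x
  rw [e, show Nat.descFactorial 24 3 = 12144 by decide] at h
  omega

end

/-- The three-point stabiliser is the projective special linear group. -/
theorem base3_equiv (F : Type) [Field F] [Fintype F] (hF : Fintype.card F = 4) :
    Nonempty (base3 ≃* Matrix.ProjectiveSpecialLinearGroup (Fin 3) F) := by
  classical
  obtain ⟨hchar, ω, hω, hb⟩ := exists_omega hF
  haveI := hchar
  choose f hf using rel_exists hω hb
  let φ : Matrix.SpecialLinearGroup (Fin 3) F →* base3 :=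
    MonoidHom.mk' (fun g => ⟨f g, ⟨(hf g).1, (hf g).2.1⟩, (hf g).2.2.1⟩) fun a b =>
      Subtype.ext (rel_unique hω hb (hf (a * b)) (rel_mul (hf a) (hf b)))
  have hker : Subgroup.center (Matrix.SpecialLinearGroup (Fin 3) F) ≤ φ.ker := by
    intro z hz
    obtain ⟨r, -, hr⟩ := Matrix.SpecialLinearGroup.mem_center_iff.1 hz
    refine MonoidHom.mem_ker.2 (Subtype.ext (rel_unique hω hb (hf z) ?_))
    refine ⟨one_smul _ _, one_smul _ _, one_smul _ _, fun i => ⟨i, one_smul _ _, r, ?_⟩⟩
    funext k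
    rw [← hr]
    simp [Matrix.mulVec_diagonal]
  let ψ : Matrix.ProjectiveSpecialLinearGroup (Fin 3) F →* base3 :=
    QuotientGroup.lift _ φ hker
  haveI := CfsgLib.Classical.isSimpleGroup_PSL (F := F) (ι := Fin 3) (by simp)
  have hne : ψ.ker ≠ ⊤ := by
    intro h
    obtain ⟨e, he, h0, h1, h2, π, hπ, hrel⟩ :=
      rel_transvection (ω := ω) hω (show (0 : Fin 3) ≠ 1 by decide) (show (1 : Fin 4) ≠ 0 by decide)
    have h1' : φ (SpecialLinearGroup.transvection (show (0 : Fin 3) ≠ 1 by decide) (val4 ω 1)) = 1 :=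
      MonoidHom.mem_ker.1 (h.ge (Subgroup.mem_top (QuotientGroup.mk _)))
    have h2' : π = 1 := (rel_unique hω hb hrel (hf _)).trans (congrArg Subtype.val h1')
    have hmove : ∀ e ∈ tvPerms, e.1 = 0 → e.2.1 = 1 → e.2.2.1 = 1 →
        e.2.2.2.getD 4 0 = 9 := by decide +kernel
    have h9 := hmove e he h0 h1 h2
    have hv : validL 24 e.2.2.2 = true := by
      have : ∀ e ∈ tvPerms, validL 24 e.2.2.2 = true := by decide +kernel
      exact this e he
    have := congrArg (fun q : M24 => (ptEquiv ((q : Equiv.Perm GolayPt) (pt 4))).val) h2'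
    simp only [hπ] at this
    rw [permOf_apply ptEquiv hv, ptEquiv_pt (by omega), h9] at this
    simp [ptEquiv_pt] at this
  have hinj : Function.Injective ψ := by
    rw [← MonoidHom.ker_eq_bot_iff]
    exact ((MonoidHom.normal_ker ψ).eq_bot_or_eq_top).resolve_right hne
  haveI : Finite base3 := Nat.finite_of_card_ne_zero (by rw [card_base3]; norm_num)
  have hcard : Nat.card (Matrix.ProjectiveSpecialLinearGroup (Fin 3) F) = Nat.card base3 := by
    have h := CfsgLib.Classical.card_PSL_mul hF 3 (by norm_num)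
    simp [Fin.prod_univ_three] at h
    rw [card_base3, Nat.card_eq_fintype_card]
    omega
  exact ⟨(MulEquiv.ofBijective ψ ⟨hinj,
    ((Nat.bijective_iff_injective_and_card ψ).2 ⟨hinj, hcard⟩).2⟩).symm⟩

theorem stabilizer_triple_equiv {p q r : GolayPt} (hpq : p ≠ q) (hpr : p ≠ r) (hqr : q ≠ r)
    (F : Type) [Field F] [Fintype F] (hF : Fintype.card F = 4) :
    Nonempty (↥(MulAction.stabilizer M24 p ⊓ MulAction.stabilizer M24 q ⊓
      MulAction.stabilizer M24 r) ≃* Matrix.ProjectiveSpecialLinearGroup (Fin 3) F) := by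
  obtain ⟨e⟩ := base3_equiv F hF
  obtain ⟨g, hg, h0, h1, h2⟩ := M24_map_three (show pt 0 ≠ pt 1 by decide +kernel)
    (show pt 0 ≠ pt 2 by decide +kernel) (show pt 1 ≠ pt 2 by decide +kernel) hpq hpr hqr
  have e1 : MulAction.stabilizer M24 p ⊓ MulAction.stabilizer M24 q ⊓ MulAction.stabilizer M24 r =
      MulAction.stabilizer M24 ((p, q), r) := by
    ext x; simp [MulAction.mem_stabilizer_iff, Prod.ext_iff]
  have e2 : MulAction.stabilizer M24 ((pt 0, pt 1), pt 2) = base3 := by
    ext x; simp [base3, MulAction.mem_stabilizer_iff, Prod.ext_iff]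
  exact ⟨((MulEquiv.subgroupCongr e1).trans ((MulAction.stabilizerEquivStabilizer
    (g := (⟨g, hg⟩ : M24)) (a := ((pt 0, pt 1), pt 2)) (b := ((p, q), r))
    (Prod.ext (Prod.ext h0.symm h1.symm) h2.symm)).symm)).trans
      ((MulEquiv.subgroupCongr e2).trans e)⟩

end CfsgLib.Golay.PG24
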