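import Cfsg.Agent.Lib.Golay.Design
import Cfsg.Agent.Lib.Golay.PermList

/-!
Certified uniqueness of small Steiner systems: blocks are bit masks, a certificate is a path of
forced choices, each rejected choice being carried to the chosen one by a relabelling.
-/

set_option autoImplicit false

namespace CfsgLib.Golay.Path

open Cfsg

/-- The mask of a list of points. -/
def maskL (l : List ℕ) : ℕ := l.foldr (fun i acc => 2 ^ i ||| acc) 0

theorem testBit_maskL {l : List ℕ} {i : ℕ} : (maskL l).testBit i = true ↔ i ∈ l := by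
  induction l with
  | nil => simp [maskL]
  | cons a l ih =>
    simp only [maskL, List.foldr_cons, Nat.testBit_or, Bool.or_eq_true, List.mem_cons] at ih ⊢
    rw [ih, Nat.testBit_two_pow, decide_eq_true_iff, eq_comm]

/-- The set of points of a mask. -/
def blockSet (v m : ℕ) : Finset (Fin v) := Finset.univ.filter fun i => m.testBit i.val

theorem mem_blockSet {v m : ℕ} {i : Fin v} : i ∈ blockSet v m ↔ m.testBit i.val = true := by
  simp [blockSet]

/-- The image of a mask under a relabelling. -/
def imgV (v : ℕ) (L : List ℕ) (m : ℕ) : ℕ :=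
  maskL (((List.range v).filter fun i => m.testBit i).map fun i => L.getD i 0)

theorem blockSet_imgV {v : ℕ} {L : List ℕ} (h : validL v L = true) (m : ℕ) :
    blockSet v (imgV v L m) = (blockSet v m).image (permOf (Equiv.refl (Fin v)) L) := by
  ext j
  simp only [mem_blockSet, imgV, testBit_maskL, List.mem_map, List.mem_filter, List.mem_range,
    Finset.mem_image]
  constructor
  · rintro ⟨i, ⟨hi, hm⟩, hij⟩
    refine ⟨⟨i, hi⟩, hm, Fin.ext ?_⟩
    rw [← hij]
    exact permOf_apply (Equiv.refl (Fin v)) h ⟨i, hi⟩
  · rintro ⟨i, hm, rfl⟩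
    exact ⟨i.val, ⟨i.isLt, hm⟩, (permOf_apply (Equiv.refl (Fin v)) h i).symm⟩

/-- Record one more point against the known blocks and their remaining allowances. -/
def bump : List (ℕ × ℕ) → ℕ → Option (List (ℕ × ℕ))
  | [], _ => some []
  | (k, c) :: st, x =>
    match k.testBit x, c with
    | true, 0 => none
    | true, c + 1 => (bump st x).map (fun r => (k, c) :: r)
    | false, c => (bump st x).map (fun r => (k, c) :: r)

/-- Record a list of points. -/
def bumpAll : List (ℕ × ℕ) → List ℕ → Option (List (ℕ × ℕ))
  | st, [] => some st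
  | st, x :: xs =>
    match bump st x with
    | none => none
    | some st' => bumpAll st' xs

/-- The possible sets of `n` further points of an unknown block. -/
def cand (mx : ℕ) (A : List ℕ) : List (ℕ × ℕ) → List ℕ → ℕ → List (List ℕ)
  | st, _, 0 => if st.all (fun kc => A.contains (mx - kc.2)) then [[]] else []
  | _, [], _ + 1 => []
  | st, x :: xs, n + 1 =>
    (match bump st x with
      | none => []
      | some st' => (cand mx A st' xs n).map (fun r => x :: r)) ++ cand mx A st xs (n + 1)

/-- One step: an uncovered set of points, the chosen block through it, and for each candidate a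
relabelling to the chosen one. -/
structure Step where
  pts : List ℕ
  rep : ℕ
  sib : List (List ℕ)

/-- The candidate blocks through `T`. -/
def cands (v k mx : ℕ) (A : List ℕ) (ks : List ℕ) (T : List ℕ) : List ℕ :=
  match bumpAll (ks.map fun m => (m, mx)) T with
  | none => []
  | some st => (cand mx A st ((List.range v).filter fun x => !T.contains x) (k - T.length)).map
      fun r => maskL (T ++ r)

/-- Check of one step. -/
def pathStepOk (v t k mx : ℕ) (A : List ℕ) (ks : List ℕ) (s : Step) : Bool :=
  s.pts.length == t && decide s.pts.Nodup && s.pts.all (fun x => decide (x < v)) &&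
    ks.all (fun m => s.pts.any fun x => !m.testBit x) &&
    (cands v k mx A ks s.pts).length == s.sib.length &&
    ((cands v k mx A ks s.pts).zip s.sib).all fun cL =>
      cL.1 == s.rep || (validL v cL.2 && (cL.1 :: ks).all fun m => (s.rep :: ks).contains (imgV v cL.2 m))

/-- Check of a path. -/
def pathOk (v t k mx : ℕ) (A : List ℕ) (model : List ℕ) : List ℕ → List Step → Bool
  | ks, [] => model.all ks.contains
  | ks, s :: rest => pathStepOk v t k mx A ks s && pathOk v t k mx A model (s.rep :: ks) rest

/-- The number of listed points in a mask. -/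
def cnt (m : ℕ) (R : List ℕ) : ℕ := (R.filter fun x => m.testBit x).length

/-- The invariant of the allowances. -/
def Fits (mx : ℕ) (A : List ℕ) (R : List ℕ) (st : List (ℕ × ℕ)) : Prop :=
  ∀ kc ∈ st, cnt kc.1 R ≤ kc.2 ∧ mx - (kc.2 - cnt kc.1 R) ∈ A

theorem bump_fits {mx : ℕ} {A : List ℕ} {x : ℕ} {R : List ℕ} :
    ∀ {st : List (ℕ × ℕ)}, Fits mx A (x :: R) st → ∃ st', bump st x = some st' ∧ Fits mx A R st'
  | [], _ => ⟨[], rfl, fun _ h => absurd h (List.not_mem_nil)⟩
  | (k, c) :: st, h => by
    obtain ⟨h1, h2⟩ := h (k, c) List.mem_cons_self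
    obtain ⟨st', he, hf⟩ := bump_fits (st := st) fun kc hkc => h kc (List.mem_cons_of_mem _ hkc)
    cases hk : k.testBit x
    · refine ⟨(k, c) :: st', by simp [bump, hk, he], fun kc hkc => ?_⟩
      rcases List.mem_cons.1 hkc with rfl | hkc
      · have : cnt k (x :: R) = cnt k R := by simp [cnt, hk]
        exact ⟨this ▸ h1, this ▸ h2⟩
      · exact hf kc hkc
    · have hc : cnt k (x :: R) = cnt k R + 1 := by simp [cnt, hk]
      rw [hc] at h1 h2
      obtain ⟨c', rfl⟩ : ∃ c', c = c' + 1 := ⟨c - 1, by simp only at h1; omega⟩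
      refine ⟨(k, c') :: st', by simp [bump, hk, he], fun kc hkc => ?_⟩
      rcases List.mem_cons.1 hkc with rfl | hkc
      · simp only at h1 h2 ⊢
        refine ⟨by omega, ?_⟩
        rwa [show c' - cnt k R = c' + 1 - (cnt k R + 1) by omega]
      · exact hf kc hkc

theorem bumpAll_fits {mx : ℕ} {A : List ℕ} {R : List ℕ} :
    ∀ {T : List ℕ} {st : List (ℕ × ℕ)}, Fits mx A (T ++ R) st →
      ∃ st', bumpAll st T = some st' ∧ Fits mx A R st'
  | [], st, h => ⟨st, rfl, h⟩
  | x :: T, st, h => by
    obtain ⟨st', he, hf⟩ := bump_fits (R := T ++ R) h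
    obtain ⟨st'', he', hf'⟩ := bumpAll_fits (T := T) hf
    exact ⟨st'', by simp [bumpAll, he, he'], hf'⟩

theorem cand_mem {mx : ℕ} {A : List ℕ} : ∀ {xs R : List ℕ} {st : List (ℕ × ℕ)},
    R.Sublist xs → Fits mx A R st → R ∈ cand mx A st xs R.length := by
  intro xs
  induction xs with
  | nil =>
    intro R st hR hf
    rw [List.eq_nil_of_sublist_nil hR] at hf ⊢
    have : st.all (fun kc => A.contains (mx - kc.2)) = true := List.all_eq_true.2 fun kc hkc => by
      simpa [cnt] using (hf kc hkc).2
    simp only [List.length_nil, cand, this, if_true, List.mem_singleton]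
  | cons x xs ih =>
    intro R st hR hf
    cases R with
    | nil =>
      have : st.all (fun kc => A.contains (mx - kc.2)) = true := List.all_eq_true.2 fun kc hkc => by
        simpa [cnt] using (hf kc hkc).2
      simp only [List.length_nil, cand, this, if_true, List.mem_singleton]
    | cons y R =>
      rcases List.sublist_cons_iff.1 hR with h | ⟨r, hr, hs⟩
      · simp only [List.length_cons, cand, List.mem_append]
        exact Or.inr (ih (R := y :: R) h hf)
      · simp only [List.cons.injEq] at hr
        obtain ⟨rfl, rfl⟩ := hr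
        obtain ⟨st', he, hf'⟩ := bump_fits hf
        simp only [List.length_cons, cand, he, List.mem_append, List.mem_map]
        exact Or.inl ⟨R, ih hs hf', rfl⟩

variable {v t k mx : ℕ} {A : List ℕ}

theorem cands_mem {B : Set (Finset (Fin v))} (hB : IsSteinerSystem t k B)
    (hinter : ∀ b ∈ B, ∀ c ∈ B, b ≠ c → (b ∩ c).card ≤ mx ∧ (b ∩ c).card ∈ A)
    {ks : List ℕ} (hks : ∀ m ∈ ks, blockSet v m ∈ B) {T : List ℕ} (hT : T.Nodup)
    {b : Finset (Fin v)} (hb : b ∈ B) (hTb : ∀ x ∈ T, ∃ i ∈ b, i.val = x)
    (hunc : ∀ m ∈ ks, ∃ x ∈ T, m.testBit x = false) :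
    ∃ c ∈ cands v k mx A ks T, blockSet v c = b := by
  classical
  set p : ℕ → Bool := fun x => decide (∃ i ∈ b, i.val = x)
  set R := ((List.range v).filter fun x => !T.contains x).filter p with hRdef
  have hmemR : ∀ x, x ∈ T ++ R ↔ ∃ i ∈ b, i.val = x := by
    intro x
    simp only [hRdef, p, List.mem_append, List.mem_filter, List.mem_range, Bool.not_eq_true',
      decide_eq_true_eq, List.contains_eq_mem, decide_eq_false_iff_not]
    constructor
    · rintro (h | ⟨-, h⟩)
      exacts [hTb x h, h]
    · rintro ⟨i, hi, rfl⟩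
      by_cases hx : i.val ∈ T
      · exact Or.inl hx
      · exact Or.inr ⟨⟨i.isLt, hx⟩, i, hi, rfl⟩
  have hnd : (T ++ R).Nodup := by
    refine List.nodup_append.2 ⟨hT, ((List.nodup_range).filter _).filter _, ?_⟩
    intro x hx y hy
    rintro rfl
    have hy' := (List.mem_filter.1 (List.mem_filter.1 hy).1).2
    simp [hx] at hy'
  have himg : (T ++ R).toFinset = b.image Fin.val := by
    ext x
    rw [List.mem_toFinset, hmemR, Finset.mem_image]
  have hlen : T.length + R.length = k := by
    rw [← List.length_append, ← List.toFinset_card_of_nodup hnd, himg,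
      Finset.card_image_of_injective _ Fin.val_injective, hB.1 b hb]
  have hfit : Fits mx A (T ++ R) (ks.map fun m => (m, mx)) := by
    intro kc hkc
    obtain ⟨m, hm, rfl⟩ := List.mem_map.1 hkc
    have hne : b ≠ blockSet v m := by
      intro he
      obtain ⟨x, hx, hxm⟩ := hunc m hm
      obtain ⟨i, hi, rfl⟩ := hTb x hx
      rw [he, mem_blockSet, hxm] at hi
      exact Bool.noConfusion hi
    obtain ⟨h1, h2⟩ := hinter b hb _ (hks m hm) hne
    have hc : cnt m (T ++ R) = (b ∩ blockSet v m).card := by
      rw [cnt, ← List.toFinset_card_of_nodup (hnd.filter _),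
        ← Finset.card_image_of_injective (b ∩ blockSet v m) Fin.val_injective]
      congr 1
      ext x
      simp only [List.mem_toFinset, List.mem_filter, hmemR, Finset.mem_image, Finset.mem_inter,
        mem_blockSet]
      constructor
      · rintro ⟨⟨i, hi, rfl⟩, hm'⟩
        exact ⟨i, ⟨hi, hm'⟩, rfl⟩
      · rintro ⟨i, ⟨hi, hm'⟩, rfl⟩
        exact ⟨⟨i, hi, rfl⟩, hm'⟩
    simp only [hc]
    exact ⟨h1, by rwa [show mx - (mx - (b ∩ blockSet v m).card) = (b ∩ blockSet v m).card by omega]⟩
  obtain ⟨st, he, hf⟩ := bumpAll_fits hfit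
  refine ⟨maskL (T ++ R), ?_, ?_⟩
  · simp only [cands, he, List.mem_map]
    refine ⟨R, ?_, rfl⟩
    rw [show k - T.length = R.length by omega]
    exact cand_mem (List.filter_sublist) hf
  · ext i
    rw [mem_blockSet, testBit_maskL, hmemR]
    exact ⟨fun ⟨j, hj, hji⟩ => (Fin.ext hji : j = i) ▸ hj, fun h => ⟨i, h, rfl⟩⟩

/-- A checked path shows that every system is a relabelling of the model. -/
theorem path_iso {model : List ℕ}
    (hinter : ∀ B : Set (Finset (Fin v)), IsSteinerSystem t k B →
      ∀ b ∈ B, ∀ c ∈ B, b ≠ c → (b ∩ c).card ≤ mx ∧ (b ∩ c).card ∈ A)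
    (hcard : ∀ B : Set (Finset (Fin v)), IsSteinerSystem t k B →
      B.ncard ≤ {b | ∃ m ∈ model, blockSet v m = b}.ncard) :
    ∀ (steps : List Step) (ks : List ℕ), pathOk v t k mx A model ks steps = true →
      ∀ B : Set (Finset (Fin v)), IsSteinerSystem t k B → (∀ m ∈ ks, blockSet v m ∈ B) →
        ∃ e : Equiv.Perm (Fin v), (fun b => b.image e) '' B = {b | ∃ m ∈ model, blockSet v m = b} := by
  classical
  intro steps
  induction steps with
  | nil =>
    intro ks hok B hB hks
    simp only [pathOk, List.all_eq_true, List.contains_iff_mem] at hok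
    refine ⟨1, ?_⟩
    have : (fun b : Finset (Fin v) => b.image (1 : Equiv.Perm (Fin v))) '' B = B := by simp
    rw [this]
    refine (Set.eq_of_subset_of_ncard_le ?_ (hcard B hB) (Set.toFinite _)).symm
    rintro _ ⟨m, hm, rfl⟩
    exact hks m (hok m hm)
  | cons s rest ih =>
    intro ks hok B hB hks
    simp only [pathOk, pathStepOk, Bool.and_eq_true, beq_iff_eq, decide_eq_true_eq,
      List.all_eq_true, List.any_eq_true, Bool.not_eq_true'] at hok
    obtain ⟨⟨⟨⟨⟨⟨hlen, hnd⟩, hlt⟩, hunc⟩, hsl⟩, hsib⟩, hrest⟩ := hok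
    set S : Finset (Fin v) := Finset.univ.filter fun i => i.val ∈ s.pts
    have hS : S.card = t := by
      rw [← hlen, ← List.toFinset_card_of_nodup hnd, ← Finset.card_image_of_injective S Fin.val_injective]
      congr 1
      ext x
      simp only [S, Finset.mem_image, Finset.mem_filter, Finset.mem_univ, true_and, List.mem_toFinset]
      exact ⟨fun ⟨i, hi, h⟩ => h ▸ hi, fun h => ⟨⟨x, hlt x h⟩, h, rfl⟩⟩
    obtain ⟨b, ⟨hb, hSb⟩, -⟩ := hB.2 S hS
    obtain ⟨c, hc, hcb⟩ := cands_mem hB (hinter B hB) hks hnd hb
      (fun x hx => ⟨⟨x, hlt x hx⟩, hSb (by simp [S, hx]), rfl⟩) hunc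
    obtain ⟨i, hi, rfl⟩ := List.mem_iff_getElem.1 hc
    have hi' : i < s.sib.length := hsl ▸ hi
    have hz := hsib ((cands v k mx A ks s.pts)[i], s.sib[i]) (by
      refine List.mem_iff_getElem.2 ⟨i, by simp only [List.length_zip]; omega, ?_⟩
      simp [List.getElem_zip])
    simp only [Bool.or_eq_true, beq_iff_eq, Bool.and_eq_true, List.all_eq_true,
      List.contains_iff_mem] at hz
    rcases hz with hrep | ⟨hv, himg⟩
    · refine ih _ hrest B hB fun m hm => ?_
      rcases List.mem_cons.1 hm with rfl | hm
      · rw [← hrep, hcb]; exact hb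
      · exact hks m hm
    · set π := permOf (Equiv.refl (Fin v)) s.sib[i]
      have hinj : Function.Injective fun m : Finset (Fin v) => m.image π :=
        Finset.image_injective π.injective
      have hB' : IsSteinerSystem t k ((fun b => b.image π) '' B) := by
        refine ⟨?_, fun u hu => ?_⟩
        · rintro _ ⟨d, hd, rfl⟩
          rw [Finset.card_image_of_injective _ π.injective, hB.1 d hd]
        · obtain ⟨d, ⟨hd, hud⟩, hu'⟩ := hB.2 (u.image π.symm)
            (by rw [Finset.card_image_of_injective _ π.symm.injective, hu])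
          refine ⟨d.image π, ⟨⟨d, hd, rfl⟩, fun x hx => ?_⟩, ?_⟩
          · exact Finset.mem_image.2 ⟨π.symm x, hud (Finset.mem_image_of_mem _ hx), by simp⟩
          · rintro _ ⟨⟨c', hc', rfl⟩, hsc⟩
            rw [hu' c' ⟨hc', fun x hx => ?_⟩]
            obtain ⟨y, hy, rfl⟩ := Finset.mem_image.1 hx
            obtain ⟨z, hz', rfl⟩ := Finset.mem_image.1 (hsc hy)
            simpa using hz'
      have hmem : ∀ m ∈ (cands v k mx A ks s.pts)[i] :: ks, blockSet v m ∈ B := by
        intro m hm
        rcases List.mem_cons.1 hm with rfl | hm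
        · rw [hcb]; exact hb
        · exact hks m hm
      have hsub : ((cands v k mx A ks s.pts)[i] :: ks).map (imgV v s.sib[i]) ⊆ s.rep :: ks := by
        intro m hm
        obtain ⟨m0, hm0, rfl⟩ := List.mem_map.1 hm
        exact himg m0 hm0
      -- the images are as many as the targets, so every target is an image
      have hfin : ∀ m ∈ s.rep :: ks, blockSet v m ∈ (fun b => b.image π) '' B := by
        have h1 : ((s.rep :: ks).toFinset.image (blockSet v)).card ≤
            (((cands v k mx A ks s.pts)[i] :: ks).toFinset.image (blockSet v)).card := by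
          rw [List.toFinset_cons, List.toFinset_cons, Finset.image_insert, Finset.image_insert]
          have hn : blockSet v (cands v k mx A ks s.pts)[i] ∉ ks.toFinset.image (blockSet v) := by
            intro h
            obtain ⟨m, hm, he⟩ := Finset.mem_image.1 h
            obtain ⟨x, hx, hxm⟩ := hunc m (List.mem_toFinset.1 hm)
            have : (⟨x, hlt x hx⟩ : Fin v) ∈ b := hSb (by simp [S, hx])
            rw [← hcb, ← he, mem_blockSet, hxm] at this
            exact Bool.noConfusion this
          rw [Finset.card_insert_of_notMem hn]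
          exact Finset.card_insert_le _ _
        set Src := (((cands v k mx A ks s.pts)[i] :: ks).toFinset.image (blockSet v))
        set Dst := ((s.rep :: ks).toFinset.image (blockSet v))
        have h2 : Src.image (fun m => m.image π) ⊆ Dst := by
          intro d hd
          simp only [Src, Dst, Finset.mem_image, List.mem_toFinset] at hd ⊢
          obtain ⟨_, ⟨m, hm, rfl⟩, rfl⟩ := hd
          exact ⟨_, himg m hm, blockSet_imgV hv m⟩
        have h3 := Finset.eq_of_subset_of_card_le h2
          (by rw [Finset.card_image_of_injective _ hinj]; exact h1)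
        intro m hm
        have : blockSet v m ∈ Dst := Finset.mem_image_of_mem _ (List.mem_toFinset.2 hm)
        rw [← h3] at this
        obtain ⟨d, hd, hdm⟩ := Finset.mem_image.1 this
        obtain ⟨m', hm', rfl⟩ := Finset.mem_image.1 hd
        exact ⟨_, hmem m' (List.mem_toFinset.1 hm'), hdm⟩
      obtain ⟨e, he⟩ := ih _ hrest _ hB' hfin
      refine ⟨π.trans e, ?_⟩
      rw [← he, Set.image_image]
      simp only [Finset.image_image, Equiv.coe_trans]

end CfsgLib.Golay.Path
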