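import Cfsg.Agent.Lib.Golay.PathData

/-!
Kernel checks of the uniqueness paths.
-/

set_option autoImplicit false

namespace CfsgLib.Golay.Path

theorem path11_ok : pathOk 11 4 5 3 [1, 2, 3] model11 [] path11 = true := by decide +kernel

theorem path22_ok : pathOk 22 3 6 2 [0, 2] model22 [] path22 = true := by decide +kernel

theorem model11_ok : model11.Nodup ∧ model11.length = 66 ∧ ∀ m ∈ model11, m < 2 ^ 11 := by
  decide +kernel

theorem model22_ok : model22.Nodup ∧ model22.length = 77 ∧ ∀ m ∈ model22, m < 2 ^ 22 := by
  decide +kernel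

end CfsgLib.Golay.Path
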