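import Cfsg.Agent.Lib.Golay.PathCert

/-!
Generated certificates: uniqueness paths for S(4, 5, 11) and S(3, 6, 22).
-/

set_option autoImplicit false

namespace CfsgLib.Golay.Path

/-- The model blocks of the system on 11 points. -/
def model11 : List ℕ :=
  [
    1456, 992, 1744, 1592, 920, 1864, 1256, 376, 1812, 1700, 1380, 628, 468, 812, 188, 1420, 716,
    1116, 1922, 818, 1634, 1362, 242, 1178, 682, 1322, 458, 602, 422, 662, 1078, 1222, 838, 1550,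
    286, 110, 689, 1825, 849, 1137, 1473, 1673, 425, 1305, 217, 617, 901, 1173, 309, 1605, 229,
    1069, 541, 333, 1187, 403, 1555, 707, 355, 779, 59, 1099, 1287, 551, 87, 143]

/-- Part 0 of the relabellings of step 0. -/
def sib11_0_0 : List (List ℕ) :=
  [
    [0, 1, 2, 3, 7, 4, 5, 6, 8, 9, 10], [0, 1, 2, 3, 4, 7, 5, 6, 8, 9, 10],
    [0, 1, 2, 3, 4, 5, 7, 6, 8, 9, 10], [], [0, 1, 2, 3, 4, 5, 6, 8, 7, 9, 10],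
    [0, 1, 2, 3, 4, 5, 6, 8, 9, 7, 10], [0, 1, 2, 3, 4, 5, 6, 8, 9, 10, 7]]

/-- Step 0 on 11 points. -/
def step11_0 : Step where
  pts := [0, 1, 2, 3]
  rep := 143
  sib := sib11_0_0

/-- Part 0 of the relabellings of step 1. -/
def sib11_1_0 : List (List ℕ) :=
  [
    [0, 1, 2, 3, 4, 6, 5, 7, 8, 9, 10], [], [0, 1, 2, 3, 4, 5, 8, 7, 6, 9, 10],
    [0, 1, 2, 3, 4, 5, 8, 7, 9, 6, 10], [0, 1, 2, 3, 4, 5, 8, 7, 9, 10, 6]]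

/-- Step 1 on 11 points. -/
def step11_1 : Step where
  pts := [0, 1, 2, 4]
  rep := 87
  sib := sib11_1_0

/-- Part 0 of the relabellings of step 2. -/
def sib11_2_0 : List (List ℕ) :=
  [
    [0, 1, 2, 3, 4, 5, 6, 7, 9, 8, 10], [], [0, 1, 2, 3, 4, 5, 6, 7, 8, 10, 9]]

/-- Step 2 on 11 points. -/
def step11_2 : Step where
  pts := [0, 1, 2, 5]
  rep := 551
  sib := sib11_2_0

/-- Part 0 of the relabellings of step 3. -/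
def sib11_3_0 : List (List ℕ) :=
  [
    []]

/-- Step 3 on 11 points. -/
def step11_3 : Step where
  pts := [0, 1, 2, 8]
  rep := 1287
  sib := sib11_3_0

/-- Part 0 of the relabellings of step 4. -/
def sib11_4_0 : List (List ℕ) :=
  [
    [], [0, 1, 2, 3, 4, 8, 6, 7, 5, 10, 9], [0, 1, 2, 3, 4, 9, 6, 7, 8, 5, 10],
    [0, 1, 2, 3, 4, 8, 6, 7, 9, 10, 5]]

/-- Step 4 on 11 points. -/
def step11_4 : Step where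
  pts := [0, 1, 3, 4]
  rep := 59
  sib := sib11_4_0

/-- Part 0 of the relabellings of step 5. -/
def sib11_5_0 : List (List ℕ) :=
  [
    [0, 1, 2, 3, 5, 4, 9, 7, 8, 6, 10], []]

/-- Step 5 on 11 points. -/
def step11_5 : Step where
  pts := [0, 1, 3, 8]
  rep := 779
  sib := sib11_5_0

/-- Part 0 of the relabellings of step 6. -/
def sib11_6_0 : List (List ℕ) :=
  [
    []]

/-- Step 6 on 11 points. -/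
def step11_6 : Step where
  pts := [0, 1, 3, 6]
  rep := 1099
  sib := sib11_6_0

/-- Part 0 of the relabellings of step 7. -/
def sib11_7_0 : List (List ℕ) :=
  [
    []]

/-- Step 7 on 11 points. -/
def step11_7 : Step where
  pts := [0, 1, 4, 8]
  rep := 403
  sib := sib11_7_0

/-- Part 0 of the relabellings of step 8. -/
def sib11_8_0 : List (List ℕ) :=
  [
    []]

/-- Step 8 on 11 points. -/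
def step11_8 : Step where
  pts := [0, 1, 5, 8]
  rep := 355
  sib := sib11_8_0

/-- Part 0 of the relabellings of step 9. -/
def sib11_9_0 : List (List ℕ) :=
  [
    []]

/-- Step 9 on 11 points. -/
def step11_9 : Step where
  pts := [0, 1, 5, 7]
  rep := 1187
  sib := sib11_9_0

/-- Part 0 of the relabellings of step 10. -/
def sib11_10_0 : List (List ℕ) :=
  [
    []]

/-- Step 10 on 11 points. -/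
def step11_10 : Step where
  pts := [0, 1, 6, 7]
  rep := 707
  sib := sib11_10_0

/-- Part 0 of the relabellings of step 11. -/
def sib11_11_0 : List (List ℕ) :=
  [
    []]

/-- Step 11 on 11 points. -/
def step11_11 : Step where
  pts := [0, 1, 4, 9]
  rep := 1555
  sib := sib11_11_0

/-- Part 0 of the relabellings of step 12. -/
def sib11_12_0 : List (List ℕ) :=
  [
    [0, 1, 2, 9, 3, 8, 7, 5, 4, 10, 6], [], [0, 1, 2, 3, 9, 8, 5, 7, 6, 10, 4]]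

/-- Step 12 on 11 points. -/
def step11_12 : Step where
  pts := [0, 2, 3, 4]
  rep := 541
  sib := sib11_12_0

/-- Part 0 of the relabellings of step 13. -/
def sib11_13_0 : List (List ℕ) :=
  [
    []]

/-- Step 13 on 11 points. -/
def step11_13 : Step where
  pts := [0, 2, 4, 8]
  rep := 309
  sib := sib11_13_0

/-- Part 0 of the relabellings of step 14. -/
def sib11_14_0 : List (List ℕ) :=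
  [
    []]

/-- Step 14 on 11 points. -/
def step11_14 : Step where
  pts := [0, 2, 4, 7]
  rep := 1173
  sib := sib11_14_0

/-- Part 0 of the relabellings of step 15. -/
def sib11_15_0 : List (List ℕ) :=
  [
    []]

/-- Step 15 on 11 points. -/
def step11_15 : Step where
  pts := [0, 3, 4, 7]
  rep := 217
  sib := sib11_15_0

/-- Part 0 of the relabellings of step 16. -/
def sib11_16_0 : List (List ℕ) :=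
  [
    []]

/-- Step 16 on 11 points. -/
def step11_16 : Step where
  pts := [0, 2, 5, 7]
  rep := 229
  sib := sib11_16_0

/-- Part 0 of the relabellings of step 17. -/
def sib11_17_0 : List (List ℕ) :=
  [
    []]

/-- Step 17 on 11 points. -/
def step11_17 : Step where
  pts := [0, 2, 3, 5]
  rep := 1069
  sib := sib11_17_0

/-- Part 0 of the relabellings of step 18. -/
def sib11_18_0 : List (List ℕ) :=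
  [
    []]

/-- Step 18 on 11 points. -/
def step11_18 : Step where
  pts := [0, 2, 3, 6]
  rep := 333
  sib := sib11_18_0

/-- Part 0 of the relabellings of step 19. -/
def sib11_19_0 : List (List ℕ) :=
  [
    []]

/-- Step 19 on 11 points. -/
def step11_19 : Step where
  pts := [0, 3, 5, 6]
  rep := 617
  sib := sib11_19_0

/-- Part 0 of the relabellings of step 20. -/
def sib11_20_0 : List (List ℕ) :=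
  [
    []]

/-- Step 20 on 11 points. -/
def step11_20 : Step where
  pts := [0, 4, 5, 6]
  rep := 1137
  sib := sib11_20_0

/-- Part 0 of the relabellings of step 21. -/
def sib11_21_0 : List (List ℕ) :=
  [
    []]

/-- Step 21 on 11 points. -/
def step11_21 : Step where
  pts := [0, 3, 5, 7]
  rep := 425
  sib := sib11_21_0

/-- Part 0 of the relabellings of step 22. -/
def sib11_22_0 : List (List ℕ) :=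
  [
    []]

/-- Step 22 on 11 points. -/
def step11_22 : Step where
  pts := [0, 4, 5, 7]
  rep := 689
  sib := sib11_22_0

/-- Part 0 of the relabellings of step 23. -/
def sib11_23_0 : List (List ℕ) :=
  [
    []]

/-- Step 23 on 11 points. -/
def step11_23 : Step where
  pts := [0, 3, 4, 8]
  rep := 1305
  sib := sib11_23_0

/-- Part 0 of the relabellings of step 24. -/
def sib11_24_0 : List (List ℕ) :=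
  [
    []]

/-- Step 24 on 11 points. -/
def step11_24 : Step where
  pts := [0, 4, 6, 8]
  rep := 849
  sib := sib11_24_0

/-- Part 0 of the relabellings of step 25. -/
def sib11_25_0 : List (List ℕ) :=
  [
    []]

/-- Step 25 on 11 points. -/
def step11_25 : Step where
  pts := [0, 2, 7, 8]
  rep := 901
  sib := sib11_25_0

/-- Part 0 of the relabellings of step 26. -/
def sib11_26_0 : List (List ℕ) :=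
  [
    []]

/-- Step 26 on 11 points. -/
def step11_26 : Step where
  pts := [0, 6, 7, 8]
  rep := 1473
  sib := sib11_26_0

/-- Part 0 of the relabellings of step 27. -/
def sib11_27_0 : List (List ℕ) :=
  [
    []]

/-- Step 27 on 11 points. -/
def step11_27 : Step where
  pts := [0, 2, 6, 9]
  rep := 1605
  sib := sib11_27_0

/-- Part 0 of the relabellings of step 28. -/
def sib11_28_0 : List (List ℕ) :=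
  [
    []]

/-- Step 28 on 11 points. -/
def step11_28 : Step where
  pts := [0, 3, 7, 9]
  rep := 1673
  sib := sib11_28_0

/-- Part 0 of the relabellings of step 29. -/
def sib11_29_0 : List (List ℕ) :=
  [
    []]

/-- Step 29 on 11 points. -/
def step11_29 : Step where
  pts := [0, 5, 8, 9]
  rep := 1825
  sib := sib11_29_0

/-- Part 0 of the relabellings of step 30. -/
def sib11_30_0 : List (List ℕ) :=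
  [
    [], [0, 1, 2, 4, 3, 5, 7, 6, 10, 9, 8]]

/-- Step 30 on 11 points. -/
def step11_30 : Step where
  pts := [1, 2, 3, 4]
  rep := 286
  sib := sib11_30_0

/-- Part 0 of the relabellings of step 31. -/
def sib11_31_0 : List (List ℕ) :=
  [
    []]

/-- Step 31 on 11 points. -/
def step11_31 : Step where
  pts := [1, 2, 3, 5]
  rep := 110
  sib := sib11_31_0

/-- Part 0 of the relabellings of step 32. -/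
def sib11_32_0 : List (List ℕ) :=
  [
    []]

/-- Step 32 on 11 points. -/
def step11_32 : Step where
  pts := [2, 3, 4, 5]
  rep := 188
  sib := sib11_32_0

/-- Part 0 of the relabellings of step 33. -/
def sib11_33_0 : List (List ℕ) :=
  [
    []]

/-- Step 33 on 11 points. -/
def step11_33 : Step where
  pts := [1, 2, 4, 5]
  rep := 1078
  sib := sib11_33_0

/-- Part 0 of the relabellings of step 34. -/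
def sib11_34_0 : List (List ℕ) :=
  [
    []]

/-- Step 34 on 11 points. -/
def step11_34 : Step where
  pts := [1, 3, 4, 6]
  rep := 602
  sib := sib11_34_0

/-- Part 0 of the relabellings of step 35. -/
def sib11_35_0 : List (List ℕ) :=
  [
    []]

/-- Step 35 on 11 points. -/
def step11_35 : Step where
  pts := [2, 3, 4, 6]
  rep := 1116
  sib := sib11_35_0

/-- Part 0 of the relabellings of step 36. -/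
def sib11_36_0 : List (List ℕ) :=
  [
    []]

/-- Step 36 on 11 points. -/
def step11_36 : Step where
  pts := [1, 4, 5, 6]
  rep := 242
  sib := sib11_36_0

/-- Part 0 of the relabellings of step 37. -/
def sib11_37_0 : List (List ℕ) :=
  [
    []]

/-- Step 37 on 11 points. -/
def step11_37 : Step where
  pts := [2, 4, 5, 6]
  rep := 628
  sib := sib11_37_0

/-- Part 0 of the relabellings of step 38. -/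
def sib11_38_0 : List (List ℕ) :=
  [
    []]

/-- Step 38 on 11 points. -/
def step11_38 : Step where
  pts := [3, 4, 5, 6]
  rep := 376
  sib := sib11_38_0

/-- Part 0 of the relabellings of step 39. -/
def sib11_39_0 : List (List ℕ) :=
  [
    []]

/-- Step 39 on 11 points. -/
def step11_39 : Step where
  pts := [1, 2, 4, 7]
  rep := 662
  sib := sib11_39_0

/-- Part 0 of the relabellings of step 40. -/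
def sib11_40_0 : List (List ℕ) :=
  [
    []]

/-- Step 40 on 11 points. -/
def step11_40 : Step where
  pts := [1, 3, 4, 7]
  rep := 1178
  sib := sib11_40_0

/-- Part 0 of the relabellings of step 41. -/
def sib11_41_0 : List (List ℕ) :=
  [
    []]

/-- Step 41 on 11 points. -/
def step11_41 : Step where
  pts := [1, 2, 5, 7]
  rep := 422
  sib := sib11_41_0

/-- Part 0 of the relabellings of step 42. -/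
def sib11_42_0 : List (List ℕ) :=
  [
    []]

/-- Step 42 on 11 points. -/
def step11_42 : Step where
  pts := [1, 3, 5, 7]
  rep := 682
  sib := sib11_42_0

/-- Part 0 of the relabellings of step 43. -/
def sib11_43_0 : List (List ℕ) :=
  [
    []]

/-- Step 43 on 11 points. -/
def step11_43 : Step where
  pts := [1, 2, 6, 7]
  rep := 1222
  sib := sib11_43_0

/-- Part 0 of the relabellings of step 44. -/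
def sib11_44_0 : List (List ℕ) :=
  [
    []]

/-- Step 44 on 11 points. -/
def step11_44 : Step where
  pts := [1, 3, 6, 7]
  rep := 458
  sib := sib11_44_0

/-- Part 0 of the relabellings of step 45. -/
def sib11_45_0 : List (List ℕ) :=
  [
    []]

/-- Step 45 on 11 points. -/
def step11_45 : Step where
  pts := [2, 3, 6, 7]
  rep := 716
  sib := sib11_45_0

/-- Part 0 of the relabellings of step 46. -/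
def sib11_46_0 : List (List ℕ) :=
  [
    []]

/-- Step 46 on 11 points. -/
def step11_46 : Step where
  pts := [2, 4, 6, 7]
  rep := 468
  sib := sib11_46_0

/-- Part 0 of the relabellings of step 47. -/
def sib11_47_0 : List (List ℕ) :=
  [
    []]

/-- Step 47 on 11 points. -/
def step11_47 : Step where
  pts := [3, 5, 6, 7]
  rep := 1256
  sib := sib11_47_0

/-- Part 0 of the relabellings of step 48. -/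
def sib11_48_0 : List (List ℕ) :=
  [
    []]

/-- Step 48 on 11 points. -/
def step11_48 : Step where
  pts := [1, 3, 5, 8]
  rep := 1322
  sib := sib11_48_0

/-- Part 0 of the relabellings of step 49. -/
def sib11_49_0 : List (List ℕ) :=
  [
    []]

/-- Step 49 on 11 points. -/
def step11_49 : Step where
  pts := [2, 3, 5, 8]
  rep := 812
  sib := sib11_49_0

/-- Part 0 of the relabellings of step 50. -/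
def sib11_50_0 : List (List ℕ) :=
  [
    []]

/-- Step 50 on 11 points. -/
def step11_50 : Step where
  pts := [1, 4, 5, 8]
  rep := 818
  sib := sib11_50_0

/-- Part 0 of the relabellings of step 51. -/
def sib11_51_0 : List (List ℕ) :=
  [
    []]

/-- Step 51 on 11 points. -/
def step11_51 : Step where
  pts := [1, 2, 6, 8]
  rep := 838
  sib := sib11_51_0

/-- Part 0 of the relabellings of step 52. -/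
def sib11_52_0 : List (List ℕ) :=
  [
    []]

/-- Step 52 on 11 points. -/
def step11_52 : Step where
  pts := [1, 4, 6, 8]
  rep := 1362
  sib := sib11_52_0

/-- Part 0 of the relabellings of step 53. -/
def sib11_53_0 : List (List ℕ) :=
  [
    []]

/-- Step 53 on 11 points. -/
def step11_53 : Step where
  pts := [2, 5, 6, 8]
  rep := 1380
  sib := sib11_53_0

/-- Part 0 of the relabellings of step 54. -/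
def sib11_54_0 : List (List ℕ) :=
  [
    []]

/-- Step 54 on 11 points. -/
def step11_54 : Step where
  pts := [2, 3, 7, 8]
  rep := 1420
  sib := sib11_54_0

/-- Part 0 of the relabellings of step 55. -/
def sib11_55_0 : List (List ℕ) :=
  [
    []]

/-- Step 55 on 11 points. -/
def step11_55 : Step where
  pts := [3, 4, 7, 8]
  rep := 920
  sib := sib11_55_0

/-- Part 0 of the relabellings of step 56. -/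
def sib11_56_0 : List (List ℕ) :=
  [
    []]

/-- Step 56 on 11 points. -/
def step11_56 : Step where
  pts := [4, 5, 7, 8]
  rep := 1456
  sib := sib11_56_0

/-- Part 0 of the relabellings of step 57. -/
def sib11_57_0 : List (List ℕ) :=
  [
    []]

/-- Step 57 on 11 points. -/
def step11_57 : Step where
  pts := [5, 6, 7, 8]
  rep := 992
  sib := sib11_57_0

/-- Part 0 of the relabellings of step 58. -/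
def sib11_58_0 : List (List ℕ) :=
  [
    []]

/-- Step 58 on 11 points. -/
def step11_58 : Step where
  pts := [1, 2, 3, 9]
  rep := 1550
  sib := sib11_58_0

/-- Part 0 of the relabellings of step 59. -/
def sib11_59_0 : List (List ℕ) :=
  [
    []]

/-- Step 59 on 11 points. -/
def step11_59 : Step where
  pts := [3, 4, 5, 9]
  rep := 1592
  sib := sib11_59_0

/-- Part 0 of the relabellings of step 60. -/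
def sib11_60_0 : List (List ℕ) :=
  [
    []]

/-- Step 60 on 11 points. -/
def step11_60 : Step where
  pts := [1, 5, 6, 9]
  rep := 1634
  sib := sib11_60_0

/-- Part 0 of the relabellings of step 61. -/
def sib11_61_0 : List (List ℕ) :=
  [
    []]

/-- Step 61 on 11 points. -/
def step11_61 : Step where
  pts := [2, 5, 7, 9]
  rep := 1700
  sib := sib11_61_0

/-- Part 0 of the relabellings of step 62. -/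
def sib11_62_0 : List (List ℕ) :=
  [
    []]

/-- Step 62 on 11 points. -/
def step11_62 : Step where
  pts := [4, 6, 7, 9]
  rep := 1744
  sib := sib11_62_0

/-- Part 0 of the relabellings of step 63. -/
def sib11_63_0 : List (List ℕ) :=
  [
    []]

/-- Step 63 on 11 points. -/
def step11_63 : Step where
  pts := [2, 4, 8, 9]
  rep := 1812
  sib := sib11_63_0

/-- Part 0 of the relabellings of step 64. -/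
def sib11_64_0 : List (List ℕ) :=
  [
    []]

/-- Step 64 on 11 points. -/
def step11_64 : Step where
  pts := [3, 6, 8, 9]
  rep := 1864
  sib := sib11_64_0

/-- Part 0 of the relabellings of step 65. -/
def sib11_65_0 : List (List ℕ) :=
  [
    []]

/-- Step 65 on 11 points. -/
def step11_65 : Step where
  pts := [1, 7, 8, 9]
  rep := 1922
  sib := sib11_65_0

/-- The path on 11 points. -/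
def path11 : List Step :=
  [
    step11_0, step11_1, step11_2, step11_3, step11_4, step11_5, step11_6, step11_7, step11_8,
    step11_9, step11_10, step11_11, step11_12, step11_13, step11_14, step11_15, step11_16,
    step11_17, step11_18, step11_19, step11_20, step11_21, step11_22, step11_23, step11_24,
    step11_25, step11_26, step11_27, step11_28, step11_29, step11_30, step11_31, step11_32,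
    step11_33, step11_34, step11_35, step11_36, step11_37, step11_38, step11_39, step11_40,
    step11_41, step11_42, step11_43, step11_44, step11_45, step11_46, step11_47, step11_48,
    step11_49, step11_50, step11_51, step11_52, step11_53, step11_54, step11_55, step11_56,
    step11_57, step11_58, step11_59, step11_60, step11_61, step11_62, step11_63, step11_64,
    step11_65]

/-- The model blocks of the system on 22 points. -/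
def model22 : List ℕ :=
  [
    2336768, 1786368, 2932800, 1321536, 2366496, 1611792, 2126352, 1066096, 929800, 88136,
    623656, 3473432, 164440, 46400, 551200, 3179296, 459104, 788240, 2245896, 365184, 3281088,
    140960, 411792, 598224, 1106056, 2624136, 1117568, 4536, 353284, 658500, 184356, 68148,
    1054220, 2105452, 2691332, 1188116, 297228, 1835172, 2131092, 17348, 3679234, 52738, 528994,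
    201746, 303154, 1181738, 1331458, 2099538, 74506, 2179234, 263370, 688514, 2490886, 1146950,
    540702, 14470, 1475585, 2164289, 1126433, 2752561, 279081, 11289, 137985, 114961, 1573193,
    545921, 35041, 2367873, 3164165, 565765, 266325, 196749, 854019, 155715, 2134027, 1049235,
    1319]

/-- Part 0 of the relabellings of step 0. -/
def sib22_0_0 : List (List ℕ) :=
  [
    [0, 1, 2, 5, 8, 10, 3, 4, 6, 7, 9, 11, 12, 13, 14, 15, 16, 17, 18, 19, 20, 21],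
    [0, 1, 2, 5, 8, 3, 10, 4, 6, 7, 9, 11, 12, 13, 14, 15, 16, 17, 18, 19, 20, 21],
    [0, 1, 2, 5, 8, 3, 4, 10, 6, 7, 9, 11, 12, 13, 14, 15, 16, 17, 18, 19, 20, 21],
    [0, 1, 2, 5, 8, 3, 4, 6, 10, 7, 9, 11, 12, 13, 14, 15, 16, 17, 18, 19, 20, 21],
    [0, 1, 2, 5, 8, 3, 4, 6, 7, 10, 9, 11, 12, 13, 14, 15, 16, 17, 18, 19, 20, 21],
    [0, 1, 2, 5, 8, 3, 4, 6, 7, 9, 10, 11, 12, 13, 14, 15, 16, 17, 18, 19, 20, 21],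
    [0, 1, 2, 5, 8, 3, 4, 6, 7, 9, 11, 10, 12, 13, 14, 15, 16, 17, 18, 19, 20, 21],
    [0, 1, 2, 5, 8, 3, 4, 6, 7, 9, 11, 12, 10, 13, 14, 15, 16, 17, 18, 19, 20, 21],
    [0, 1, 2, 5, 8, 3, 4, 6, 7, 9, 11, 12, 13, 10, 14, 15, 16, 17, 18, 19, 20, 21],
    [0, 1, 2, 5, 8, 3, 4, 6, 7, 9, 11, 12, 13, 14, 10, 15, 16, 17, 18, 19, 20, 21],
    [0, 1, 2, 5, 8, 3, 4, 6, 7, 9, 11, 12, 13, 14, 15, 10, 16, 17, 18, 19, 20, 21],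
    [0, 1, 2, 5, 8, 3, 4, 6, 7, 9, 11, 12, 13, 14, 15, 16, 10, 17, 18, 19, 20, 21],
    [0, 1, 2, 5, 8, 3, 4, 6, 7, 9, 11, 12, 13, 14, 15, 16, 17, 10, 18, 19, 20, 21],
    [0, 1, 2, 5, 8, 3, 4, 6, 7, 9, 11, 12, 13, 14, 15, 16, 17, 18, 10, 19, 20, 21],
    [0, 1, 2, 5, 8, 3, 4, 6, 7, 9, 11, 12, 13, 14, 15, 16, 17, 18, 19, 10, 20, 21],
    [0, 1, 2, 5, 8, 3, 4, 6, 7, 9, 11, 12, 13, 14, 15, 16, 17, 18, 19, 20, 10, 21],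
    [0, 1, 2, 5, 8, 3, 4, 6, 7, 9, 11, 12, 13, 14, 15, 16, 17, 18, 19, 20, 21, 10],
    [0, 1, 2, 5, 3, 8, 10, 4, 6, 7, 9, 11, 12, 13, 14, 15, 16, 17, 18, 19, 20, 21],
    [0, 1, 2, 5, 3, 8, 4, 10, 6, 7, 9, 11, 12, 13, 14, 15, 16, 17, 18, 19, 20, 21],
    [0, 1, 2, 5, 3, 8, 4, 6, 10, 7, 9, 11, 12, 13, 14, 15, 16, 17, 18, 19, 20, 21],
    [0, 1, 2, 5, 3, 8, 4, 6, 7, 10, 9, 11, 12, 13, 14, 15, 16, 17, 18, 19, 20, 21],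
    [0, 1, 2, 5, 3, 8, 4, 6, 7, 9, 10, 11, 12, 13, 14, 15, 16, 17, 18, 19, 20, 21],
    [0, 1, 2, 5, 3, 8, 4, 6, 7, 9, 11, 10, 12, 13, 14, 15, 16, 17, 18, 19, 20, 21],
    [0, 1, 2, 5, 3, 8, 4, 6, 7, 9, 11, 12, 10, 13, 14, 15, 16, 17, 18, 19, 20, 21],
    [0, 1, 2, 5, 3, 8, 4, 6, 7, 9, 11, 12, 13, 10, 14, 15, 16, 17, 18, 19, 20, 21],
    [0, 1, 2, 5, 3, 8, 4, 6, 7, 9, 11, 12, 13, 14, 10, 15, 16, 17, 18, 19, 20, 21],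
    [0, 1, 2, 5, 3, 8, 4, 6, 7, 9, 11, 12, 13, 14, 15, 10, 16, 17, 18, 19, 20, 21],
    [0, 1, 2, 5, 3, 8, 4, 6, 7, 9, 11, 12, 13, 14, 15, 16, 10, 17, 18, 19, 20, 21],
    [0, 1, 2, 5, 3, 8, 4, 6, 7, 9, 11, 12, 13, 14, 15, 16, 17, 10, 18, 19, 20, 21],
    [0, 1, 2, 5, 3, 8, 4, 6, 7, 9, 11, 12, 13, 14, 15, 16, 17, 18, 10, 19, 20, 21],
    [0, 1, 2, 5, 3, 8, 4, 6, 7, 9, 11, 12, 13, 14, 15, 16, 17, 18, 19, 10, 20, 21],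
    [0, 1, 2, 5, 3, 8, 4, 6, 7, 9, 11, 12, 13, 14, 15, 16, 17, 18, 19, 20, 10, 21],
    [0, 1, 2, 5, 3, 8, 4, 6, 7, 9, 11, 12, 13, 14, 15, 16, 17, 18, 19, 20, 21, 10],
    [0, 1, 2, 5, 3, 4, 8, 10, 6, 7, 9, 11, 12, 13, 14, 15, 16, 17, 18, 19, 20, 21],
    [0, 1, 2, 5, 3, 4, 8, 6, 10, 7, 9, 11, 12, 13, 14, 15, 16, 17, 18, 19, 20, 21],
    [0, 1, 2, 5, 3, 4, 8, 6, 7, 10, 9, 11, 12, 13, 14, 15, 16, 17, 18, 19, 20, 21],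
    [0, 1, 2, 5, 3, 4, 8, 6, 7, 9, 10, 11, 12, 13, 14, 15, 16, 17, 18, 19, 20, 21],
    [0, 1, 2, 5, 3, 4, 8, 6, 7, 9, 11, 10, 12, 13, 14, 15, 16, 17, 18, 19, 20, 21],
    [0, 1, 2, 5, 3, 4, 8, 6, 7, 9, 11, 12, 10, 13, 14, 15, 16, 17, 18, 19, 20, 21],
    [0, 1, 2, 5, 3, 4, 8, 6, 7, 9, 11, 12, 13, 10, 14, 15, 16, 17, 18, 19, 20, 21],
    [0, 1, 2, 5, 3, 4, 8, 6, 7, 9, 11, 12, 13, 14, 10, 15, 16, 17, 18, 19, 20, 21],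
    [0, 1, 2, 5, 3, 4, 8, 6, 7, 9, 11, 12, 13, 14, 15, 10, 16, 17, 18, 19, 20, 21],
    [0, 1, 2, 5, 3, 4, 8, 6, 7, 9, 11, 12, 13, 14, 15, 16, 10, 17, 18, 19, 20, 21],
    [0, 1, 2, 5, 3, 4, 8, 6, 7, 9, 11, 12, 13, 14, 15, 16, 17, 10, 18, 19, 20, 21],
    [0, 1, 2, 5, 3, 4, 8, 6, 7, 9, 11, 12, 13, 14, 15, 16, 17, 18, 10, 19, 20, 21],
    [0, 1, 2, 5, 3, 4, 8, 6, 7, 9, 11, 12, 13, 14, 15, 16, 17, 18, 19, 10, 20, 21],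
    [0, 1, 2, 5, 3, 4, 8, 6, 7, 9, 11, 12, 13, 14, 15, 16, 17, 18, 19, 20, 10, 21],
    [0, 1, 2, 5, 3, 4, 8, 6, 7, 9, 11, 12, 13, 14, 15, 16, 17, 18, 19, 20, 21, 10],
    [0, 1, 2, 5, 3, 4, 6, 8, 10, 7, 9, 11, 12, 13, 14, 15, 16, 17, 18, 19, 20, 21],
    [0, 1, 2, 5, 3, 4, 6, 8, 7, 10, 9, 11, 12, 13, 14, 15, 16, 17, 18, 19, 20, 21],
    [0, 1, 2, 5, 3, 4, 6, 8, 7, 9, 10, 11, 12, 13, 14, 15, 16, 17, 18, 19, 20, 21],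
    [0, 1, 2, 5, 3, 4, 6, 8, 7, 9, 11, 10, 12, 13, 14, 15, 16, 17, 18, 19, 20, 21],
    [0, 1, 2, 5, 3, 4, 6, 8, 7, 9, 11, 12, 10, 13, 14, 15, 16, 17, 18, 19, 20, 21],
    [0, 1, 2, 5, 3, 4, 6, 8, 7, 9, 11, 12, 13, 10, 14, 15, 16, 17, 18, 19, 20, 21],
    [0, 1, 2, 5, 3, 4, 6, 8, 7, 9, 11, 12, 13, 14, 10, 15, 16, 17, 18, 19, 20, 21],
    [0, 1, 2, 5, 3, 4, 6, 8, 7, 9, 11, 12, 13, 14, 15, 10, 16, 17, 18, 19, 20, 21],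
    [0, 1, 2, 5, 3, 4, 6, 8, 7, 9, 11, 12, 13, 14, 15, 16, 10, 17, 18, 19, 20, 21],
    [0, 1, 2, 5, 3, 4, 6, 8, 7, 9, 11, 12, 13, 14, 15, 16, 17, 10, 18, 19, 20, 21],
    [0, 1, 2, 5, 3, 4, 6, 8, 7, 9, 11, 12, 13, 14, 15, 16, 17, 18, 10, 19, 20, 21],
    [0, 1, 2, 5, 3, 4, 6, 8, 7, 9, 11, 12, 13, 14, 15, 16, 17, 18, 19, 10, 20, 21]]

/-- Part 1 of the relabellings of step 0. -/
def sib22_0_1 : List (List ℕ) :=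
  [
    [0, 1, 2, 5, 3, 4, 6, 8, 7, 9, 11, 12, 13, 14, 15, 16, 17, 18, 19, 20, 10, 21],
    [0, 1, 2, 5, 3, 4, 6, 8, 7, 9, 11, 12, 13, 14, 15, 16, 17, 18, 19, 20, 21, 10],
    [0, 1, 2, 5, 3, 4, 6, 7, 8, 10, 9, 11, 12, 13, 14, 15, 16, 17, 18, 19, 20, 21],
    [0, 1, 2, 5, 3, 4, 6, 7, 8, 9, 10, 11, 12, 13, 14, 15, 16, 17, 18, 19, 20, 21],
    [0, 1, 2, 5, 3, 4, 6, 7, 8, 9, 11, 10, 12, 13, 14, 15, 16, 17, 18, 19, 20, 21],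
    [0, 1, 2, 5, 3, 4, 6, 7, 8, 9, 11, 12, 10, 13, 14, 15, 16, 17, 18, 19, 20, 21],
    [0, 1, 2, 5, 3, 4, 6, 7, 8, 9, 11, 12, 13, 10, 14, 15, 16, 17, 18, 19, 20, 21],
    [0, 1, 2, 5, 3, 4, 6, 7, 8, 9, 11, 12, 13, 14, 10, 15, 16, 17, 18, 19, 20, 21],
    [0, 1, 2, 5, 3, 4, 6, 7, 8, 9, 11, 12, 13, 14, 15, 10, 16, 17, 18, 19, 20, 21],
    [0, 1, 2, 5, 3, 4, 6, 7, 8, 9, 11, 12, 13, 14, 15, 16, 10, 17, 18, 19, 20, 21],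
    [0, 1, 2, 5, 3, 4, 6, 7, 8, 9, 11, 12, 13, 14, 15, 16, 17, 10, 18, 19, 20, 21],
    [0, 1, 2, 5, 3, 4, 6, 7, 8, 9, 11, 12, 13, 14, 15, 16, 17, 18, 10, 19, 20, 21],
    [0, 1, 2, 5, 3, 4, 6, 7, 8, 9, 11, 12, 13, 14, 15, 16, 17, 18, 19, 10, 20, 21],
    [0, 1, 2, 5, 3, 4, 6, 7, 8, 9, 11, 12, 13, 14, 15, 16, 17, 18, 19, 20, 10, 21],
    [0, 1, 2, 5, 3, 4, 6, 7, 8, 9, 11, 12, 13, 14, 15, 16, 17, 18, 19, 20, 21, 10],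
    [0, 1, 2, 5, 3, 4, 6, 7, 9, 8, 10, 11, 12, 13, 14, 15, 16, 17, 18, 19, 20, 21],
    [0, 1, 2, 5, 3, 4, 6, 7, 9, 8, 11, 10, 12, 13, 14, 15, 16, 17, 18, 19, 20, 21],
    [0, 1, 2, 5, 3, 4, 6, 7, 9, 8, 11, 12, 10, 13, 14, 15, 16, 17, 18, 19, 20, 21],
    [0, 1, 2, 5, 3, 4, 6, 7, 9, 8, 11, 12, 13, 10, 14, 15, 16, 17, 18, 19, 20, 21],
    [0, 1, 2, 5, 3, 4, 6, 7, 9, 8, 11, 12, 13, 14, 10, 15, 16, 17, 18, 19, 20, 21],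
    [0, 1, 2, 5, 3, 4, 6, 7, 9, 8, 11, 12, 13, 14, 15, 10, 16, 17, 18, 19, 20, 21],
    [0, 1, 2, 5, 3, 4, 6, 7, 9, 8, 11, 12, 13, 14, 15, 16, 10, 17, 18, 19, 20, 21],
    [0, 1, 2, 5, 3, 4, 6, 7, 9, 8, 11, 12, 13, 14, 15, 16, 17, 10, 18, 19, 20, 21],
    [0, 1, 2, 5, 3, 4, 6, 7, 9, 8, 11, 12, 13, 14, 15, 16, 17, 18, 10, 19, 20, 21],
    [0, 1, 2, 5, 3, 4, 6, 7, 9, 8, 11, 12, 13, 14, 15, 16, 17, 18, 19, 10, 20, 21],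
    [0, 1, 2, 5, 3, 4, 6, 7, 9, 8, 11, 12, 13, 14, 15, 16, 17, 18, 19, 20, 10, 21],
    [0, 1, 2, 5, 3, 4, 6, 7, 9, 8, 11, 12, 13, 14, 15, 16, 17, 18, 19, 20, 21, 10],
    [0, 1, 2, 5, 3, 4, 6, 7, 9, 11, 8, 10, 12, 13, 14, 15, 16, 17, 18, 19, 20, 21],
    [0, 1, 2, 5, 3, 4, 6, 7, 9, 11, 8, 12, 10, 13, 14, 15, 16, 17, 18, 19, 20, 21],
    [0, 1, 2, 5, 3, 4, 6, 7, 9, 11, 8, 12, 13, 10, 14, 15, 16, 17, 18, 19, 20, 21],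
    [0, 1, 2, 5, 3, 4, 6, 7, 9, 11, 8, 12, 13, 14, 10, 15, 16, 17, 18, 19, 20, 21],
    [0, 1, 2, 5, 3, 4, 6, 7, 9, 11, 8, 12, 13, 14, 15, 10, 16, 17, 18, 19, 20, 21],
    [0, 1, 2, 5, 3, 4, 6, 7, 9, 11, 8, 12, 13, 14, 15, 16, 10, 17, 18, 19, 20, 21],
    [0, 1, 2, 5, 3, 4, 6, 7, 9, 11, 8, 12, 13, 14, 15, 16, 17, 10, 18, 19, 20, 21],
    [0, 1, 2, 5, 3, 4, 6, 7, 9, 11, 8, 12, 13, 14, 15, 16, 17, 18, 10, 19, 20, 21],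
    [0, 1, 2, 5, 3, 4, 6, 7, 9, 11, 8, 12, 13, 14, 15, 16, 17, 18, 19, 10, 20, 21],
    [0, 1, 2, 5, 3, 4, 6, 7, 9, 11, 8, 12, 13, 14, 15, 16, 17, 18, 19, 20, 10, 21],
    [0, 1, 2, 5, 3, 4, 6, 7, 9, 11, 8, 12, 13, 14, 15, 16, 17, 18, 19, 20, 21, 10],
    [0, 1, 2, 5, 3, 4, 6, 7, 9, 11, 12, 8, 10, 13, 14, 15, 16, 17, 18, 19, 20, 21],
    [0, 1, 2, 5, 3, 4, 6, 7, 9, 11, 12, 8, 13, 10, 14, 15, 16, 17, 18, 19, 20, 21],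
    [0, 1, 2, 5, 3, 4, 6, 7, 9, 11, 12, 8, 13, 14, 10, 15, 16, 17, 18, 19, 20, 21],
    [0, 1, 2, 5, 3, 4, 6, 7, 9, 11, 12, 8, 13, 14, 15, 10, 16, 17, 18, 19, 20, 21],
    [0, 1, 2, 5, 3, 4, 6, 7, 9, 11, 12, 8, 13, 14, 15, 16, 10, 17, 18, 19, 20, 21],
    [0, 1, 2, 5, 3, 4, 6, 7, 9, 11, 12, 8, 13, 14, 15, 16, 17, 10, 18, 19, 20, 21],
    [0, 1, 2, 5, 3, 4, 6, 7, 9, 11, 12, 8, 13, 14, 15, 16, 17, 18, 10, 19, 20, 21],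
    [0, 1, 2, 5, 3, 4, 6, 7, 9, 11, 12, 8, 13, 14, 15, 16, 17, 18, 19, 10, 20, 21],
    [0, 1, 2, 5, 3, 4, 6, 7, 9, 11, 12, 8, 13, 14, 15, 16, 17, 18, 19, 20, 10, 21],
    [0, 1, 2, 5, 3, 4, 6, 7, 9, 11, 12, 8, 13, 14, 15, 16, 17, 18, 19, 20, 21, 10],
    [0, 1, 2, 5, 3, 4, 6, 7, 9, 11, 12, 13, 8, 10, 14, 15, 16, 17, 18, 19, 20, 21],
    [0, 1, 2, 5, 3, 4, 6, 7, 9, 11, 12, 13, 8, 14, 10, 15, 16, 17, 18, 19, 20, 21],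
    [0, 1, 2, 5, 3, 4, 6, 7, 9, 11, 12, 13, 8, 14, 15, 10, 16, 17, 18, 19, 20, 21],
    [0, 1, 2, 5, 3, 4, 6, 7, 9, 11, 12, 13, 8, 14, 15, 16, 10, 17, 18, 19, 20, 21],
    [0, 1, 2, 5, 3, 4, 6, 7, 9, 11, 12, 13, 8, 14, 15, 16, 17, 10, 18, 19, 20, 21],
    [0, 1, 2, 5, 3, 4, 6, 7, 9, 11, 12, 13, 8, 14, 15, 16, 17, 18, 10, 19, 20, 21],
    [0, 1, 2, 5, 3, 4, 6, 7, 9, 11, 12, 13, 8, 14, 15, 16, 17, 18, 19, 10, 20, 21],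
    [0, 1, 2, 5, 3, 4, 6, 7, 9, 11, 12, 13, 8, 14, 15, 16, 17, 18, 19, 20, 10, 21],
    [0, 1, 2, 5, 3, 4, 6, 7, 9, 11, 12, 13, 8, 14, 15, 16, 17, 18, 19, 20, 21, 10],
    [0, 1, 2, 5, 3, 4, 6, 7, 9, 11, 12, 13, 14, 8, 10, 15, 16, 17, 18, 19, 20, 21],
    [0, 1, 2, 5, 3, 4, 6, 7, 9, 11, 12, 13, 14, 8, 15, 10, 16, 17, 18, 19, 20, 21],
    [0, 1, 2, 5, 3, 4, 6, 7, 9, 11, 12, 13, 14, 8, 15, 16, 10, 17, 18, 19, 20, 21]]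

/-- Part 2 of the relabellings of step 0. -/
def sib22_0_2 : List (List ℕ) :=
  [
    [0, 1, 2, 5, 3, 4, 6, 7, 9, 11, 12, 13, 14, 8, 15, 16, 17, 10, 18, 19, 20, 21],
    [0, 1, 2, 5, 3, 4, 6, 7, 9, 11, 12, 13, 14, 8, 15, 16, 17, 18, 10, 19, 20, 21],
    [0, 1, 2, 5, 3, 4, 6, 7, 9, 11, 12, 13, 14, 8, 15, 16, 17, 18, 19, 10, 20, 21],
    [0, 1, 2, 5, 3, 4, 6, 7, 9, 11, 12, 13, 14, 8, 15, 16, 17, 18, 19, 20, 10, 21],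
    [0, 1, 2, 5, 3, 4, 6, 7, 9, 11, 12, 13, 14, 8, 15, 16, 17, 18, 19, 20, 21, 10],
    [0, 1, 2, 5, 3, 4, 6, 7, 9, 11, 12, 13, 14, 15, 8, 10, 16, 17, 18, 19, 20, 21],
    [0, 1, 2, 5, 3, 4, 6, 7, 9, 11, 12, 13, 14, 15, 8, 16, 10, 17, 18, 19, 20, 21],
    [0, 1, 2, 5, 3, 4, 6, 7, 9, 11, 12, 13, 14, 15, 8, 16, 17, 10, 18, 19, 20, 21],
    [0, 1, 2, 5, 3, 4, 6, 7, 9, 11, 12, 13, 14, 15, 8, 16, 17, 18, 10, 19, 20, 21],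
    [0, 1, 2, 5, 3, 4, 6, 7, 9, 11, 12, 13, 14, 15, 8, 16, 17, 18, 19, 10, 20, 21],
    [0, 1, 2, 5, 3, 4, 6, 7, 9, 11, 12, 13, 14, 15, 8, 16, 17, 18, 19, 20, 10, 21],
    [0, 1, 2, 5, 3, 4, 6, 7, 9, 11, 12, 13, 14, 15, 8, 16, 17, 18, 19, 20, 21, 10],
    [0, 1, 2, 5, 3, 4, 6, 7, 9, 11, 12, 13, 14, 15, 16, 8, 10, 17, 18, 19, 20, 21],
    [0, 1, 2, 5, 3, 4, 6, 7, 9, 11, 12, 13, 14, 15, 16, 8, 17, 10, 18, 19, 20, 21],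
    [0, 1, 2, 5, 3, 4, 6, 7, 9, 11, 12, 13, 14, 15, 16, 8, 17, 18, 10, 19, 20, 21],
    [0, 1, 2, 5, 3, 4, 6, 7, 9, 11, 12, 13, 14, 15, 16, 8, 17, 18, 19, 10, 20, 21],
    [0, 1, 2, 5, 3, 4, 6, 7, 9, 11, 12, 13, 14, 15, 16, 8, 17, 18, 19, 20, 10, 21],
    [0, 1, 2, 5, 3, 4, 6, 7, 9, 11, 12, 13, 14, 15, 16, 8, 17, 18, 19, 20, 21, 10],
    [0, 1, 2, 5, 3, 4, 6, 7, 9, 11, 12, 13, 14, 15, 16, 17, 8, 10, 18, 19, 20, 21],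
    [0, 1, 2, 5, 3, 4, 6, 7, 9, 11, 12, 13, 14, 15, 16, 17, 8, 18, 10, 19, 20, 21],
    [0, 1, 2, 5, 3, 4, 6, 7, 9, 11, 12, 13, 14, 15, 16, 17, 8, 18, 19, 10, 20, 21],
    [0, 1, 2, 5, 3, 4, 6, 7, 9, 11, 12, 13, 14, 15, 16, 17, 8, 18, 19, 20, 10, 21],
    [0, 1, 2, 5, 3, 4, 6, 7, 9, 11, 12, 13, 14, 15, 16, 17, 8, 18, 19, 20, 21, 10],
    [0, 1, 2, 5, 3, 4, 6, 7, 9, 11, 12, 13, 14, 15, 16, 17, 18, 8, 10, 19, 20, 21],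
    [0, 1, 2, 5, 3, 4, 6, 7, 9, 11, 12, 13, 14, 15, 16, 17, 18, 8, 19, 10, 20, 21],
    [0, 1, 2, 5, 3, 4, 6, 7, 9, 11, 12, 13, 14, 15, 16, 17, 18, 8, 19, 20, 10, 21],
    [0, 1, 2, 5, 3, 4, 6, 7, 9, 11, 12, 13, 14, 15, 16, 17, 18, 8, 19, 20, 21, 10],
    [0, 1, 2, 5, 3, 4, 6, 7, 9, 11, 12, 13, 14, 15, 16, 17, 18, 19, 8, 10, 20, 21],
    [0, 1, 2, 5, 3, 4, 6, 7, 9, 11, 12, 13, 14, 15, 16, 17, 18, 19, 8, 20, 10, 21],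
    [0, 1, 2, 5, 3, 4, 6, 7, 9, 11, 12, 13, 14, 15, 16, 17, 18, 19, 8, 20, 21, 10],
    [0, 1, 2, 5, 3, 4, 6, 7, 9, 11, 12, 13, 14, 15, 16, 17, 18, 19, 20, 8, 10, 21],
    [0, 1, 2, 5, 3, 4, 6, 7, 9, 11, 12, 13, 14, 15, 16, 17, 18, 19, 20, 8, 21, 10],
    [0, 1, 2, 5, 3, 4, 6, 7, 9, 11, 12, 13, 14, 15, 16, 17, 18, 19, 20, 21, 8, 10],
    [0, 1, 2, 3, 5, 8, 10, 4, 6, 7, 9, 11, 12, 13, 14, 15, 16, 17, 18, 19, 20, 21],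
    [0, 1, 2, 3, 5, 8, 4, 10, 6, 7, 9, 11, 12, 13, 14, 15, 16, 17, 18, 19, 20, 21],
    [0, 1, 2, 3, 5, 8, 4, 6, 10, 7, 9, 11, 12, 13, 14, 15, 16, 17, 18, 19, 20, 21],
    [0, 1, 2, 3, 5, 8, 4, 6, 7, 10, 9, 11, 12, 13, 14, 15, 16, 17, 18, 19, 20, 21],
    [0, 1, 2, 3, 5, 8, 4, 6, 7, 9, 10, 11, 12, 13, 14, 15, 16, 17, 18, 19, 20, 21],
    [0, 1, 2, 3, 5, 8, 4, 6, 7, 9, 11, 10, 12, 13, 14, 15, 16, 17, 18, 19, 20, 21],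
    [0, 1, 2, 3, 5, 8, 4, 6, 7, 9, 11, 12, 10, 13, 14, 15, 16, 17, 18, 19, 20, 21],
    [0, 1, 2, 3, 5, 8, 4, 6, 7, 9, 11, 12, 13, 10, 14, 15, 16, 17, 18, 19, 20, 21],
    [0, 1, 2, 3, 5, 8, 4, 6, 7, 9, 11, 12, 13, 14, 10, 15, 16, 17, 18, 19, 20, 21],
    [0, 1, 2, 3, 5, 8, 4, 6, 7, 9, 11, 12, 13, 14, 15, 10, 16, 17, 18, 19, 20, 21],
    [0, 1, 2, 3, 5, 8, 4, 6, 7, 9, 11, 12, 13, 14, 15, 16, 10, 17, 18, 19, 20, 21],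
    [0, 1, 2, 3, 5, 8, 4, 6, 7, 9, 11, 12, 13, 14, 15, 16, 17, 10, 18, 19, 20, 21],
    [0, 1, 2, 3, 5, 8, 4, 6, 7, 9, 11, 12, 13, 14, 15, 16, 17, 18, 10, 19, 20, 21],
    [0, 1, 2, 3, 5, 8, 4, 6, 7, 9, 11, 12, 13, 14, 15, 16, 17, 18, 19, 10, 20, 21],
    [0, 1, 2, 3, 5, 8, 4, 6, 7, 9, 11, 12, 13, 14, 15, 16, 17, 18, 19, 20, 10, 21],
    [0, 1, 2, 3, 5, 8, 4, 6, 7, 9, 11, 12, 13, 14, 15, 16, 17, 18, 19, 20, 21, 10],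
    [0, 1, 2, 3, 5, 4, 8, 10, 6, 7, 9, 11, 12, 13, 14, 15, 16, 17, 18, 19, 20, 21],
    [0, 1, 2, 3, 5, 4, 8, 6, 10, 7, 9, 11, 12, 13, 14, 15, 16, 17, 18, 19, 20, 21],
    [0, 1, 2, 3, 5, 4, 8, 6, 7, 10, 9, 11, 12, 13, 14, 15, 16, 17, 18, 19, 20, 21],
    [0, 1, 2, 3, 5, 4, 8, 6, 7, 9, 10, 11, 12, 13, 14, 15, 16, 17, 18, 19, 20, 21],
    [0, 1, 2, 3, 5, 4, 8, 6, 7, 9, 11, 10, 12, 13, 14, 15, 16, 17, 18, 19, 20, 21],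
    [0, 1, 2, 3, 5, 4, 8, 6, 7, 9, 11, 12, 10, 13, 14, 15, 16, 17, 18, 19, 20, 21],
    [0, 1, 2, 3, 5, 4, 8, 6, 7, 9, 11, 12, 13, 10, 14, 15, 16, 17, 18, 19, 20, 21],
    [0, 1, 2, 3, 5, 4, 8, 6, 7, 9, 11, 12, 13, 14, 10, 15, 16, 17, 18, 19, 20, 21],
    [0, 1, 2, 3, 5, 4, 8, 6, 7, 9, 11, 12, 13, 14, 15, 10, 16, 17, 18, 19, 20, 21],
    [0, 1, 2, 3, 5, 4, 8, 6, 7, 9, 11, 12, 13, 14, 15, 16, 10, 17, 18, 19, 20, 21],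
    [0, 1, 2, 3, 5, 4, 8, 6, 7, 9, 11, 12, 13, 14, 15, 16, 17, 10, 18, 19, 20, 21]]

/-- Part 3 of the relabellings of step 0. -/
def sib22_0_3 : List (List ℕ) :=
  [
    [0, 1, 2, 3, 5, 4, 8, 6, 7, 9, 11, 12, 13, 14, 15, 16, 17, 18, 10, 19, 20, 21],
    [0, 1, 2, 3, 5, 4, 8, 6, 7, 9, 11, 12, 13, 14, 15, 16, 17, 18, 19, 10, 20, 21],
    [0, 1, 2, 3, 5, 4, 8, 6, 7, 9, 11, 12, 13, 14, 15, 16, 17, 18, 19, 20, 10, 21],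
    [0, 1, 2, 3, 5, 4, 8, 6, 7, 9, 11, 12, 13, 14, 15, 16, 17, 18, 19, 20, 21, 10],
    [0, 1, 2, 3, 5, 4, 6, 8, 10, 7, 9, 11, 12, 13, 14, 15, 16, 17, 18, 19, 20, 21],
    [0, 1, 2, 3, 5, 4, 6, 8, 7, 10, 9, 11, 12, 13, 14, 15, 16, 17, 18, 19, 20, 21],
    [0, 1, 2, 3, 5, 4, 6, 8, 7, 9, 10, 11, 12, 13, 14, 15, 16, 17, 18, 19, 20, 21],
    [0, 1, 2, 3, 5, 4, 6, 8, 7, 9, 11, 10, 12, 13, 14, 15, 16, 17, 18, 19, 20, 21],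
    [0, 1, 2, 3, 5, 4, 6, 8, 7, 9, 11, 12, 10, 13, 14, 15, 16, 17, 18, 19, 20, 21],
    [0, 1, 2, 3, 5, 4, 6, 8, 7, 9, 11, 12, 13, 10, 14, 15, 16, 17, 18, 19, 20, 21],
    [0, 1, 2, 3, 5, 4, 6, 8, 7, 9, 11, 12, 13, 14, 10, 15, 16, 17, 18, 19, 20, 21],
    [0, 1, 2, 3, 5, 4, 6, 8, 7, 9, 11, 12, 13, 14, 15, 10, 16, 17, 18, 19, 20, 21],
    [0, 1, 2, 3, 5, 4, 6, 8, 7, 9, 11, 12, 13, 14, 15, 16, 10, 17, 18, 19, 20, 21],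
    [0, 1, 2, 3, 5, 4, 6, 8, 7, 9, 11, 12, 13, 14, 15, 16, 17, 10, 18, 19, 20, 21],
    [0, 1, 2, 3, 5, 4, 6, 8, 7, 9, 11, 12, 13, 14, 15, 16, 17, 18, 10, 19, 20, 21],
    [0, 1, 2, 3, 5, 4, 6, 8, 7, 9, 11, 12, 13, 14, 15, 16, 17, 18, 19, 10, 20, 21],
    [0, 1, 2, 3, 5, 4, 6, 8, 7, 9, 11, 12, 13, 14, 15, 16, 17, 18, 19, 20, 10, 21],
    [0, 1, 2, 3, 5, 4, 6, 8, 7, 9, 11, 12, 13, 14, 15, 16, 17, 18, 19, 20, 21, 10],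
    [0, 1, 2, 3, 5, 4, 6, 7, 8, 10, 9, 11, 12, 13, 14, 15, 16, 17, 18, 19, 20, 21],
    [0, 1, 2, 3, 5, 4, 6, 7, 8, 9, 10, 11, 12, 13, 14, 15, 16, 17, 18, 19, 20, 21],
    [0, 1, 2, 3, 5, 4, 6, 7, 8, 9, 11, 10, 12, 13, 14, 15, 16, 17, 18, 19, 20, 21],
    [0, 1, 2, 3, 5, 4, 6, 7, 8, 9, 11, 12, 10, 13, 14, 15, 16, 17, 18, 19, 20, 21],
    [0, 1, 2, 3, 5, 4, 6, 7, 8, 9, 11, 12, 13, 10, 14, 15, 16, 17, 18, 19, 20, 21],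
    [0, 1, 2, 3, 5, 4, 6, 7, 8, 9, 11, 12, 13, 14, 10, 15, 16, 17, 18, 19, 20, 21],
    [0, 1, 2, 3, 5, 4, 6, 7, 8, 9, 11, 12, 13, 14, 15, 10, 16, 17, 18, 19, 20, 21],
    [0, 1, 2, 3, 5, 4, 6, 7, 8, 9, 11, 12, 13, 14, 15, 16, 10, 17, 18, 19, 20, 21],
    [0, 1, 2, 3, 5, 4, 6, 7, 8, 9, 11, 12, 13, 14, 15, 16, 17, 10, 18, 19, 20, 21],
    [0, 1, 2, 3, 5, 4, 6, 7, 8, 9, 11, 12, 13, 14, 15, 16, 17, 18, 10, 19, 20, 21],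
    [0, 1, 2, 3, 5, 4, 6, 7, 8, 9, 11, 12, 13, 14, 15, 16, 17, 18, 19, 10, 20, 21],
    [0, 1, 2, 3, 5, 4, 6, 7, 8, 9, 11, 12, 13, 14, 15, 16, 17, 18, 19, 20, 10, 21],
    [0, 1, 2, 3, 5, 4, 6, 7, 8, 9, 11, 12, 13, 14, 15, 16, 17, 18, 19, 20, 21, 10],
    [0, 1, 2, 3, 5, 4, 6, 7, 9, 8, 10, 11, 12, 13, 14, 15, 16, 17, 18, 19, 20, 21],
    [0, 1, 2, 3, 5, 4, 6, 7, 9, 8, 11, 10, 12, 13, 14, 15, 16, 17, 18, 19, 20, 21],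
    [0, 1, 2, 3, 5, 4, 6, 7, 9, 8, 11, 12, 10, 13, 14, 15, 16, 17, 18, 19, 20, 21],
    [0, 1, 2, 3, 5, 4, 6, 7, 9, 8, 11, 12, 13, 10, 14, 15, 16, 17, 18, 19, 20, 21],
    [0, 1, 2, 3, 5, 4, 6, 7, 9, 8, 11, 12, 13, 14, 10, 15, 16, 17, 18, 19, 20, 21],
    [0, 1, 2, 3, 5, 4, 6, 7, 9, 8, 11, 12, 13, 14, 15, 10, 16, 17, 18, 19, 20, 21],
    [0, 1, 2, 3, 5, 4, 6, 7, 9, 8, 11, 12, 13, 14, 15, 16, 10, 17, 18, 19, 20, 21],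
    [0, 1, 2, 3, 5, 4, 6, 7, 9, 8, 11, 12, 13, 14, 15, 16, 17, 10, 18, 19, 20, 21],
    [0, 1, 2, 3, 5, 4, 6, 7, 9, 8, 11, 12, 13, 14, 15, 16, 17, 18, 10, 19, 20, 21],
    [0, 1, 2, 3, 5, 4, 6, 7, 9, 8, 11, 12, 13, 14, 15, 16, 17, 18, 19, 10, 20, 21],
    [0, 1, 2, 3, 5, 4, 6, 7, 9, 8, 11, 12, 13, 14, 15, 16, 17, 18, 19, 20, 10, 21],
    [0, 1, 2, 3, 5, 4, 6, 7, 9, 8, 11, 12, 13, 14, 15, 16, 17, 18, 19, 20, 21, 10],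
    [0, 1, 2, 3, 5, 4, 6, 7, 9, 11, 8, 10, 12, 13, 14, 15, 16, 17, 18, 19, 20, 21],
    [0, 1, 2, 3, 5, 4, 6, 7, 9, 11, 8, 12, 10, 13, 14, 15, 16, 17, 18, 19, 20, 21],
    [0, 1, 2, 3, 5, 4, 6, 7, 9, 11, 8, 12, 13, 10, 14, 15, 16, 17, 18, 19, 20, 21],
    [0, 1, 2, 3, 5, 4, 6, 7, 9, 11, 8, 12, 13, 14, 10, 15, 16, 17, 18, 19, 20, 21],
    [0, 1, 2, 3, 5, 4, 6, 7, 9, 11, 8, 12, 13, 14, 15, 10, 16, 17, 18, 19, 20, 21],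
    [0, 1, 2, 3, 5, 4, 6, 7, 9, 11, 8, 12, 13, 14, 15, 16, 10, 17, 18, 19, 20, 21],
    [0, 1, 2, 3, 5, 4, 6, 7, 9, 11, 8, 12, 13, 14, 15, 16, 17, 10, 18, 19, 20, 21],
    [0, 1, 2, 3, 5, 4, 6, 7, 9, 11, 8, 12, 13, 14, 15, 16, 17, 18, 10, 19, 20, 21],
    [0, 1, 2, 3, 5, 4, 6, 7, 9, 11, 8, 12, 13, 14, 15, 16, 17, 18, 19, 10, 20, 21],
    [0, 1, 2, 3, 5, 4, 6, 7, 9, 11, 8, 12, 13, 14, 15, 16, 17, 18, 19, 20, 10, 21],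
    [0, 1, 2, 3, 5, 4, 6, 7, 9, 11, 8, 12, 13, 14, 15, 16, 17, 18, 19, 20, 21, 10],
    [0, 1, 2, 3, 5, 4, 6, 7, 9, 11, 12, 8, 10, 13, 14, 15, 16, 17, 18, 19, 20, 21],
    [0, 1, 2, 3, 5, 4, 6, 7, 9, 11, 12, 8, 13, 10, 14, 15, 16, 17, 18, 19, 20, 21],
    [0, 1, 2, 3, 5, 4, 6, 7, 9, 11, 12, 8, 13, 14, 10, 15, 16, 17, 18, 19, 20, 21],
    [0, 1, 2, 3, 5, 4, 6, 7, 9, 11, 12, 8, 13, 14, 15, 10, 16, 17, 18, 19, 20, 21],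
    [0, 1, 2, 3, 5, 4, 6, 7, 9, 11, 12, 8, 13, 14, 15, 16, 10, 17, 18, 19, 20, 21],
    [0, 1, 2, 3, 5, 4, 6, 7, 9, 11, 12, 8, 13, 14, 15, 16, 17, 10, 18, 19, 20, 21]]

/-- Part 4 of the relabellings of step 0. -/
def sib22_0_4 : List (List ℕ) :=
  [
    [0, 1, 2, 3, 5, 4, 6, 7, 9, 11, 12, 8, 13, 14, 15, 16, 17, 18, 10, 19, 20, 21],
    [0, 1, 2, 3, 5, 4, 6, 7, 9, 11, 12, 8, 13, 14, 15, 16, 17, 18, 19, 10, 20, 21],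
    [0, 1, 2, 3, 5, 4, 6, 7, 9, 11, 12, 8, 13, 14, 15, 16, 17, 18, 19, 20, 10, 21],
    [0, 1, 2, 3, 5, 4, 6, 7, 9, 11, 12, 8, 13, 14, 15, 16, 17, 18, 19, 20, 21, 10],
    [0, 1, 2, 3, 5, 4, 6, 7, 9, 11, 12, 13, 8, 10, 14, 15, 16, 17, 18, 19, 20, 21],
    [0, 1, 2, 3, 5, 4, 6, 7, 9, 11, 12, 13, 8, 14, 10, 15, 16, 17, 18, 19, 20, 21],
    [0, 1, 2, 3, 5, 4, 6, 7, 9, 11, 12, 13, 8, 14, 15, 10, 16, 17, 18, 19, 20, 21],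
    [0, 1, 2, 3, 5, 4, 6, 7, 9, 11, 12, 13, 8, 14, 15, 16, 10, 17, 18, 19, 20, 21],
    [0, 1, 2, 3, 5, 4, 6, 7, 9, 11, 12, 13, 8, 14, 15, 16, 17, 10, 18, 19, 20, 21],
    [0, 1, 2, 3, 5, 4, 6, 7, 9, 11, 12, 13, 8, 14, 15, 16, 17, 18, 10, 19, 20, 21],
    [0, 1, 2, 3, 5, 4, 6, 7, 9, 11, 12, 13, 8, 14, 15, 16, 17, 18, 19, 10, 20, 21],
    [0, 1, 2, 3, 5, 4, 6, 7, 9, 11, 12, 13, 8, 14, 15, 16, 17, 18, 19, 20, 10, 21],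
    [0, 1, 2, 3, 5, 4, 6, 7, 9, 11, 12, 13, 8, 14, 15, 16, 17, 18, 19, 20, 21, 10],
    [0, 1, 2, 3, 5, 4, 6, 7, 9, 11, 12, 13, 14, 8, 10, 15, 16, 17, 18, 19, 20, 21],
    [0, 1, 2, 3, 5, 4, 6, 7, 9, 11, 12, 13, 14, 8, 15, 10, 16, 17, 18, 19, 20, 21],
    [0, 1, 2, 3, 5, 4, 6, 7, 9, 11, 12, 13, 14, 8, 15, 16, 10, 17, 18, 19, 20, 21],
    [0, 1, 2, 3, 5, 4, 6, 7, 9, 11, 12, 13, 14, 8, 15, 16, 17, 10, 18, 19, 20, 21],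
    [0, 1, 2, 3, 5, 4, 6, 7, 9, 11, 12, 13, 14, 8, 15, 16, 17, 18, 10, 19, 20, 21],
    [0, 1, 2, 3, 5, 4, 6, 7, 9, 11, 12, 13, 14, 8, 15, 16, 17, 18, 19, 10, 20, 21],
    [0, 1, 2, 3, 5, 4, 6, 7, 9, 11, 12, 13, 14, 8, 15, 16, 17, 18, 19, 20, 10, 21],
    [0, 1, 2, 3, 5, 4, 6, 7, 9, 11, 12, 13, 14, 8, 15, 16, 17, 18, 19, 20, 21, 10],
    [0, 1, 2, 3, 5, 4, 6, 7, 9, 11, 12, 13, 14, 15, 8, 10, 16, 17, 18, 19, 20, 21],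
    [0, 1, 2, 3, 5, 4, 6, 7, 9, 11, 12, 13, 14, 15, 8, 16, 10, 17, 18, 19, 20, 21],
    [0, 1, 2, 3, 5, 4, 6, 7, 9, 11, 12, 13, 14, 15, 8, 16, 17, 10, 18, 19, 20, 21],
    [0, 1, 2, 3, 5, 4, 6, 7, 9, 11, 12, 13, 14, 15, 8, 16, 17, 18, 10, 19, 20, 21],
    [0, 1, 2, 3, 5, 4, 6, 7, 9, 11, 12, 13, 14, 15, 8, 16, 17, 18, 19, 10, 20, 21],
    [0, 1, 2, 3, 5, 4, 6, 7, 9, 11, 12, 13, 14, 15, 8, 16, 17, 18, 19, 20, 10, 21],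
    [0, 1, 2, 3, 5, 4, 6, 7, 9, 11, 12, 13, 14, 15, 8, 16, 17, 18, 19, 20, 21, 10],
    [0, 1, 2, 3, 5, 4, 6, 7, 9, 11, 12, 13, 14, 15, 16, 8, 10, 17, 18, 19, 20, 21],
    [0, 1, 2, 3, 5, 4, 6, 7, 9, 11, 12, 13, 14, 15, 16, 8, 17, 10, 18, 19, 20, 21],
    [0, 1, 2, 3, 5, 4, 6, 7, 9, 11, 12, 13, 14, 15, 16, 8, 17, 18, 10, 19, 20, 21],
    [0, 1, 2, 3, 5, 4, 6, 7, 9, 11, 12, 13, 14, 15, 16, 8, 17, 18, 19, 10, 20, 21],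
    [0, 1, 2, 3, 5, 4, 6, 7, 9, 11, 12, 13, 14, 15, 16, 8, 17, 18, 19, 20, 10, 21],
    [0, 1, 2, 3, 5, 4, 6, 7, 9, 11, 12, 13, 14, 15, 16, 8, 17, 18, 19, 20, 21, 10],
    [0, 1, 2, 3, 5, 4, 6, 7, 9, 11, 12, 13, 14, 15, 16, 17, 8, 10, 18, 19, 20, 21],
    [0, 1, 2, 3, 5, 4, 6, 7, 9, 11, 12, 13, 14, 15, 16, 17, 8, 18, 10, 19, 20, 21],
    [0, 1, 2, 3, 5, 4, 6, 7, 9, 11, 12, 13, 14, 15, 16, 17, 8, 18, 19, 10, 20, 21],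
    [0, 1, 2, 3, 5, 4, 6, 7, 9, 11, 12, 13, 14, 15, 16, 17, 8, 18, 19, 20, 10, 21],
    [0, 1, 2, 3, 5, 4, 6, 7, 9, 11, 12, 13, 14, 15, 16, 17, 8, 18, 19, 20, 21, 10],
    [0, 1, 2, 3, 5, 4, 6, 7, 9, 11, 12, 13, 14, 15, 16, 17, 18, 8, 10, 19, 20, 21],
    [0, 1, 2, 3, 5, 4, 6, 7, 9, 11, 12, 13, 14, 15, 16, 17, 18, 8, 19, 10, 20, 21],
    [0, 1, 2, 3, 5, 4, 6, 7, 9, 11, 12, 13, 14, 15, 16, 17, 18, 8, 19, 20, 10, 21],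
    [0, 1, 2, 3, 5, 4, 6, 7, 9, 11, 12, 13, 14, 15, 16, 17, 18, 8, 19, 20, 21, 10],
    [0, 1, 2, 3, 5, 4, 6, 7, 9, 11, 12, 13, 14, 15, 16, 17, 18, 19, 8, 10, 20, 21],
    [0, 1, 2, 3, 5, 4, 6, 7, 9, 11, 12, 13, 14, 15, 16, 17, 18, 19, 8, 20, 10, 21],
    [0, 1, 2, 3, 5, 4, 6, 7, 9, 11, 12, 13, 14, 15, 16, 17, 18, 19, 8, 20, 21, 10],
    [0, 1, 2, 3, 5, 4, 6, 7, 9, 11, 12, 13, 14, 15, 16, 17, 18, 19, 20, 8, 10, 21],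
    [0, 1, 2, 3, 5, 4, 6, 7, 9, 11, 12, 13, 14, 15, 16, 17, 18, 19, 20, 8, 21, 10],
    [0, 1, 2, 3, 5, 4, 6, 7, 9, 11, 12, 13, 14, 15, 16, 17, 18, 19, 20, 21, 8, 10],
    [0, 1, 2, 3, 4, 5, 8, 10, 6, 7, 9, 11, 12, 13, 14, 15, 16, 17, 18, 19, 20, 21],
    [0, 1, 2, 3, 4, 5, 8, 6, 10, 7, 9, 11, 12, 13, 14, 15, 16, 17, 18, 19, 20, 21],
    [0, 1, 2, 3, 4, 5, 8, 6, 7, 10, 9, 11, 12, 13, 14, 15, 16, 17, 18, 19, 20, 21],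
    [0, 1, 2, 3, 4, 5, 8, 6, 7, 9, 10, 11, 12, 13, 14, 15, 16, 17, 18, 19, 20, 21],
    [0, 1, 2, 3, 4, 5, 8, 6, 7, 9, 11, 10, 12, 13, 14, 15, 16, 17, 18, 19, 20, 21],
    [0, 1, 2, 3, 4, 5, 8, 6, 7, 9, 11, 12, 10, 13, 14, 15, 16, 17, 18, 19, 20, 21],
    [0, 1, 2, 3, 4, 5, 8, 6, 7, 9, 11, 12, 13, 10, 14, 15, 16, 17, 18, 19, 20, 21],
    [0, 1, 2, 3, 4, 5, 8, 6, 7, 9, 11, 12, 13, 14, 10, 15, 16, 17, 18, 19, 20, 21],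
    [0, 1, 2, 3, 4, 5, 8, 6, 7, 9, 11, 12, 13, 14, 15, 10, 16, 17, 18, 19, 20, 21],
    [0, 1, 2, 3, 4, 5, 8, 6, 7, 9, 11, 12, 13, 14, 15, 16, 10, 17, 18, 19, 20, 21],
    [0, 1, 2, 3, 4, 5, 8, 6, 7, 9, 11, 12, 13, 14, 15, 16, 17, 10, 18, 19, 20, 21]]

/-- Part 5 of the relabellings of step 0. -/
def sib22_0_5 : List (List ℕ) :=
  [
    [0, 1, 2, 3, 4, 5, 8, 6, 7, 9, 11, 12, 13, 14, 15, 16, 17, 18, 10, 19, 20, 21],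
    [0, 1, 2, 3, 4, 5, 8, 6, 7, 9, 11, 12, 13, 14, 15, 16, 17, 18, 19, 10, 20, 21],
    [0, 1, 2, 3, 4, 5, 8, 6, 7, 9, 11, 12, 13, 14, 15, 16, 17, 18, 19, 20, 10, 21],
    [0, 1, 2, 3, 4, 5, 8, 6, 7, 9, 11, 12, 13, 14, 15, 16, 17, 18, 19, 20, 21, 10],
    [0, 1, 2, 3, 4, 5, 6, 8, 10, 7, 9, 11, 12, 13, 14, 15, 16, 17, 18, 19, 20, 21],
    [0, 1, 2, 3, 4, 5, 6, 8, 7, 10, 9, 11, 12, 13, 14, 15, 16, 17, 18, 19, 20, 21],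
    [0, 1, 2, 3, 4, 5, 6, 8, 7, 9, 10, 11, 12, 13, 14, 15, 16, 17, 18, 19, 20, 21],
    [0, 1, 2, 3, 4, 5, 6, 8, 7, 9, 11, 10, 12, 13, 14, 15, 16, 17, 18, 19, 20, 21],
    [0, 1, 2, 3, 4, 5, 6, 8, 7, 9, 11, 12, 10, 13, 14, 15, 16, 17, 18, 19, 20, 21],
    [0, 1, 2, 3, 4, 5, 6, 8, 7, 9, 11, 12, 13, 10, 14, 15, 16, 17, 18, 19, 20, 21],
    [0, 1, 2, 3, 4, 5, 6, 8, 7, 9, 11, 12, 13, 14, 10, 15, 16, 17, 18, 19, 20, 21],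
    [0, 1, 2, 3, 4, 5, 6, 8, 7, 9, 11, 12, 13, 14, 15, 10, 16, 17, 18, 19, 20, 21],
    [0, 1, 2, 3, 4, 5, 6, 8, 7, 9, 11, 12, 13, 14, 15, 16, 10, 17, 18, 19, 20, 21],
    [0, 1, 2, 3, 4, 5, 6, 8, 7, 9, 11, 12, 13, 14, 15, 16, 17, 10, 18, 19, 20, 21],
    [0, 1, 2, 3, 4, 5, 6, 8, 7, 9, 11, 12, 13, 14, 15, 16, 17, 18, 10, 19, 20, 21],
    [0, 1, 2, 3, 4, 5, 6, 8, 7, 9, 11, 12, 13, 14, 15, 16, 17, 18, 19, 10, 20, 21],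
    [0, 1, 2, 3, 4, 5, 6, 8, 7, 9, 11, 12, 13, 14, 15, 16, 17, 18, 19, 20, 10, 21],
    [0, 1, 2, 3, 4, 5, 6, 8, 7, 9, 11, 12, 13, 14, 15, 16, 17, 18, 19, 20, 21, 10],
    [0, 1, 2, 3, 4, 5, 6, 7, 8, 10, 9, 11, 12, 13, 14, 15, 16, 17, 18, 19, 20, 21], [],
    [0, 1, 2, 3, 4, 5, 6, 7, 8, 9, 11, 10, 12, 13, 14, 15, 16, 17, 18, 19, 20, 21],
    [0, 1, 2, 3, 4, 5, 6, 7, 8, 9, 11, 12, 10, 13, 14, 15, 16, 17, 18, 19, 20, 21],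
    [0, 1, 2, 3, 4, 5, 6, 7, 8, 9, 11, 12, 13, 10, 14, 15, 16, 17, 18, 19, 20, 21],
    [0, 1, 2, 3, 4, 5, 6, 7, 8, 9, 11, 12, 13, 14, 10, 15, 16, 17, 18, 19, 20, 21],
    [0, 1, 2, 3, 4, 5, 6, 7, 8, 9, 11, 12, 13, 14, 15, 10, 16, 17, 18, 19, 20, 21],
    [0, 1, 2, 3, 4, 5, 6, 7, 8, 9, 11, 12, 13, 14, 15, 16, 10, 17, 18, 19, 20, 21],
    [0, 1, 2, 3, 4, 5, 6, 7, 8, 9, 11, 12, 13, 14, 15, 16, 17, 10, 18, 19, 20, 21],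
    [0, 1, 2, 3, 4, 5, 6, 7, 8, 9, 11, 12, 13, 14, 15, 16, 17, 18, 10, 19, 20, 21],
    [0, 1, 2, 3, 4, 5, 6, 7, 8, 9, 11, 12, 13, 14, 15, 16, 17, 18, 19, 10, 20, 21],
    [0, 1, 2, 3, 4, 5, 6, 7, 8, 9, 11, 12, 13, 14, 15, 16, 17, 18, 19, 20, 10, 21],
    [0, 1, 2, 3, 4, 5, 6, 7, 8, 9, 11, 12, 13, 14, 15, 16, 17, 18, 19, 20, 21, 10],
    [0, 1, 2, 3, 4, 5, 6, 7, 9, 8, 10, 11, 12, 13, 14, 15, 16, 17, 18, 19, 20, 21],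
    [0, 1, 2, 3, 4, 5, 6, 7, 9, 8, 11, 10, 12, 13, 14, 15, 16, 17, 18, 19, 20, 21],
    [0, 1, 2, 3, 4, 5, 6, 7, 9, 8, 11, 12, 10, 13, 14, 15, 16, 17, 18, 19, 20, 21],
    [0, 1, 2, 3, 4, 5, 6, 7, 9, 8, 11, 12, 13, 10, 14, 15, 16, 17, 18, 19, 20, 21],
    [0, 1, 2, 3, 4, 5, 6, 7, 9, 8, 11, 12, 13, 14, 10, 15, 16, 17, 18, 19, 20, 21],
    [0, 1, 2, 3, 4, 5, 6, 7, 9, 8, 11, 12, 13, 14, 15, 10, 16, 17, 18, 19, 20, 21],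
    [0, 1, 2, 3, 4, 5, 6, 7, 9, 8, 11, 12, 13, 14, 15, 16, 10, 17, 18, 19, 20, 21],
    [0, 1, 2, 3, 4, 5, 6, 7, 9, 8, 11, 12, 13, 14, 15, 16, 17, 10, 18, 19, 20, 21],
    [0, 1, 2, 3, 4, 5, 6, 7, 9, 8, 11, 12, 13, 14, 15, 16, 17, 18, 10, 19, 20, 21],
    [0, 1, 2, 3, 4, 5, 6, 7, 9, 8, 11, 12, 13, 14, 15, 16, 17, 18, 19, 10, 20, 21],
    [0, 1, 2, 3, 4, 5, 6, 7, 9, 8, 11, 12, 13, 14, 15, 16, 17, 18, 19, 20, 10, 21],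
    [0, 1, 2, 3, 4, 5, 6, 7, 9, 8, 11, 12, 13, 14, 15, 16, 17, 18, 19, 20, 21, 10],
    [0, 1, 2, 3, 4, 5, 6, 7, 9, 11, 8, 10, 12, 13, 14, 15, 16, 17, 18, 19, 20, 21],
    [0, 1, 2, 3, 4, 5, 6, 7, 9, 11, 8, 12, 10, 13, 14, 15, 16, 17, 18, 19, 20, 21],
    [0, 1, 2, 3, 4, 5, 6, 7, 9, 11, 8, 12, 13, 10, 14, 15, 16, 17, 18, 19, 20, 21],
    [0, 1, 2, 3, 4, 5, 6, 7, 9, 11, 8, 12, 13, 14, 10, 15, 16, 17, 18, 19, 20, 21],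
    [0, 1, 2, 3, 4, 5, 6, 7, 9, 11, 8, 12, 13, 14, 15, 10, 16, 17, 18, 19, 20, 21],
    [0, 1, 2, 3, 4, 5, 6, 7, 9, 11, 8, 12, 13, 14, 15, 16, 10, 17, 18, 19, 20, 21],
    [0, 1, 2, 3, 4, 5, 6, 7, 9, 11, 8, 12, 13, 14, 15, 16, 17, 10, 18, 19, 20, 21],
    [0, 1, 2, 3, 4, 5, 6, 7, 9, 11, 8, 12, 13, 14, 15, 16, 17, 18, 10, 19, 20, 21],
    [0, 1, 2, 3, 4, 5, 6, 7, 9, 11, 8, 12, 13, 14, 15, 16, 17, 18, 19, 10, 20, 21],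
    [0, 1, 2, 3, 4, 5, 6, 7, 9, 11, 8, 12, 13, 14, 15, 16, 17, 18, 19, 20, 10, 21],
    [0, 1, 2, 3, 4, 5, 6, 7, 9, 11, 8, 12, 13, 14, 15, 16, 17, 18, 19, 20, 21, 10],
    [0, 1, 2, 3, 4, 5, 6, 7, 9, 11, 12, 8, 10, 13, 14, 15, 16, 17, 18, 19, 20, 21],
    [0, 1, 2, 3, 4, 5, 6, 7, 9, 11, 12, 8, 13, 10, 14, 15, 16, 17, 18, 19, 20, 21],
    [0, 1, 2, 3, 4, 5, 6, 7, 9, 11, 12, 8, 13, 14, 10, 15, 16, 17, 18, 19, 20, 21],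
    [0, 1, 2, 3, 4, 5, 6, 7, 9, 11, 12, 8, 13, 14, 15, 10, 16, 17, 18, 19, 20, 21],
    [0, 1, 2, 3, 4, 5, 6, 7, 9, 11, 12, 8, 13, 14, 15, 16, 10, 17, 18, 19, 20, 21],
    [0, 1, 2, 3, 4, 5, 6, 7, 9, 11, 12, 8, 13, 14, 15, 16, 17, 10, 18, 19, 20, 21]]

/-- Part 6 of the relabellings of step 0. -/
def sib22_0_6 : List (List ℕ) :=
  [
    [0, 1, 2, 3, 4, 5, 6, 7, 9, 11, 12, 8, 13, 14, 15, 16, 17, 18, 10, 19, 20, 21],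
    [0, 1, 2, 3, 4, 5, 6, 7, 9, 11, 12, 8, 13, 14, 15, 16, 17, 18, 19, 10, 20, 21],
    [0, 1, 2, 3, 4, 5, 6, 7, 9, 11, 12, 8, 13, 14, 15, 16, 17, 18, 19, 20, 10, 21],
    [0, 1, 2, 3, 4, 5, 6, 7, 9, 11, 12, 8, 13, 14, 15, 16, 17, 18, 19, 20, 21, 10],
    [0, 1, 2, 3, 4, 5, 6, 7, 9, 11, 12, 13, 8, 10, 14, 15, 16, 17, 18, 19, 20, 21],
    [0, 1, 2, 3, 4, 5, 6, 7, 9, 11, 12, 13, 8, 14, 10, 15, 16, 17, 18, 19, 20, 21],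
    [0, 1, 2, 3, 4, 5, 6, 7, 9, 11, 12, 13, 8, 14, 15, 10, 16, 17, 18, 19, 20, 21],
    [0, 1, 2, 3, 4, 5, 6, 7, 9, 11, 12, 13, 8, 14, 15, 16, 10, 17, 18, 19, 20, 21],
    [0, 1, 2, 3, 4, 5, 6, 7, 9, 11, 12, 13, 8, 14, 15, 16, 17, 10, 18, 19, 20, 21],
    [0, 1, 2, 3, 4, 5, 6, 7, 9, 11, 12, 13, 8, 14, 15, 16, 17, 18, 10, 19, 20, 21],
    [0, 1, 2, 3, 4, 5, 6, 7, 9, 11, 12, 13, 8, 14, 15, 16, 17, 18, 19, 10, 20, 21],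
    [0, 1, 2, 3, 4, 5, 6, 7, 9, 11, 12, 13, 8, 14, 15, 16, 17, 18, 19, 20, 10, 21],
    [0, 1, 2, 3, 4, 5, 6, 7, 9, 11, 12, 13, 8, 14, 15, 16, 17, 18, 19, 20, 21, 10],
    [0, 1, 2, 3, 4, 5, 6, 7, 9, 11, 12, 13, 14, 8, 10, 15, 16, 17, 18, 19, 20, 21],
    [0, 1, 2, 3, 4, 5, 6, 7, 9, 11, 12, 13, 14, 8, 15, 10, 16, 17, 18, 19, 20, 21],
    [0, 1, 2, 3, 4, 5, 6, 7, 9, 11, 12, 13, 14, 8, 15, 16, 10, 17, 18, 19, 20, 21],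
    [0, 1, 2, 3, 4, 5, 6, 7, 9, 11, 12, 13, 14, 8, 15, 16, 17, 10, 18, 19, 20, 21],
    [0, 1, 2, 3, 4, 5, 6, 7, 9, 11, 12, 13, 14, 8, 15, 16, 17, 18, 10, 19, 20, 21],
    [0, 1, 2, 3, 4, 5, 6, 7, 9, 11, 12, 13, 14, 8, 15, 16, 17, 18, 19, 10, 20, 21],
    [0, 1, 2, 3, 4, 5, 6, 7, 9, 11, 12, 13, 14, 8, 15, 16, 17, 18, 19, 20, 10, 21],
    [0, 1, 2, 3, 4, 5, 6, 7, 9, 11, 12, 13, 14, 8, 15, 16, 17, 18, 19, 20, 21, 10],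
    [0, 1, 2, 3, 4, 5, 6, 7, 9, 11, 12, 13, 14, 15, 8, 10, 16, 17, 18, 19, 20, 21],
    [0, 1, 2, 3, 4, 5, 6, 7, 9, 11, 12, 13, 14, 15, 8, 16, 10, 17, 18, 19, 20, 21],
    [0, 1, 2, 3, 4, 5, 6, 7, 9, 11, 12, 13, 14, 15, 8, 16, 17, 10, 18, 19, 20, 21],
    [0, 1, 2, 3, 4, 5, 6, 7, 9, 11, 12, 13, 14, 15, 8, 16, 17, 18, 10, 19, 20, 21],
    [0, 1, 2, 3, 4, 5, 6, 7, 9, 11, 12, 13, 14, 15, 8, 16, 17, 18, 19, 10, 20, 21],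
    [0, 1, 2, 3, 4, 5, 6, 7, 9, 11, 12, 13, 14, 15, 8, 16, 17, 18, 19, 20, 10, 21],
    [0, 1, 2, 3, 4, 5, 6, 7, 9, 11, 12, 13, 14, 15, 8, 16, 17, 18, 19, 20, 21, 10],
    [0, 1, 2, 3, 4, 5, 6, 7, 9, 11, 12, 13, 14, 15, 16, 8, 10, 17, 18, 19, 20, 21],
    [0, 1, 2, 3, 4, 5, 6, 7, 9, 11, 12, 13, 14, 15, 16, 8, 17, 10, 18, 19, 20, 21],
    [0, 1, 2, 3, 4, 5, 6, 7, 9, 11, 12, 13, 14, 15, 16, 8, 17, 18, 10, 19, 20, 21],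
    [0, 1, 2, 3, 4, 5, 6, 7, 9, 11, 12, 13, 14, 15, 16, 8, 17, 18, 19, 10, 20, 21],
    [0, 1, 2, 3, 4, 5, 6, 7, 9, 11, 12, 13, 14, 15, 16, 8, 17, 18, 19, 20, 10, 21],
    [0, 1, 2, 3, 4, 5, 6, 7, 9, 11, 12, 13, 14, 15, 16, 8, 17, 18, 19, 20, 21, 10],
    [0, 1, 2, 3, 4, 5, 6, 7, 9, 11, 12, 13, 14, 15, 16, 17, 8, 10, 18, 19, 20, 21],
    [0, 1, 2, 3, 4, 5, 6, 7, 9, 11, 12, 13, 14, 15, 16, 17, 8, 18, 10, 19, 20, 21],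
    [0, 1, 2, 3, 4, 5, 6, 7, 9, 11, 12, 13, 14, 15, 16, 17, 8, 18, 19, 10, 20, 21],
    [0, 1, 2, 3, 4, 5, 6, 7, 9, 11, 12, 13, 14, 15, 16, 17, 8, 18, 19, 20, 10, 21],
    [0, 1, 2, 3, 4, 5, 6, 7, 9, 11, 12, 13, 14, 15, 16, 17, 8, 18, 19, 20, 21, 10],
    [0, 1, 2, 3, 4, 5, 6, 7, 9, 11, 12, 13, 14, 15, 16, 17, 18, 8, 10, 19, 20, 21],
    [0, 1, 2, 3, 4, 5, 6, 7, 9, 11, 12, 13, 14, 15, 16, 17, 18, 8, 19, 10, 20, 21],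
    [0, 1, 2, 3, 4, 5, 6, 7, 9, 11, 12, 13, 14, 15, 16, 17, 18, 8, 19, 20, 10, 21],
    [0, 1, 2, 3, 4, 5, 6, 7, 9, 11, 12, 13, 14, 15, 16, 17, 18, 8, 19, 20, 21, 10],
    [0, 1, 2, 3, 4, 5, 6, 7, 9, 11, 12, 13, 14, 15, 16, 17, 18, 19, 8, 10, 20, 21],
    [0, 1, 2, 3, 4, 5, 6, 7, 9, 11, 12, 13, 14, 15, 16, 17, 18, 19, 8, 20, 10, 21],
    [0, 1, 2, 3, 4, 5, 6, 7, 9, 11, 12, 13, 14, 15, 16, 17, 18, 19, 8, 20, 21, 10],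
    [0, 1, 2, 3, 4, 5, 6, 7, 9, 11, 12, 13, 14, 15, 16, 17, 18, 19, 20, 8, 10, 21],
    [0, 1, 2, 3, 4, 5, 6, 7, 9, 11, 12, 13, 14, 15, 16, 17, 18, 19, 20, 8, 21, 10],
    [0, 1, 2, 3, 4, 5, 6, 7, 9, 11, 12, 13, 14, 15, 16, 17, 18, 19, 20, 21, 8, 10],
    [0, 1, 2, 3, 4, 6, 5, 8, 10, 7, 9, 11, 12, 13, 14, 15, 16, 17, 18, 19, 20, 21],
    [0, 1, 2, 3, 4, 6, 5, 8, 7, 10, 9, 11, 12, 13, 14, 15, 16, 17, 18, 19, 20, 21],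
    [0, 1, 2, 3, 4, 6, 5, 8, 7, 9, 10, 11, 12, 13, 14, 15, 16, 17, 18, 19, 20, 21],
    [0, 1, 2, 3, 4, 6, 5, 8, 7, 9, 11, 10, 12, 13, 14, 15, 16, 17, 18, 19, 20, 21],
    [0, 1, 2, 3, 4, 6, 5, 8, 7, 9, 11, 12, 10, 13, 14, 15, 16, 17, 18, 19, 20, 21],
    [0, 1, 2, 3, 4, 6, 5, 8, 7, 9, 11, 12, 13, 10, 14, 15, 16, 17, 18, 19, 20, 21],
    [0, 1, 2, 3, 4, 6, 5, 8, 7, 9, 11, 12, 13, 14, 10, 15, 16, 17, 18, 19, 20, 21],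
    [0, 1, 2, 3, 4, 6, 5, 8, 7, 9, 11, 12, 13, 14, 15, 10, 16, 17, 18, 19, 20, 21],
    [0, 1, 2, 3, 4, 6, 5, 8, 7, 9, 11, 12, 13, 14, 15, 16, 10, 17, 18, 19, 20, 21],
    [0, 1, 2, 3, 4, 6, 5, 8, 7, 9, 11, 12, 13, 14, 15, 16, 17, 10, 18, 19, 20, 21],
    [0, 1, 2, 3, 4, 6, 5, 8, 7, 9, 11, 12, 13, 14, 15, 16, 17, 18, 10, 19, 20, 21]]

/-- Part 7 of the relabellings of step 0. -/
def sib22_0_7 : List (List ℕ) :=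
  [
    [0, 1, 2, 3, 4, 6, 5, 8, 7, 9, 11, 12, 13, 14, 15, 16, 17, 18, 19, 10, 20, 21],
    [0, 1, 2, 3, 4, 6, 5, 8, 7, 9, 11, 12, 13, 14, 15, 16, 17, 18, 19, 20, 10, 21],
    [0, 1, 2, 3, 4, 6, 5, 8, 7, 9, 11, 12, 13, 14, 15, 16, 17, 18, 19, 20, 21, 10],
    [0, 1, 2, 3, 4, 6, 5, 7, 8, 10, 9, 11, 12, 13, 14, 15, 16, 17, 18, 19, 20, 21],
    [0, 1, 2, 3, 4, 6, 5, 7, 8, 9, 10, 11, 12, 13, 14, 15, 16, 17, 18, 19, 20, 21],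
    [0, 1, 2, 3, 4, 6, 5, 7, 8, 9, 11, 10, 12, 13, 14, 15, 16, 17, 18, 19, 20, 21],
    [0, 1, 2, 3, 4, 6, 5, 7, 8, 9, 11, 12, 10, 13, 14, 15, 16, 17, 18, 19, 20, 21],
    [0, 1, 2, 3, 4, 6, 5, 7, 8, 9, 11, 12, 13, 10, 14, 15, 16, 17, 18, 19, 20, 21],
    [0, 1, 2, 3, 4, 6, 5, 7, 8, 9, 11, 12, 13, 14, 10, 15, 16, 17, 18, 19, 20, 21],
    [0, 1, 2, 3, 4, 6, 5, 7, 8, 9, 11, 12, 13, 14, 15, 10, 16, 17, 18, 19, 20, 21],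
    [0, 1, 2, 3, 4, 6, 5, 7, 8, 9, 11, 12, 13, 14, 15, 16, 10, 17, 18, 19, 20, 21],
    [0, 1, 2, 3, 4, 6, 5, 7, 8, 9, 11, 12, 13, 14, 15, 16, 17, 10, 18, 19, 20, 21],
    [0, 1, 2, 3, 4, 6, 5, 7, 8, 9, 11, 12, 13, 14, 15, 16, 17, 18, 10, 19, 20, 21],
    [0, 1, 2, 3, 4, 6, 5, 7, 8, 9, 11, 12, 13, 14, 15, 16, 17, 18, 19, 10, 20, 21],
    [0, 1, 2, 3, 4, 6, 5, 7, 8, 9, 11, 12, 13, 14, 15, 16, 17, 18, 19, 20, 10, 21],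
    [0, 1, 2, 3, 4, 6, 5, 7, 8, 9, 11, 12, 13, 14, 15, 16, 17, 18, 19, 20, 21, 10],
    [0, 1, 2, 3, 4, 6, 5, 7, 9, 8, 10, 11, 12, 13, 14, 15, 16, 17, 18, 19, 20, 21],
    [0, 1, 2, 3, 4, 6, 5, 7, 9, 8, 11, 10, 12, 13, 14, 15, 16, 17, 18, 19, 20, 21],
    [0, 1, 2, 3, 4, 6, 5, 7, 9, 8, 11, 12, 10, 13, 14, 15, 16, 17, 18, 19, 20, 21],
    [0, 1, 2, 3, 4, 6, 5, 7, 9, 8, 11, 12, 13, 10, 14, 15, 16, 17, 18, 19, 20, 21],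
    [0, 1, 2, 3, 4, 6, 5, 7, 9, 8, 11, 12, 13, 14, 10, 15, 16, 17, 18, 19, 20, 21],
    [0, 1, 2, 3, 4, 6, 5, 7, 9, 8, 11, 12, 13, 14, 15, 10, 16, 17, 18, 19, 20, 21],
    [0, 1, 2, 3, 4, 6, 5, 7, 9, 8, 11, 12, 13, 14, 15, 16, 10, 17, 18, 19, 20, 21],
    [0, 1, 2, 3, 4, 6, 5, 7, 9, 8, 11, 12, 13, 14, 15, 16, 17, 10, 18, 19, 20, 21],
    [0, 1, 2, 3, 4, 6, 5, 7, 9, 8, 11, 12, 13, 14, 15, 16, 17, 18, 10, 19, 20, 21],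
    [0, 1, 2, 3, 4, 6, 5, 7, 9, 8, 11, 12, 13, 14, 15, 16, 17, 18, 19, 10, 20, 21],
    [0, 1, 2, 3, 4, 6, 5, 7, 9, 8, 11, 12, 13, 14, 15, 16, 17, 18, 19, 20, 10, 21],
    [0, 1, 2, 3, 4, 6, 5, 7, 9, 8, 11, 12, 13, 14, 15, 16, 17, 18, 19, 20, 21, 10],
    [0, 1, 2, 3, 4, 6, 5, 7, 9, 11, 8, 10, 12, 13, 14, 15, 16, 17, 18, 19, 20, 21],
    [0, 1, 2, 3, 4, 6, 5, 7, 9, 11, 8, 12, 10, 13, 14, 15, 16, 17, 18, 19, 20, 21],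
    [0, 1, 2, 3, 4, 6, 5, 7, 9, 11, 8, 12, 13, 10, 14, 15, 16, 17, 18, 19, 20, 21],
    [0, 1, 2, 3, 4, 6, 5, 7, 9, 11, 8, 12, 13, 14, 10, 15, 16, 17, 18, 19, 20, 21],
    [0, 1, 2, 3, 4, 6, 5, 7, 9, 11, 8, 12, 13, 14, 15, 10, 16, 17, 18, 19, 20, 21],
    [0, 1, 2, 3, 4, 6, 5, 7, 9, 11, 8, 12, 13, 14, 15, 16, 10, 17, 18, 19, 20, 21],
    [0, 1, 2, 3, 4, 6, 5, 7, 9, 11, 8, 12, 13, 14, 15, 16, 17, 10, 18, 19, 20, 21],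
    [0, 1, 2, 3, 4, 6, 5, 7, 9, 11, 8, 12, 13, 14, 15, 16, 17, 18, 10, 19, 20, 21],
    [0, 1, 2, 3, 4, 6, 5, 7, 9, 11, 8, 12, 13, 14, 15, 16, 17, 18, 19, 10, 20, 21],
    [0, 1, 2, 3, 4, 6, 5, 7, 9, 11, 8, 12, 13, 14, 15, 16, 17, 18, 19, 20, 10, 21],
    [0, 1, 2, 3, 4, 6, 5, 7, 9, 11, 8, 12, 13, 14, 15, 16, 17, 18, 19, 20, 21, 10],
    [0, 1, 2, 3, 4, 6, 5, 7, 9, 11, 12, 8, 10, 13, 14, 15, 16, 17, 18, 19, 20, 21],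
    [0, 1, 2, 3, 4, 6, 5, 7, 9, 11, 12, 8, 13, 10, 14, 15, 16, 17, 18, 19, 20, 21],
    [0, 1, 2, 3, 4, 6, 5, 7, 9, 11, 12, 8, 13, 14, 10, 15, 16, 17, 18, 19, 20, 21],
    [0, 1, 2, 3, 4, 6, 5, 7, 9, 11, 12, 8, 13, 14, 15, 10, 16, 17, 18, 19, 20, 21],
    [0, 1, 2, 3, 4, 6, 5, 7, 9, 11, 12, 8, 13, 14, 15, 16, 10, 17, 18, 19, 20, 21],
    [0, 1, 2, 3, 4, 6, 5, 7, 9, 11, 12, 8, 13, 14, 15, 16, 17, 10, 18, 19, 20, 21],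
    [0, 1, 2, 3, 4, 6, 5, 7, 9, 11, 12, 8, 13, 14, 15, 16, 17, 18, 10, 19, 20, 21],
    [0, 1, 2, 3, 4, 6, 5, 7, 9, 11, 12, 8, 13, 14, 15, 16, 17, 18, 19, 10, 20, 21],
    [0, 1, 2, 3, 4, 6, 5, 7, 9, 11, 12, 8, 13, 14, 15, 16, 17, 18, 19, 20, 10, 21],
    [0, 1, 2, 3, 4, 6, 5, 7, 9, 11, 12, 8, 13, 14, 15, 16, 17, 18, 19, 20, 21, 10],
    [0, 1, 2, 3, 4, 6, 5, 7, 9, 11, 12, 13, 8, 10, 14, 15, 16, 17, 18, 19, 20, 21],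
    [0, 1, 2, 3, 4, 6, 5, 7, 9, 11, 12, 13, 8, 14, 10, 15, 16, 17, 18, 19, 20, 21],
    [0, 1, 2, 3, 4, 6, 5, 7, 9, 11, 12, 13, 8, 14, 15, 10, 16, 17, 18, 19, 20, 21],
    [0, 1, 2, 3, 4, 6, 5, 7, 9, 11, 12, 13, 8, 14, 15, 16, 10, 17, 18, 19, 20, 21],
    [0, 1, 2, 3, 4, 6, 5, 7, 9, 11, 12, 13, 8, 14, 15, 16, 17, 10, 18, 19, 20, 21],
    [0, 1, 2, 3, 4, 6, 5, 7, 9, 11, 12, 13, 8, 14, 15, 16, 17, 18, 10, 19, 20, 21],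
    [0, 1, 2, 3, 4, 6, 5, 7, 9, 11, 12, 13, 8, 14, 15, 16, 17, 18, 19, 10, 20, 21],
    [0, 1, 2, 3, 4, 6, 5, 7, 9, 11, 12, 13, 8, 14, 15, 16, 17, 18, 19, 20, 10, 21],
    [0, 1, 2, 3, 4, 6, 5, 7, 9, 11, 12, 13, 8, 14, 15, 16, 17, 18, 19, 20, 21, 10],
    [0, 1, 2, 3, 4, 6, 5, 7, 9, 11, 12, 13, 14, 8, 10, 15, 16, 17, 18, 19, 20, 21],
    [0, 1, 2, 3, 4, 6, 5, 7, 9, 11, 12, 13, 14, 8, 15, 10, 16, 17, 18, 19, 20, 21]]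

/-- Part 8 of the relabellings of step 0. -/
def sib22_0_8 : List (List ℕ) :=
  [
    [0, 1, 2, 3, 4, 6, 5, 7, 9, 11, 12, 13, 14, 8, 15, 16, 10, 17, 18, 19, 20, 21],
    [0, 1, 2, 3, 4, 6, 5, 7, 9, 11, 12, 13, 14, 8, 15, 16, 17, 10, 18, 19, 20, 21],
    [0, 1, 2, 3, 4, 6, 5, 7, 9, 11, 12, 13, 14, 8, 15, 16, 17, 18, 10, 19, 20, 21],
    [0, 1, 2, 3, 4, 6, 5, 7, 9, 11, 12, 13, 14, 8, 15, 16, 17, 18, 19, 10, 20, 21],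
    [0, 1, 2, 3, 4, 6, 5, 7, 9, 11, 12, 13, 14, 8, 15, 16, 17, 18, 19, 20, 10, 21],
    [0, 1, 2, 3, 4, 6, 5, 7, 9, 11, 12, 13, 14, 8, 15, 16, 17, 18, 19, 20, 21, 10],
    [0, 1, 2, 3, 4, 6, 5, 7, 9, 11, 12, 13, 14, 15, 8, 10, 16, 17, 18, 19, 20, 21],
    [0, 1, 2, 3, 4, 6, 5, 7, 9, 11, 12, 13, 14, 15, 8, 16, 10, 17, 18, 19, 20, 21],
    [0, 1, 2, 3, 4, 6, 5, 7, 9, 11, 12, 13, 14, 15, 8, 16, 17, 10, 18, 19, 20, 21],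
    [0, 1, 2, 3, 4, 6, 5, 7, 9, 11, 12, 13, 14, 15, 8, 16, 17, 18, 10, 19, 20, 21],
    [0, 1, 2, 3, 4, 6, 5, 7, 9, 11, 12, 13, 14, 15, 8, 16, 17, 18, 19, 10, 20, 21],
    [0, 1, 2, 3, 4, 6, 5, 7, 9, 11, 12, 13, 14, 15, 8, 16, 17, 18, 19, 20, 10, 21],
    [0, 1, 2, 3, 4, 6, 5, 7, 9, 11, 12, 13, 14, 15, 8, 16, 17, 18, 19, 20, 21, 10],
    [0, 1, 2, 3, 4, 6, 5, 7, 9, 11, 12, 13, 14, 15, 16, 8, 10, 17, 18, 19, 20, 21],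
    [0, 1, 2, 3, 4, 6, 5, 7, 9, 11, 12, 13, 14, 15, 16, 8, 17, 10, 18, 19, 20, 21],
    [0, 1, 2, 3, 4, 6, 5, 7, 9, 11, 12, 13, 14, 15, 16, 8, 17, 18, 10, 19, 20, 21],
    [0, 1, 2, 3, 4, 6, 5, 7, 9, 11, 12, 13, 14, 15, 16, 8, 17, 18, 19, 10, 20, 21],
    [0, 1, 2, 3, 4, 6, 5, 7, 9, 11, 12, 13, 14, 15, 16, 8, 17, 18, 19, 20, 10, 21],
    [0, 1, 2, 3, 4, 6, 5, 7, 9, 11, 12, 13, 14, 15, 16, 8, 17, 18, 19, 20, 21, 10],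
    [0, 1, 2, 3, 4, 6, 5, 7, 9, 11, 12, 13, 14, 15, 16, 17, 8, 10, 18, 19, 20, 21],
    [0, 1, 2, 3, 4, 6, 5, 7, 9, 11, 12, 13, 14, 15, 16, 17, 8, 18, 10, 19, 20, 21],
    [0, 1, 2, 3, 4, 6, 5, 7, 9, 11, 12, 13, 14, 15, 16, 17, 8, 18, 19, 10, 20, 21],
    [0, 1, 2, 3, 4, 6, 5, 7, 9, 11, 12, 13, 14, 15, 16, 17, 8, 18, 19, 20, 10, 21],
    [0, 1, 2, 3, 4, 6, 5, 7, 9, 11, 12, 13, 14, 15, 16, 17, 8, 18, 19, 20, 21, 10],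
    [0, 1, 2, 3, 4, 6, 5, 7, 9, 11, 12, 13, 14, 15, 16, 17, 18, 8, 10, 19, 20, 21],
    [0, 1, 2, 3, 4, 6, 5, 7, 9, 11, 12, 13, 14, 15, 16, 17, 18, 8, 19, 10, 20, 21],
    [0, 1, 2, 3, 4, 6, 5, 7, 9, 11, 12, 13, 14, 15, 16, 17, 18, 8, 19, 20, 10, 21],
    [0, 1, 2, 3, 4, 6, 5, 7, 9, 11, 12, 13, 14, 15, 16, 17, 18, 8, 19, 20, 21, 10],
    [0, 1, 2, 3, 4, 6, 5, 7, 9, 11, 12, 13, 14, 15, 16, 17, 18, 19, 8, 10, 20, 21],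
    [0, 1, 2, 3, 4, 6, 5, 7, 9, 11, 12, 13, 14, 15, 16, 17, 18, 19, 8, 20, 10, 21],
    [0, 1, 2, 3, 4, 6, 5, 7, 9, 11, 12, 13, 14, 15, 16, 17, 18, 19, 8, 20, 21, 10],
    [0, 1, 2, 3, 4, 6, 5, 7, 9, 11, 12, 13, 14, 15, 16, 17, 18, 19, 20, 8, 10, 21],
    [0, 1, 2, 3, 4, 6, 5, 7, 9, 11, 12, 13, 14, 15, 16, 17, 18, 19, 20, 8, 21, 10],
    [0, 1, 2, 3, 4, 6, 5, 7, 9, 11, 12, 13, 14, 15, 16, 17, 18, 19, 20, 21, 8, 10],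
    [0, 1, 2, 3, 4, 6, 7, 5, 8, 10, 9, 11, 12, 13, 14, 15, 16, 17, 18, 19, 20, 21],
    [0, 1, 2, 3, 4, 6, 7, 5, 8, 9, 10, 11, 12, 13, 14, 15, 16, 17, 18, 19, 20, 21],
    [0, 1, 2, 3, 4, 6, 7, 5, 8, 9, 11, 10, 12, 13, 14, 15, 16, 17, 18, 19, 20, 21],
    [0, 1, 2, 3, 4, 6, 7, 5, 8, 9, 11, 12, 10, 13, 14, 15, 16, 17, 18, 19, 20, 21],
    [0, 1, 2, 3, 4, 6, 7, 5, 8, 9, 11, 12, 13, 10, 14, 15, 16, 17, 18, 19, 20, 21],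
    [0, 1, 2, 3, 4, 6, 7, 5, 8, 9, 11, 12, 13, 14, 10, 15, 16, 17, 18, 19, 20, 21],
    [0, 1, 2, 3, 4, 6, 7, 5, 8, 9, 11, 12, 13, 14, 15, 10, 16, 17, 18, 19, 20, 21],
    [0, 1, 2, 3, 4, 6, 7, 5, 8, 9, 11, 12, 13, 14, 15, 16, 10, 17, 18, 19, 20, 21],
    [0, 1, 2, 3, 4, 6, 7, 5, 8, 9, 11, 12, 13, 14, 15, 16, 17, 10, 18, 19, 20, 21],
    [0, 1, 2, 3, 4, 6, 7, 5, 8, 9, 11, 12, 13, 14, 15, 16, 17, 18, 10, 19, 20, 21],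
    [0, 1, 2, 3, 4, 6, 7, 5, 8, 9, 11, 12, 13, 14, 15, 16, 17, 18, 19, 10, 20, 21],
    [0, 1, 2, 3, 4, 6, 7, 5, 8, 9, 11, 12, 13, 14, 15, 16, 17, 18, 19, 20, 10, 21],
    [0, 1, 2, 3, 4, 6, 7, 5, 8, 9, 11, 12, 13, 14, 15, 16, 17, 18, 19, 20, 21, 10],
    [0, 1, 2, 3, 4, 6, 7, 5, 9, 8, 10, 11, 12, 13, 14, 15, 16, 17, 18, 19, 20, 21],
    [0, 1, 2, 3, 4, 6, 7, 5, 9, 8, 11, 10, 12, 13, 14, 15, 16, 17, 18, 19, 20, 21],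
    [0, 1, 2, 3, 4, 6, 7, 5, 9, 8, 11, 12, 10, 13, 14, 15, 16, 17, 18, 19, 20, 21],
    [0, 1, 2, 3, 4, 6, 7, 5, 9, 8, 11, 12, 13, 10, 14, 15, 16, 17, 18, 19, 20, 21],
    [0, 1, 2, 3, 4, 6, 7, 5, 9, 8, 11, 12, 13, 14, 10, 15, 16, 17, 18, 19, 20, 21],
    [0, 1, 2, 3, 4, 6, 7, 5, 9, 8, 11, 12, 13, 14, 15, 10, 16, 17, 18, 19, 20, 21],
    [0, 1, 2, 3, 4, 6, 7, 5, 9, 8, 11, 12, 13, 14, 15, 16, 10, 17, 18, 19, 20, 21],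
    [0, 1, 2, 3, 4, 6, 7, 5, 9, 8, 11, 12, 13, 14, 15, 16, 17, 10, 18, 19, 20, 21],
    [0, 1, 2, 3, 4, 6, 7, 5, 9, 8, 11, 12, 13, 14, 15, 16, 17, 18, 10, 19, 20, 21],
    [0, 1, 2, 3, 4, 6, 7, 5, 9, 8, 11, 12, 13, 14, 15, 16, 17, 18, 19, 10, 20, 21],
    [0, 1, 2, 3, 4, 6, 7, 5, 9, 8, 11, 12, 13, 14, 15, 16, 17, 18, 19, 20, 10, 21],
    [0, 1, 2, 3, 4, 6, 7, 5, 9, 8, 11, 12, 13, 14, 15, 16, 17, 18, 19, 20, 21, 10],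
    [0, 1, 2, 3, 4, 6, 7, 5, 9, 11, 8, 10, 12, 13, 14, 15, 16, 17, 18, 19, 20, 21]]

/-- Part 9 of the relabellings of step 0. -/
def sib22_0_9 : List (List ℕ) :=
  [
    [0, 1, 2, 3, 4, 6, 7, 5, 9, 11, 8, 12, 10, 13, 14, 15, 16, 17, 18, 19, 20, 21],
    [0, 1, 2, 3, 4, 6, 7, 5, 9, 11, 8, 12, 13, 10, 14, 15, 16, 17, 18, 19, 20, 21],
    [0, 1, 2, 3, 4, 6, 7, 5, 9, 11, 8, 12, 13, 14, 10, 15, 16, 17, 18, 19, 20, 21],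
    [0, 1, 2, 3, 4, 6, 7, 5, 9, 11, 8, 12, 13, 14, 15, 10, 16, 17, 18, 19, 20, 21],
    [0, 1, 2, 3, 4, 6, 7, 5, 9, 11, 8, 12, 13, 14, 15, 16, 10, 17, 18, 19, 20, 21],
    [0, 1, 2, 3, 4, 6, 7, 5, 9, 11, 8, 12, 13, 14, 15, 16, 17, 10, 18, 19, 20, 21],
    [0, 1, 2, 3, 4, 6, 7, 5, 9, 11, 8, 12, 13, 14, 15, 16, 17, 18, 10, 19, 20, 21],
    [0, 1, 2, 3, 4, 6, 7, 5, 9, 11, 8, 12, 13, 14, 15, 16, 17, 18, 19, 10, 20, 21],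
    [0, 1, 2, 3, 4, 6, 7, 5, 9, 11, 8, 12, 13, 14, 15, 16, 17, 18, 19, 20, 10, 21],
    [0, 1, 2, 3, 4, 6, 7, 5, 9, 11, 8, 12, 13, 14, 15, 16, 17, 18, 19, 20, 21, 10],
    [0, 1, 2, 3, 4, 6, 7, 5, 9, 11, 12, 8, 10, 13, 14, 15, 16, 17, 18, 19, 20, 21],
    [0, 1, 2, 3, 4, 6, 7, 5, 9, 11, 12, 8, 13, 10, 14, 15, 16, 17, 18, 19, 20, 21],
    [0, 1, 2, 3, 4, 6, 7, 5, 9, 11, 12, 8, 13, 14, 10, 15, 16, 17, 18, 19, 20, 21],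
    [0, 1, 2, 3, 4, 6, 7, 5, 9, 11, 12, 8, 13, 14, 15, 10, 16, 17, 18, 19, 20, 21],
    [0, 1, 2, 3, 4, 6, 7, 5, 9, 11, 12, 8, 13, 14, 15, 16, 10, 17, 18, 19, 20, 21],
    [0, 1, 2, 3, 4, 6, 7, 5, 9, 11, 12, 8, 13, 14, 15, 16, 17, 10, 18, 19, 20, 21],
    [0, 1, 2, 3, 4, 6, 7, 5, 9, 11, 12, 8, 13, 14, 15, 16, 17, 18, 10, 19, 20, 21],
    [0, 1, 2, 3, 4, 6, 7, 5, 9, 11, 12, 8, 13, 14, 15, 16, 17, 18, 19, 10, 20, 21],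
    [0, 1, 2, 3, 4, 6, 7, 5, 9, 11, 12, 8, 13, 14, 15, 16, 17, 18, 19, 20, 10, 21],
    [0, 1, 2, 3, 4, 6, 7, 5, 9, 11, 12, 8, 13, 14, 15, 16, 17, 18, 19, 20, 21, 10],
    [0, 1, 2, 3, 4, 6, 7, 5, 9, 11, 12, 13, 8, 10, 14, 15, 16, 17, 18, 19, 20, 21],
    [0, 1, 2, 3, 4, 6, 7, 5, 9, 11, 12, 13, 8, 14, 10, 15, 16, 17, 18, 19, 20, 21],
    [0, 1, 2, 3, 4, 6, 7, 5, 9, 11, 12, 13, 8, 14, 15, 10, 16, 17, 18, 19, 20, 21],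
    [0, 1, 2, 3, 4, 6, 7, 5, 9, 11, 12, 13, 8, 14, 15, 16, 10, 17, 18, 19, 20, 21],
    [0, 1, 2, 3, 4, 6, 7, 5, 9, 11, 12, 13, 8, 14, 15, 16, 17, 10, 18, 19, 20, 21],
    [0, 1, 2, 3, 4, 6, 7, 5, 9, 11, 12, 13, 8, 14, 15, 16, 17, 18, 10, 19, 20, 21],
    [0, 1, 2, 3, 4, 6, 7, 5, 9, 11, 12, 13, 8, 14, 15, 16, 17, 18, 19, 10, 20, 21],
    [0, 1, 2, 3, 4, 6, 7, 5, 9, 11, 12, 13, 8, 14, 15, 16, 17, 18, 19, 20, 10, 21],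
    [0, 1, 2, 3, 4, 6, 7, 5, 9, 11, 12, 13, 8, 14, 15, 16, 17, 18, 19, 20, 21, 10],
    [0, 1, 2, 3, 4, 6, 7, 5, 9, 11, 12, 13, 14, 8, 10, 15, 16, 17, 18, 19, 20, 21],
    [0, 1, 2, 3, 4, 6, 7, 5, 9, 11, 12, 13, 14, 8, 15, 10, 16, 17, 18, 19, 20, 21],
    [0, 1, 2, 3, 4, 6, 7, 5, 9, 11, 12, 13, 14, 8, 15, 16, 10, 17, 18, 19, 20, 21],
    [0, 1, 2, 3, 4, 6, 7, 5, 9, 11, 12, 13, 14, 8, 15, 16, 17, 10, 18, 19, 20, 21],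
    [0, 1, 2, 3, 4, 6, 7, 5, 9, 11, 12, 13, 14, 8, 15, 16, 17, 18, 10, 19, 20, 21],
    [0, 1, 2, 3, 4, 6, 7, 5, 9, 11, 12, 13, 14, 8, 15, 16, 17, 18, 19, 10, 20, 21],
    [0, 1, 2, 3, 4, 6, 7, 5, 9, 11, 12, 13, 14, 8, 15, 16, 17, 18, 19, 20, 10, 21],
    [0, 1, 2, 3, 4, 6, 7, 5, 9, 11, 12, 13, 14, 8, 15, 16, 17, 18, 19, 20, 21, 10],
    [0, 1, 2, 3, 4, 6, 7, 5, 9, 11, 12, 13, 14, 15, 8, 10, 16, 17, 18, 19, 20, 21],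
    [0, 1, 2, 3, 4, 6, 7, 5, 9, 11, 12, 13, 14, 15, 8, 16, 10, 17, 18, 19, 20, 21],
    [0, 1, 2, 3, 4, 6, 7, 5, 9, 11, 12, 13, 14, 15, 8, 16, 17, 10, 18, 19, 20, 21],
    [0, 1, 2, 3, 4, 6, 7, 5, 9, 11, 12, 13, 14, 15, 8, 16, 17, 18, 10, 19, 20, 21],
    [0, 1, 2, 3, 4, 6, 7, 5, 9, 11, 12, 13, 14, 15, 8, 16, 17, 18, 19, 10, 20, 21],
    [0, 1, 2, 3, 4, 6, 7, 5, 9, 11, 12, 13, 14, 15, 8, 16, 17, 18, 19, 20, 10, 21],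
    [0, 1, 2, 3, 4, 6, 7, 5, 9, 11, 12, 13, 14, 15, 8, 16, 17, 18, 19, 20, 21, 10],
    [0, 1, 2, 3, 4, 6, 7, 5, 9, 11, 12, 13, 14, 15, 16, 8, 10, 17, 18, 19, 20, 21],
    [0, 1, 2, 3, 4, 6, 7, 5, 9, 11, 12, 13, 14, 15, 16, 8, 17, 10, 18, 19, 20, 21],
    [0, 1, 2, 3, 4, 6, 7, 5, 9, 11, 12, 13, 14, 15, 16, 8, 17, 18, 10, 19, 20, 21],
    [0, 1, 2, 3, 4, 6, 7, 5, 9, 11, 12, 13, 14, 15, 16, 8, 17, 18, 19, 10, 20, 21],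
    [0, 1, 2, 3, 4, 6, 7, 5, 9, 11, 12, 13, 14, 15, 16, 8, 17, 18, 19, 20, 10, 21],
    [0, 1, 2, 3, 4, 6, 7, 5, 9, 11, 12, 13, 14, 15, 16, 8, 17, 18, 19, 20, 21, 10],
    [0, 1, 2, 3, 4, 6, 7, 5, 9, 11, 12, 13, 14, 15, 16, 17, 8, 10, 18, 19, 20, 21],
    [0, 1, 2, 3, 4, 6, 7, 5, 9, 11, 12, 13, 14, 15, 16, 17, 8, 18, 10, 19, 20, 21],
    [0, 1, 2, 3, 4, 6, 7, 5, 9, 11, 12, 13, 14, 15, 16, 17, 8, 18, 19, 10, 20, 21],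
    [0, 1, 2, 3, 4, 6, 7, 5, 9, 11, 12, 13, 14, 15, 16, 17, 8, 18, 19, 20, 10, 21],
    [0, 1, 2, 3, 4, 6, 7, 5, 9, 11, 12, 13, 14, 15, 16, 17, 8, 18, 19, 20, 21, 10],
    [0, 1, 2, 3, 4, 6, 7, 5, 9, 11, 12, 13, 14, 15, 16, 17, 18, 8, 10, 19, 20, 21],
    [0, 1, 2, 3, 4, 6, 7, 5, 9, 11, 12, 13, 14, 15, 16, 17, 18, 8, 19, 10, 20, 21],
    [0, 1, 2, 3, 4, 6, 7, 5, 9, 11, 12, 13, 14, 15, 16, 17, 18, 8, 19, 20, 10, 21],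
    [0, 1, 2, 3, 4, 6, 7, 5, 9, 11, 12, 13, 14, 15, 16, 17, 18, 8, 19, 20, 21, 10],
    [0, 1, 2, 3, 4, 6, 7, 5, 9, 11, 12, 13, 14, 15, 16, 17, 18, 19, 8, 10, 20, 21]]

/-- Part 10 of the relabellings of step 0. -/
def sib22_0_10 : List (List ℕ) :=
  [
    [0, 1, 2, 3, 4, 6, 7, 5, 9, 11, 12, 13, 14, 15, 16, 17, 18, 19, 8, 20, 10, 21],
    [0, 1, 2, 3, 4, 6, 7, 5, 9, 11, 12, 13, 14, 15, 16, 17, 18, 19, 8, 20, 21, 10],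
    [0, 1, 2, 3, 4, 6, 7, 5, 9, 11, 12, 13, 14, 15, 16, 17, 18, 19, 20, 8, 10, 21],
    [0, 1, 2, 3, 4, 6, 7, 5, 9, 11, 12, 13, 14, 15, 16, 17, 18, 19, 20, 8, 21, 10],
    [0, 1, 2, 3, 4, 6, 7, 5, 9, 11, 12, 13, 14, 15, 16, 17, 18, 19, 20, 21, 8, 10],
    [0, 1, 2, 3, 4, 6, 7, 9, 5, 8, 10, 11, 12, 13, 14, 15, 16, 17, 18, 19, 20, 21],
    [0, 1, 2, 3, 4, 6, 7, 9, 5, 8, 11, 10, 12, 13, 14, 15, 16, 17, 18, 19, 20, 21],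
    [0, 1, 2, 3, 4, 6, 7, 9, 5, 8, 11, 12, 10, 13, 14, 15, 16, 17, 18, 19, 20, 21],
    [0, 1, 2, 3, 4, 6, 7, 9, 5, 8, 11, 12, 13, 10, 14, 15, 16, 17, 18, 19, 20, 21],
    [0, 1, 2, 3, 4, 6, 7, 9, 5, 8, 11, 12, 13, 14, 10, 15, 16, 17, 18, 19, 20, 21],
    [0, 1, 2, 3, 4, 6, 7, 9, 5, 8, 11, 12, 13, 14, 15, 10, 16, 17, 18, 19, 20, 21],
    [0, 1, 2, 3, 4, 6, 7, 9, 5, 8, 11, 12, 13, 14, 15, 16, 10, 17, 18, 19, 20, 21],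
    [0, 1, 2, 3, 4, 6, 7, 9, 5, 8, 11, 12, 13, 14, 15, 16, 17, 10, 18, 19, 20, 21],
    [0, 1, 2, 3, 4, 6, 7, 9, 5, 8, 11, 12, 13, 14, 15, 16, 17, 18, 10, 19, 20, 21],
    [0, 1, 2, 3, 4, 6, 7, 9, 5, 8, 11, 12, 13, 14, 15, 16, 17, 18, 19, 10, 20, 21],
    [0, 1, 2, 3, 4, 6, 7, 9, 5, 8, 11, 12, 13, 14, 15, 16, 17, 18, 19, 20, 10, 21],
    [0, 1, 2, 3, 4, 6, 7, 9, 5, 8, 11, 12, 13, 14, 15, 16, 17, 18, 19, 20, 21, 10],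
    [0, 1, 2, 3, 4, 6, 7, 9, 5, 11, 8, 10, 12, 13, 14, 15, 16, 17, 18, 19, 20, 21],
    [0, 1, 2, 3, 4, 6, 7, 9, 5, 11, 8, 12, 10, 13, 14, 15, 16, 17, 18, 19, 20, 21],
    [0, 1, 2, 3, 4, 6, 7, 9, 5, 11, 8, 12, 13, 10, 14, 15, 16, 17, 18, 19, 20, 21],
    [0, 1, 2, 3, 4, 6, 7, 9, 5, 11, 8, 12, 13, 14, 10, 15, 16, 17, 18, 19, 20, 21],
    [0, 1, 2, 3, 4, 6, 7, 9, 5, 11, 8, 12, 13, 14, 15, 10, 16, 17, 18, 19, 20, 21],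
    [0, 1, 2, 3, 4, 6, 7, 9, 5, 11, 8, 12, 13, 14, 15, 16, 10, 17, 18, 19, 20, 21],
    [0, 1, 2, 3, 4, 6, 7, 9, 5, 11, 8, 12, 13, 14, 15, 16, 17, 10, 18, 19, 20, 21],
    [0, 1, 2, 3, 4, 6, 7, 9, 5, 11, 8, 12, 13, 14, 15, 16, 17, 18, 10, 19, 20, 21],
    [0, 1, 2, 3, 4, 6, 7, 9, 5, 11, 8, 12, 13, 14, 15, 16, 17, 18, 19, 10, 20, 21],
    [0, 1, 2, 3, 4, 6, 7, 9, 5, 11, 8, 12, 13, 14, 15, 16, 17, 18, 19, 20, 10, 21],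
    [0, 1, 2, 3, 4, 6, 7, 9, 5, 11, 8, 12, 13, 14, 15, 16, 17, 18, 19, 20, 21, 10],
    [0, 1, 2, 3, 4, 6, 7, 9, 5, 11, 12, 8, 10, 13, 14, 15, 16, 17, 18, 19, 20, 21],
    [0, 1, 2, 3, 4, 6, 7, 9, 5, 11, 12, 8, 13, 10, 14, 15, 16, 17, 18, 19, 20, 21],
    [0, 1, 2, 3, 4, 6, 7, 9, 5, 11, 12, 8, 13, 14, 10, 15, 16, 17, 18, 19, 20, 21],
    [0, 1, 2, 3, 4, 6, 7, 9, 5, 11, 12, 8, 13, 14, 15, 10, 16, 17, 18, 19, 20, 21],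
    [0, 1, 2, 3, 4, 6, 7, 9, 5, 11, 12, 8, 13, 14, 15, 16, 10, 17, 18, 19, 20, 21],
    [0, 1, 2, 3, 4, 6, 7, 9, 5, 11, 12, 8, 13, 14, 15, 16, 17, 10, 18, 19, 20, 21],
    [0, 1, 2, 3, 4, 6, 7, 9, 5, 11, 12, 8, 13, 14, 15, 16, 17, 18, 10, 19, 20, 21],
    [0, 1, 2, 3, 4, 6, 7, 9, 5, 11, 12, 8, 13, 14, 15, 16, 17, 18, 19, 10, 20, 21],
    [0, 1, 2, 3, 4, 6, 7, 9, 5, 11, 12, 8, 13, 14, 15, 16, 17, 18, 19, 20, 10, 21],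
    [0, 1, 2, 3, 4, 6, 7, 9, 5, 11, 12, 8, 13, 14, 15, 16, 17, 18, 19, 20, 21, 10],
    [0, 1, 2, 3, 4, 6, 7, 9, 5, 11, 12, 13, 8, 10, 14, 15, 16, 17, 18, 19, 20, 21],
    [0, 1, 2, 3, 4, 6, 7, 9, 5, 11, 12, 13, 8, 14, 10, 15, 16, 17, 18, 19, 20, 21],
    [0, 1, 2, 3, 4, 6, 7, 9, 5, 11, 12, 13, 8, 14, 15, 10, 16, 17, 18, 19, 20, 21],
    [0, 1, 2, 3, 4, 6, 7, 9, 5, 11, 12, 13, 8, 14, 15, 16, 10, 17, 18, 19, 20, 21],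
    [0, 1, 2, 3, 4, 6, 7, 9, 5, 11, 12, 13, 8, 14, 15, 16, 17, 10, 18, 19, 20, 21],
    [0, 1, 2, 3, 4, 6, 7, 9, 5, 11, 12, 13, 8, 14, 15, 16, 17, 18, 10, 19, 20, 21],
    [0, 1, 2, 3, 4, 6, 7, 9, 5, 11, 12, 13, 8, 14, 15, 16, 17, 18, 19, 10, 20, 21],
    [0, 1, 2, 3, 4, 6, 7, 9, 5, 11, 12, 13, 8, 14, 15, 16, 17, 18, 19, 20, 10, 21],
    [0, 1, 2, 3, 4, 6, 7, 9, 5, 11, 12, 13, 8, 14, 15, 16, 17, 18, 19, 20, 21, 10],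
    [0, 1, 2, 3, 4, 6, 7, 9, 5, 11, 12, 13, 14, 8, 10, 15, 16, 17, 18, 19, 20, 21],
    [0, 1, 2, 3, 4, 6, 7, 9, 5, 11, 12, 13, 14, 8, 15, 10, 16, 17, 18, 19, 20, 21],
    [0, 1, 2, 3, 4, 6, 7, 9, 5, 11, 12, 13, 14, 8, 15, 16, 10, 17, 18, 19, 20, 21],
    [0, 1, 2, 3, 4, 6, 7, 9, 5, 11, 12, 13, 14, 8, 15, 16, 17, 10, 18, 19, 20, 21],
    [0, 1, 2, 3, 4, 6, 7, 9, 5, 11, 12, 13, 14, 8, 15, 16, 17, 18, 10, 19, 20, 21],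
    [0, 1, 2, 3, 4, 6, 7, 9, 5, 11, 12, 13, 14, 8, 15, 16, 17, 18, 19, 10, 20, 21],
    [0, 1, 2, 3, 4, 6, 7, 9, 5, 11, 12, 13, 14, 8, 15, 16, 17, 18, 19, 20, 10, 21],
    [0, 1, 2, 3, 4, 6, 7, 9, 5, 11, 12, 13, 14, 8, 15, 16, 17, 18, 19, 20, 21, 10],
    [0, 1, 2, 3, 4, 6, 7, 9, 5, 11, 12, 13, 14, 15, 8, 10, 16, 17, 18, 19, 20, 21],
    [0, 1, 2, 3, 4, 6, 7, 9, 5, 11, 12, 13, 14, 15, 8, 16, 10, 17, 18, 19, 20, 21],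
    [0, 1, 2, 3, 4, 6, 7, 9, 5, 11, 12, 13, 14, 15, 8, 16, 17, 10, 18, 19, 20, 21],
    [0, 1, 2, 3, 4, 6, 7, 9, 5, 11, 12, 13, 14, 15, 8, 16, 17, 18, 10, 19, 20, 21],
    [0, 1, 2, 3, 4, 6, 7, 9, 5, 11, 12, 13, 14, 15, 8, 16, 17, 18, 19, 10, 20, 21]]

/-- Part 11 of the relabellings of step 0. -/
def sib22_0_11 : List (List ℕ) :=
  [
    [0, 1, 2, 3, 4, 6, 7, 9, 5, 11, 12, 13, 14, 15, 8, 16, 17, 18, 19, 20, 10, 21],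
    [0, 1, 2, 3, 4, 6, 7, 9, 5, 11, 12, 13, 14, 15, 8, 16, 17, 18, 19, 20, 21, 10],
    [0, 1, 2, 3, 4, 6, 7, 9, 5, 11, 12, 13, 14, 15, 16, 8, 10, 17, 18, 19, 20, 21],
    [0, 1, 2, 3, 4, 6, 7, 9, 5, 11, 12, 13, 14, 15, 16, 8, 17, 10, 18, 19, 20, 21],
    [0, 1, 2, 3, 4, 6, 7, 9, 5, 11, 12, 13, 14, 15, 16, 8, 17, 18, 10, 19, 20, 21],
    [0, 1, 2, 3, 4, 6, 7, 9, 5, 11, 12, 13, 14, 15, 16, 8, 17, 18, 19, 10, 20, 21],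
    [0, 1, 2, 3, 4, 6, 7, 9, 5, 11, 12, 13, 14, 15, 16, 8, 17, 18, 19, 20, 10, 21],
    [0, 1, 2, 3, 4, 6, 7, 9, 5, 11, 12, 13, 14, 15, 16, 8, 17, 18, 19, 20, 21, 10],
    [0, 1, 2, 3, 4, 6, 7, 9, 5, 11, 12, 13, 14, 15, 16, 17, 8, 10, 18, 19, 20, 21],
    [0, 1, 2, 3, 4, 6, 7, 9, 5, 11, 12, 13, 14, 15, 16, 17, 8, 18, 10, 19, 20, 21],
    [0, 1, 2, 3, 4, 6, 7, 9, 5, 11, 12, 13, 14, 15, 16, 17, 8, 18, 19, 10, 20, 21],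
    [0, 1, 2, 3, 4, 6, 7, 9, 5, 11, 12, 13, 14, 15, 16, 17, 8, 18, 19, 20, 10, 21],
    [0, 1, 2, 3, 4, 6, 7, 9, 5, 11, 12, 13, 14, 15, 16, 17, 8, 18, 19, 20, 21, 10],
    [0, 1, 2, 3, 4, 6, 7, 9, 5, 11, 12, 13, 14, 15, 16, 17, 18, 8, 10, 19, 20, 21],
    [0, 1, 2, 3, 4, 6, 7, 9, 5, 11, 12, 13, 14, 15, 16, 17, 18, 8, 19, 10, 20, 21],
    [0, 1, 2, 3, 4, 6, 7, 9, 5, 11, 12, 13, 14, 15, 16, 17, 18, 8, 19, 20, 10, 21],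
    [0, 1, 2, 3, 4, 6, 7, 9, 5, 11, 12, 13, 14, 15, 16, 17, 18, 8, 19, 20, 21, 10],
    [0, 1, 2, 3, 4, 6, 7, 9, 5, 11, 12, 13, 14, 15, 16, 17, 18, 19, 8, 10, 20, 21],
    [0, 1, 2, 3, 4, 6, 7, 9, 5, 11, 12, 13, 14, 15, 16, 17, 18, 19, 8, 20, 10, 21],
    [0, 1, 2, 3, 4, 6, 7, 9, 5, 11, 12, 13, 14, 15, 16, 17, 18, 19, 8, 20, 21, 10],
    [0, 1, 2, 3, 4, 6, 7, 9, 5, 11, 12, 13, 14, 15, 16, 17, 18, 19, 20, 8, 10, 21],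
    [0, 1, 2, 3, 4, 6, 7, 9, 5, 11, 12, 13, 14, 15, 16, 17, 18, 19, 20, 8, 21, 10],
    [0, 1, 2, 3, 4, 6, 7, 9, 5, 11, 12, 13, 14, 15, 16, 17, 18, 19, 20, 21, 8, 10],
    [0, 1, 2, 3, 4, 6, 7, 9, 11, 5, 8, 10, 12, 13, 14, 15, 16, 17, 18, 19, 20, 21],
    [0, 1, 2, 3, 4, 6, 7, 9, 11, 5, 8, 12, 10, 13, 14, 15, 16, 17, 18, 19, 20, 21],
    [0, 1, 2, 3, 4, 6, 7, 9, 11, 5, 8, 12, 13, 10, 14, 15, 16, 17, 18, 19, 20, 21],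
    [0, 1, 2, 3, 4, 6, 7, 9, 11, 5, 8, 12, 13, 14, 10, 15, 16, 17, 18, 19, 20, 21],
    [0, 1, 2, 3, 4, 6, 7, 9, 11, 5, 8, 12, 13, 14, 15, 10, 16, 17, 18, 19, 20, 21],
    [0, 1, 2, 3, 4, 6, 7, 9, 11, 5, 8, 12, 13, 14, 15, 16, 10, 17, 18, 19, 20, 21],
    [0, 1, 2, 3, 4, 6, 7, 9, 11, 5, 8, 12, 13, 14, 15, 16, 17, 10, 18, 19, 20, 21],
    [0, 1, 2, 3, 4, 6, 7, 9, 11, 5, 8, 12, 13, 14, 15, 16, 17, 18, 10, 19, 20, 21],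
    [0, 1, 2, 3, 4, 6, 7, 9, 11, 5, 8, 12, 13, 14, 15, 16, 17, 18, 19, 10, 20, 21],
    [0, 1, 2, 3, 4, 6, 7, 9, 11, 5, 8, 12, 13, 14, 15, 16, 17, 18, 19, 20, 10, 21],
    [0, 1, 2, 3, 4, 6, 7, 9, 11, 5, 8, 12, 13, 14, 15, 16, 17, 18, 19, 20, 21, 10],
    [0, 1, 2, 3, 4, 6, 7, 9, 11, 5, 12, 8, 10, 13, 14, 15, 16, 17, 18, 19, 20, 21],
    [0, 1, 2, 3, 4, 6, 7, 9, 11, 5, 12, 8, 13, 10, 14, 15, 16, 17, 18, 19, 20, 21],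
    [0, 1, 2, 3, 4, 6, 7, 9, 11, 5, 12, 8, 13, 14, 10, 15, 16, 17, 18, 19, 20, 21],
    [0, 1, 2, 3, 4, 6, 7, 9, 11, 5, 12, 8, 13, 14, 15, 10, 16, 17, 18, 19, 20, 21],
    [0, 1, 2, 3, 4, 6, 7, 9, 11, 5, 12, 8, 13, 14, 15, 16, 10, 17, 18, 19, 20, 21],
    [0, 1, 2, 3, 4, 6, 7, 9, 11, 5, 12, 8, 13, 14, 15, 16, 17, 10, 18, 19, 20, 21],
    [0, 1, 2, 3, 4, 6, 7, 9, 11, 5, 12, 8, 13, 14, 15, 16, 17, 18, 10, 19, 20, 21],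
    [0, 1, 2, 3, 4, 6, 7, 9, 11, 5, 12, 8, 13, 14, 15, 16, 17, 18, 19, 10, 20, 21],
    [0, 1, 2, 3, 4, 6, 7, 9, 11, 5, 12, 8, 13, 14, 15, 16, 17, 18, 19, 20, 10, 21],
    [0, 1, 2, 3, 4, 6, 7, 9, 11, 5, 12, 8, 13, 14, 15, 16, 17, 18, 19, 20, 21, 10],
    [0, 1, 2, 3, 4, 6, 7, 9, 11, 5, 12, 13, 8, 10, 14, 15, 16, 17, 18, 19, 20, 21],
    [0, 1, 2, 3, 4, 6, 7, 9, 11, 5, 12, 13, 8, 14, 10, 15, 16, 17, 18, 19, 20, 21],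
    [0, 1, 2, 3, 4, 6, 7, 9, 11, 5, 12, 13, 8, 14, 15, 10, 16, 17, 18, 19, 20, 21],
    [0, 1, 2, 3, 4, 6, 7, 9, 11, 5, 12, 13, 8, 14, 15, 16, 10, 17, 18, 19, 20, 21],
    [0, 1, 2, 3, 4, 6, 7, 9, 11, 5, 12, 13, 8, 14, 15, 16, 17, 10, 18, 19, 20, 21],
    [0, 1, 2, 3, 4, 6, 7, 9, 11, 5, 12, 13, 8, 14, 15, 16, 17, 18, 10, 19, 20, 21],
    [0, 1, 2, 3, 4, 6, 7, 9, 11, 5, 12, 13, 8, 14, 15, 16, 17, 18, 19, 10, 20, 21],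
    [0, 1, 2, 3, 4, 6, 7, 9, 11, 5, 12, 13, 8, 14, 15, 16, 17, 18, 19, 20, 10, 21],
    [0, 1, 2, 3, 4, 6, 7, 9, 11, 5, 12, 13, 8, 14, 15, 16, 17, 18, 19, 20, 21, 10],
    [0, 1, 2, 3, 4, 6, 7, 9, 11, 5, 12, 13, 14, 8, 10, 15, 16, 17, 18, 19, 20, 21],
    [0, 1, 2, 3, 4, 6, 7, 9, 11, 5, 12, 13, 14, 8, 15, 10, 16, 17, 18, 19, 20, 21],
    [0, 1, 2, 3, 4, 6, 7, 9, 11, 5, 12, 13, 14, 8, 15, 16, 10, 17, 18, 19, 20, 21],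
    [0, 1, 2, 3, 4, 6, 7, 9, 11, 5, 12, 13, 14, 8, 15, 16, 17, 10, 18, 19, 20, 21],
    [0, 1, 2, 3, 4, 6, 7, 9, 11, 5, 12, 13, 14, 8, 15, 16, 17, 18, 10, 19, 20, 21],
    [0, 1, 2, 3, 4, 6, 7, 9, 11, 5, 12, 13, 14, 8, 15, 16, 17, 18, 19, 10, 20, 21],
    [0, 1, 2, 3, 4, 6, 7, 9, 11, 5, 12, 13, 14, 8, 15, 16, 17, 18, 19, 20, 10, 21]]

/-- Part 12 of the relabellings of step 0. -/
def sib22_0_12 : List (List ℕ) :=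
  [
    [0, 1, 2, 3, 4, 6, 7, 9, 11, 5, 12, 13, 14, 8, 15, 16, 17, 18, 19, 20, 21, 10],
    [0, 1, 2, 3, 4, 6, 7, 9, 11, 5, 12, 13, 14, 15, 8, 10, 16, 17, 18, 19, 20, 21],
    [0, 1, 2, 3, 4, 6, 7, 9, 11, 5, 12, 13, 14, 15, 8, 16, 10, 17, 18, 19, 20, 21],
    [0, 1, 2, 3, 4, 6, 7, 9, 11, 5, 12, 13, 14, 15, 8, 16, 17, 10, 18, 19, 20, 21],
    [0, 1, 2, 3, 4, 6, 7, 9, 11, 5, 12, 13, 14, 15, 8, 16, 17, 18, 10, 19, 20, 21],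
    [0, 1, 2, 3, 4, 6, 7, 9, 11, 5, 12, 13, 14, 15, 8, 16, 17, 18, 19, 10, 20, 21],
    [0, 1, 2, 3, 4, 6, 7, 9, 11, 5, 12, 13, 14, 15, 8, 16, 17, 18, 19, 20, 10, 21],
    [0, 1, 2, 3, 4, 6, 7, 9, 11, 5, 12, 13, 14, 15, 8, 16, 17, 18, 19, 20, 21, 10],
    [0, 1, 2, 3, 4, 6, 7, 9, 11, 5, 12, 13, 14, 15, 16, 8, 10, 17, 18, 19, 20, 21],
    [0, 1, 2, 3, 4, 6, 7, 9, 11, 5, 12, 13, 14, 15, 16, 8, 17, 10, 18, 19, 20, 21],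
    [0, 1, 2, 3, 4, 6, 7, 9, 11, 5, 12, 13, 14, 15, 16, 8, 17, 18, 10, 19, 20, 21],
    [0, 1, 2, 3, 4, 6, 7, 9, 11, 5, 12, 13, 14, 15, 16, 8, 17, 18, 19, 10, 20, 21],
    [0, 1, 2, 3, 4, 6, 7, 9, 11, 5, 12, 13, 14, 15, 16, 8, 17, 18, 19, 20, 10, 21],
    [0, 1, 2, 3, 4, 6, 7, 9, 11, 5, 12, 13, 14, 15, 16, 8, 17, 18, 19, 20, 21, 10],
    [0, 1, 2, 3, 4, 6, 7, 9, 11, 5, 12, 13, 14, 15, 16, 17, 8, 10, 18, 19, 20, 21],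
    [0, 1, 2, 3, 4, 6, 7, 9, 11, 5, 12, 13, 14, 15, 16, 17, 8, 18, 10, 19, 20, 21],
    [0, 1, 2, 3, 4, 6, 7, 9, 11, 5, 12, 13, 14, 15, 16, 17, 8, 18, 19, 10, 20, 21],
    [0, 1, 2, 3, 4, 6, 7, 9, 11, 5, 12, 13, 14, 15, 16, 17, 8, 18, 19, 20, 10, 21],
    [0, 1, 2, 3, 4, 6, 7, 9, 11, 5, 12, 13, 14, 15, 16, 17, 8, 18, 19, 20, 21, 10],
    [0, 1, 2, 3, 4, 6, 7, 9, 11, 5, 12, 13, 14, 15, 16, 17, 18, 8, 10, 19, 20, 21],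
    [0, 1, 2, 3, 4, 6, 7, 9, 11, 5, 12, 13, 14, 15, 16, 17, 18, 8, 19, 10, 20, 21],
    [0, 1, 2, 3, 4, 6, 7, 9, 11, 5, 12, 13, 14, 15, 16, 17, 18, 8, 19, 20, 10, 21],
    [0, 1, 2, 3, 4, 6, 7, 9, 11, 5, 12, 13, 14, 15, 16, 17, 18, 8, 19, 20, 21, 10],
    [0, 1, 2, 3, 4, 6, 7, 9, 11, 5, 12, 13, 14, 15, 16, 17, 18, 19, 8, 10, 20, 21],
    [0, 1, 2, 3, 4, 6, 7, 9, 11, 5, 12, 13, 14, 15, 16, 17, 18, 19, 8, 20, 10, 21],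
    [0, 1, 2, 3, 4, 6, 7, 9, 11, 5, 12, 13, 14, 15, 16, 17, 18, 19, 8, 20, 21, 10],
    [0, 1, 2, 3, 4, 6, 7, 9, 11, 5, 12, 13, 14, 15, 16, 17, 18, 19, 20, 8, 10, 21],
    [0, 1, 2, 3, 4, 6, 7, 9, 11, 5, 12, 13, 14, 15, 16, 17, 18, 19, 20, 8, 21, 10],
    [0, 1, 2, 3, 4, 6, 7, 9, 11, 5, 12, 13, 14, 15, 16, 17, 18, 19, 20, 21, 8, 10],
    [0, 1, 2, 3, 4, 6, 7, 9, 11, 12, 5, 8, 10, 13, 14, 15, 16, 17, 18, 19, 20, 21],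
    [0, 1, 2, 3, 4, 6, 7, 9, 11, 12, 5, 8, 13, 10, 14, 15, 16, 17, 18, 19, 20, 21],
    [0, 1, 2, 3, 4, 6, 7, 9, 11, 12, 5, 8, 13, 14, 10, 15, 16, 17, 18, 19, 20, 21],
    [0, 1, 2, 3, 4, 6, 7, 9, 11, 12, 5, 8, 13, 14, 15, 10, 16, 17, 18, 19, 20, 21],
    [0, 1, 2, 3, 4, 6, 7, 9, 11, 12, 5, 8, 13, 14, 15, 16, 10, 17, 18, 19, 20, 21],
    [0, 1, 2, 3, 4, 6, 7, 9, 11, 12, 5, 8, 13, 14, 15, 16, 17, 10, 18, 19, 20, 21],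
    [0, 1, 2, 3, 4, 6, 7, 9, 11, 12, 5, 8, 13, 14, 15, 16, 17, 18, 10, 19, 20, 21],
    [0, 1, 2, 3, 4, 6, 7, 9, 11, 12, 5, 8, 13, 14, 15, 16, 17, 18, 19, 10, 20, 21],
    [0, 1, 2, 3, 4, 6, 7, 9, 11, 12, 5, 8, 13, 14, 15, 16, 17, 18, 19, 20, 10, 21],
    [0, 1, 2, 3, 4, 6, 7, 9, 11, 12, 5, 8, 13, 14, 15, 16, 17, 18, 19, 20, 21, 10],
    [0, 1, 2, 3, 4, 6, 7, 9, 11, 12, 5, 13, 8, 10, 14, 15, 16, 17, 18, 19, 20, 21],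
    [0, 1, 2, 3, 4, 6, 7, 9, 11, 12, 5, 13, 8, 14, 10, 15, 16, 17, 18, 19, 20, 21],
    [0, 1, 2, 3, 4, 6, 7, 9, 11, 12, 5, 13, 8, 14, 15, 10, 16, 17, 18, 19, 20, 21],
    [0, 1, 2, 3, 4, 6, 7, 9, 11, 12, 5, 13, 8, 14, 15, 16, 10, 17, 18, 19, 20, 21],
    [0, 1, 2, 3, 4, 6, 7, 9, 11, 12, 5, 13, 8, 14, 15, 16, 17, 10, 18, 19, 20, 21],
    [0, 1, 2, 3, 4, 6, 7, 9, 11, 12, 5, 13, 8, 14, 15, 16, 17, 18, 10, 19, 20, 21],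
    [0, 1, 2, 3, 4, 6, 7, 9, 11, 12, 5, 13, 8, 14, 15, 16, 17, 18, 19, 10, 20, 21],
    [0, 1, 2, 3, 4, 6, 7, 9, 11, 12, 5, 13, 8, 14, 15, 16, 17, 18, 19, 20, 10, 21],
    [0, 1, 2, 3, 4, 6, 7, 9, 11, 12, 5, 13, 8, 14, 15, 16, 17, 18, 19, 20, 21, 10],
    [0, 1, 2, 3, 4, 6, 7, 9, 11, 12, 5, 13, 14, 8, 10, 15, 16, 17, 18, 19, 20, 21],
    [0, 1, 2, 3, 4, 6, 7, 9, 11, 12, 5, 13, 14, 8, 15, 10, 16, 17, 18, 19, 20, 21],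
    [0, 1, 2, 3, 4, 6, 7, 9, 11, 12, 5, 13, 14, 8, 15, 16, 10, 17, 18, 19, 20, 21],
    [0, 1, 2, 3, 4, 6, 7, 9, 11, 12, 5, 13, 14, 8, 15, 16, 17, 10, 18, 19, 20, 21],
    [0, 1, 2, 3, 4, 6, 7, 9, 11, 12, 5, 13, 14, 8, 15, 16, 17, 18, 10, 19, 20, 21],
    [0, 1, 2, 3, 4, 6, 7, 9, 11, 12, 5, 13, 14, 8, 15, 16, 17, 18, 19, 10, 20, 21],
    [0, 1, 2, 3, 4, 6, 7, 9, 11, 12, 5, 13, 14, 8, 15, 16, 17, 18, 19, 20, 10, 21],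
    [0, 1, 2, 3, 4, 6, 7, 9, 11, 12, 5, 13, 14, 8, 15, 16, 17, 18, 19, 20, 21, 10],
    [0, 1, 2, 3, 4, 6, 7, 9, 11, 12, 5, 13, 14, 15, 8, 10, 16, 17, 18, 19, 20, 21],
    [0, 1, 2, 3, 4, 6, 7, 9, 11, 12, 5, 13, 14, 15, 8, 16, 10, 17, 18, 19, 20, 21],
    [0, 1, 2, 3, 4, 6, 7, 9, 11, 12, 5, 13, 14, 15, 8, 16, 17, 10, 18, 19, 20, 21],
    [0, 1, 2, 3, 4, 6, 7, 9, 11, 12, 5, 13, 14, 15, 8, 16, 17, 18, 10, 19, 20, 21]]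

/-- Part 13 of the relabellings of step 0. -/
def sib22_0_13 : List (List ℕ) :=
  [
    [0, 1, 2, 3, 4, 6, 7, 9, 11, 12, 5, 13, 14, 15, 8, 16, 17, 18, 19, 10, 20, 21],
    [0, 1, 2, 3, 4, 6, 7, 9, 11, 12, 5, 13, 14, 15, 8, 16, 17, 18, 19, 20, 10, 21],
    [0, 1, 2, 3, 4, 6, 7, 9, 11, 12, 5, 13, 14, 15, 8, 16, 17, 18, 19, 20, 21, 10],
    [0, 1, 2, 3, 4, 6, 7, 9, 11, 12, 5, 13, 14, 15, 16, 8, 10, 17, 18, 19, 20, 21],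
    [0, 1, 2, 3, 4, 6, 7, 9, 11, 12, 5, 13, 14, 15, 16, 8, 17, 10, 18, 19, 20, 21],
    [0, 1, 2, 3, 4, 6, 7, 9, 11, 12, 5, 13, 14, 15, 16, 8, 17, 18, 10, 19, 20, 21],
    [0, 1, 2, 3, 4, 6, 7, 9, 11, 12, 5, 13, 14, 15, 16, 8, 17, 18, 19, 10, 20, 21],
    [0, 1, 2, 3, 4, 6, 7, 9, 11, 12, 5, 13, 14, 15, 16, 8, 17, 18, 19, 20, 10, 21],
    [0, 1, 2, 3, 4, 6, 7, 9, 11, 12, 5, 13, 14, 15, 16, 8, 17, 18, 19, 20, 21, 10],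
    [0, 1, 2, 3, 4, 6, 7, 9, 11, 12, 5, 13, 14, 15, 16, 17, 8, 10, 18, 19, 20, 21],
    [0, 1, 2, 3, 4, 6, 7, 9, 11, 12, 5, 13, 14, 15, 16, 17, 8, 18, 10, 19, 20, 21],
    [0, 1, 2, 3, 4, 6, 7, 9, 11, 12, 5, 13, 14, 15, 16, 17, 8, 18, 19, 10, 20, 21],
    [0, 1, 2, 3, 4, 6, 7, 9, 11, 12, 5, 13, 14, 15, 16, 17, 8, 18, 19, 20, 10, 21],
    [0, 1, 2, 3, 4, 6, 7, 9, 11, 12, 5, 13, 14, 15, 16, 17, 8, 18, 19, 20, 21, 10],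
    [0, 1, 2, 3, 4, 6, 7, 9, 11, 12, 5, 13, 14, 15, 16, 17, 18, 8, 10, 19, 20, 21],
    [0, 1, 2, 3, 4, 6, 7, 9, 11, 12, 5, 13, 14, 15, 16, 17, 18, 8, 19, 10, 20, 21],
    [0, 1, 2, 3, 4, 6, 7, 9, 11, 12, 5, 13, 14, 15, 16, 17, 18, 8, 19, 20, 10, 21],
    [0, 1, 2, 3, 4, 6, 7, 9, 11, 12, 5, 13, 14, 15, 16, 17, 18, 8, 19, 20, 21, 10],
    [0, 1, 2, 3, 4, 6, 7, 9, 11, 12, 5, 13, 14, 15, 16, 17, 18, 19, 8, 10, 20, 21],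
    [0, 1, 2, 3, 4, 6, 7, 9, 11, 12, 5, 13, 14, 15, 16, 17, 18, 19, 8, 20, 10, 21],
    [0, 1, 2, 3, 4, 6, 7, 9, 11, 12, 5, 13, 14, 15, 16, 17, 18, 19, 8, 20, 21, 10],
    [0, 1, 2, 3, 4, 6, 7, 9, 11, 12, 5, 13, 14, 15, 16, 17, 18, 19, 20, 8, 10, 21],
    [0, 1, 2, 3, 4, 6, 7, 9, 11, 12, 5, 13, 14, 15, 16, 17, 18, 19, 20, 8, 21, 10],
    [0, 1, 2, 3, 4, 6, 7, 9, 11, 12, 5, 13, 14, 15, 16, 17, 18, 19, 20, 21, 8, 10],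
    [0, 1, 2, 3, 4, 6, 7, 9, 11, 12, 13, 5, 8, 10, 14, 15, 16, 17, 18, 19, 20, 21],
    [0, 1, 2, 3, 4, 6, 7, 9, 11, 12, 13, 5, 8, 14, 10, 15, 16, 17, 18, 19, 20, 21],
    [0, 1, 2, 3, 4, 6, 7, 9, 11, 12, 13, 5, 8, 14, 15, 10, 16, 17, 18, 19, 20, 21],
    [0, 1, 2, 3, 4, 6, 7, 9, 11, 12, 13, 5, 8, 14, 15, 16, 10, 17, 18, 19, 20, 21],
    [0, 1, 2, 3, 4, 6, 7, 9, 11, 12, 13, 5, 8, 14, 15, 16, 17, 10, 18, 19, 20, 21],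
    [0, 1, 2, 3, 4, 6, 7, 9, 11, 12, 13, 5, 8, 14, 15, 16, 17, 18, 10, 19, 20, 21],
    [0, 1, 2, 3, 4, 6, 7, 9, 11, 12, 13, 5, 8, 14, 15, 16, 17, 18, 19, 10, 20, 21],
    [0, 1, 2, 3, 4, 6, 7, 9, 11, 12, 13, 5, 8, 14, 15, 16, 17, 18, 19, 20, 10, 21],
    [0, 1, 2, 3, 4, 6, 7, 9, 11, 12, 13, 5, 8, 14, 15, 16, 17, 18, 19, 20, 21, 10],
    [0, 1, 2, 3, 4, 6, 7, 9, 11, 12, 13, 5, 14, 8, 10, 15, 16, 17, 18, 19, 20, 21],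
    [0, 1, 2, 3, 4, 6, 7, 9, 11, 12, 13, 5, 14, 8, 15, 10, 16, 17, 18, 19, 20, 21],
    [0, 1, 2, 3, 4, 6, 7, 9, 11, 12, 13, 5, 14, 8, 15, 16, 10, 17, 18, 19, 20, 21],
    [0, 1, 2, 3, 4, 6, 7, 9, 11, 12, 13, 5, 14, 8, 15, 16, 17, 10, 18, 19, 20, 21],
    [0, 1, 2, 3, 4, 6, 7, 9, 11, 12, 13, 5, 14, 8, 15, 16, 17, 18, 10, 19, 20, 21],
    [0, 1, 2, 3, 4, 6, 7, 9, 11, 12, 13, 5, 14, 8, 15, 16, 17, 18, 19, 10, 20, 21],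
    [0, 1, 2, 3, 4, 6, 7, 9, 11, 12, 13, 5, 14, 8, 15, 16, 17, 18, 19, 20, 10, 21],
    [0, 1, 2, 3, 4, 6, 7, 9, 11, 12, 13, 5, 14, 8, 15, 16, 17, 18, 19, 20, 21, 10],
    [0, 1, 2, 3, 4, 6, 7, 9, 11, 12, 13, 5, 14, 15, 8, 10, 16, 17, 18, 19, 20, 21],
    [0, 1, 2, 3, 4, 6, 7, 9, 11, 12, 13, 5, 14, 15, 8, 16, 10, 17, 18, 19, 20, 21],
    [0, 1, 2, 3, 4, 6, 7, 9, 11, 12, 13, 5, 14, 15, 8, 16, 17, 10, 18, 19, 20, 21],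
    [0, 1, 2, 3, 4, 6, 7, 9, 11, 12, 13, 5, 14, 15, 8, 16, 17, 18, 10, 19, 20, 21],
    [0, 1, 2, 3, 4, 6, 7, 9, 11, 12, 13, 5, 14, 15, 8, 16, 17, 18, 19, 10, 20, 21],
    [0, 1, 2, 3, 4, 6, 7, 9, 11, 12, 13, 5, 14, 15, 8, 16, 17, 18, 19, 20, 10, 21],
    [0, 1, 2, 3, 4, 6, 7, 9, 11, 12, 13, 5, 14, 15, 8, 16, 17, 18, 19, 20, 21, 10],
    [0, 1, 2, 3, 4, 6, 7, 9, 11, 12, 13, 5, 14, 15, 16, 8, 10, 17, 18, 19, 20, 21],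
    [0, 1, 2, 3, 4, 6, 7, 9, 11, 12, 13, 5, 14, 15, 16, 8, 17, 10, 18, 19, 20, 21],
    [0, 1, 2, 3, 4, 6, 7, 9, 11, 12, 13, 5, 14, 15, 16, 8, 17, 18, 10, 19, 20, 21],
    [0, 1, 2, 3, 4, 6, 7, 9, 11, 12, 13, 5, 14, 15, 16, 8, 17, 18, 19, 10, 20, 21],
    [0, 1, 2, 3, 4, 6, 7, 9, 11, 12, 13, 5, 14, 15, 16, 8, 17, 18, 19, 20, 10, 21],
    [0, 1, 2, 3, 4, 6, 7, 9, 11, 12, 13, 5, 14, 15, 16, 8, 17, 18, 19, 20, 21, 10],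
    [0, 1, 2, 3, 4, 6, 7, 9, 11, 12, 13, 5, 14, 15, 16, 17, 8, 10, 18, 19, 20, 21],
    [0, 1, 2, 3, 4, 6, 7, 9, 11, 12, 13, 5, 14, 15, 16, 17, 8, 18, 10, 19, 20, 21],
    [0, 1, 2, 3, 4, 6, 7, 9, 11, 12, 13, 5, 14, 15, 16, 17, 8, 18, 19, 10, 20, 21],
    [0, 1, 2, 3, 4, 6, 7, 9, 11, 12, 13, 5, 14, 15, 16, 17, 8, 18, 19, 20, 10, 21],
    [0, 1, 2, 3, 4, 6, 7, 9, 11, 12, 13, 5, 14, 15, 16, 17, 8, 18, 19, 20, 21, 10],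
    [0, 1, 2, 3, 4, 6, 7, 9, 11, 12, 13, 5, 14, 15, 16, 17, 18, 8, 10, 19, 20, 21]]

/-- Part 14 of the relabellings of step 0. -/
def sib22_0_14 : List (List ℕ) :=
  [
    [0, 1, 2, 3, 4, 6, 7, 9, 11, 12, 13, 5, 14, 15, 16, 17, 18, 8, 19, 10, 20, 21],
    [0, 1, 2, 3, 4, 6, 7, 9, 11, 12, 13, 5, 14, 15, 16, 17, 18, 8, 19, 20, 10, 21],
    [0, 1, 2, 3, 4, 6, 7, 9, 11, 12, 13, 5, 14, 15, 16, 17, 18, 8, 19, 20, 21, 10],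
    [0, 1, 2, 3, 4, 6, 7, 9, 11, 12, 13, 5, 14, 15, 16, 17, 18, 19, 8, 10, 20, 21],
    [0, 1, 2, 3, 4, 6, 7, 9, 11, 12, 13, 5, 14, 15, 16, 17, 18, 19, 8, 20, 10, 21],
    [0, 1, 2, 3, 4, 6, 7, 9, 11, 12, 13, 5, 14, 15, 16, 17, 18, 19, 8, 20, 21, 10],
    [0, 1, 2, 3, 4, 6, 7, 9, 11, 12, 13, 5, 14, 15, 16, 17, 18, 19, 20, 8, 10, 21],
    [0, 1, 2, 3, 4, 6, 7, 9, 11, 12, 13, 5, 14, 15, 16, 17, 18, 19, 20, 8, 21, 10],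
    [0, 1, 2, 3, 4, 6, 7, 9, 11, 12, 13, 5, 14, 15, 16, 17, 18, 19, 20, 21, 8, 10],
    [0, 1, 2, 3, 4, 6, 7, 9, 11, 12, 13, 14, 5, 8, 10, 15, 16, 17, 18, 19, 20, 21],
    [0, 1, 2, 3, 4, 6, 7, 9, 11, 12, 13, 14, 5, 8, 15, 10, 16, 17, 18, 19, 20, 21],
    [0, 1, 2, 3, 4, 6, 7, 9, 11, 12, 13, 14, 5, 8, 15, 16, 10, 17, 18, 19, 20, 21],
    [0, 1, 2, 3, 4, 6, 7, 9, 11, 12, 13, 14, 5, 8, 15, 16, 17, 10, 18, 19, 20, 21],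
    [0, 1, 2, 3, 4, 6, 7, 9, 11, 12, 13, 14, 5, 8, 15, 16, 17, 18, 10, 19, 20, 21],
    [0, 1, 2, 3, 4, 6, 7, 9, 11, 12, 13, 14, 5, 8, 15, 16, 17, 18, 19, 10, 20, 21],
    [0, 1, 2, 3, 4, 6, 7, 9, 11, 12, 13, 14, 5, 8, 15, 16, 17, 18, 19, 20, 10, 21],
    [0, 1, 2, 3, 4, 6, 7, 9, 11, 12, 13, 14, 5, 8, 15, 16, 17, 18, 19, 20, 21, 10],
    [0, 1, 2, 3, 4, 6, 7, 9, 11, 12, 13, 14, 5, 15, 8, 10, 16, 17, 18, 19, 20, 21],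
    [0, 1, 2, 3, 4, 6, 7, 9, 11, 12, 13, 14, 5, 15, 8, 16, 10, 17, 18, 19, 20, 21],
    [0, 1, 2, 3, 4, 6, 7, 9, 11, 12, 13, 14, 5, 15, 8, 16, 17, 10, 18, 19, 20, 21],
    [0, 1, 2, 3, 4, 6, 7, 9, 11, 12, 13, 14, 5, 15, 8, 16, 17, 18, 10, 19, 20, 21],
    [0, 1, 2, 3, 4, 6, 7, 9, 11, 12, 13, 14, 5, 15, 8, 16, 17, 18, 19, 10, 20, 21],
    [0, 1, 2, 3, 4, 6, 7, 9, 11, 12, 13, 14, 5, 15, 8, 16, 17, 18, 19, 20, 10, 21],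
    [0, 1, 2, 3, 4, 6, 7, 9, 11, 12, 13, 14, 5, 15, 8, 16, 17, 18, 19, 20, 21, 10],
    [0, 1, 2, 3, 4, 6, 7, 9, 11, 12, 13, 14, 5, 15, 16, 8, 10, 17, 18, 19, 20, 21],
    [0, 1, 2, 3, 4, 6, 7, 9, 11, 12, 13, 14, 5, 15, 16, 8, 17, 10, 18, 19, 20, 21],
    [0, 1, 2, 3, 4, 6, 7, 9, 11, 12, 13, 14, 5, 15, 16, 8, 17, 18, 10, 19, 20, 21],
    [0, 1, 2, 3, 4, 6, 7, 9, 11, 12, 13, 14, 5, 15, 16, 8, 17, 18, 19, 10, 20, 21],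
    [0, 1, 2, 3, 4, 6, 7, 9, 11, 12, 13, 14, 5, 15, 16, 8, 17, 18, 19, 20, 10, 21],
    [0, 1, 2, 3, 4, 6, 7, 9, 11, 12, 13, 14, 5, 15, 16, 8, 17, 18, 19, 20, 21, 10],
    [0, 1, 2, 3, 4, 6, 7, 9, 11, 12, 13, 14, 5, 15, 16, 17, 8, 10, 18, 19, 20, 21],
    [0, 1, 2, 3, 4, 6, 7, 9, 11, 12, 13, 14, 5, 15, 16, 17, 8, 18, 10, 19, 20, 21],
    [0, 1, 2, 3, 4, 6, 7, 9, 11, 12, 13, 14, 5, 15, 16, 17, 8, 18, 19, 10, 20, 21],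
    [0, 1, 2, 3, 4, 6, 7, 9, 11, 12, 13, 14, 5, 15, 16, 17, 8, 18, 19, 20, 10, 21],
    [0, 1, 2, 3, 4, 6, 7, 9, 11, 12, 13, 14, 5, 15, 16, 17, 8, 18, 19, 20, 21, 10],
    [0, 1, 2, 3, 4, 6, 7, 9, 11, 12, 13, 14, 5, 15, 16, 17, 18, 8, 10, 19, 20, 21],
    [0, 1, 2, 3, 4, 6, 7, 9, 11, 12, 13, 14, 5, 15, 16, 17, 18, 8, 19, 10, 20, 21],
    [0, 1, 2, 3, 4, 6, 7, 9, 11, 12, 13, 14, 5, 15, 16, 17, 18, 8, 19, 20, 10, 21],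
    [0, 1, 2, 3, 4, 6, 7, 9, 11, 12, 13, 14, 5, 15, 16, 17, 18, 8, 19, 20, 21, 10],
    [0, 1, 2, 3, 4, 6, 7, 9, 11, 12, 13, 14, 5, 15, 16, 17, 18, 19, 8, 10, 20, 21],
    [0, 1, 2, 3, 4, 6, 7, 9, 11, 12, 13, 14, 5, 15, 16, 17, 18, 19, 8, 20, 10, 21],
    [0, 1, 2, 3, 4, 6, 7, 9, 11, 12, 13, 14, 5, 15, 16, 17, 18, 19, 8, 20, 21, 10],
    [0, 1, 2, 3, 4, 6, 7, 9, 11, 12, 13, 14, 5, 15, 16, 17, 18, 19, 20, 8, 10, 21],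
    [0, 1, 2, 3, 4, 6, 7, 9, 11, 12, 13, 14, 5, 15, 16, 17, 18, 19, 20, 8, 21, 10],
    [0, 1, 2, 3, 4, 6, 7, 9, 11, 12, 13, 14, 5, 15, 16, 17, 18, 19, 20, 21, 8, 10],
    [0, 1, 2, 3, 4, 6, 7, 9, 11, 12, 13, 14, 15, 5, 8, 10, 16, 17, 18, 19, 20, 21],
    [0, 1, 2, 3, 4, 6, 7, 9, 11, 12, 13, 14, 15, 5, 8, 16, 10, 17, 18, 19, 20, 21],
    [0, 1, 2, 3, 4, 6, 7, 9, 11, 12, 13, 14, 15, 5, 8, 16, 17, 10, 18, 19, 20, 21],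
    [0, 1, 2, 3, 4, 6, 7, 9, 11, 12, 13, 14, 15, 5, 8, 16, 17, 18, 10, 19, 20, 21],
    [0, 1, 2, 3, 4, 6, 7, 9, 11, 12, 13, 14, 15, 5, 8, 16, 17, 18, 19, 10, 20, 21],
    [0, 1, 2, 3, 4, 6, 7, 9, 11, 12, 13, 14, 15, 5, 8, 16, 17, 18, 19, 20, 10, 21],
    [0, 1, 2, 3, 4, 6, 7, 9, 11, 12, 13, 14, 15, 5, 8, 16, 17, 18, 19, 20, 21, 10],
    [0, 1, 2, 3, 4, 6, 7, 9, 11, 12, 13, 14, 15, 5, 16, 8, 10, 17, 18, 19, 20, 21],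
    [0, 1, 2, 3, 4, 6, 7, 9, 11, 12, 13, 14, 15, 5, 16, 8, 17, 10, 18, 19, 20, 21],
    [0, 1, 2, 3, 4, 6, 7, 9, 11, 12, 13, 14, 15, 5, 16, 8, 17, 18, 10, 19, 20, 21],
    [0, 1, 2, 3, 4, 6, 7, 9, 11, 12, 13, 14, 15, 5, 16, 8, 17, 18, 19, 10, 20, 21],
    [0, 1, 2, 3, 4, 6, 7, 9, 11, 12, 13, 14, 15, 5, 16, 8, 17, 18, 19, 20, 10, 21],
    [0, 1, 2, 3, 4, 6, 7, 9, 11, 12, 13, 14, 15, 5, 16, 8, 17, 18, 19, 20, 21, 10],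
    [0, 1, 2, 3, 4, 6, 7, 9, 11, 12, 13, 14, 15, 5, 16, 17, 8, 10, 18, 19, 20, 21],
    [0, 1, 2, 3, 4, 6, 7, 9, 11, 12, 13, 14, 15, 5, 16, 17, 8, 18, 10, 19, 20, 21]]

/-- Part 15 of the relabellings of step 0. -/
def sib22_0_15 : List (List ℕ) :=
  [
    [0, 1, 2, 3, 4, 6, 7, 9, 11, 12, 13, 14, 15, 5, 16, 17, 8, 18, 19, 10, 20, 21],
    [0, 1, 2, 3, 4, 6, 7, 9, 11, 12, 13, 14, 15, 5, 16, 17, 8, 18, 19, 20, 10, 21],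
    [0, 1, 2, 3, 4, 6, 7, 9, 11, 12, 13, 14, 15, 5, 16, 17, 8, 18, 19, 20, 21, 10],
    [0, 1, 2, 3, 4, 6, 7, 9, 11, 12, 13, 14, 15, 5, 16, 17, 18, 8, 10, 19, 20, 21],
    [0, 1, 2, 3, 4, 6, 7, 9, 11, 12, 13, 14, 15, 5, 16, 17, 18, 8, 19, 10, 20, 21],
    [0, 1, 2, 3, 4, 6, 7, 9, 11, 12, 13, 14, 15, 5, 16, 17, 18, 8, 19, 20, 10, 21],
    [0, 1, 2, 3, 4, 6, 7, 9, 11, 12, 13, 14, 15, 5, 16, 17, 18, 8, 19, 20, 21, 10],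
    [0, 1, 2, 3, 4, 6, 7, 9, 11, 12, 13, 14, 15, 5, 16, 17, 18, 19, 8, 10, 20, 21],
    [0, 1, 2, 3, 4, 6, 7, 9, 11, 12, 13, 14, 15, 5, 16, 17, 18, 19, 8, 20, 10, 21],
    [0, 1, 2, 3, 4, 6, 7, 9, 11, 12, 13, 14, 15, 5, 16, 17, 18, 19, 8, 20, 21, 10],
    [0, 1, 2, 3, 4, 6, 7, 9, 11, 12, 13, 14, 15, 5, 16, 17, 18, 19, 20, 8, 10, 21],
    [0, 1, 2, 3, 4, 6, 7, 9, 11, 12, 13, 14, 15, 5, 16, 17, 18, 19, 20, 8, 21, 10],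
    [0, 1, 2, 3, 4, 6, 7, 9, 11, 12, 13, 14, 15, 5, 16, 17, 18, 19, 20, 21, 8, 10],
    [0, 1, 2, 3, 4, 6, 7, 9, 11, 12, 13, 14, 15, 16, 5, 8, 10, 17, 18, 19, 20, 21],
    [0, 1, 2, 3, 4, 6, 7, 9, 11, 12, 13, 14, 15, 16, 5, 8, 17, 10, 18, 19, 20, 21],
    [0, 1, 2, 3, 4, 6, 7, 9, 11, 12, 13, 14, 15, 16, 5, 8, 17, 18, 10, 19, 20, 21],
    [0, 1, 2, 3, 4, 6, 7, 9, 11, 12, 13, 14, 15, 16, 5, 8, 17, 18, 19, 10, 20, 21],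
    [0, 1, 2, 3, 4, 6, 7, 9, 11, 12, 13, 14, 15, 16, 5, 8, 17, 18, 19, 20, 10, 21],
    [0, 1, 2, 3, 4, 6, 7, 9, 11, 12, 13, 14, 15, 16, 5, 8, 17, 18, 19, 20, 21, 10],
    [0, 1, 2, 3, 4, 6, 7, 9, 11, 12, 13, 14, 15, 16, 5, 17, 8, 10, 18, 19, 20, 21],
    [0, 1, 2, 3, 4, 6, 7, 9, 11, 12, 13, 14, 15, 16, 5, 17, 8, 18, 10, 19, 20, 21],
    [0, 1, 2, 3, 4, 6, 7, 9, 11, 12, 13, 14, 15, 16, 5, 17, 8, 18, 19, 10, 20, 21],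
    [0, 1, 2, 3, 4, 6, 7, 9, 11, 12, 13, 14, 15, 16, 5, 17, 8, 18, 19, 20, 10, 21],
    [0, 1, 2, 3, 4, 6, 7, 9, 11, 12, 13, 14, 15, 16, 5, 17, 8, 18, 19, 20, 21, 10],
    [0, 1, 2, 3, 4, 6, 7, 9, 11, 12, 13, 14, 15, 16, 5, 17, 18, 8, 10, 19, 20, 21],
    [0, 1, 2, 3, 4, 6, 7, 9, 11, 12, 13, 14, 15, 16, 5, 17, 18, 8, 19, 10, 20, 21],
    [0, 1, 2, 3, 4, 6, 7, 9, 11, 12, 13, 14, 15, 16, 5, 17, 18, 8, 19, 20, 10, 21],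
    [0, 1, 2, 3, 4, 6, 7, 9, 11, 12, 13, 14, 15, 16, 5, 17, 18, 8, 19, 20, 21, 10],
    [0, 1, 2, 3, 4, 6, 7, 9, 11, 12, 13, 14, 15, 16, 5, 17, 18, 19, 8, 10, 20, 21],
    [0, 1, 2, 3, 4, 6, 7, 9, 11, 12, 13, 14, 15, 16, 5, 17, 18, 19, 8, 20, 10, 21],
    [0, 1, 2, 3, 4, 6, 7, 9, 11, 12, 13, 14, 15, 16, 5, 17, 18, 19, 8, 20, 21, 10],
    [0, 1, 2, 3, 4, 6, 7, 9, 11, 12, 13, 14, 15, 16, 5, 17, 18, 19, 20, 8, 10, 21],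
    [0, 1, 2, 3, 4, 6, 7, 9, 11, 12, 13, 14, 15, 16, 5, 17, 18, 19, 20, 8, 21, 10],
    [0, 1, 2, 3, 4, 6, 7, 9, 11, 12, 13, 14, 15, 16, 5, 17, 18, 19, 20, 21, 8, 10],
    [0, 1, 2, 3, 4, 6, 7, 9, 11, 12, 13, 14, 15, 16, 17, 5, 8, 10, 18, 19, 20, 21],
    [0, 1, 2, 3, 4, 6, 7, 9, 11, 12, 13, 14, 15, 16, 17, 5, 8, 18, 10, 19, 20, 21],
    [0, 1, 2, 3, 4, 6, 7, 9, 11, 12, 13, 14, 15, 16, 17, 5, 8, 18, 19, 10, 20, 21],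
    [0, 1, 2, 3, 4, 6, 7, 9, 11, 12, 13, 14, 15, 16, 17, 5, 8, 18, 19, 20, 10, 21],
    [0, 1, 2, 3, 4, 6, 7, 9, 11, 12, 13, 14, 15, 16, 17, 5, 8, 18, 19, 20, 21, 10],
    [0, 1, 2, 3, 4, 6, 7, 9, 11, 12, 13, 14, 15, 16, 17, 5, 18, 8, 10, 19, 20, 21],
    [0, 1, 2, 3, 4, 6, 7, 9, 11, 12, 13, 14, 15, 16, 17, 5, 18, 8, 19, 10, 20, 21],
    [0, 1, 2, 3, 4, 6, 7, 9, 11, 12, 13, 14, 15, 16, 17, 5, 18, 8, 19, 20, 10, 21],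
    [0, 1, 2, 3, 4, 6, 7, 9, 11, 12, 13, 14, 15, 16, 17, 5, 18, 8, 19, 20, 21, 10],
    [0, 1, 2, 3, 4, 6, 7, 9, 11, 12, 13, 14, 15, 16, 17, 5, 18, 19, 8, 10, 20, 21],
    [0, 1, 2, 3, 4, 6, 7, 9, 11, 12, 13, 14, 15, 16, 17, 5, 18, 19, 8, 20, 10, 21],
    [0, 1, 2, 3, 4, 6, 7, 9, 11, 12, 13, 14, 15, 16, 17, 5, 18, 19, 8, 20, 21, 10],
    [0, 1, 2, 3, 4, 6, 7, 9, 11, 12, 13, 14, 15, 16, 17, 5, 18, 19, 20, 8, 10, 21],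
    [0, 1, 2, 3, 4, 6, 7, 9, 11, 12, 13, 14, 15, 16, 17, 5, 18, 19, 20, 8, 21, 10],
    [0, 1, 2, 3, 4, 6, 7, 9, 11, 12, 13, 14, 15, 16, 17, 5, 18, 19, 20, 21, 8, 10],
    [0, 1, 2, 3, 4, 6, 7, 9, 11, 12, 13, 14, 15, 16, 17, 18, 5, 8, 10, 19, 20, 21],
    [0, 1, 2, 3, 4, 6, 7, 9, 11, 12, 13, 14, 15, 16, 17, 18, 5, 8, 19, 10, 20, 21],
    [0, 1, 2, 3, 4, 6, 7, 9, 11, 12, 13, 14, 15, 16, 17, 18, 5, 8, 19, 20, 10, 21],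
    [0, 1, 2, 3, 4, 6, 7, 9, 11, 12, 13, 14, 15, 16, 17, 18, 5, 8, 19, 20, 21, 10],
    [0, 1, 2, 3, 4, 6, 7, 9, 11, 12, 13, 14, 15, 16, 17, 18, 5, 19, 8, 10, 20, 21],
    [0, 1, 2, 3, 4, 6, 7, 9, 11, 12, 13, 14, 15, 16, 17, 18, 5, 19, 8, 20, 10, 21],
    [0, 1, 2, 3, 4, 6, 7, 9, 11, 12, 13, 14, 15, 16, 17, 18, 5, 19, 8, 20, 21, 10],
    [0, 1, 2, 3, 4, 6, 7, 9, 11, 12, 13, 14, 15, 16, 17, 18, 5, 19, 20, 8, 10, 21],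
    [0, 1, 2, 3, 4, 6, 7, 9, 11, 12, 13, 14, 15, 16, 17, 18, 5, 19, 20, 8, 21, 10],
    [0, 1, 2, 3, 4, 6, 7, 9, 11, 12, 13, 14, 15, 16, 17, 18, 5, 19, 20, 21, 8, 10],
    [0, 1, 2, 3, 4, 6, 7, 9, 11, 12, 13, 14, 15, 16, 17, 18, 19, 5, 8, 10, 20, 21]]

/-- Part 16 of the relabellings of step 0. -/
def sib22_0_16 : List (List ℕ) :=
  [
    [0, 1, 2, 3, 4, 6, 7, 9, 11, 12, 13, 14, 15, 16, 17, 18, 19, 5, 8, 20, 10, 21],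
    [0, 1, 2, 3, 4, 6, 7, 9, 11, 12, 13, 14, 15, 16, 17, 18, 19, 5, 8, 20, 21, 10],
    [0, 1, 2, 3, 4, 6, 7, 9, 11, 12, 13, 14, 15, 16, 17, 18, 19, 5, 20, 8, 10, 21],
    [0, 1, 2, 3, 4, 6, 7, 9, 11, 12, 13, 14, 15, 16, 17, 18, 19, 5, 20, 8, 21, 10],
    [0, 1, 2, 3, 4, 6, 7, 9, 11, 12, 13, 14, 15, 16, 17, 18, 19, 5, 20, 21, 8, 10],
    [0, 1, 2, 3, 4, 6, 7, 9, 11, 12, 13, 14, 15, 16, 17, 18, 19, 20, 5, 8, 10, 21],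
    [0, 1, 2, 3, 4, 6, 7, 9, 11, 12, 13, 14, 15, 16, 17, 18, 19, 20, 5, 8, 21, 10],
    [0, 1, 2, 3, 4, 6, 7, 9, 11, 12, 13, 14, 15, 16, 17, 18, 19, 20, 5, 21, 8, 10],
    [0, 1, 2, 3, 4, 6, 7, 9, 11, 12, 13, 14, 15, 16, 17, 18, 19, 20, 21, 5, 8, 10]]

/-- Step 0 on 22 points. -/
def step22_0 : Step where
  pts := [0, 1, 2]
  rep := 1319
  sib := sib22_0_0 ++ sib22_0_1 ++ sib22_0_2 ++ sib22_0_3 ++ sib22_0_4 ++ sib22_0_5 ++ sib22_0_6 ++ sib22_0_7 ++ sib22_0_8 ++ sib22_0_9 ++ sib22_0_10 ++ sib22_0_11 ++ sib22_0_12 ++ sib22_0_13 ++ sib22_0_14 ++ sib22_0_15 ++ sib22_0_16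

/-- Part 0 of the relabellings of step 1. -/
def sib22_1_0 : List (List ℕ) :=
  [
    [0, 1, 2, 3, 4, 5, 11, 13, 8, 6, 10, 7, 9, 12, 14, 15, 16, 17, 18, 19, 20, 21],
    [0, 1, 2, 3, 4, 5, 11, 6, 8, 13, 10, 7, 9, 12, 14, 15, 16, 17, 18, 19, 20, 21],
    [0, 1, 2, 3, 4, 5, 11, 6, 8, 7, 10, 13, 9, 12, 14, 15, 16, 17, 18, 19, 20, 21],
    [0, 1, 2, 3, 4, 5, 11, 6, 8, 7, 10, 9, 13, 12, 14, 15, 16, 17, 18, 19, 20, 21],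
    [0, 1, 2, 3, 4, 5, 11, 6, 8, 7, 10, 9, 12, 13, 14, 15, 16, 17, 18, 19, 20, 21],
    [0, 1, 2, 3, 4, 5, 11, 6, 8, 7, 10, 9, 12, 14, 13, 15, 16, 17, 18, 19, 20, 21],
    [0, 1, 2, 3, 4, 5, 11, 6, 8, 7, 10, 9, 12, 14, 15, 13, 16, 17, 18, 19, 20, 21],
    [0, 1, 2, 3, 4, 5, 11, 6, 8, 7, 10, 9, 12, 14, 15, 16, 13, 17, 18, 19, 20, 21],
    [0, 1, 2, 3, 4, 5, 11, 6, 8, 7, 10, 9, 12, 14, 15, 16, 17, 13, 18, 19, 20, 21],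
    [0, 1, 2, 3, 4, 5, 11, 6, 8, 7, 10, 9, 12, 14, 15, 16, 17, 18, 13, 19, 20, 21],
    [0, 1, 2, 3, 4, 5, 11, 6, 8, 7, 10, 9, 12, 14, 15, 16, 17, 18, 19, 13, 20, 21],
    [0, 1, 2, 3, 4, 5, 11, 6, 8, 7, 10, 9, 12, 14, 15, 16, 17, 18, 19, 20, 13, 21],
    [0, 1, 2, 3, 4, 5, 11, 6, 8, 7, 10, 9, 12, 14, 15, 16, 17, 18, 19, 20, 21, 13],
    [0, 1, 2, 3, 4, 5, 6, 11, 8, 13, 10, 7, 9, 12, 14, 15, 16, 17, 18, 19, 20, 21],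
    [0, 1, 2, 3, 4, 5, 6, 11, 8, 7, 10, 13, 9, 12, 14, 15, 16, 17, 18, 19, 20, 21],
    [0, 1, 2, 3, 4, 5, 6, 11, 8, 7, 10, 9, 13, 12, 14, 15, 16, 17, 18, 19, 20, 21],
    [0, 1, 2, 3, 4, 5, 6, 11, 8, 7, 10, 9, 12, 13, 14, 15, 16, 17, 18, 19, 20, 21],
    [0, 1, 2, 3, 4, 5, 6, 11, 8, 7, 10, 9, 12, 14, 13, 15, 16, 17, 18, 19, 20, 21],
    [0, 1, 2, 3, 4, 5, 6, 11, 8, 7, 10, 9, 12, 14, 15, 13, 16, 17, 18, 19, 20, 21],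
    [0, 1, 2, 3, 4, 5, 6, 11, 8, 7, 10, 9, 12, 14, 15, 16, 13, 17, 18, 19, 20, 21],
    [0, 1, 2, 3, 4, 5, 6, 11, 8, 7, 10, 9, 12, 14, 15, 16, 17, 13, 18, 19, 20, 21],
    [0, 1, 2, 3, 4, 5, 6, 11, 8, 7, 10, 9, 12, 14, 15, 16, 17, 18, 13, 19, 20, 21],
    [0, 1, 2, 3, 4, 5, 6, 11, 8, 7, 10, 9, 12, 14, 15, 16, 17, 18, 19, 13, 20, 21],
    [0, 1, 2, 3, 4, 5, 6, 11, 8, 7, 10, 9, 12, 14, 15, 16, 17, 18, 19, 20, 13, 21],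
    [0, 1, 2, 3, 4, 5, 6, 11, 8, 7, 10, 9, 12, 14, 15, 16, 17, 18, 19, 20, 21, 13],
    [0, 1, 2, 3, 4, 5, 6, 7, 8, 11, 10, 13, 9, 12, 14, 15, 16, 17, 18, 19, 20, 21],
    [0, 1, 2, 3, 4, 5, 6, 7, 8, 11, 10, 9, 13, 12, 14, 15, 16, 17, 18, 19, 20, 21],
    [0, 1, 2, 3, 4, 5, 6, 7, 8, 11, 10, 9, 12, 13, 14, 15, 16, 17, 18, 19, 20, 21],
    [0, 1, 2, 3, 4, 5, 6, 7, 8, 11, 10, 9, 12, 14, 13, 15, 16, 17, 18, 19, 20, 21],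
    [0, 1, 2, 3, 4, 5, 6, 7, 8, 11, 10, 9, 12, 14, 15, 13, 16, 17, 18, 19, 20, 21],
    [0, 1, 2, 3, 4, 5, 6, 7, 8, 11, 10, 9, 12, 14, 15, 16, 13, 17, 18, 19, 20, 21],
    [0, 1, 2, 3, 4, 5, 6, 7, 8, 11, 10, 9, 12, 14, 15, 16, 17, 13, 18, 19, 20, 21],
    [0, 1, 2, 3, 4, 5, 6, 7, 8, 11, 10, 9, 12, 14, 15, 16, 17, 18, 13, 19, 20, 21],
    [0, 1, 2, 3, 4, 5, 6, 7, 8, 11, 10, 9, 12, 14, 15, 16, 17, 18, 19, 13, 20, 21],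
    [0, 1, 2, 3, 4, 5, 6, 7, 8, 11, 10, 9, 12, 14, 15, 16, 17, 18, 19, 20, 13, 21],
    [0, 1, 2, 3, 4, 5, 6, 7, 8, 11, 10, 9, 12, 14, 15, 16, 17, 18, 19, 20, 21, 13],
    [0, 1, 2, 3, 4, 5, 6, 7, 8, 9, 10, 11, 13, 12, 14, 15, 16, 17, 18, 19, 20, 21], [],
    [0, 1, 2, 3, 4, 5, 6, 7, 8, 9, 10, 11, 12, 14, 13, 15, 16, 17, 18, 19, 20, 21],
    [0, 1, 2, 3, 4, 5, 6, 7, 8, 9, 10, 11, 12, 14, 15, 13, 16, 17, 18, 19, 20, 21],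
    [0, 1, 2, 3, 4, 5, 6, 7, 8, 9, 10, 11, 12, 14, 15, 16, 13, 17, 18, 19, 20, 21],
    [0, 1, 2, 3, 4, 5, 6, 7, 8, 9, 10, 11, 12, 14, 15, 16, 17, 13, 18, 19, 20, 21],
    [0, 1, 2, 3, 4, 5, 6, 7, 8, 9, 10, 11, 12, 14, 15, 16, 17, 18, 13, 19, 20, 21],
    [0, 1, 2, 3, 4, 5, 6, 7, 8, 9, 10, 11, 12, 14, 15, 16, 17, 18, 19, 13, 20, 21],
    [0, 1, 2, 3, 4, 5, 6, 7, 8, 9, 10, 11, 12, 14, 15, 16, 17, 18, 19, 20, 13, 21],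
    [0, 1, 2, 3, 4, 5, 6, 7, 8, 9, 10, 11, 12, 14, 15, 16, 17, 18, 19, 20, 21, 13],
    [0, 1, 2, 3, 4, 5, 6, 7, 8, 9, 10, 12, 11, 13, 14, 15, 16, 17, 18, 19, 20, 21],
    [0, 1, 2, 3, 4, 5, 6, 7, 8, 9, 10, 12, 11, 14, 13, 15, 16, 17, 18, 19, 20, 21],
    [0, 1, 2, 3, 4, 5, 6, 7, 8, 9, 10, 12, 11, 14, 15, 13, 16, 17, 18, 19, 20, 21],
    [0, 1, 2, 3, 4, 5, 6, 7, 8, 9, 10, 12, 11, 14, 15, 16, 13, 17, 18, 19, 20, 21],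
    [0, 1, 2, 3, 4, 5, 6, 7, 8, 9, 10, 12, 11, 14, 15, 16, 17, 13, 18, 19, 20, 21],
    [0, 1, 2, 3, 4, 5, 6, 7, 8, 9, 10, 12, 11, 14, 15, 16, 17, 18, 13, 19, 20, 21],
    [0, 1, 2, 3, 4, 5, 6, 7, 8, 9, 10, 12, 11, 14, 15, 16, 17, 18, 19, 13, 20, 21],
    [0, 1, 2, 3, 4, 5, 6, 7, 8, 9, 10, 12, 11, 14, 15, 16, 17, 18, 19, 20, 13, 21],
    [0, 1, 2, 3, 4, 5, 6, 7, 8, 9, 10, 12, 11, 14, 15, 16, 17, 18, 19, 20, 21, 13],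
    [0, 1, 2, 3, 4, 5, 6, 7, 8, 9, 10, 12, 14, 11, 13, 15, 16, 17, 18, 19, 20, 21],
    [0, 1, 2, 3, 4, 5, 6, 7, 8, 9, 10, 12, 14, 11, 15, 13, 16, 17, 18, 19, 20, 21],
    [0, 1, 2, 3, 4, 5, 6, 7, 8, 9, 10, 12, 14, 11, 15, 16, 13, 17, 18, 19, 20, 21],
    [0, 1, 2, 3, 4, 5, 6, 7, 8, 9, 10, 12, 14, 11, 15, 16, 17, 13, 18, 19, 20, 21],
    [0, 1, 2, 3, 4, 5, 6, 7, 8, 9, 10, 12, 14, 11, 15, 16, 17, 18, 13, 19, 20, 21]]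

/-- Part 1 of the relabellings of step 1. -/
def sib22_1_1 : List (List ℕ) :=
  [
    [0, 1, 2, 3, 4, 5, 6, 7, 8, 9, 10, 12, 14, 11, 15, 16, 17, 18, 19, 13, 20, 21],
    [0, 1, 2, 3, 4, 5, 6, 7, 8, 9, 10, 12, 14, 11, 15, 16, 17, 18, 19, 20, 13, 21],
    [0, 1, 2, 3, 4, 5, 6, 7, 8, 9, 10, 12, 14, 11, 15, 16, 17, 18, 19, 20, 21, 13],
    [0, 1, 2, 3, 4, 5, 6, 7, 8, 9, 10, 12, 14, 15, 11, 13, 16, 17, 18, 19, 20, 21],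
    [0, 1, 2, 3, 4, 5, 6, 7, 8, 9, 10, 12, 14, 15, 11, 16, 13, 17, 18, 19, 20, 21],
    [0, 1, 2, 3, 4, 5, 6, 7, 8, 9, 10, 12, 14, 15, 11, 16, 17, 13, 18, 19, 20, 21],
    [0, 1, 2, 3, 4, 5, 6, 7, 8, 9, 10, 12, 14, 15, 11, 16, 17, 18, 13, 19, 20, 21],
    [0, 1, 2, 3, 4, 5, 6, 7, 8, 9, 10, 12, 14, 15, 11, 16, 17, 18, 19, 13, 20, 21],
    [0, 1, 2, 3, 4, 5, 6, 7, 8, 9, 10, 12, 14, 15, 11, 16, 17, 18, 19, 20, 13, 21],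
    [0, 1, 2, 3, 4, 5, 6, 7, 8, 9, 10, 12, 14, 15, 11, 16, 17, 18, 19, 20, 21, 13],
    [0, 1, 2, 3, 4, 5, 6, 7, 8, 9, 10, 12, 14, 15, 16, 11, 13, 17, 18, 19, 20, 21],
    [0, 1, 2, 3, 4, 5, 6, 7, 8, 9, 10, 12, 14, 15, 16, 11, 17, 13, 18, 19, 20, 21],
    [0, 1, 2, 3, 4, 5, 6, 7, 8, 9, 10, 12, 14, 15, 16, 11, 17, 18, 13, 19, 20, 21],
    [0, 1, 2, 3, 4, 5, 6, 7, 8, 9, 10, 12, 14, 15, 16, 11, 17, 18, 19, 13, 20, 21],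
    [0, 1, 2, 3, 4, 5, 6, 7, 8, 9, 10, 12, 14, 15, 16, 11, 17, 18, 19, 20, 13, 21],
    [0, 1, 2, 3, 4, 5, 6, 7, 8, 9, 10, 12, 14, 15, 16, 11, 17, 18, 19, 20, 21, 13],
    [0, 1, 2, 3, 4, 5, 6, 7, 8, 9, 10, 12, 14, 15, 16, 17, 11, 13, 18, 19, 20, 21],
    [0, 1, 2, 3, 4, 5, 6, 7, 8, 9, 10, 12, 14, 15, 16, 17, 11, 18, 13, 19, 20, 21],
    [0, 1, 2, 3, 4, 5, 6, 7, 8, 9, 10, 12, 14, 15, 16, 17, 11, 18, 19, 13, 20, 21],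
    [0, 1, 2, 3, 4, 5, 6, 7, 8, 9, 10, 12, 14, 15, 16, 17, 11, 18, 19, 20, 13, 21],
    [0, 1, 2, 3, 4, 5, 6, 7, 8, 9, 10, 12, 14, 15, 16, 17, 11, 18, 19, 20, 21, 13],
    [0, 1, 2, 3, 4, 5, 6, 7, 8, 9, 10, 12, 14, 15, 16, 17, 18, 11, 13, 19, 20, 21],
    [0, 1, 2, 3, 4, 5, 6, 7, 8, 9, 10, 12, 14, 15, 16, 17, 18, 11, 19, 13, 20, 21],
    [0, 1, 2, 3, 4, 5, 6, 7, 8, 9, 10, 12, 14, 15, 16, 17, 18, 11, 19, 20, 13, 21],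
    [0, 1, 2, 3, 4, 5, 6, 7, 8, 9, 10, 12, 14, 15, 16, 17, 18, 11, 19, 20, 21, 13],
    [0, 1, 2, 3, 4, 5, 6, 7, 8, 9, 10, 12, 14, 15, 16, 17, 18, 19, 11, 13, 20, 21],
    [0, 1, 2, 3, 4, 5, 6, 7, 8, 9, 10, 12, 14, 15, 16, 17, 18, 19, 11, 20, 13, 21],
    [0, 1, 2, 3, 4, 5, 6, 7, 8, 9, 10, 12, 14, 15, 16, 17, 18, 19, 11, 20, 21, 13],
    [0, 1, 2, 3, 4, 5, 6, 7, 8, 9, 10, 12, 14, 15, 16, 17, 18, 19, 20, 11, 13, 21],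
    [0, 1, 2, 3, 4, 5, 6, 7, 8, 9, 10, 12, 14, 15, 16, 17, 18, 19, 20, 11, 21, 13],
    [0, 1, 2, 3, 4, 5, 6, 7, 8, 9, 10, 12, 14, 15, 16, 17, 18, 19, 20, 21, 11, 13],
    [0, 1, 2, 3, 6, 5, 4, 11, 8, 13, 10, 7, 9, 12, 14, 15, 16, 17, 18, 19, 20, 21],
    [0, 1, 2, 3, 6, 5, 4, 11, 8, 7, 10, 13, 9, 12, 14, 15, 16, 17, 18, 19, 20, 21],
    [0, 1, 2, 3, 6, 5, 4, 11, 8, 7, 10, 9, 13, 12, 14, 15, 16, 17, 18, 19, 20, 21],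
    [0, 1, 2, 3, 6, 5, 4, 11, 8, 7, 10, 9, 12, 13, 14, 15, 16, 17, 18, 19, 20, 21],
    [0, 1, 2, 3, 6, 5, 4, 11, 8, 7, 10, 9, 12, 14, 13, 15, 16, 17, 18, 19, 20, 21],
    [0, 1, 2, 3, 6, 5, 4, 11, 8, 7, 10, 9, 12, 14, 15, 13, 16, 17, 18, 19, 20, 21],
    [0, 1, 2, 3, 6, 5, 4, 11, 8, 7, 10, 9, 12, 14, 15, 16, 13, 17, 18, 19, 20, 21],
    [0, 1, 2, 3, 6, 5, 4, 11, 8, 7, 10, 9, 12, 14, 15, 16, 17, 13, 18, 19, 20, 21],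
    [0, 1, 2, 3, 6, 5, 4, 11, 8, 7, 10, 9, 12, 14, 15, 16, 17, 18, 13, 19, 20, 21],
    [0, 1, 2, 3, 6, 5, 4, 11, 8, 7, 10, 9, 12, 14, 15, 16, 17, 18, 19, 13, 20, 21],
    [0, 1, 2, 3, 6, 5, 4, 11, 8, 7, 10, 9, 12, 14, 15, 16, 17, 18, 19, 20, 13, 21],
    [0, 1, 2, 3, 6, 5, 4, 11, 8, 7, 10, 9, 12, 14, 15, 16, 17, 18, 19, 20, 21, 13],
    [0, 1, 2, 3, 6, 5, 4, 7, 8, 11, 10, 13, 9, 12, 14, 15, 16, 17, 18, 19, 20, 21],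
    [0, 1, 2, 3, 6, 5, 4, 7, 8, 11, 10, 9, 13, 12, 14, 15, 16, 17, 18, 19, 20, 21],
    [0, 1, 2, 3, 6, 5, 4, 7, 8, 11, 10, 9, 12, 13, 14, 15, 16, 17, 18, 19, 20, 21],
    [0, 1, 2, 3, 6, 5, 4, 7, 8, 11, 10, 9, 12, 14, 13, 15, 16, 17, 18, 19, 20, 21],
    [0, 1, 2, 3, 6, 5, 4, 7, 8, 11, 10, 9, 12, 14, 15, 13, 16, 17, 18, 19, 20, 21],
    [0, 1, 2, 3, 6, 5, 4, 7, 8, 11, 10, 9, 12, 14, 15, 16, 13, 17, 18, 19, 20, 21],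
    [0, 1, 2, 3, 6, 5, 4, 7, 8, 11, 10, 9, 12, 14, 15, 16, 17, 13, 18, 19, 20, 21],
    [0, 1, 2, 3, 6, 5, 4, 7, 8, 11, 10, 9, 12, 14, 15, 16, 17, 18, 13, 19, 20, 21],
    [0, 1, 2, 3, 6, 5, 4, 7, 8, 11, 10, 9, 12, 14, 15, 16, 17, 18, 19, 13, 20, 21],
    [0, 1, 2, 3, 6, 5, 4, 7, 8, 11, 10, 9, 12, 14, 15, 16, 17, 18, 19, 20, 13, 21],
    [0, 1, 2, 3, 6, 5, 4, 7, 8, 11, 10, 9, 12, 14, 15, 16, 17, 18, 19, 20, 21, 13],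
    [0, 1, 2, 3, 6, 5, 4, 7, 8, 9, 10, 11, 13, 12, 14, 15, 16, 17, 18, 19, 20, 21],
    [0, 1, 2, 3, 6, 5, 4, 7, 8, 9, 10, 11, 12, 13, 14, 15, 16, 17, 18, 19, 20, 21],
    [0, 1, 2, 3, 6, 5, 4, 7, 8, 9, 10, 11, 12, 14, 13, 15, 16, 17, 18, 19, 20, 21],
    [0, 1, 2, 3, 6, 5, 4, 7, 8, 9, 10, 11, 12, 14, 15, 13, 16, 17, 18, 19, 20, 21],
    [0, 1, 2, 3, 6, 5, 4, 7, 8, 9, 10, 11, 12, 14, 15, 16, 13, 17, 18, 19, 20, 21],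
    [0, 1, 2, 3, 6, 5, 4, 7, 8, 9, 10, 11, 12, 14, 15, 16, 17, 13, 18, 19, 20, 21]]

/-- Part 2 of the relabellings of step 1. -/
def sib22_1_2 : List (List ℕ) :=
  [
    [0, 1, 2, 3, 6, 5, 4, 7, 8, 9, 10, 11, 12, 14, 15, 16, 17, 18, 13, 19, 20, 21],
    [0, 1, 2, 3, 6, 5, 4, 7, 8, 9, 10, 11, 12, 14, 15, 16, 17, 18, 19, 13, 20, 21],
    [0, 1, 2, 3, 6, 5, 4, 7, 8, 9, 10, 11, 12, 14, 15, 16, 17, 18, 19, 20, 13, 21],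
    [0, 1, 2, 3, 6, 5, 4, 7, 8, 9, 10, 11, 12, 14, 15, 16, 17, 18, 19, 20, 21, 13],
    [0, 1, 2, 3, 6, 5, 4, 7, 8, 9, 10, 12, 11, 13, 14, 15, 16, 17, 18, 19, 20, 21],
    [0, 1, 2, 3, 6, 5, 4, 7, 8, 9, 10, 12, 11, 14, 13, 15, 16, 17, 18, 19, 20, 21],
    [0, 1, 2, 3, 6, 5, 4, 7, 8, 9, 10, 12, 11, 14, 15, 13, 16, 17, 18, 19, 20, 21],
    [0, 1, 2, 3, 6, 5, 4, 7, 8, 9, 10, 12, 11, 14, 15, 16, 13, 17, 18, 19, 20, 21],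
    [0, 1, 2, 3, 6, 5, 4, 7, 8, 9, 10, 12, 11, 14, 15, 16, 17, 13, 18, 19, 20, 21],
    [0, 1, 2, 3, 6, 5, 4, 7, 8, 9, 10, 12, 11, 14, 15, 16, 17, 18, 13, 19, 20, 21],
    [0, 1, 2, 3, 6, 5, 4, 7, 8, 9, 10, 12, 11, 14, 15, 16, 17, 18, 19, 13, 20, 21],
    [0, 1, 2, 3, 6, 5, 4, 7, 8, 9, 10, 12, 11, 14, 15, 16, 17, 18, 19, 20, 13, 21],
    [0, 1, 2, 3, 6, 5, 4, 7, 8, 9, 10, 12, 11, 14, 15, 16, 17, 18, 19, 20, 21, 13],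
    [0, 1, 2, 3, 6, 5, 4, 7, 8, 9, 10, 12, 14, 11, 13, 15, 16, 17, 18, 19, 20, 21],
    [0, 1, 2, 3, 6, 5, 4, 7, 8, 9, 10, 12, 14, 11, 15, 13, 16, 17, 18, 19, 20, 21],
    [0, 1, 2, 3, 6, 5, 4, 7, 8, 9, 10, 12, 14, 11, 15, 16, 13, 17, 18, 19, 20, 21],
    [0, 1, 2, 3, 6, 5, 4, 7, 8, 9, 10, 12, 14, 11, 15, 16, 17, 13, 18, 19, 20, 21],
    [0, 1, 2, 3, 6, 5, 4, 7, 8, 9, 10, 12, 14, 11, 15, 16, 17, 18, 13, 19, 20, 21],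
    [0, 1, 2, 3, 6, 5, 4, 7, 8, 9, 10, 12, 14, 11, 15, 16, 17, 18, 19, 13, 20, 21],
    [0, 1, 2, 3, 6, 5, 4, 7, 8, 9, 10, 12, 14, 11, 15, 16, 17, 18, 19, 20, 13, 21],
    [0, 1, 2, 3, 6, 5, 4, 7, 8, 9, 10, 12, 14, 11, 15, 16, 17, 18, 19, 20, 21, 13],
    [0, 1, 2, 3, 6, 5, 4, 7, 8, 9, 10, 12, 14, 15, 11, 13, 16, 17, 18, 19, 20, 21],
    [0, 1, 2, 3, 6, 5, 4, 7, 8, 9, 10, 12, 14, 15, 11, 16, 13, 17, 18, 19, 20, 21],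
    [0, 1, 2, 3, 6, 5, 4, 7, 8, 9, 10, 12, 14, 15, 11, 16, 17, 13, 18, 19, 20, 21],
    [0, 1, 2, 3, 6, 5, 4, 7, 8, 9, 10, 12, 14, 15, 11, 16, 17, 18, 13, 19, 20, 21],
    [0, 1, 2, 3, 6, 5, 4, 7, 8, 9, 10, 12, 14, 15, 11, 16, 17, 18, 19, 13, 20, 21],
    [0, 1, 2, 3, 6, 5, 4, 7, 8, 9, 10, 12, 14, 15, 11, 16, 17, 18, 19, 20, 13, 21],
    [0, 1, 2, 3, 6, 5, 4, 7, 8, 9, 10, 12, 14, 15, 11, 16, 17, 18, 19, 20, 21, 13],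
    [0, 1, 2, 3, 6, 5, 4, 7, 8, 9, 10, 12, 14, 15, 16, 11, 13, 17, 18, 19, 20, 21],
    [0, 1, 2, 3, 6, 5, 4, 7, 8, 9, 10, 12, 14, 15, 16, 11, 17, 13, 18, 19, 20, 21],
    [0, 1, 2, 3, 6, 5, 4, 7, 8, 9, 10, 12, 14, 15, 16, 11, 17, 18, 13, 19, 20, 21],
    [0, 1, 2, 3, 6, 5, 4, 7, 8, 9, 10, 12, 14, 15, 16, 11, 17, 18, 19, 13, 20, 21],
    [0, 1, 2, 3, 6, 5, 4, 7, 8, 9, 10, 12, 14, 15, 16, 11, 17, 18, 19, 20, 13, 21],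
    [0, 1, 2, 3, 6, 5, 4, 7, 8, 9, 10, 12, 14, 15, 16, 11, 17, 18, 19, 20, 21, 13],
    [0, 1, 2, 3, 6, 5, 4, 7, 8, 9, 10, 12, 14, 15, 16, 17, 11, 13, 18, 19, 20, 21],
    [0, 1, 2, 3, 6, 5, 4, 7, 8, 9, 10, 12, 14, 15, 16, 17, 11, 18, 13, 19, 20, 21],
    [0, 1, 2, 3, 6, 5, 4, 7, 8, 9, 10, 12, 14, 15, 16, 17, 11, 18, 19, 13, 20, 21],
    [0, 1, 2, 3, 6, 5, 4, 7, 8, 9, 10, 12, 14, 15, 16, 17, 11, 18, 19, 20, 13, 21],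
    [0, 1, 2, 3, 6, 5, 4, 7, 8, 9, 10, 12, 14, 15, 16, 17, 11, 18, 19, 20, 21, 13],
    [0, 1, 2, 3, 6, 5, 4, 7, 8, 9, 10, 12, 14, 15, 16, 17, 18, 11, 13, 19, 20, 21],
    [0, 1, 2, 3, 6, 5, 4, 7, 8, 9, 10, 12, 14, 15, 16, 17, 18, 11, 19, 13, 20, 21],
    [0, 1, 2, 3, 6, 5, 4, 7, 8, 9, 10, 12, 14, 15, 16, 17, 18, 11, 19, 20, 13, 21],
    [0, 1, 2, 3, 6, 5, 4, 7, 8, 9, 10, 12, 14, 15, 16, 17, 18, 11, 19, 20, 21, 13],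
    [0, 1, 2, 3, 6, 5, 4, 7, 8, 9, 10, 12, 14, 15, 16, 17, 18, 19, 11, 13, 20, 21],
    [0, 1, 2, 3, 6, 5, 4, 7, 8, 9, 10, 12, 14, 15, 16, 17, 18, 19, 11, 20, 13, 21],
    [0, 1, 2, 3, 6, 5, 4, 7, 8, 9, 10, 12, 14, 15, 16, 17, 18, 19, 11, 20, 21, 13],
    [0, 1, 2, 3, 6, 5, 4, 7, 8, 9, 10, 12, 14, 15, 16, 17, 18, 19, 20, 11, 13, 21],
    [0, 1, 2, 3, 6, 5, 4, 7, 8, 9, 10, 12, 14, 15, 16, 17, 18, 19, 20, 11, 21, 13],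
    [0, 1, 2, 3, 6, 5, 4, 7, 8, 9, 10, 12, 14, 15, 16, 17, 18, 19, 20, 21, 11, 13],
    [0, 1, 2, 3, 6, 5, 7, 4, 8, 11, 10, 13, 9, 12, 14, 15, 16, 17, 18, 19, 20, 21],
    [0, 1, 2, 3, 6, 5, 7, 4, 8, 11, 10, 9, 13, 12, 14, 15, 16, 17, 18, 19, 20, 21],
    [0, 1, 2, 3, 6, 5, 7, 4, 8, 11, 10, 9, 12, 13, 14, 15, 16, 17, 18, 19, 20, 21],
    [0, 1, 2, 3, 6, 5, 7, 4, 8, 11, 10, 9, 12, 14, 13, 15, 16, 17, 18, 19, 20, 21],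
    [0, 1, 2, 3, 6, 5, 7, 4, 8, 11, 10, 9, 12, 14, 15, 13, 16, 17, 18, 19, 20, 21],
    [0, 1, 2, 3, 6, 5, 7, 4, 8, 11, 10, 9, 12, 14, 15, 16, 13, 17, 18, 19, 20, 21],
    [0, 1, 2, 3, 6, 5, 7, 4, 8, 11, 10, 9, 12, 14, 15, 16, 17, 13, 18, 19, 20, 21],
    [0, 1, 2, 3, 6, 5, 7, 4, 8, 11, 10, 9, 12, 14, 15, 16, 17, 18, 13, 19, 20, 21],
    [0, 1, 2, 3, 6, 5, 7, 4, 8, 11, 10, 9, 12, 14, 15, 16, 17, 18, 19, 13, 20, 21],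
    [0, 1, 2, 3, 6, 5, 7, 4, 8, 11, 10, 9, 12, 14, 15, 16, 17, 18, 19, 20, 13, 21],
    [0, 1, 2, 3, 6, 5, 7, 4, 8, 11, 10, 9, 12, 14, 15, 16, 17, 18, 19, 20, 21, 13]]

/-- Part 3 of the relabellings of step 1. -/
def sib22_1_3 : List (List ℕ) :=
  [
    [0, 1, 2, 3, 6, 5, 7, 4, 8, 9, 10, 11, 13, 12, 14, 15, 16, 17, 18, 19, 20, 21],
    [0, 1, 2, 3, 6, 5, 7, 4, 8, 9, 10, 11, 12, 13, 14, 15, 16, 17, 18, 19, 20, 21],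
    [0, 1, 2, 3, 6, 5, 7, 4, 8, 9, 10, 11, 12, 14, 13, 15, 16, 17, 18, 19, 20, 21],
    [0, 1, 2, 3, 6, 5, 7, 4, 8, 9, 10, 11, 12, 14, 15, 13, 16, 17, 18, 19, 20, 21],
    [0, 1, 2, 3, 6, 5, 7, 4, 8, 9, 10, 11, 12, 14, 15, 16, 13, 17, 18, 19, 20, 21],
    [0, 1, 2, 3, 6, 5, 7, 4, 8, 9, 10, 11, 12, 14, 15, 16, 17, 13, 18, 19, 20, 21],
    [0, 1, 2, 3, 6, 5, 7, 4, 8, 9, 10, 11, 12, 14, 15, 16, 17, 18, 13, 19, 20, 21],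
    [0, 1, 2, 3, 6, 5, 7, 4, 8, 9, 10, 11, 12, 14, 15, 16, 17, 18, 19, 13, 20, 21],
    [0, 1, 2, 3, 6, 5, 7, 4, 8, 9, 10, 11, 12, 14, 15, 16, 17, 18, 19, 20, 13, 21],
    [0, 1, 2, 3, 6, 5, 7, 4, 8, 9, 10, 11, 12, 14, 15, 16, 17, 18, 19, 20, 21, 13],
    [0, 1, 2, 3, 6, 5, 7, 4, 8, 9, 10, 12, 11, 13, 14, 15, 16, 17, 18, 19, 20, 21],
    [0, 1, 2, 3, 6, 5, 7, 4, 8, 9, 10, 12, 11, 14, 13, 15, 16, 17, 18, 19, 20, 21],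
    [0, 1, 2, 3, 6, 5, 7, 4, 8, 9, 10, 12, 11, 14, 15, 13, 16, 17, 18, 19, 20, 21],
    [0, 1, 2, 3, 6, 5, 7, 4, 8, 9, 10, 12, 11, 14, 15, 16, 13, 17, 18, 19, 20, 21],
    [0, 1, 2, 3, 6, 5, 7, 4, 8, 9, 10, 12, 11, 14, 15, 16, 17, 13, 18, 19, 20, 21],
    [0, 1, 2, 3, 6, 5, 7, 4, 8, 9, 10, 12, 11, 14, 15, 16, 17, 18, 13, 19, 20, 21],
    [0, 1, 2, 3, 6, 5, 7, 4, 8, 9, 10, 12, 11, 14, 15, 16, 17, 18, 19, 13, 20, 21],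
    [0, 1, 2, 3, 6, 5, 7, 4, 8, 9, 10, 12, 11, 14, 15, 16, 17, 18, 19, 20, 13, 21],
    [0, 1, 2, 3, 6, 5, 7, 4, 8, 9, 10, 12, 11, 14, 15, 16, 17, 18, 19, 20, 21, 13],
    [0, 1, 2, 3, 6, 5, 7, 4, 8, 9, 10, 12, 14, 11, 13, 15, 16, 17, 18, 19, 20, 21],
    [0, 1, 2, 3, 6, 5, 7, 4, 8, 9, 10, 12, 14, 11, 15, 13, 16, 17, 18, 19, 20, 21],
    [0, 1, 2, 3, 6, 5, 7, 4, 8, 9, 10, 12, 14, 11, 15, 16, 13, 17, 18, 19, 20, 21],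
    [0, 1, 2, 3, 6, 5, 7, 4, 8, 9, 10, 12, 14, 11, 15, 16, 17, 13, 18, 19, 20, 21],
    [0, 1, 2, 3, 6, 5, 7, 4, 8, 9, 10, 12, 14, 11, 15, 16, 17, 18, 13, 19, 20, 21],
    [0, 1, 2, 3, 6, 5, 7, 4, 8, 9, 10, 12, 14, 11, 15, 16, 17, 18, 19, 13, 20, 21],
    [0, 1, 2, 3, 6, 5, 7, 4, 8, 9, 10, 12, 14, 11, 15, 16, 17, 18, 19, 20, 13, 21],
    [0, 1, 2, 3, 6, 5, 7, 4, 8, 9, 10, 12, 14, 11, 15, 16, 17, 18, 19, 20, 21, 13],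
    [0, 1, 2, 3, 6, 5, 7, 4, 8, 9, 10, 12, 14, 15, 11, 13, 16, 17, 18, 19, 20, 21],
    [0, 1, 2, 3, 6, 5, 7, 4, 8, 9, 10, 12, 14, 15, 11, 16, 13, 17, 18, 19, 20, 21],
    [0, 1, 2, 3, 6, 5, 7, 4, 8, 9, 10, 12, 14, 15, 11, 16, 17, 13, 18, 19, 20, 21],
    [0, 1, 2, 3, 6, 5, 7, 4, 8, 9, 10, 12, 14, 15, 11, 16, 17, 18, 13, 19, 20, 21],
    [0, 1, 2, 3, 6, 5, 7, 4, 8, 9, 10, 12, 14, 15, 11, 16, 17, 18, 19, 13, 20, 21],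
    [0, 1, 2, 3, 6, 5, 7, 4, 8, 9, 10, 12, 14, 15, 11, 16, 17, 18, 19, 20, 13, 21],
    [0, 1, 2, 3, 6, 5, 7, 4, 8, 9, 10, 12, 14, 15, 11, 16, 17, 18, 19, 20, 21, 13],
    [0, 1, 2, 3, 6, 5, 7, 4, 8, 9, 10, 12, 14, 15, 16, 11, 13, 17, 18, 19, 20, 21],
    [0, 1, 2, 3, 6, 5, 7, 4, 8, 9, 10, 12, 14, 15, 16, 11, 17, 13, 18, 19, 20, 21],
    [0, 1, 2, 3, 6, 5, 7, 4, 8, 9, 10, 12, 14, 15, 16, 11, 17, 18, 13, 19, 20, 21],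
    [0, 1, 2, 3, 6, 5, 7, 4, 8, 9, 10, 12, 14, 15, 16, 11, 17, 18, 19, 13, 20, 21],
    [0, 1, 2, 3, 6, 5, 7, 4, 8, 9, 10, 12, 14, 15, 16, 11, 17, 18, 19, 20, 13, 21],
    [0, 1, 2, 3, 6, 5, 7, 4, 8, 9, 10, 12, 14, 15, 16, 11, 17, 18, 19, 20, 21, 13],
    [0, 1, 2, 3, 6, 5, 7, 4, 8, 9, 10, 12, 14, 15, 16, 17, 11, 13, 18, 19, 20, 21],
    [0, 1, 2, 3, 6, 5, 7, 4, 8, 9, 10, 12, 14, 15, 16, 17, 11, 18, 13, 19, 20, 21],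
    [0, 1, 2, 3, 6, 5, 7, 4, 8, 9, 10, 12, 14, 15, 16, 17, 11, 18, 19, 13, 20, 21],
    [0, 1, 2, 3, 6, 5, 7, 4, 8, 9, 10, 12, 14, 15, 16, 17, 11, 18, 19, 20, 13, 21],
    [0, 1, 2, 3, 6, 5, 7, 4, 8, 9, 10, 12, 14, 15, 16, 17, 11, 18, 19, 20, 21, 13],
    [0, 1, 2, 3, 6, 5, 7, 4, 8, 9, 10, 12, 14, 15, 16, 17, 18, 11, 13, 19, 20, 21],
    [0, 1, 2, 3, 6, 5, 7, 4, 8, 9, 10, 12, 14, 15, 16, 17, 18, 11, 19, 13, 20, 21],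
    [0, 1, 2, 3, 6, 5, 7, 4, 8, 9, 10, 12, 14, 15, 16, 17, 18, 11, 19, 20, 13, 21],
    [0, 1, 2, 3, 6, 5, 7, 4, 8, 9, 10, 12, 14, 15, 16, 17, 18, 11, 19, 20, 21, 13],
    [0, 1, 2, 3, 6, 5, 7, 4, 8, 9, 10, 12, 14, 15, 16, 17, 18, 19, 11, 13, 20, 21],
    [0, 1, 2, 3, 6, 5, 7, 4, 8, 9, 10, 12, 14, 15, 16, 17, 18, 19, 11, 20, 13, 21],
    [0, 1, 2, 3, 6, 5, 7, 4, 8, 9, 10, 12, 14, 15, 16, 17, 18, 19, 11, 20, 21, 13],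
    [0, 1, 2, 3, 6, 5, 7, 4, 8, 9, 10, 12, 14, 15, 16, 17, 18, 19, 20, 11, 13, 21],
    [0, 1, 2, 3, 6, 5, 7, 4, 8, 9, 10, 12, 14, 15, 16, 17, 18, 19, 20, 11, 21, 13],
    [0, 1, 2, 3, 6, 5, 7, 4, 8, 9, 10, 12, 14, 15, 16, 17, 18, 19, 20, 21, 11, 13],
    [0, 1, 2, 3, 6, 5, 7, 9, 8, 4, 10, 11, 13, 12, 14, 15, 16, 17, 18, 19, 20, 21],
    [0, 1, 2, 3, 6, 5, 7, 9, 8, 4, 10, 11, 12, 13, 14, 15, 16, 17, 18, 19, 20, 21],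
    [0, 1, 2, 3, 6, 5, 7, 9, 8, 4, 10, 11, 12, 14, 13, 15, 16, 17, 18, 19, 20, 21],
    [0, 1, 2, 3, 6, 5, 7, 9, 8, 4, 10, 11, 12, 14, 15, 13, 16, 17, 18, 19, 20, 21],
    [0, 1, 2, 3, 6, 5, 7, 9, 8, 4, 10, 11, 12, 14, 15, 16, 13, 17, 18, 19, 20, 21]]

/-- Part 4 of the relabellings of step 1. -/
def sib22_1_4 : List (List ℕ) :=
  [
    [0, 1, 2, 3, 6, 5, 7, 9, 8, 4, 10, 11, 12, 14, 15, 16, 17, 13, 18, 19, 20, 21],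
    [0, 1, 2, 3, 6, 5, 7, 9, 8, 4, 10, 11, 12, 14, 15, 16, 17, 18, 13, 19, 20, 21],
    [0, 1, 2, 3, 6, 5, 7, 9, 8, 4, 10, 11, 12, 14, 15, 16, 17, 18, 19, 13, 20, 21],
    [0, 1, 2, 3, 6, 5, 7, 9, 8, 4, 10, 11, 12, 14, 15, 16, 17, 18, 19, 20, 13, 21],
    [0, 1, 2, 3, 6, 5, 7, 9, 8, 4, 10, 11, 12, 14, 15, 16, 17, 18, 19, 20, 21, 13],
    [0, 1, 2, 3, 6, 5, 7, 9, 8, 4, 10, 12, 11, 13, 14, 15, 16, 17, 18, 19, 20, 21],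
    [0, 1, 2, 3, 6, 5, 7, 9, 8, 4, 10, 12, 11, 14, 13, 15, 16, 17, 18, 19, 20, 21],
    [0, 1, 2, 3, 6, 5, 7, 9, 8, 4, 10, 12, 11, 14, 15, 13, 16, 17, 18, 19, 20, 21],
    [0, 1, 2, 3, 6, 5, 7, 9, 8, 4, 10, 12, 11, 14, 15, 16, 13, 17, 18, 19, 20, 21],
    [0, 1, 2, 3, 6, 5, 7, 9, 8, 4, 10, 12, 11, 14, 15, 16, 17, 13, 18, 19, 20, 21],
    [0, 1, 2, 3, 6, 5, 7, 9, 8, 4, 10, 12, 11, 14, 15, 16, 17, 18, 13, 19, 20, 21],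
    [0, 1, 2, 3, 6, 5, 7, 9, 8, 4, 10, 12, 11, 14, 15, 16, 17, 18, 19, 13, 20, 21],
    [0, 1, 2, 3, 6, 5, 7, 9, 8, 4, 10, 12, 11, 14, 15, 16, 17, 18, 19, 20, 13, 21],
    [0, 1, 2, 3, 6, 5, 7, 9, 8, 4, 10, 12, 11, 14, 15, 16, 17, 18, 19, 20, 21, 13],
    [0, 1, 2, 3, 6, 5, 7, 9, 8, 4, 10, 12, 14, 11, 13, 15, 16, 17, 18, 19, 20, 21],
    [0, 1, 2, 3, 6, 5, 7, 9, 8, 4, 10, 12, 14, 11, 15, 13, 16, 17, 18, 19, 20, 21],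
    [0, 1, 2, 3, 6, 5, 7, 9, 8, 4, 10, 12, 14, 11, 15, 16, 13, 17, 18, 19, 20, 21],
    [0, 1, 2, 3, 6, 5, 7, 9, 8, 4, 10, 12, 14, 11, 15, 16, 17, 13, 18, 19, 20, 21],
    [0, 1, 2, 3, 6, 5, 7, 9, 8, 4, 10, 12, 14, 11, 15, 16, 17, 18, 13, 19, 20, 21],
    [0, 1, 2, 3, 6, 5, 7, 9, 8, 4, 10, 12, 14, 11, 15, 16, 17, 18, 19, 13, 20, 21],
    [0, 1, 2, 3, 6, 5, 7, 9, 8, 4, 10, 12, 14, 11, 15, 16, 17, 18, 19, 20, 13, 21],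
    [0, 1, 2, 3, 6, 5, 7, 9, 8, 4, 10, 12, 14, 11, 15, 16, 17, 18, 19, 20, 21, 13],
    [0, 1, 2, 3, 6, 5, 7, 9, 8, 4, 10, 12, 14, 15, 11, 13, 16, 17, 18, 19, 20, 21],
    [0, 1, 2, 3, 6, 5, 7, 9, 8, 4, 10, 12, 14, 15, 11, 16, 13, 17, 18, 19, 20, 21],
    [0, 1, 2, 3, 6, 5, 7, 9, 8, 4, 10, 12, 14, 15, 11, 16, 17, 13, 18, 19, 20, 21],
    [0, 1, 2, 3, 6, 5, 7, 9, 8, 4, 10, 12, 14, 15, 11, 16, 17, 18, 13, 19, 20, 21],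
    [0, 1, 2, 3, 6, 5, 7, 9, 8, 4, 10, 12, 14, 15, 11, 16, 17, 18, 19, 13, 20, 21],
    [0, 1, 2, 3, 6, 5, 7, 9, 8, 4, 10, 12, 14, 15, 11, 16, 17, 18, 19, 20, 13, 21],
    [0, 1, 2, 3, 6, 5, 7, 9, 8, 4, 10, 12, 14, 15, 11, 16, 17, 18, 19, 20, 21, 13],
    [0, 1, 2, 3, 6, 5, 7, 9, 8, 4, 10, 12, 14, 15, 16, 11, 13, 17, 18, 19, 20, 21],
    [0, 1, 2, 3, 6, 5, 7, 9, 8, 4, 10, 12, 14, 15, 16, 11, 17, 13, 18, 19, 20, 21],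
    [0, 1, 2, 3, 6, 5, 7, 9, 8, 4, 10, 12, 14, 15, 16, 11, 17, 18, 13, 19, 20, 21],
    [0, 1, 2, 3, 6, 5, 7, 9, 8, 4, 10, 12, 14, 15, 16, 11, 17, 18, 19, 13, 20, 21],
    [0, 1, 2, 3, 6, 5, 7, 9, 8, 4, 10, 12, 14, 15, 16, 11, 17, 18, 19, 20, 13, 21],
    [0, 1, 2, 3, 6, 5, 7, 9, 8, 4, 10, 12, 14, 15, 16, 11, 17, 18, 19, 20, 21, 13],
    [0, 1, 2, 3, 6, 5, 7, 9, 8, 4, 10, 12, 14, 15, 16, 17, 11, 13, 18, 19, 20, 21],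
    [0, 1, 2, 3, 6, 5, 7, 9, 8, 4, 10, 12, 14, 15, 16, 17, 11, 18, 13, 19, 20, 21],
    [0, 1, 2, 3, 6, 5, 7, 9, 8, 4, 10, 12, 14, 15, 16, 17, 11, 18, 19, 13, 20, 21],
    [0, 1, 2, 3, 6, 5, 7, 9, 8, 4, 10, 12, 14, 15, 16, 17, 11, 18, 19, 20, 13, 21],
    [0, 1, 2, 3, 6, 5, 7, 9, 8, 4, 10, 12, 14, 15, 16, 17, 11, 18, 19, 20, 21, 13],
    [0, 1, 2, 3, 6, 5, 7, 9, 8, 4, 10, 12, 14, 15, 16, 17, 18, 11, 13, 19, 20, 21],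
    [0, 1, 2, 3, 6, 5, 7, 9, 8, 4, 10, 12, 14, 15, 16, 17, 18, 11, 19, 13, 20, 21],
    [0, 1, 2, 3, 6, 5, 7, 9, 8, 4, 10, 12, 14, 15, 16, 17, 18, 11, 19, 20, 13, 21],
    [0, 1, 2, 3, 6, 5, 7, 9, 8, 4, 10, 12, 14, 15, 16, 17, 18, 11, 19, 20, 21, 13],
    [0, 1, 2, 3, 6, 5, 7, 9, 8, 4, 10, 12, 14, 15, 16, 17, 18, 19, 11, 13, 20, 21],
    [0, 1, 2, 3, 6, 5, 7, 9, 8, 4, 10, 12, 14, 15, 16, 17, 18, 19, 11, 20, 13, 21],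
    [0, 1, 2, 3, 6, 5, 7, 9, 8, 4, 10, 12, 14, 15, 16, 17, 18, 19, 11, 20, 21, 13],
    [0, 1, 2, 3, 6, 5, 7, 9, 8, 4, 10, 12, 14, 15, 16, 17, 18, 19, 20, 11, 13, 21],
    [0, 1, 2, 3, 6, 5, 7, 9, 8, 4, 10, 12, 14, 15, 16, 17, 18, 19, 20, 11, 21, 13],
    [0, 1, 2, 3, 6, 5, 7, 9, 8, 4, 10, 12, 14, 15, 16, 17, 18, 19, 20, 21, 11, 13],
    [0, 1, 2, 3, 6, 5, 7, 9, 8, 12, 10, 4, 11, 13, 14, 15, 16, 17, 18, 19, 20, 21],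
    [0, 1, 2, 3, 6, 5, 7, 9, 8, 12, 10, 4, 11, 14, 13, 15, 16, 17, 18, 19, 20, 21],
    [0, 1, 2, 3, 6, 5, 7, 9, 8, 12, 10, 4, 11, 14, 15, 13, 16, 17, 18, 19, 20, 21],
    [0, 1, 2, 3, 6, 5, 7, 9, 8, 12, 10, 4, 11, 14, 15, 16, 13, 17, 18, 19, 20, 21],
    [0, 1, 2, 3, 6, 5, 7, 9, 8, 12, 10, 4, 11, 14, 15, 16, 17, 13, 18, 19, 20, 21],
    [0, 1, 2, 3, 6, 5, 7, 9, 8, 12, 10, 4, 11, 14, 15, 16, 17, 18, 13, 19, 20, 21],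
    [0, 1, 2, 3, 6, 5, 7, 9, 8, 12, 10, 4, 11, 14, 15, 16, 17, 18, 19, 13, 20, 21],
    [0, 1, 2, 3, 6, 5, 7, 9, 8, 12, 10, 4, 11, 14, 15, 16, 17, 18, 19, 20, 13, 21],
    [0, 1, 2, 3, 6, 5, 7, 9, 8, 12, 10, 4, 11, 14, 15, 16, 17, 18, 19, 20, 21, 13],
    [0, 1, 2, 3, 6, 5, 7, 9, 8, 12, 10, 4, 14, 11, 13, 15, 16, 17, 18, 19, 20, 21]]

/-- Part 5 of the relabellings of step 1. -/
def sib22_1_5 : List (List ℕ) :=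
  [
    [0, 1, 2, 3, 6, 5, 7, 9, 8, 12, 10, 4, 14, 11, 15, 13, 16, 17, 18, 19, 20, 21],
    [0, 1, 2, 3, 6, 5, 7, 9, 8, 12, 10, 4, 14, 11, 15, 16, 13, 17, 18, 19, 20, 21],
    [0, 1, 2, 3, 6, 5, 7, 9, 8, 12, 10, 4, 14, 11, 15, 16, 17, 13, 18, 19, 20, 21],
    [0, 1, 2, 3, 6, 5, 7, 9, 8, 12, 10, 4, 14, 11, 15, 16, 17, 18, 13, 19, 20, 21],
    [0, 1, 2, 3, 6, 5, 7, 9, 8, 12, 10, 4, 14, 11, 15, 16, 17, 18, 19, 13, 20, 21],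
    [0, 1, 2, 3, 6, 5, 7, 9, 8, 12, 10, 4, 14, 11, 15, 16, 17, 18, 19, 20, 13, 21],
    [0, 1, 2, 3, 6, 5, 7, 9, 8, 12, 10, 4, 14, 11, 15, 16, 17, 18, 19, 20, 21, 13],
    [0, 1, 2, 3, 6, 5, 7, 9, 8, 12, 10, 4, 14, 15, 11, 13, 16, 17, 18, 19, 20, 21],
    [0, 1, 2, 3, 6, 5, 7, 9, 8, 12, 10, 4, 14, 15, 11, 16, 13, 17, 18, 19, 20, 21],
    [0, 1, 2, 3, 6, 5, 7, 9, 8, 12, 10, 4, 14, 15, 11, 16, 17, 13, 18, 19, 20, 21],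
    [0, 1, 2, 3, 6, 5, 7, 9, 8, 12, 10, 4, 14, 15, 11, 16, 17, 18, 13, 19, 20, 21],
    [0, 1, 2, 3, 6, 5, 7, 9, 8, 12, 10, 4, 14, 15, 11, 16, 17, 18, 19, 13, 20, 21],
    [0, 1, 2, 3, 6, 5, 7, 9, 8, 12, 10, 4, 14, 15, 11, 16, 17, 18, 19, 20, 13, 21],
    [0, 1, 2, 3, 6, 5, 7, 9, 8, 12, 10, 4, 14, 15, 11, 16, 17, 18, 19, 20, 21, 13],
    [0, 1, 2, 3, 6, 5, 7, 9, 8, 12, 10, 4, 14, 15, 16, 11, 13, 17, 18, 19, 20, 21],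
    [0, 1, 2, 3, 6, 5, 7, 9, 8, 12, 10, 4, 14, 15, 16, 11, 17, 13, 18, 19, 20, 21],
    [0, 1, 2, 3, 6, 5, 7, 9, 8, 12, 10, 4, 14, 15, 16, 11, 17, 18, 13, 19, 20, 21],
    [0, 1, 2, 3, 6, 5, 7, 9, 8, 12, 10, 4, 14, 15, 16, 11, 17, 18, 19, 13, 20, 21],
    [0, 1, 2, 3, 6, 5, 7, 9, 8, 12, 10, 4, 14, 15, 16, 11, 17, 18, 19, 20, 13, 21],
    [0, 1, 2, 3, 6, 5, 7, 9, 8, 12, 10, 4, 14, 15, 16, 11, 17, 18, 19, 20, 21, 13],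
    [0, 1, 2, 3, 6, 5, 7, 9, 8, 12, 10, 4, 14, 15, 16, 17, 11, 13, 18, 19, 20, 21],
    [0, 1, 2, 3, 6, 5, 7, 9, 8, 12, 10, 4, 14, 15, 16, 17, 11, 18, 13, 19, 20, 21],
    [0, 1, 2, 3, 6, 5, 7, 9, 8, 12, 10, 4, 14, 15, 16, 17, 11, 18, 19, 13, 20, 21],
    [0, 1, 2, 3, 6, 5, 7, 9, 8, 12, 10, 4, 14, 15, 16, 17, 11, 18, 19, 20, 13, 21],
    [0, 1, 2, 3, 6, 5, 7, 9, 8, 12, 10, 4, 14, 15, 16, 17, 11, 18, 19, 20, 21, 13],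
    [0, 1, 2, 3, 6, 5, 7, 9, 8, 12, 10, 4, 14, 15, 16, 17, 18, 11, 13, 19, 20, 21],
    [0, 1, 2, 3, 6, 5, 7, 9, 8, 12, 10, 4, 14, 15, 16, 17, 18, 11, 19, 13, 20, 21],
    [0, 1, 2, 3, 6, 5, 7, 9, 8, 12, 10, 4, 14, 15, 16, 17, 18, 11, 19, 20, 13, 21],
    [0, 1, 2, 3, 6, 5, 7, 9, 8, 12, 10, 4, 14, 15, 16, 17, 18, 11, 19, 20, 21, 13],
    [0, 1, 2, 3, 6, 5, 7, 9, 8, 12, 10, 4, 14, 15, 16, 17, 18, 19, 11, 13, 20, 21],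
    [0, 1, 2, 3, 6, 5, 7, 9, 8, 12, 10, 4, 14, 15, 16, 17, 18, 19, 11, 20, 13, 21],
    [0, 1, 2, 3, 6, 5, 7, 9, 8, 12, 10, 4, 14, 15, 16, 17, 18, 19, 11, 20, 21, 13],
    [0, 1, 2, 3, 6, 5, 7, 9, 8, 12, 10, 4, 14, 15, 16, 17, 18, 19, 20, 11, 13, 21],
    [0, 1, 2, 3, 6, 5, 7, 9, 8, 12, 10, 4, 14, 15, 16, 17, 18, 19, 20, 11, 21, 13],
    [0, 1, 2, 3, 6, 5, 7, 9, 8, 12, 10, 4, 14, 15, 16, 17, 18, 19, 20, 21, 11, 13],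
    [0, 1, 2, 3, 6, 5, 7, 9, 8, 12, 10, 14, 4, 11, 13, 15, 16, 17, 18, 19, 20, 21],
    [0, 1, 2, 3, 6, 5, 7, 9, 8, 12, 10, 14, 4, 11, 15, 13, 16, 17, 18, 19, 20, 21],
    [0, 1, 2, 3, 6, 5, 7, 9, 8, 12, 10, 14, 4, 11, 15, 16, 13, 17, 18, 19, 20, 21],
    [0, 1, 2, 3, 6, 5, 7, 9, 8, 12, 10, 14, 4, 11, 15, 16, 17, 13, 18, 19, 20, 21],
    [0, 1, 2, 3, 6, 5, 7, 9, 8, 12, 10, 14, 4, 11, 15, 16, 17, 18, 13, 19, 20, 21],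
    [0, 1, 2, 3, 6, 5, 7, 9, 8, 12, 10, 14, 4, 11, 15, 16, 17, 18, 19, 13, 20, 21],
    [0, 1, 2, 3, 6, 5, 7, 9, 8, 12, 10, 14, 4, 11, 15, 16, 17, 18, 19, 20, 13, 21],
    [0, 1, 2, 3, 6, 5, 7, 9, 8, 12, 10, 14, 4, 11, 15, 16, 17, 18, 19, 20, 21, 13],
    [0, 1, 2, 3, 6, 5, 7, 9, 8, 12, 10, 14, 4, 15, 11, 13, 16, 17, 18, 19, 20, 21],
    [0, 1, 2, 3, 6, 5, 7, 9, 8, 12, 10, 14, 4, 15, 11, 16, 13, 17, 18, 19, 20, 21],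
    [0, 1, 2, 3, 6, 5, 7, 9, 8, 12, 10, 14, 4, 15, 11, 16, 17, 13, 18, 19, 20, 21],
    [0, 1, 2, 3, 6, 5, 7, 9, 8, 12, 10, 14, 4, 15, 11, 16, 17, 18, 13, 19, 20, 21],
    [0, 1, 2, 3, 6, 5, 7, 9, 8, 12, 10, 14, 4, 15, 11, 16, 17, 18, 19, 13, 20, 21],
    [0, 1, 2, 3, 6, 5, 7, 9, 8, 12, 10, 14, 4, 15, 11, 16, 17, 18, 19, 20, 13, 21],
    [0, 1, 2, 3, 6, 5, 7, 9, 8, 12, 10, 14, 4, 15, 11, 16, 17, 18, 19, 20, 21, 13],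
    [0, 1, 2, 3, 6, 5, 7, 9, 8, 12, 10, 14, 4, 15, 16, 11, 13, 17, 18, 19, 20, 21],
    [0, 1, 2, 3, 6, 5, 7, 9, 8, 12, 10, 14, 4, 15, 16, 11, 17, 13, 18, 19, 20, 21],
    [0, 1, 2, 3, 6, 5, 7, 9, 8, 12, 10, 14, 4, 15, 16, 11, 17, 18, 13, 19, 20, 21],
    [0, 1, 2, 3, 6, 5, 7, 9, 8, 12, 10, 14, 4, 15, 16, 11, 17, 18, 19, 13, 20, 21],
    [0, 1, 2, 3, 6, 5, 7, 9, 8, 12, 10, 14, 4, 15, 16, 11, 17, 18, 19, 20, 13, 21],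
    [0, 1, 2, 3, 6, 5, 7, 9, 8, 12, 10, 14, 4, 15, 16, 11, 17, 18, 19, 20, 21, 13],
    [0, 1, 2, 3, 6, 5, 7, 9, 8, 12, 10, 14, 4, 15, 16, 17, 11, 13, 18, 19, 20, 21],
    [0, 1, 2, 3, 6, 5, 7, 9, 8, 12, 10, 14, 4, 15, 16, 17, 11, 18, 13, 19, 20, 21],
    [0, 1, 2, 3, 6, 5, 7, 9, 8, 12, 10, 14, 4, 15, 16, 17, 11, 18, 19, 13, 20, 21],
    [0, 1, 2, 3, 6, 5, 7, 9, 8, 12, 10, 14, 4, 15, 16, 17, 11, 18, 19, 20, 13, 21]]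

/-- Part 6 of the relabellings of step 1. -/
def sib22_1_6 : List (List ℕ) :=
  [
    [0, 1, 2, 3, 6, 5, 7, 9, 8, 12, 10, 14, 4, 15, 16, 17, 11, 18, 19, 20, 21, 13],
    [0, 1, 2, 3, 6, 5, 7, 9, 8, 12, 10, 14, 4, 15, 16, 17, 18, 11, 13, 19, 20, 21],
    [0, 1, 2, 3, 6, 5, 7, 9, 8, 12, 10, 14, 4, 15, 16, 17, 18, 11, 19, 13, 20, 21],
    [0, 1, 2, 3, 6, 5, 7, 9, 8, 12, 10, 14, 4, 15, 16, 17, 18, 11, 19, 20, 13, 21],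
    [0, 1, 2, 3, 6, 5, 7, 9, 8, 12, 10, 14, 4, 15, 16, 17, 18, 11, 19, 20, 21, 13],
    [0, 1, 2, 3, 6, 5, 7, 9, 8, 12, 10, 14, 4, 15, 16, 17, 18, 19, 11, 13, 20, 21],
    [0, 1, 2, 3, 6, 5, 7, 9, 8, 12, 10, 14, 4, 15, 16, 17, 18, 19, 11, 20, 13, 21],
    [0, 1, 2, 3, 6, 5, 7, 9, 8, 12, 10, 14, 4, 15, 16, 17, 18, 19, 11, 20, 21, 13],
    [0, 1, 2, 3, 6, 5, 7, 9, 8, 12, 10, 14, 4, 15, 16, 17, 18, 19, 20, 11, 13, 21],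
    [0, 1, 2, 3, 6, 5, 7, 9, 8, 12, 10, 14, 4, 15, 16, 17, 18, 19, 20, 11, 21, 13],
    [0, 1, 2, 3, 6, 5, 7, 9, 8, 12, 10, 14, 4, 15, 16, 17, 18, 19, 20, 21, 11, 13],
    [0, 1, 2, 3, 6, 5, 7, 9, 8, 12, 10, 14, 15, 4, 11, 13, 16, 17, 18, 19, 20, 21],
    [0, 1, 2, 3, 6, 5, 7, 9, 8, 12, 10, 14, 15, 4, 11, 16, 13, 17, 18, 19, 20, 21],
    [0, 1, 2, 3, 6, 5, 7, 9, 8, 12, 10, 14, 15, 4, 11, 16, 17, 13, 18, 19, 20, 21],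
    [0, 1, 2, 3, 6, 5, 7, 9, 8, 12, 10, 14, 15, 4, 11, 16, 17, 18, 13, 19, 20, 21],
    [0, 1, 2, 3, 6, 5, 7, 9, 8, 12, 10, 14, 15, 4, 11, 16, 17, 18, 19, 13, 20, 21],
    [0, 1, 2, 3, 6, 5, 7, 9, 8, 12, 10, 14, 15, 4, 11, 16, 17, 18, 19, 20, 13, 21],
    [0, 1, 2, 3, 6, 5, 7, 9, 8, 12, 10, 14, 15, 4, 11, 16, 17, 18, 19, 20, 21, 13],
    [0, 1, 2, 3, 6, 5, 7, 9, 8, 12, 10, 14, 15, 4, 16, 11, 13, 17, 18, 19, 20, 21],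
    [0, 1, 2, 3, 6, 5, 7, 9, 8, 12, 10, 14, 15, 4, 16, 11, 17, 13, 18, 19, 20, 21],
    [0, 1, 2, 3, 6, 5, 7, 9, 8, 12, 10, 14, 15, 4, 16, 11, 17, 18, 13, 19, 20, 21],
    [0, 1, 2, 3, 6, 5, 7, 9, 8, 12, 10, 14, 15, 4, 16, 11, 17, 18, 19, 13, 20, 21],
    [0, 1, 2, 3, 6, 5, 7, 9, 8, 12, 10, 14, 15, 4, 16, 11, 17, 18, 19, 20, 13, 21],
    [0, 1, 2, 3, 6, 5, 7, 9, 8, 12, 10, 14, 15, 4, 16, 11, 17, 18, 19, 20, 21, 13],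
    [0, 1, 2, 3, 6, 5, 7, 9, 8, 12, 10, 14, 15, 4, 16, 17, 11, 13, 18, 19, 20, 21],
    [0, 1, 2, 3, 6, 5, 7, 9, 8, 12, 10, 14, 15, 4, 16, 17, 11, 18, 13, 19, 20, 21],
    [0, 1, 2, 3, 6, 5, 7, 9, 8, 12, 10, 14, 15, 4, 16, 17, 11, 18, 19, 13, 20, 21],
    [0, 1, 2, 3, 6, 5, 7, 9, 8, 12, 10, 14, 15, 4, 16, 17, 11, 18, 19, 20, 13, 21],
    [0, 1, 2, 3, 6, 5, 7, 9, 8, 12, 10, 14, 15, 4, 16, 17, 11, 18, 19, 20, 21, 13],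
    [0, 1, 2, 3, 6, 5, 7, 9, 8, 12, 10, 14, 15, 4, 16, 17, 18, 11, 13, 19, 20, 21],
    [0, 1, 2, 3, 6, 5, 7, 9, 8, 12, 10, 14, 15, 4, 16, 17, 18, 11, 19, 13, 20, 21],
    [0, 1, 2, 3, 6, 5, 7, 9, 8, 12, 10, 14, 15, 4, 16, 17, 18, 11, 19, 20, 13, 21],
    [0, 1, 2, 3, 6, 5, 7, 9, 8, 12, 10, 14, 15, 4, 16, 17, 18, 11, 19, 20, 21, 13],
    [0, 1, 2, 3, 6, 5, 7, 9, 8, 12, 10, 14, 15, 4, 16, 17, 18, 19, 11, 13, 20, 21],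
    [0, 1, 2, 3, 6, 5, 7, 9, 8, 12, 10, 14, 15, 4, 16, 17, 18, 19, 11, 20, 13, 21],
    [0, 1, 2, 3, 6, 5, 7, 9, 8, 12, 10, 14, 15, 4, 16, 17, 18, 19, 11, 20, 21, 13],
    [0, 1, 2, 3, 6, 5, 7, 9, 8, 12, 10, 14, 15, 4, 16, 17, 18, 19, 20, 11, 13, 21],
    [0, 1, 2, 3, 6, 5, 7, 9, 8, 12, 10, 14, 15, 4, 16, 17, 18, 19, 20, 11, 21, 13],
    [0, 1, 2, 3, 6, 5, 7, 9, 8, 12, 10, 14, 15, 4, 16, 17, 18, 19, 20, 21, 11, 13],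
    [0, 1, 2, 3, 6, 5, 7, 9, 8, 12, 10, 14, 15, 16, 4, 11, 13, 17, 18, 19, 20, 21],
    [0, 1, 2, 3, 6, 5, 7, 9, 8, 12, 10, 14, 15, 16, 4, 11, 17, 13, 18, 19, 20, 21],
    [0, 1, 2, 3, 6, 5, 7, 9, 8, 12, 10, 14, 15, 16, 4, 11, 17, 18, 13, 19, 20, 21],
    [0, 1, 2, 3, 6, 5, 7, 9, 8, 12, 10, 14, 15, 16, 4, 11, 17, 18, 19, 13, 20, 21],
    [0, 1, 2, 3, 6, 5, 7, 9, 8, 12, 10, 14, 15, 16, 4, 11, 17, 18, 19, 20, 13, 21],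
    [0, 1, 2, 3, 6, 5, 7, 9, 8, 12, 10, 14, 15, 16, 4, 11, 17, 18, 19, 20, 21, 13],
    [0, 1, 2, 3, 6, 5, 7, 9, 8, 12, 10, 14, 15, 16, 4, 17, 11, 13, 18, 19, 20, 21],
    [0, 1, 2, 3, 6, 5, 7, 9, 8, 12, 10, 14, 15, 16, 4, 17, 11, 18, 13, 19, 20, 21],
    [0, 1, 2, 3, 6, 5, 7, 9, 8, 12, 10, 14, 15, 16, 4, 17, 11, 18, 19, 13, 20, 21],
    [0, 1, 2, 3, 6, 5, 7, 9, 8, 12, 10, 14, 15, 16, 4, 17, 11, 18, 19, 20, 13, 21],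
    [0, 1, 2, 3, 6, 5, 7, 9, 8, 12, 10, 14, 15, 16, 4, 17, 11, 18, 19, 20, 21, 13],
    [0, 1, 2, 3, 6, 5, 7, 9, 8, 12, 10, 14, 15, 16, 4, 17, 18, 11, 13, 19, 20, 21],
    [0, 1, 2, 3, 6, 5, 7, 9, 8, 12, 10, 14, 15, 16, 4, 17, 18, 11, 19, 13, 20, 21],
    [0, 1, 2, 3, 6, 5, 7, 9, 8, 12, 10, 14, 15, 16, 4, 17, 18, 11, 19, 20, 13, 21],
    [0, 1, 2, 3, 6, 5, 7, 9, 8, 12, 10, 14, 15, 16, 4, 17, 18, 11, 19, 20, 21, 13],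
    [0, 1, 2, 3, 6, 5, 7, 9, 8, 12, 10, 14, 15, 16, 4, 17, 18, 19, 11, 13, 20, 21],
    [0, 1, 2, 3, 6, 5, 7, 9, 8, 12, 10, 14, 15, 16, 4, 17, 18, 19, 11, 20, 13, 21],
    [0, 1, 2, 3, 6, 5, 7, 9, 8, 12, 10, 14, 15, 16, 4, 17, 18, 19, 11, 20, 21, 13],
    [0, 1, 2, 3, 6, 5, 7, 9, 8, 12, 10, 14, 15, 16, 4, 17, 18, 19, 20, 11, 13, 21],
    [0, 1, 2, 3, 6, 5, 7, 9, 8, 12, 10, 14, 15, 16, 4, 17, 18, 19, 20, 11, 21, 13],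
    [0, 1, 2, 3, 6, 5, 7, 9, 8, 12, 10, 14, 15, 16, 4, 17, 18, 19, 20, 21, 11, 13]]

/-- Part 7 of the relabellings of step 1. -/
def sib22_1_7 : List (List ℕ) :=
  [
    [0, 1, 2, 3, 6, 5, 7, 9, 8, 12, 10, 14, 15, 16, 17, 4, 11, 13, 18, 19, 20, 21],
    [0, 1, 2, 3, 6, 5, 7, 9, 8, 12, 10, 14, 15, 16, 17, 4, 11, 18, 13, 19, 20, 21],
    [0, 1, 2, 3, 6, 5, 7, 9, 8, 12, 10, 14, 15, 16, 17, 4, 11, 18, 19, 13, 20, 21],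
    [0, 1, 2, 3, 6, 5, 7, 9, 8, 12, 10, 14, 15, 16, 17, 4, 11, 18, 19, 20, 13, 21],
    [0, 1, 2, 3, 6, 5, 7, 9, 8, 12, 10, 14, 15, 16, 17, 4, 11, 18, 19, 20, 21, 13],
    [0, 1, 2, 3, 6, 5, 7, 9, 8, 12, 10, 14, 15, 16, 17, 4, 18, 11, 13, 19, 20, 21],
    [0, 1, 2, 3, 6, 5, 7, 9, 8, 12, 10, 14, 15, 16, 17, 4, 18, 11, 19, 13, 20, 21],
    [0, 1, 2, 3, 6, 5, 7, 9, 8, 12, 10, 14, 15, 16, 17, 4, 18, 11, 19, 20, 13, 21],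
    [0, 1, 2, 3, 6, 5, 7, 9, 8, 12, 10, 14, 15, 16, 17, 4, 18, 11, 19, 20, 21, 13],
    [0, 1, 2, 3, 6, 5, 7, 9, 8, 12, 10, 14, 15, 16, 17, 4, 18, 19, 11, 13, 20, 21],
    [0, 1, 2, 3, 6, 5, 7, 9, 8, 12, 10, 14, 15, 16, 17, 4, 18, 19, 11, 20, 13, 21],
    [0, 1, 2, 3, 6, 5, 7, 9, 8, 12, 10, 14, 15, 16, 17, 4, 18, 19, 11, 20, 21, 13],
    [0, 1, 2, 3, 6, 5, 7, 9, 8, 12, 10, 14, 15, 16, 17, 4, 18, 19, 20, 11, 13, 21],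
    [0, 1, 2, 3, 6, 5, 7, 9, 8, 12, 10, 14, 15, 16, 17, 4, 18, 19, 20, 11, 21, 13],
    [0, 1, 2, 3, 6, 5, 7, 9, 8, 12, 10, 14, 15, 16, 17, 4, 18, 19, 20, 21, 11, 13],
    [0, 1, 2, 3, 6, 5, 7, 9, 8, 12, 10, 14, 15, 16, 17, 18, 4, 11, 13, 19, 20, 21],
    [0, 1, 2, 3, 6, 5, 7, 9, 8, 12, 10, 14, 15, 16, 17, 18, 4, 11, 19, 13, 20, 21],
    [0, 1, 2, 3, 6, 5, 7, 9, 8, 12, 10, 14, 15, 16, 17, 18, 4, 11, 19, 20, 13, 21],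
    [0, 1, 2, 3, 6, 5, 7, 9, 8, 12, 10, 14, 15, 16, 17, 18, 4, 11, 19, 20, 21, 13],
    [0, 1, 2, 3, 6, 5, 7, 9, 8, 12, 10, 14, 15, 16, 17, 18, 4, 19, 11, 13, 20, 21],
    [0, 1, 2, 3, 6, 5, 7, 9, 8, 12, 10, 14, 15, 16, 17, 18, 4, 19, 11, 20, 13, 21],
    [0, 1, 2, 3, 6, 5, 7, 9, 8, 12, 10, 14, 15, 16, 17, 18, 4, 19, 11, 20, 21, 13],
    [0, 1, 2, 3, 6, 5, 7, 9, 8, 12, 10, 14, 15, 16, 17, 18, 4, 19, 20, 11, 13, 21],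
    [0, 1, 2, 3, 6, 5, 7, 9, 8, 12, 10, 14, 15, 16, 17, 18, 4, 19, 20, 11, 21, 13],
    [0, 1, 2, 3, 6, 5, 7, 9, 8, 12, 10, 14, 15, 16, 17, 18, 4, 19, 20, 21, 11, 13],
    [0, 1, 2, 3, 6, 5, 7, 9, 8, 12, 10, 14, 15, 16, 17, 18, 19, 4, 11, 13, 20, 21],
    [0, 1, 2, 3, 6, 5, 7, 9, 8, 12, 10, 14, 15, 16, 17, 18, 19, 4, 11, 20, 13, 21],
    [0, 1, 2, 3, 6, 5, 7, 9, 8, 12, 10, 14, 15, 16, 17, 18, 19, 4, 11, 20, 21, 13],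
    [0, 1, 2, 3, 6, 5, 7, 9, 8, 12, 10, 14, 15, 16, 17, 18, 19, 4, 20, 11, 13, 21],
    [0, 1, 2, 3, 6, 5, 7, 9, 8, 12, 10, 14, 15, 16, 17, 18, 19, 4, 20, 11, 21, 13],
    [0, 1, 2, 3, 6, 5, 7, 9, 8, 12, 10, 14, 15, 16, 17, 18, 19, 4, 20, 21, 11, 13],
    [0, 1, 2, 3, 6, 5, 7, 9, 8, 12, 10, 14, 15, 16, 17, 18, 19, 20, 4, 11, 13, 21],
    [0, 1, 2, 3, 6, 5, 7, 9, 8, 12, 10, 14, 15, 16, 17, 18, 19, 20, 4, 11, 21, 13],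
    [0, 1, 2, 3, 6, 5, 7, 9, 8, 12, 10, 14, 15, 16, 17, 18, 19, 20, 4, 21, 11, 13],
    [0, 1, 2, 3, 6, 5, 7, 9, 8, 12, 10, 14, 15, 16, 17, 18, 19, 20, 21, 4, 11, 13]]

/-- Step 1 on 22 points. -/
def step22_1 : Step where
  pts := [0, 3, 10]
  rep := 11289
  sib := sib22_1_0 ++ sib22_1_1 ++ sib22_1_2 ++ sib22_1_3 ++ sib22_1_4 ++ sib22_1_5 ++ sib22_1_6 ++ sib22_1_7

/-- Part 0 of the relabellings of step 2. -/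
def sib22_2_0 : List (List ℕ) :=
  [
    [0, 1, 2, 3, 4, 5, 6, 9, 8, 16, 10, 11, 21, 13, 7, 12, 14, 15, 17, 18, 19, 20],
    [0, 1, 2, 3, 4, 5, 6, 9, 8, 16, 10, 11, 7, 13, 21, 12, 14, 15, 17, 18, 19, 20],
    [0, 1, 2, 3, 4, 5, 6, 9, 8, 16, 10, 11, 7, 13, 12, 21, 14, 15, 17, 18, 19, 20],
    [0, 1, 2, 3, 4, 5, 6, 9, 8, 16, 10, 11, 7, 13, 12, 14, 21, 15, 17, 18, 19, 20],
    [0, 1, 2, 3, 4, 5, 6, 9, 8, 16, 10, 11, 7, 13, 12, 14, 15, 21, 17, 18, 19, 20],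
    [0, 1, 2, 3, 4, 5, 6, 9, 8, 16, 10, 11, 7, 13, 12, 14, 15, 17, 21, 18, 19, 20],
    [0, 1, 2, 3, 4, 5, 6, 9, 8, 16, 10, 11, 7, 13, 12, 14, 15, 17, 18, 21, 19, 20],
    [0, 1, 2, 3, 4, 5, 6, 9, 8, 16, 10, 11, 7, 13, 12, 14, 15, 17, 18, 19, 21, 20],
    [0, 1, 2, 3, 4, 5, 6, 9, 8, 16, 10, 11, 7, 13, 12, 14, 15, 17, 18, 19, 20, 21],
    [0, 1, 2, 3, 4, 5, 6, 9, 8, 7, 10, 11, 16, 13, 21, 12, 14, 15, 17, 18, 19, 20],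
    [0, 1, 2, 3, 4, 5, 6, 9, 8, 7, 10, 11, 16, 13, 12, 21, 14, 15, 17, 18, 19, 20],
    [0, 1, 2, 3, 4, 5, 6, 9, 8, 7, 10, 11, 16, 13, 12, 14, 21, 15, 17, 18, 19, 20],
    [0, 1, 2, 3, 4, 5, 6, 9, 8, 7, 10, 11, 16, 13, 12, 14, 15, 21, 17, 18, 19, 20],
    [0, 1, 2, 3, 4, 5, 6, 9, 8, 7, 10, 11, 16, 13, 12, 14, 15, 17, 21, 18, 19, 20],
    [0, 1, 2, 3, 4, 5, 6, 9, 8, 7, 10, 11, 16, 13, 12, 14, 15, 17, 18, 21, 19, 20],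
    [0, 1, 2, 3, 4, 5, 6, 9, 8, 7, 10, 11, 16, 13, 12, 14, 15, 17, 18, 19, 21, 20],
    [0, 1, 2, 3, 4, 5, 6, 9, 8, 7, 10, 11, 16, 13, 12, 14, 15, 17, 18, 19, 20, 21],
    [0, 1, 2, 3, 4, 5, 6, 9, 8, 7, 10, 11, 12, 13, 16, 21, 14, 15, 17, 18, 19, 20],
    [0, 1, 2, 3, 4, 5, 6, 9, 8, 7, 10, 11, 12, 13, 16, 14, 21, 15, 17, 18, 19, 20],
    [0, 1, 2, 3, 4, 5, 6, 9, 8, 7, 10, 11, 12, 13, 16, 14, 15, 21, 17, 18, 19, 20],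
    [0, 1, 2, 3, 4, 5, 6, 9, 8, 7, 10, 11, 12, 13, 16, 14, 15, 17, 21, 18, 19, 20],
    [0, 1, 2, 3, 4, 5, 6, 9, 8, 7, 10, 11, 12, 13, 16, 14, 15, 17, 18, 21, 19, 20],
    [0, 1, 2, 3, 4, 5, 6, 9, 8, 7, 10, 11, 12, 13, 16, 14, 15, 17, 18, 19, 21, 20],
    [0, 1, 2, 3, 4, 5, 6, 9, 8, 7, 10, 11, 12, 13, 16, 14, 15, 17, 18, 19, 20, 21],
    [0, 1, 2, 3, 4, 5, 6, 9, 8, 7, 10, 11, 12, 13, 14, 16, 21, 15, 17, 18, 19, 20],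
    [0, 1, 2, 3, 4, 5, 6, 9, 8, 7, 10, 11, 12, 13, 14, 16, 15, 21, 17, 18, 19, 20],
    [0, 1, 2, 3, 4, 5, 6, 9, 8, 7, 10, 11, 12, 13, 14, 16, 15, 17, 21, 18, 19, 20],
    [0, 1, 2, 3, 4, 5, 6, 9, 8, 7, 10, 11, 12, 13, 14, 16, 15, 17, 18, 21, 19, 20],
    [0, 1, 2, 3, 4, 5, 6, 9, 8, 7, 10, 11, 12, 13, 14, 16, 15, 17, 18, 19, 21, 20],
    [0, 1, 2, 3, 4, 5, 6, 9, 8, 7, 10, 11, 12, 13, 14, 16, 15, 17, 18, 19, 20, 21],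
    [0, 1, 2, 3, 4, 5, 6, 9, 8, 7, 10, 11, 12, 13, 14, 15, 16, 21, 17, 18, 19, 20],
    [0, 1, 2, 3, 4, 5, 6, 9, 8, 7, 10, 11, 12, 13, 14, 15, 16, 17, 21, 18, 19, 20],
    [0, 1, 2, 3, 4, 5, 6, 9, 8, 7, 10, 11, 12, 13, 14, 15, 16, 17, 18, 21, 19, 20],
    [0, 1, 2, 3, 4, 5, 6, 9, 8, 7, 10, 11, 12, 13, 14, 15, 16, 17, 18, 19, 21, 20],
    [0, 1, 2, 3, 4, 5, 6, 9, 8, 7, 10, 11, 12, 13, 14, 15, 16, 17, 18, 19, 20, 21],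
    [0, 1, 2, 3, 4, 5, 6, 9, 8, 7, 10, 11, 12, 13, 14, 15, 17, 16, 21, 18, 19, 20],
    [0, 1, 2, 3, 4, 5, 6, 9, 8, 7, 10, 11, 12, 13, 14, 15, 17, 16, 18, 21, 19, 20],
    [0, 1, 2, 3, 4, 5, 6, 9, 8, 7, 10, 11, 12, 13, 14, 15, 17, 16, 18, 19, 21, 20],
    [0, 1, 2, 3, 4, 5, 6, 9, 8, 7, 10, 11, 12, 13, 14, 15, 17, 16, 18, 19, 20, 21],
    [0, 1, 2, 3, 4, 5, 6, 9, 8, 7, 10, 11, 12, 13, 14, 15, 17, 18, 16, 21, 19, 20],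
    [0, 1, 2, 3, 4, 5, 6, 9, 8, 7, 10, 11, 12, 13, 14, 15, 17, 18, 16, 19, 21, 20],
    [0, 1, 2, 3, 4, 5, 6, 9, 8, 7, 10, 11, 12, 13, 14, 15, 17, 18, 16, 19, 20, 21],
    [0, 1, 2, 3, 4, 5, 6, 9, 8, 7, 10, 11, 12, 13, 14, 15, 17, 18, 19, 16, 21, 20],
    [0, 1, 2, 3, 4, 5, 6, 9, 8, 7, 10, 11, 12, 13, 14, 15, 17, 18, 19, 16, 20, 21],
    [0, 1, 2, 3, 4, 5, 6, 9, 8, 7, 10, 11, 12, 13, 14, 15, 17, 18, 19, 20, 16, 21],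
    [0, 1, 2, 3, 4, 5, 6, 7, 8, 9, 10, 11, 16, 13, 21, 12, 14, 15, 17, 18, 19, 20],
    [0, 1, 2, 3, 4, 5, 6, 7, 8, 9, 10, 11, 16, 13, 12, 21, 14, 15, 17, 18, 19, 20],
    [0, 1, 2, 3, 4, 5, 6, 7, 8, 9, 10, 11, 16, 13, 12, 14, 21, 15, 17, 18, 19, 20],
    [0, 1, 2, 3, 4, 5, 6, 7, 8, 9, 10, 11, 16, 13, 12, 14, 15, 21, 17, 18, 19, 20],
    [0, 1, 2, 3, 4, 5, 6, 7, 8, 9, 10, 11, 16, 13, 12, 14, 15, 17, 21, 18, 19, 20],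
    [0, 1, 2, 3, 4, 5, 6, 7, 8, 9, 10, 11, 16, 13, 12, 14, 15, 17, 18, 21, 19, 20],
    [0, 1, 2, 3, 4, 5, 6, 7, 8, 9, 10, 11, 16, 13, 12, 14, 15, 17, 18, 19, 21, 20],
    [0, 1, 2, 3, 4, 5, 6, 7, 8, 9, 10, 11, 16, 13, 12, 14, 15, 17, 18, 19, 20, 21],
    [0, 1, 2, 3, 4, 5, 6, 7, 8, 9, 10, 11, 12, 13, 16, 21, 14, 15, 17, 18, 19, 20],
    [0, 1, 2, 3, 4, 5, 6, 7, 8, 9, 10, 11, 12, 13, 16, 14, 21, 15, 17, 18, 19, 20],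
    [0, 1, 2, 3, 4, 5, 6, 7, 8, 9, 10, 11, 12, 13, 16, 14, 15, 21, 17, 18, 19, 20],
    [0, 1, 2, 3, 4, 5, 6, 7, 8, 9, 10, 11, 12, 13, 16, 14, 15, 17, 21, 18, 19, 20],
    [0, 1, 2, 3, 4, 5, 6, 7, 8, 9, 10, 11, 12, 13, 16, 14, 15, 17, 18, 21, 19, 20],
    [0, 1, 2, 3, 4, 5, 6, 7, 8, 9, 10, 11, 12, 13, 16, 14, 15, 17, 18, 19, 21, 20],
    [0, 1, 2, 3, 4, 5, 6, 7, 8, 9, 10, 11, 12, 13, 16, 14, 15, 17, 18, 19, 20, 21]]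

/-- Part 1 of the relabellings of step 2. -/
def sib22_2_1 : List (List ℕ) :=
  [
    [0, 1, 2, 3, 4, 5, 6, 7, 8, 9, 10, 11, 12, 13, 14, 16, 21, 15, 17, 18, 19, 20],
    [0, 1, 2, 3, 4, 5, 6, 7, 8, 9, 10, 11, 12, 13, 14, 16, 15, 21, 17, 18, 19, 20],
    [0, 1, 2, 3, 4, 5, 6, 7, 8, 9, 10, 11, 12, 13, 14, 16, 15, 17, 21, 18, 19, 20],
    [0, 1, 2, 3, 4, 5, 6, 7, 8, 9, 10, 11, 12, 13, 14, 16, 15, 17, 18, 21, 19, 20],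
    [0, 1, 2, 3, 4, 5, 6, 7, 8, 9, 10, 11, 12, 13, 14, 16, 15, 17, 18, 19, 21, 20],
    [0, 1, 2, 3, 4, 5, 6, 7, 8, 9, 10, 11, 12, 13, 14, 16, 15, 17, 18, 19, 20, 21],
    [0, 1, 2, 3, 4, 5, 6, 7, 8, 9, 10, 11, 12, 13, 14, 15, 16, 21, 17, 18, 19, 20],
    [0, 1, 2, 3, 4, 5, 6, 7, 8, 9, 10, 11, 12, 13, 14, 15, 16, 17, 21, 18, 19, 20],
    [0, 1, 2, 3, 4, 5, 6, 7, 8, 9, 10, 11, 12, 13, 14, 15, 16, 17, 18, 21, 19, 20],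
    [0, 1, 2, 3, 4, 5, 6, 7, 8, 9, 10, 11, 12, 13, 14, 15, 16, 17, 18, 19, 21, 20], [],
    [0, 1, 2, 3, 4, 5, 6, 7, 8, 9, 10, 11, 12, 13, 14, 15, 17, 16, 21, 18, 19, 20],
    [0, 1, 2, 3, 4, 5, 6, 7, 8, 9, 10, 11, 12, 13, 14, 15, 17, 16, 18, 21, 19, 20],
    [0, 1, 2, 3, 4, 5, 6, 7, 8, 9, 10, 11, 12, 13, 14, 15, 17, 16, 18, 19, 21, 20],
    [0, 1, 2, 3, 4, 5, 6, 7, 8, 9, 10, 11, 12, 13, 14, 15, 17, 16, 18, 19, 20, 21],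
    [0, 1, 2, 3, 4, 5, 6, 7, 8, 9, 10, 11, 12, 13, 14, 15, 17, 18, 16, 21, 19, 20],
    [0, 1, 2, 3, 4, 5, 6, 7, 8, 9, 10, 11, 12, 13, 14, 15, 17, 18, 16, 19, 21, 20],
    [0, 1, 2, 3, 4, 5, 6, 7, 8, 9, 10, 11, 12, 13, 14, 15, 17, 18, 16, 19, 20, 21],
    [0, 1, 2, 3, 4, 5, 6, 7, 8, 9, 10, 11, 12, 13, 14, 15, 17, 18, 19, 16, 21, 20],
    [0, 1, 2, 3, 4, 5, 6, 7, 8, 9, 10, 11, 12, 13, 14, 15, 17, 18, 19, 16, 20, 21],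
    [0, 1, 2, 3, 4, 5, 6, 7, 8, 9, 10, 11, 12, 13, 14, 15, 17, 18, 19, 20, 16, 21],
    [0, 1, 2, 3, 4, 5, 6, 7, 8, 12, 10, 11, 9, 13, 16, 21, 14, 15, 17, 18, 19, 20],
    [0, 1, 2, 3, 4, 5, 6, 7, 8, 12, 10, 11, 9, 13, 16, 14, 21, 15, 17, 18, 19, 20],
    [0, 1, 2, 3, 4, 5, 6, 7, 8, 12, 10, 11, 9, 13, 16, 14, 15, 21, 17, 18, 19, 20],
    [0, 1, 2, 3, 4, 5, 6, 7, 8, 12, 10, 11, 9, 13, 16, 14, 15, 17, 21, 18, 19, 20],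
    [0, 1, 2, 3, 4, 5, 6, 7, 8, 12, 10, 11, 9, 13, 16, 14, 15, 17, 18, 21, 19, 20],
    [0, 1, 2, 3, 4, 5, 6, 7, 8, 12, 10, 11, 9, 13, 16, 14, 15, 17, 18, 19, 21, 20],
    [0, 1, 2, 3, 4, 5, 6, 7, 8, 12, 10, 11, 9, 13, 16, 14, 15, 17, 18, 19, 20, 21],
    [0, 1, 2, 3, 4, 5, 6, 7, 8, 12, 10, 11, 9, 13, 14, 16, 21, 15, 17, 18, 19, 20],
    [0, 1, 2, 3, 4, 5, 6, 7, 8, 12, 10, 11, 9, 13, 14, 16, 15, 21, 17, 18, 19, 20],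
    [0, 1, 2, 3, 4, 5, 6, 7, 8, 12, 10, 11, 9, 13, 14, 16, 15, 17, 21, 18, 19, 20],
    [0, 1, 2, 3, 4, 5, 6, 7, 8, 12, 10, 11, 9, 13, 14, 16, 15, 17, 18, 21, 19, 20],
    [0, 1, 2, 3, 4, 5, 6, 7, 8, 12, 10, 11, 9, 13, 14, 16, 15, 17, 18, 19, 21, 20],
    [0, 1, 2, 3, 4, 5, 6, 7, 8, 12, 10, 11, 9, 13, 14, 16, 15, 17, 18, 19, 20, 21],
    [0, 1, 2, 3, 4, 5, 6, 7, 8, 12, 10, 11, 9, 13, 14, 15, 16, 21, 17, 18, 19, 20],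
    [0, 1, 2, 3, 4, 5, 6, 7, 8, 12, 10, 11, 9, 13, 14, 15, 16, 17, 21, 18, 19, 20],
    [0, 1, 2, 3, 4, 5, 6, 7, 8, 12, 10, 11, 9, 13, 14, 15, 16, 17, 18, 21, 19, 20],
    [0, 1, 2, 3, 4, 5, 6, 7, 8, 12, 10, 11, 9, 13, 14, 15, 16, 17, 18, 19, 21, 20],
    [0, 1, 2, 3, 4, 5, 6, 7, 8, 12, 10, 11, 9, 13, 14, 15, 16, 17, 18, 19, 20, 21],
    [0, 1, 2, 3, 4, 5, 6, 7, 8, 12, 10, 11, 9, 13, 14, 15, 17, 16, 21, 18, 19, 20],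
    [0, 1, 2, 3, 4, 5, 6, 7, 8, 12, 10, 11, 9, 13, 14, 15, 17, 16, 18, 21, 19, 20],
    [0, 1, 2, 3, 4, 5, 6, 7, 8, 12, 10, 11, 9, 13, 14, 15, 17, 16, 18, 19, 21, 20],
    [0, 1, 2, 3, 4, 5, 6, 7, 8, 12, 10, 11, 9, 13, 14, 15, 17, 16, 18, 19, 20, 21],
    [0, 1, 2, 3, 4, 5, 6, 7, 8, 12, 10, 11, 9, 13, 14, 15, 17, 18, 16, 21, 19, 20],
    [0, 1, 2, 3, 4, 5, 6, 7, 8, 12, 10, 11, 9, 13, 14, 15, 17, 18, 16, 19, 21, 20],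
    [0, 1, 2, 3, 4, 5, 6, 7, 8, 12, 10, 11, 9, 13, 14, 15, 17, 18, 16, 19, 20, 21],
    [0, 1, 2, 3, 4, 5, 6, 7, 8, 12, 10, 11, 9, 13, 14, 15, 17, 18, 19, 16, 21, 20],
    [0, 1, 2, 3, 4, 5, 6, 7, 8, 12, 10, 11, 9, 13, 14, 15, 17, 18, 19, 16, 20, 21],
    [0, 1, 2, 3, 4, 5, 6, 7, 8, 12, 10, 11, 9, 13, 14, 15, 17, 18, 19, 20, 16, 21],
    [0, 1, 2, 3, 4, 5, 6, 7, 8, 12, 10, 11, 14, 13, 9, 16, 21, 15, 17, 18, 19, 20],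
    [0, 1, 2, 3, 4, 5, 6, 7, 8, 12, 10, 11, 14, 13, 9, 16, 15, 21, 17, 18, 19, 20],
    [0, 1, 2, 3, 4, 5, 6, 7, 8, 12, 10, 11, 14, 13, 9, 16, 15, 17, 21, 18, 19, 20],
    [0, 1, 2, 3, 4, 5, 6, 7, 8, 12, 10, 11, 14, 13, 9, 16, 15, 17, 18, 21, 19, 20],
    [0, 1, 2, 3, 4, 5, 6, 7, 8, 12, 10, 11, 14, 13, 9, 16, 15, 17, 18, 19, 21, 20],
    [0, 1, 2, 3, 4, 5, 6, 7, 8, 12, 10, 11, 14, 13, 9, 16, 15, 17, 18, 19, 20, 21],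
    [0, 1, 2, 3, 4, 5, 6, 7, 8, 12, 10, 11, 14, 13, 9, 15, 16, 21, 17, 18, 19, 20],
    [0, 1, 2, 3, 4, 5, 6, 7, 8, 12, 10, 11, 14, 13, 9, 15, 16, 17, 21, 18, 19, 20],
    [0, 1, 2, 3, 4, 5, 6, 7, 8, 12, 10, 11, 14, 13, 9, 15, 16, 17, 18, 21, 19, 20],
    [0, 1, 2, 3, 4, 5, 6, 7, 8, 12, 10, 11, 14, 13, 9, 15, 16, 17, 18, 19, 21, 20],
    [0, 1, 2, 3, 4, 5, 6, 7, 8, 12, 10, 11, 14, 13, 9, 15, 16, 17, 18, 19, 20, 21]]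

/-- Part 2 of the relabellings of step 2. -/
def sib22_2_2 : List (List ℕ) :=
  [
    [0, 1, 2, 3, 4, 5, 6, 7, 8, 12, 10, 11, 14, 13, 9, 15, 17, 16, 21, 18, 19, 20],
    [0, 1, 2, 3, 4, 5, 6, 7, 8, 12, 10, 11, 14, 13, 9, 15, 17, 16, 18, 21, 19, 20],
    [0, 1, 2, 3, 4, 5, 6, 7, 8, 12, 10, 11, 14, 13, 9, 15, 17, 16, 18, 19, 21, 20],
    [0, 1, 2, 3, 4, 5, 6, 7, 8, 12, 10, 11, 14, 13, 9, 15, 17, 16, 18, 19, 20, 21],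
    [0, 1, 2, 3, 4, 5, 6, 7, 8, 12, 10, 11, 14, 13, 9, 15, 17, 18, 16, 21, 19, 20],
    [0, 1, 2, 3, 4, 5, 6, 7, 8, 12, 10, 11, 14, 13, 9, 15, 17, 18, 16, 19, 21, 20],
    [0, 1, 2, 3, 4, 5, 6, 7, 8, 12, 10, 11, 14, 13, 9, 15, 17, 18, 16, 19, 20, 21],
    [0, 1, 2, 3, 4, 5, 6, 7, 8, 12, 10, 11, 14, 13, 9, 15, 17, 18, 19, 16, 21, 20],
    [0, 1, 2, 3, 4, 5, 6, 7, 8, 12, 10, 11, 14, 13, 9, 15, 17, 18, 19, 16, 20, 21],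
    [0, 1, 2, 3, 4, 5, 6, 7, 8, 12, 10, 11, 14, 13, 9, 15, 17, 18, 19, 20, 16, 21],
    [0, 1, 2, 3, 4, 5, 6, 7, 8, 12, 10, 11, 14, 13, 15, 9, 16, 21, 17, 18, 19, 20],
    [0, 1, 2, 3, 4, 5, 6, 7, 8, 12, 10, 11, 14, 13, 15, 9, 16, 17, 21, 18, 19, 20],
    [0, 1, 2, 3, 4, 5, 6, 7, 8, 12, 10, 11, 14, 13, 15, 9, 16, 17, 18, 21, 19, 20],
    [0, 1, 2, 3, 4, 5, 6, 7, 8, 12, 10, 11, 14, 13, 15, 9, 16, 17, 18, 19, 21, 20],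
    [0, 1, 2, 3, 4, 5, 6, 7, 8, 12, 10, 11, 14, 13, 15, 9, 16, 17, 18, 19, 20, 21],
    [0, 1, 2, 3, 4, 5, 6, 7, 8, 12, 10, 11, 14, 13, 15, 9, 17, 16, 21, 18, 19, 20],
    [0, 1, 2, 3, 4, 5, 6, 7, 8, 12, 10, 11, 14, 13, 15, 9, 17, 16, 18, 21, 19, 20],
    [0, 1, 2, 3, 4, 5, 6, 7, 8, 12, 10, 11, 14, 13, 15, 9, 17, 16, 18, 19, 21, 20],
    [0, 1, 2, 3, 4, 5, 6, 7, 8, 12, 10, 11, 14, 13, 15, 9, 17, 16, 18, 19, 20, 21],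
    [0, 1, 2, 3, 4, 5, 6, 7, 8, 12, 10, 11, 14, 13, 15, 9, 17, 18, 16, 21, 19, 20],
    [0, 1, 2, 3, 4, 5, 6, 7, 8, 12, 10, 11, 14, 13, 15, 9, 17, 18, 16, 19, 21, 20],
    [0, 1, 2, 3, 4, 5, 6, 7, 8, 12, 10, 11, 14, 13, 15, 9, 17, 18, 16, 19, 20, 21],
    [0, 1, 2, 3, 4, 5, 6, 7, 8, 12, 10, 11, 14, 13, 15, 9, 17, 18, 19, 16, 21, 20],
    [0, 1, 2, 3, 4, 5, 6, 7, 8, 12, 10, 11, 14, 13, 15, 9, 17, 18, 19, 16, 20, 21],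
    [0, 1, 2, 3, 4, 5, 6, 7, 8, 12, 10, 11, 14, 13, 15, 9, 17, 18, 19, 20, 16, 21],
    [0, 1, 2, 3, 4, 5, 6, 7, 8, 12, 10, 11, 14, 13, 15, 17, 9, 16, 21, 18, 19, 20],
    [0, 1, 2, 3, 4, 5, 6, 7, 8, 12, 10, 11, 14, 13, 15, 17, 9, 16, 18, 21, 19, 20],
    [0, 1, 2, 3, 4, 5, 6, 7, 8, 12, 10, 11, 14, 13, 15, 17, 9, 16, 18, 19, 21, 20],
    [0, 1, 2, 3, 4, 5, 6, 7, 8, 12, 10, 11, 14, 13, 15, 17, 9, 16, 18, 19, 20, 21],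
    [0, 1, 2, 3, 4, 5, 6, 7, 8, 12, 10, 11, 14, 13, 15, 17, 9, 18, 16, 21, 19, 20],
    [0, 1, 2, 3, 4, 5, 6, 7, 8, 12, 10, 11, 14, 13, 15, 17, 9, 18, 16, 19, 21, 20],
    [0, 1, 2, 3, 4, 5, 6, 7, 8, 12, 10, 11, 14, 13, 15, 17, 9, 18, 16, 19, 20, 21],
    [0, 1, 2, 3, 4, 5, 6, 7, 8, 12, 10, 11, 14, 13, 15, 17, 9, 18, 19, 16, 21, 20],
    [0, 1, 2, 3, 4, 5, 6, 7, 8, 12, 10, 11, 14, 13, 15, 17, 9, 18, 19, 16, 20, 21],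
    [0, 1, 2, 3, 4, 5, 6, 7, 8, 12, 10, 11, 14, 13, 15, 17, 9, 18, 19, 20, 16, 21],
    [0, 1, 2, 3, 4, 5, 6, 7, 8, 12, 10, 11, 14, 13, 15, 17, 18, 9, 16, 21, 19, 20],
    [0, 1, 2, 3, 4, 5, 6, 7, 8, 12, 10, 11, 14, 13, 15, 17, 18, 9, 16, 19, 21, 20],
    [0, 1, 2, 3, 4, 5, 6, 7, 8, 12, 10, 11, 14, 13, 15, 17, 18, 9, 16, 19, 20, 21],
    [0, 1, 2, 3, 4, 5, 6, 7, 8, 12, 10, 11, 14, 13, 15, 17, 18, 9, 19, 16, 21, 20],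
    [0, 1, 2, 3, 4, 5, 6, 7, 8, 12, 10, 11, 14, 13, 15, 17, 18, 9, 19, 16, 20, 21],
    [0, 1, 2, 3, 4, 5, 6, 7, 8, 12, 10, 11, 14, 13, 15, 17, 18, 9, 19, 20, 16, 21],
    [0, 1, 2, 3, 4, 5, 6, 7, 8, 12, 10, 11, 14, 13, 15, 17, 18, 19, 9, 16, 21, 20],
    [0, 1, 2, 3, 4, 5, 6, 7, 8, 12, 10, 11, 14, 13, 15, 17, 18, 19, 9, 16, 20, 21],
    [0, 1, 2, 3, 4, 5, 6, 7, 8, 12, 10, 11, 14, 13, 15, 17, 18, 19, 9, 20, 16, 21],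
    [0, 1, 2, 3, 4, 5, 6, 7, 8, 12, 10, 11, 14, 13, 15, 17, 18, 19, 20, 9, 16, 21]]

/-- Step 2 on 22 points. -/
def step22_2 : Step where
  pts := [0, 6, 10]
  rep := 2164289
  sib := sib22_2_0 ++ sib22_2_1 ++ sib22_2_2

/-- Part 0 of the relabellings of step 3. -/
def sib22_3_0 : List (List ℕ) :=
  [
    [0, 1, 2, 3, 4, 5, 6, 7, 8, 9, 10, 11, 12, 13, 14, 19, 16, 15, 17, 18, 20, 21],
    [0, 1, 2, 3, 4, 5, 6, 7, 8, 9, 10, 11, 12, 13, 14, 15, 16, 19, 17, 18, 20, 21],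
    [0, 1, 2, 3, 4, 5, 6, 7, 8, 9, 10, 11, 12, 13, 14, 15, 16, 17, 19, 18, 20, 21], [],
    [0, 1, 2, 3, 4, 5, 6, 7, 8, 9, 10, 11, 12, 13, 14, 15, 16, 17, 18, 20, 19, 21],
    [0, 1, 2, 3, 4, 5, 6, 7, 8, 9, 10, 11, 12, 13, 15, 14, 16, 19, 17, 18, 20, 21],
    [0, 1, 2, 3, 4, 5, 6, 7, 8, 9, 10, 11, 12, 13, 15, 14, 16, 17, 19, 18, 20, 21],
    [0, 1, 2, 3, 4, 5, 6, 7, 8, 9, 10, 11, 12, 13, 15, 14, 16, 17, 18, 19, 20, 21],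
    [0, 1, 2, 3, 4, 5, 6, 7, 8, 9, 10, 11, 12, 13, 15, 14, 16, 17, 18, 20, 19, 21],
    [0, 1, 2, 3, 4, 5, 6, 7, 8, 9, 10, 11, 12, 13, 15, 17, 16, 14, 19, 18, 20, 21],
    [0, 1, 2, 3, 4, 5, 6, 7, 8, 9, 10, 11, 12, 13, 15, 17, 16, 14, 18, 19, 20, 21],
    [0, 1, 2, 3, 4, 5, 6, 7, 8, 9, 10, 11, 12, 13, 15, 17, 16, 14, 18, 20, 19, 21],
    [0, 1, 2, 3, 4, 5, 6, 7, 8, 9, 10, 11, 12, 13, 15, 17, 16, 18, 14, 19, 20, 21],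
    [0, 1, 2, 3, 4, 5, 6, 7, 8, 9, 10, 11, 12, 13, 15, 17, 16, 18, 14, 20, 19, 21],
    [0, 1, 2, 3, 4, 5, 6, 7, 8, 9, 10, 11, 12, 13, 15, 17, 16, 18, 20, 14, 19, 21],
    [0, 1, 2, 3, 4, 5, 6, 7, 8, 9, 10, 11, 15, 13, 12, 14, 16, 19, 17, 18, 20, 21],
    [0, 1, 2, 3, 4, 5, 6, 7, 8, 9, 10, 11, 15, 13, 12, 14, 16, 17, 19, 18, 20, 21],
    [0, 1, 2, 3, 4, 5, 6, 7, 8, 9, 10, 11, 15, 13, 12, 14, 16, 17, 18, 19, 20, 21],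
    [0, 1, 2, 3, 4, 5, 6, 7, 8, 9, 10, 11, 15, 13, 12, 14, 16, 17, 18, 20, 19, 21],
    [0, 1, 2, 3, 4, 5, 6, 7, 8, 9, 10, 11, 15, 13, 12, 17, 16, 14, 19, 18, 20, 21],
    [0, 1, 2, 3, 4, 5, 6, 7, 8, 9, 10, 11, 15, 13, 12, 17, 16, 14, 18, 19, 20, 21],
    [0, 1, 2, 3, 4, 5, 6, 7, 8, 9, 10, 11, 15, 13, 12, 17, 16, 14, 18, 20, 19, 21],
    [0, 1, 2, 3, 4, 5, 6, 7, 8, 9, 10, 11, 15, 13, 12, 17, 16, 18, 14, 19, 20, 21],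
    [0, 1, 2, 3, 4, 5, 6, 7, 8, 9, 10, 11, 15, 13, 12, 17, 16, 18, 14, 20, 19, 21],
    [0, 1, 2, 3, 4, 5, 6, 7, 8, 9, 10, 11, 15, 13, 12, 17, 16, 18, 20, 14, 19, 21],
    [0, 1, 2, 3, 4, 5, 6, 7, 8, 9, 10, 11, 15, 13, 17, 12, 16, 14, 19, 18, 20, 21],
    [0, 1, 2, 3, 4, 5, 6, 7, 8, 9, 10, 11, 15, 13, 17, 12, 16, 14, 18, 19, 20, 21],
    [0, 1, 2, 3, 4, 5, 6, 7, 8, 9, 10, 11, 15, 13, 17, 12, 16, 14, 18, 20, 19, 21],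
    [0, 1, 2, 3, 4, 5, 6, 7, 8, 9, 10, 11, 15, 13, 17, 12, 16, 18, 14, 19, 20, 21],
    [0, 1, 2, 3, 4, 5, 6, 7, 8, 9, 10, 11, 15, 13, 17, 12, 16, 18, 14, 20, 19, 21],
    [0, 1, 2, 3, 4, 5, 6, 7, 8, 9, 10, 11, 15, 13, 17, 12, 16, 18, 20, 14, 19, 21],
    [0, 1, 2, 3, 4, 5, 6, 7, 8, 9, 10, 11, 15, 13, 17, 18, 16, 12, 14, 19, 20, 21],
    [0, 1, 2, 3, 4, 5, 6, 7, 8, 9, 10, 11, 15, 13, 17, 18, 16, 12, 14, 20, 19, 21],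
    [0, 1, 2, 3, 4, 5, 6, 7, 8, 9, 10, 11, 15, 13, 17, 18, 16, 12, 20, 14, 19, 21],
    [0, 1, 2, 3, 4, 5, 6, 7, 8, 9, 10, 11, 15, 13, 17, 18, 16, 20, 12, 14, 19, 21]]

/-- Step 3 on 22 points. -/
def step22_3 : Step where
  pts := [0, 7, 10]
  rep := 545921
  sib := sib22_3_0

/-- Part 0 of the relabellings of step 4. -/
def sib22_4_0 : List (List ℕ) :=
  [
    []]

/-- Step 4 on 22 points. -/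
def step22_4 : Step where
  pts := [0, 10, 15]
  rep := 1475585
  sib := sib22_4_0

/-- Part 0 of the relabellings of step 5. -/
def sib22_5_0 : List (List ℕ) :=
  [
    [0, 3, 4, 15, 17, 11, 7, 8, 13, 12, 10, 20, 1, 18, 2, 21, 14, 6, 9, 5, 16, 19],
    [0, 3, 4, 15, 17, 11, 7, 8, 13, 12, 10, 20, 1, 18, 2, 6, 14, 21, 9, 5, 16, 19],
    [0, 3, 4, 15, 17, 11, 7, 8, 13, 12, 10, 20, 1, 18, 2, 6, 14, 9, 21, 5, 16, 19],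
    [0, 3, 4, 15, 17, 11, 7, 8, 13, 12, 10, 20, 1, 18, 2, 6, 14, 9, 16, 5, 21, 19],
    [0, 1, 2, 15, 17, 5, 7, 3, 8, 12, 10, 20, 13, 18, 4, 21, 14, 6, 9, 11, 16, 19],
    [0, 1, 2, 15, 17, 5, 7, 3, 8, 12, 10, 20, 13, 18, 4, 6, 14, 21, 9, 11, 16, 19],
    [0, 1, 2, 15, 17, 5, 7, 3, 8, 12, 10, 20, 13, 18, 4, 6, 14, 9, 21, 11, 16, 19],
    [0, 1, 2, 15, 17, 5, 7, 3, 8, 12, 10, 20, 13, 18, 4, 6, 14, 9, 16, 11, 21, 19],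
    [0, 1, 2, 3, 4, 5, 7, 15, 8, 12, 10, 11, 17, 13, 18, 21, 14, 6, 9, 20, 16, 19],
    [0, 1, 2, 3, 4, 5, 7, 15, 8, 12, 10, 11, 17, 13, 18, 6, 14, 21, 9, 20, 16, 19],
    [0, 1, 2, 3, 4, 5, 7, 15, 8, 12, 10, 11, 17, 13, 18, 6, 14, 9, 21, 20, 16, 19],
    [0, 1, 2, 3, 4, 5, 7, 15, 8, 12, 10, 11, 17, 13, 18, 6, 14, 9, 16, 20, 21, 19],
    [0, 1, 2, 3, 4, 5, 7, 6, 8, 12, 10, 11, 9, 13, 16, 18, 14, 15, 17, 21, 20, 19],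
    [0, 1, 2, 3, 4, 5, 7, 6, 8, 12, 10, 11, 9, 13, 16, 15, 14, 18, 17, 21, 20, 19],
    [0, 1, 2, 3, 4, 5, 7, 6, 8, 12, 10, 11, 9, 13, 16, 15, 14, 17, 18, 21, 20, 19],
    [0, 1, 2, 3, 4, 5, 7, 15, 8, 12, 10, 11, 17, 13, 20, 6, 14, 9, 16, 18, 21, 19],
    [0, 1, 2, 15, 17, 5, 3, 7, 8, 13, 10, 20, 12, 18, 14, 21, 4, 6, 9, 19, 16, 11],
    [0, 1, 2, 15, 17, 5, 3, 7, 8, 13, 10, 20, 12, 18, 14, 6, 4, 21, 9, 19, 16, 11],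
    [0, 1, 2, 15, 17, 5, 3, 7, 8, 13, 10, 20, 12, 18, 14, 6, 4, 9, 21, 19, 16, 11],
    [0, 1, 2, 15, 17, 5, 3, 7, 8, 13, 10, 20, 12, 18, 14, 6, 4, 9, 16, 19, 21, 11],
    [0, 1, 2, 3, 4, 5, 6, 7, 8, 9, 10, 11, 12, 13, 14, 18, 21, 15, 17, 19, 20, 16],
    [0, 1, 2, 3, 4, 5, 6, 7, 8, 9, 10, 11, 12, 13, 14, 18, 16, 15, 17, 19, 20, 21],
    [0, 1, 2, 3, 4, 5, 15, 7, 8, 17, 10, 11, 12, 13, 14, 6, 18, 21, 9, 19, 16, 20],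
    [0, 1, 2, 3, 4, 5, 15, 7, 8, 17, 10, 11, 12, 13, 14, 6, 18, 9, 21, 19, 16, 20],
    [0, 1, 2, 3, 4, 5, 15, 7, 8, 17, 10, 11, 12, 13, 14, 6, 18, 9, 16, 19, 21, 20],
    [0, 1, 2, 3, 4, 5, 6, 7, 8, 9, 10, 11, 12, 13, 14, 15, 16, 18, 17, 19, 20, 21], [],
    [0, 1, 2, 3, 4, 5, 6, 7, 8, 9, 10, 11, 12, 13, 14, 15, 16, 17, 20, 19, 18, 21],
    [0, 12, 14, 15, 17, 19, 1, 3, 7, 8, 10, 20, 13, 18, 4, 21, 2, 6, 9, 11, 16, 5],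
    [0, 12, 14, 15, 17, 19, 1, 3, 7, 8, 10, 20, 13, 18, 4, 6, 2, 21, 9, 11, 16, 5],
    [0, 12, 14, 15, 17, 19, 1, 3, 7, 8, 10, 20, 13, 18, 4, 6, 2, 9, 21, 11, 16, 5],
    [0, 12, 14, 15, 17, 19, 1, 3, 7, 8, 10, 20, 13, 18, 4, 6, 2, 9, 16, 11, 21, 5],
    [0, 12, 14, 3, 4, 19, 1, 15, 7, 8, 10, 11, 17, 13, 18, 21, 2, 6, 9, 20, 16, 5],
    [0, 12, 14, 3, 4, 19, 1, 15, 7, 8, 10, 11, 17, 13, 18, 6, 2, 21, 9, 20, 16, 5],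
    [0, 12, 14, 3, 4, 19, 1, 15, 7, 8, 10, 11, 17, 13, 18, 6, 2, 9, 21, 20, 16, 5],
    [0, 12, 14, 3, 4, 19, 1, 15, 7, 8, 10, 11, 17, 13, 18, 6, 2, 9, 16, 20, 21, 5],
    [0, 12, 14, 3, 4, 19, 1, 6, 7, 8, 10, 11, 9, 13, 16, 18, 2, 15, 17, 21, 20, 5],
    [0, 12, 14, 3, 4, 19, 1, 6, 7, 8, 10, 11, 9, 13, 16, 15, 2, 18, 17, 21, 20, 5],
    [0, 12, 14, 3, 4, 19, 1, 6, 7, 8, 10, 11, 9, 13, 16, 15, 2, 17, 18, 21, 20, 5],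
    [0, 12, 14, 3, 4, 19, 1, 15, 7, 8, 10, 11, 17, 13, 20, 6, 2, 9, 16, 18, 21, 5],
    [0, 12, 14, 3, 4, 19, 6, 1, 7, 9, 10, 11, 8, 13, 2, 18, 21, 15, 17, 5, 20, 16],
    [0, 12, 14, 3, 4, 19, 6, 1, 7, 9, 10, 11, 8, 13, 2, 18, 16, 15, 17, 5, 20, 21],
    [0, 12, 14, 3, 4, 19, 15, 1, 7, 17, 10, 11, 8, 13, 2, 6, 18, 21, 9, 5, 16, 20],
    [0, 12, 14, 3, 4, 19, 15, 1, 7, 17, 10, 11, 8, 13, 2, 6, 18, 9, 21, 5, 16, 20],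
    [0, 12, 14, 3, 4, 19, 15, 1, 7, 17, 10, 11, 8, 13, 2, 6, 18, 9, 16, 5, 21, 20],
    [0, 12, 14, 3, 4, 19, 6, 1, 7, 9, 10, 11, 8, 13, 2, 15, 16, 18, 17, 5, 20, 21],
    [0, 12, 14, 3, 4, 19, 6, 1, 7, 9, 10, 11, 8, 13, 2, 15, 16, 17, 18, 5, 20, 21],
    [0, 12, 14, 3, 4, 19, 6, 1, 7, 9, 10, 11, 8, 13, 2, 15, 16, 17, 20, 5, 18, 21],
    [0, 12, 14, 1, 2, 19, 6, 3, 7, 9, 10, 5, 4, 8, 13, 18, 21, 15, 17, 11, 20, 16],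
    [0, 12, 14, 1, 2, 19, 6, 3, 7, 9, 10, 5, 4, 8, 13, 18, 16, 15, 17, 11, 20, 21],
    [0, 12, 14, 1, 2, 19, 15, 3, 7, 17, 10, 5, 4, 8, 13, 6, 18, 21, 9, 11, 16, 20],
    [0, 12, 14, 1, 2, 19, 15, 3, 7, 17, 10, 5, 4, 8, 13, 6, 18, 9, 21, 11, 16, 20],
    [0, 12, 14, 1, 2, 19, 15, 3, 7, 17, 10, 5, 4, 8, 13, 6, 18, 9, 16, 11, 21, 20],
    [0, 12, 14, 1, 2, 19, 6, 3, 7, 9, 10, 5, 4, 8, 13, 15, 16, 18, 17, 11, 20, 21],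
    [0, 12, 14, 1, 2, 19, 6, 3, 7, 9, 10, 5, 4, 8, 13, 15, 16, 17, 18, 11, 20, 21],
    [0, 12, 14, 1, 2, 19, 6, 3, 7, 9, 10, 5, 4, 8, 13, 15, 16, 17, 20, 11, 18, 21],
    [0, 12, 14, 1, 2, 19, 15, 6, 7, 17, 10, 5, 9, 8, 16, 13, 18, 3, 4, 21, 11, 20],
    [0, 12, 14, 1, 2, 19, 6, 15, 7, 9, 10, 5, 17, 8, 20, 13, 16, 3, 4, 18, 11, 21],
    [0, 12, 14, 1, 2, 19, 3, 6, 7, 4, 10, 5, 9, 8, 16, 15, 13, 18, 17, 21, 20, 11],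
    [0, 12, 14, 1, 2, 19, 3, 6, 7, 4, 10, 5, 9, 8, 16, 15, 13, 17, 18, 21, 20, 11]]

/-- Part 1 of the relabellings of step 5. -/
def sib22_5_1 : List (List ℕ) :=
  [
    [0, 12, 14, 1, 2, 19, 3, 15, 7, 4, 10, 5, 17, 8, 20, 6, 13, 9, 16, 18, 21, 11],
    [0, 12, 14, 1, 2, 19, 6, 15, 7, 9, 10, 5, 17, 8, 20, 3, 16, 13, 4, 18, 11, 21],
    [0, 12, 14, 1, 2, 19, 6, 15, 7, 9, 10, 5, 17, 8, 20, 3, 16, 4, 13, 18, 11, 21],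
    [0, 12, 14, 1, 2, 19, 6, 3, 7, 9, 10, 5, 4, 8, 11, 15, 16, 17, 20, 13, 18, 21]]

/-- Step 5 on 22 points. -/
def step22_5 : Step where
  pts := [0, 8, 13]
  rep := 2367873
  sib := sib22_5_0 ++ sib22_5_1

/-- Part 0 of the relabellings of step 6. -/
def sib22_6_0 : List (List ℕ) :=
  [
    [0, 1, 2, 3, 4, 5, 6, 7, 8, 9, 10, 11, 14, 13, 12, 17, 16, 15, 18, 19, 20, 21],
    [0, 1, 2, 3, 4, 5, 6, 7, 8, 9, 10, 11, 14, 13, 12, 15, 16, 17, 18, 19, 20, 21],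
    [0, 1, 2, 3, 4, 5, 6, 7, 8, 9, 10, 11, 14, 13, 12, 15, 16, 20, 18, 19, 17, 21],
    [0, 1, 2, 3, 4, 5, 6, 7, 8, 9, 10, 11, 12, 13, 14, 17, 16, 15, 18, 19, 20, 21], [],
    [0, 1, 2, 3, 4, 5, 6, 7, 8, 9, 10, 11, 12, 13, 14, 15, 16, 20, 18, 19, 17, 21],
    [0, 1, 2, 3, 4, 5, 6, 7, 8, 9, 10, 11, 12, 13, 19, 17, 16, 15, 18, 14, 20, 21],
    [0, 1, 2, 3, 4, 5, 6, 7, 8, 9, 10, 11, 12, 13, 19, 15, 16, 17, 18, 14, 20, 21],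
    [0, 1, 2, 3, 4, 5, 6, 7, 8, 9, 10, 11, 12, 13, 19, 15, 16, 20, 18, 14, 17, 21],
    [0, 1, 2, 4, 3, 5, 6, 7, 8, 9, 10, 11, 14, 13, 12, 17, 16, 15, 18, 19, 20, 21],
    [0, 1, 2, 4, 3, 5, 6, 7, 8, 9, 10, 11, 14, 13, 12, 15, 16, 17, 18, 19, 20, 21],
    [0, 1, 2, 4, 3, 5, 6, 7, 8, 9, 10, 11, 14, 13, 12, 15, 16, 20, 18, 19, 17, 21],
    [0, 1, 2, 4, 3, 5, 6, 7, 8, 9, 10, 11, 12, 13, 14, 17, 16, 15, 18, 19, 20, 21],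
    [0, 1, 2, 4, 3, 5, 6, 7, 8, 9, 10, 11, 12, 13, 14, 15, 16, 17, 18, 19, 20, 21],
    [0, 1, 2, 4, 3, 5, 6, 7, 8, 9, 10, 11, 12, 13, 14, 15, 16, 20, 18, 19, 17, 21],
    [0, 1, 2, 4, 3, 5, 6, 7, 8, 9, 10, 11, 12, 13, 19, 17, 16, 15, 18, 14, 20, 21],
    [0, 1, 2, 4, 3, 5, 6, 7, 8, 9, 10, 11, 12, 13, 19, 15, 16, 17, 18, 14, 20, 21],
    [0, 1, 2, 4, 3, 5, 6, 7, 8, 9, 10, 11, 12, 13, 19, 15, 16, 20, 18, 14, 17, 21],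
    [0, 1, 2, 4, 11, 5, 6, 7, 8, 9, 10, 3, 14, 13, 12, 17, 16, 15, 18, 19, 20, 21],
    [0, 1, 2, 4, 11, 5, 6, 7, 8, 9, 10, 3, 14, 13, 12, 15, 16, 17, 18, 19, 20, 21],
    [0, 1, 2, 4, 11, 5, 6, 7, 8, 9, 10, 3, 14, 13, 12, 15, 16, 20, 18, 19, 17, 21],
    [0, 1, 2, 4, 11, 5, 6, 7, 8, 9, 10, 3, 12, 13, 14, 17, 16, 15, 18, 19, 20, 21],
    [0, 1, 2, 4, 11, 5, 6, 7, 8, 9, 10, 3, 12, 13, 14, 15, 16, 17, 18, 19, 20, 21],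
    [0, 1, 2, 4, 11, 5, 6, 7, 8, 9, 10, 3, 12, 13, 14, 15, 16, 20, 18, 19, 17, 21],
    [0, 1, 2, 4, 11, 5, 6, 7, 8, 9, 10, 3, 12, 13, 19, 17, 16, 15, 18, 14, 20, 21],
    [0, 1, 2, 4, 11, 5, 6, 7, 8, 9, 10, 3, 12, 13, 19, 15, 16, 17, 18, 14, 20, 21],
    [0, 1, 2, 4, 11, 5, 6, 7, 8, 9, 10, 3, 12, 13, 19, 15, 16, 20, 18, 14, 17, 21]]

/-- Step 6 on 22 points. -/
def step22_6 : Step where
  pts := [8, 10, 21]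
  rep := 2245896
  sib := sib22_6_0

/-- Part 0 of the relabellings of step 7. -/
def sib22_7_0 : List (List ℕ) :=
  [
    [0, 2, 1, 3, 4, 5, 16, 7, 8, 6, 10, 11, 12, 13, 14, 15, 9, 17, 18, 19, 20, 21],
    [0, 2, 1, 3, 4, 5, 6, 7, 8, 16, 10, 11, 12, 13, 14, 15, 9, 17, 18, 19, 20, 21],
    [0, 2, 1, 3, 4, 5, 6, 7, 8, 9, 10, 11, 12, 13, 14, 15, 16, 17, 18, 19, 20, 21],
    [0, 1, 2, 3, 4, 5, 16, 7, 8, 6, 10, 11, 12, 13, 14, 15, 9, 17, 18, 19, 20, 21],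
    [0, 1, 2, 3, 4, 5, 6, 7, 8, 16, 10, 11, 12, 13, 14, 15, 9, 17, 18, 19, 20, 21], [],
    [0, 1, 5, 3, 4, 2, 16, 7, 8, 6, 10, 11, 12, 13, 14, 15, 9, 17, 18, 19, 20, 21],
    [0, 1, 5, 3, 4, 2, 6, 7, 8, 16, 10, 11, 12, 13, 14, 15, 9, 17, 18, 19, 20, 21],
    [0, 1, 5, 3, 4, 2, 6, 7, 8, 9, 10, 11, 12, 13, 14, 15, 16, 17, 18, 19, 20, 21]]

/-- Step 7 on 22 points. -/
def step22_7 : Step where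
  pts := [10, 13, 14]
  rep := 353284
  sib := sib22_7_0

/-- Part 0 of the relabellings of step 8. -/
def sib22_8_0 : List (List ℕ) :=
  [
    [0, 1, 2, 3, 11, 5, 6, 7, 8, 9, 10, 4, 12, 13, 14, 20, 16, 17, 18, 19, 15, 21],
    [0, 1, 2, 3, 11, 5, 6, 7, 8, 9, 10, 4, 12, 13, 14, 15, 16, 17, 18, 19, 20, 21],
    [0, 1, 2, 3, 4, 5, 6, 7, 8, 9, 10, 11, 12, 13, 14, 20, 16, 17, 18, 19, 15, 21], []]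

/-- Step 8 on 22 points. -/
def step22_8 : Step where
  pts := [8, 10, 16]
  rep := 1117568
  sib := sib22_8_0

/-- Part 0 of the relabellings of step 9. -/
def sib22_9_0 : List (List ℕ) :=
  [
    []]

/-- Step 9 on 22 points. -/
def step22_9 : Step where
  pts := [2, 10, 21]
  rep := 2131092
  sib := sib22_9_0

/-- Part 0 of the relabellings of step 10. -/
def sib22_10_0 : List (List ℕ) :=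
  [
    []]

/-- Step 10 on 22 points. -/
def step22_10 : Step where
  pts := [0, 2, 21]
  rep := 3164165
  sib := sib22_10_0

/-- Part 0 of the relabellings of step 11. -/
def sib22_11_0 : List (List ℕ) :=
  [
    []]

/-- Step 11 on 22 points. -/
def step22_11 : Step where
  pts := [2, 8, 21]
  rep := 2691332
  sib := sib22_11_0

/-- Part 0 of the relabellings of step 12. -/
def sib22_12_0 : List (List ℕ) :=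
  [
    []]

/-- Step 12 on 22 points. -/
def step22_12 : Step where
  pts := [0, 8, 16]
  rep := 114961
  sib := sib22_12_0

/-- Part 0 of the relabellings of step 13. -/
def sib22_13_0 : List (List ℕ) :=
  [
    []]

/-- Step 13 on 22 points. -/
def step22_13 : Step where
  pts := [0, 2, 16]
  rep := 196749
  sib := sib22_13_0

/-- Part 0 of the relabellings of step 14. -/
def sib22_14_0 : List (List ℕ) :=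
  [
    []]

/-- Step 14 on 22 points. -/
def step22_14 : Step where
  pts := [2, 7, 8]
  rep := 17348
  sib := sib22_14_0

/-- Part 0 of the relabellings of step 15. -/
def sib22_15_0 : List (List ℕ) :=
  [
    []]

/-- Step 15 on 22 points. -/
def step22_15 : Step where
  pts := [7, 14, 16]
  rep := 2179234
  sib := sib22_15_0

/-- Part 0 of the relabellings of step 16. -/
def sib22_16_0 : List (List ℕ) :=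
  [
    [0, 1, 2, 17, 15, 5, 6, 7, 8, 9, 10, 20, 19, 18, 14, 4, 16, 3, 13, 12, 11, 21],
    [0, 1, 2, 17, 15, 5, 6, 7, 8, 9, 10, 20, 12, 18, 14, 4, 16, 3, 13, 19, 11, 21],
    [0, 1, 2, 3, 4, 5, 6, 7, 8, 9, 10, 11, 19, 13, 14, 15, 16, 17, 18, 12, 20, 21], []]

/-- Step 16 on 22 points. -/
def step22_16 : Step where
  pts := [1, 10, 21]
  rep := 3679234
  sib := sib22_16_0

/-- Part 0 of the relabellings of step 17. -/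
def sib22_17_0 : List (List ℕ) :=
  [
    []]

/-- Step 17 on 22 points. -/
def step22_17 : Step where
  pts := [5, 10, 21]
  rep := 2366496
  sib := sib22_17_0

/-- Part 0 of the relabellings of step 18. -/
def sib22_18_0 : List (List ℕ) :=
  [
    []]

/-- Step 18 on 22 points. -/
def step22_18 : Step where
  pts := [0, 5, 16]
  rep := 1126433
  sib := sib22_18_0

/-- Part 0 of the relabellings of step 19. -/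
def sib22_19_0 : List (List ℕ) :=
  [
    []]

/-- Step 19 on 22 points. -/
def step22_19 : Step where
  pts := [0, 1, 16]
  rep := 854019
  sib := sib22_19_0

/-- Part 0 of the relabellings of step 20. -/
def sib22_20_0 : List (List ℕ) :=
  [
    []]

/-- Step 20 on 22 points. -/
def step22_20 : Step where
  pts := [4, 16, 21]
  rep := 3473432
  sib := sib22_20_0

/-- Part 0 of the relabellings of step 21. -/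
def sib22_21_0 : List (List ℕ) :=
  [
    []]

/-- Step 21 on 22 points. -/
def step22_21 : Step where
  pts := [11, 16, 21]
  rep := 2336768
  sib := sib22_21_0

/-- Part 0 of the relabellings of step 22. -/
def sib22_22_0 : List (List ℕ) :=
  [
    [0, 1, 2, 3, 4, 5, 9, 7, 8, 6, 10, 11, 12, 13, 14, 15, 16, 17, 18, 19, 20, 21], []]

/-- Step 22 on 22 points. -/
def step22_22 : Step where
  pts := [14, 16, 20]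
  rep := 1786368
  sib := sib22_22_0

/-- Part 0 of the relabellings of step 23. -/
def sib22_23_0 : List (List ℕ) :=
  [
    []]

/-- Step 23 on 22 points. -/
def step22_23 : Step where
  pts := [14, 18, 21]
  rep := 2932800
  sib := sib22_23_0

/-- Part 0 of the relabellings of step 24. -/
def sib22_24_0 : List (List ℕ) :=
  [
    []]

/-- Step 24 on 22 points. -/
def step22_24 : Step where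
  pts := [2, 10, 11]
  rep := 658500
  sib := sib22_24_0

/-- Part 0 of the relabellings of step 25. -/
def sib22_25_0 : List (List ℕ) :=
  [
    []]

/-- Step 25 on 22 points. -/
def step22_25 : Step where
  pts := [2, 3, 10]
  rep := 1054220
  sib := sib22_25_0

/-- Part 0 of the relabellings of step 26. -/
def sib22_26_0 : List (List ℕ) :=
  [
    []]

/-- Step 26 on 22 points. -/
def step22_26 : Step where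
  pts := [3, 10, 19]
  rep := 623656
  sib := sib22_26_0

/-- Part 0 of the relabellings of step 27. -/
def sib22_27_0 : List (List ℕ) :=
  [
    []]

/-- Step 27 on 22 points. -/
def step22_27 : Step where
  pts := [4, 10, 19]
  rep := 788240
  sib := sib22_27_0

/-- Part 0 of the relabellings of step 28. -/
def sib22_28_0 : List (List ℕ) :=
  [
    []]

/-- Step 28 on 22 points. -/
def step22_28 : Step where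
  pts := [5, 8, 16]
  rep := 459104
  sib := sib22_28_0

/-- Part 0 of the relabellings of step 29. -/
def sib22_29_0 : List (List ℕ) :=
  [
    []]

/-- Step 29 on 22 points. -/
def step22_29 : Step where
  pts := [7, 16, 18]
  rep := 365184
  sib := sib22_29_0

/-- Part 0 of the relabellings of step 30. -/
def sib22_30_0 : List (List ℕ) :=
  [
    []]

/-- Step 30 on 22 points. -/
def step22_30 : Step where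
  pts := [4, 7, 16]
  rep := 598224
  sib := sib22_30_0

/-- Part 0 of the relabellings of step 31. -/
def sib22_31_0 : List (List ℕ) :=
  [
    []]

/-- Step 31 on 22 points. -/
def step22_31 : Step where
  pts := [2, 6, 16]
  rep := 1146950
  sib := sib22_31_0

/-- Part 0 of the relabellings of step 32. -/
def sib22_32_0 : List (List ℕ) :=
  [
    []]

/-- Step 32 on 22 points. -/
def step22_32 : Step where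
  pts := [2, 7, 20]
  rep := 1835172
  sib := sib22_32_0

/-- Part 0 of the relabellings of step 33. -/
def sib22_33_0 : List (List ℕ) :=
  [
    []]

/-- Step 33 on 22 points. -/
def step22_33 : Step where
  pts := [12, 18, 19]
  rep := 929800
  sib := sib22_33_0

/-- Part 0 of the relabellings of step 34. -/
def sib22_34_0 : List (List ℕ) :=
  [
    []]

/-- Step 34 on 22 points. -/
def step22_34 : Step where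
  pts := [0, 2, 15]
  rep := 565765
  sib := sib22_34_0

/-- Part 0 of the relabellings of step 35. -/
def sib22_35_0 : List (List ℕ) :=
  [
    []]

/-- Step 35 on 22 points. -/
def step22_35 : Step where
  pts := [0, 4, 19]
  rep := 2752561
  sib := sib22_35_0

/-- Part 0 of the relabellings of step 36. -/
def sib22_36_0 : List (List ℕ) :=
  [
    []]

/-- Step 36 on 22 points. -/
def step22_36 : Step where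
  pts := [5, 8, 21]
  rep := 3179296
  sib := sib22_36_0

/-- Part 0 of the relabellings of step 37. -/
def sib22_37_0 : List (List ℕ) :=
  [
    []]

/-- Step 37 on 22 points. -/
def step22_37 : Step where
  pts := [2, 9, 21]
  rep := 2490886
  sib := sib22_37_0

/-- Part 0 of the relabellings of step 38. -/
def sib22_38_0 : List (List ℕ) :=
  [
    []]

/-- Step 38 on 22 points. -/
def step22_38 : Step where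
  pts := [7, 17, 21]
  rep := 3281088
  sib := sib22_38_0

/-- Part 0 of the relabellings of step 39. -/
def sib22_39_0 : List (List ℕ) :=
  [
    []]

/-- Step 39 on 22 points. -/
def step22_39 : Step where
  pts := [2, 8, 17]
  rep := 1188116
  sib := sib22_39_0

/-- Part 0 of the relabellings of step 40. -/
def sib22_40_0 : List (List ℕ) :=
  [
    []]

/-- Step 40 on 22 points. -/
def step22_40 : Step where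
  pts := [7, 8, 17]
  rep := 688514
  sib := sib22_40_0

/-- Part 0 of the relabellings of step 41. -/
def sib22_41_0 : List (List ℕ) :=
  [
    []]

/-- Step 41 on 22 points. -/
def step22_41 : Step where
  pts := [4, 15, 19]
  rep := 1611792
  sib := sib22_41_0

/-- Part 0 of the relabellings of step 42. -/
def sib22_42_0 : List (List ℕ) :=
  [
    []]

/-- Step 42 on 22 points. -/
def step22_42 : Step where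
  pts := [7, 9, 19]
  rep := 2624136
  sib := sib22_42_0

/-- Part 0 of the relabellings of step 43. -/
def sib22_43_0 : List (List ℕ) :=
  [
    []]

/-- Step 43 on 22 points. -/
def step22_43 : Step where
  pts := [2, 5, 17]
  rep := 184356
  sib := sib22_43_0

/-- Part 0 of the relabellings of step 44. -/
def sib22_44_0 : List (List ℕ) :=
  [
    []]

/-- Step 44 on 22 points. -/
def step22_44 : Step where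
  pts := [7, 14, 15]
  rep := 1106056
  sib := sib22_44_0

/-- Part 0 of the relabellings of step 45. -/
def sib22_45_0 : List (List ℕ) :=
  [
    []]

/-- Step 45 on 22 points. -/
def step22_45 : Step where
  pts := [8, 14, 20]
  rep := 1331458
  sib := sib22_45_0

/-- Part 0 of the relabellings of step 46. -/
def sib22_46_0 : List (List ℕ) :=
  [
    []]

/-- Step 46 on 22 points. -/
def step22_46 : Step where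
  pts := [7, 14, 17]
  rep := 411792
  sib := sib22_46_0

/-- Part 0 of the relabellings of step 47. -/
def sib22_47_0 : List (List ℕ) :=
  [
    []]

/-- Step 47 on 22 points. -/
def step22_47 : Step where
  pts := [0, 3, 19]
  rep := 1573193
  sib := sib22_47_0

/-- Part 0 of the relabellings of step 48. -/
def sib22_48_0 : List (List ℕ) :=
  [
    []]

/-- Step 48 on 22 points. -/
def step22_48 : Step where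
  pts := [5, 8, 19]
  rep := 551200
  sib := sib22_48_0

/-- Part 0 of the relabellings of step 49. -/
def sib22_49_0 : List (List ℕ) :=
  [
    []]

/-- Step 49 on 22 points. -/
def step22_49 : Step where
  pts := [11, 13, 20]
  rep := 1321536
  sib := sib22_49_0

/-- Part 0 of the relabellings of step 50. -/
def sib22_50_0 : List (List ℕ) :=
  [
    []]

/-- Step 50 on 22 points. -/
def step22_50 : Step where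
  pts := [0, 8, 11]
  rep := 137985
  sib := sib22_50_0

/-- Part 0 of the relabellings of step 51. -/
def sib22_51_0 : List (List ℕ) :=
  [
    []]

/-- Step 51 on 22 points. -/
def step22_51 : Step where
  pts := [2, 8, 11]
  rep := 297228
  sib := sib22_51_0

/-- Part 0 of the relabellings of step 52. -/
def sib22_52_0 : List (List ℕ) :=
  [
    []]

/-- Step 52 on 22 points. -/
def step22_52 : Step where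
  pts := [4, 8, 11]
  rep := 2099538
  sib := sib22_52_0

/-- Part 0 of the relabellings of step 53. -/
def sib22_53_0 : List (List ℕ) :=
  [
    []]

/-- Step 53 on 22 points. -/
def step22_53 : Step where
  pts := [6, 8, 10]
  rep := 46400
  sib := sib22_53_0

/-- Part 0 of the relabellings of step 54. -/
def sib22_54_0 : List (List ℕ) :=
  [
    []]

/-- Step 54 on 22 points. -/
def step22_54 : Step where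
  pts := [7, 10, 13]
  rep := 140960
  sib := sib22_54_0

/-- Part 0 of the relabellings of step 55. -/
def sib22_55_0 : List (List ℕ) :=
  [
    []]

/-- Step 55 on 22 points. -/
def step22_55 : Step where
  pts := [4, 10, 16]
  rep := 201746
  sib := sib22_55_0

/-- Part 0 of the relabellings of step 56. -/
def sib22_56_0 : List (List ℕ) :=
  [
    []]

/-- Step 56 on 22 points. -/
def step22_56 : Step where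
  pts := [5, 10, 14]
  rep := 1066096
  sib := sib22_56_0

/-- Part 0 of the relabellings of step 57. -/
def sib22_57_0 : List (List ℕ) :=
  [
    []]

/-- Step 57 on 22 points. -/
def step22_57 : Step where
  pts := [4, 13, 21]
  rep := 2126352
  sib := sib22_57_0

/-- Part 0 of the relabellings of step 58. -/
def sib22_58_0 : List (List ℕ) :=
  [
    []]

/-- Step 58 on 22 points. -/
def step22_58 : Step where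
  pts := [9, 10, 11]
  rep := 52738
  sib := sib22_58_0

/-- Part 0 of the relabellings of step 59. -/
def sib22_59_0 : List (List ℕ) :=
  [
    []]

/-- Step 59 on 22 points. -/
def step22_59 : Step where
  pts := [6, 11, 16]
  rep := 88136
  sib := sib22_59_0

/-- Part 0 of the relabellings of step 60. -/
def sib22_60_0 : List (List ℕ) :=
  [
    []]

/-- Step 60 on 22 points. -/
def step22_60 : Step where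
  pts := [3, 11, 17]
  rep := 1181738
  sib := sib22_60_0

/-- Part 0 of the relabellings of step 61. -/
def sib22_61_0 : List (List ℕ) :=
  [
    []]

/-- Step 61 on 22 points. -/
def step22_61 : Step where
  pts := [0, 5, 14]
  rep := 279081
  sib := sib22_61_0

/-- Part 0 of the relabellings of step 62. -/
def sib22_62_0 : List (List ℕ) :=
  [
    []]

/-- Step 62 on 22 points. -/
def step22_62 : Step where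
  pts := [0, 6, 14]
  rep := 155715
  sib := sib22_62_0

/-- Part 0 of the relabellings of step 63. -/
def sib22_63_0 : List (List ℕ) :=
  [
    []]

/-- Step 63 on 22 points. -/
def step22_63 : Step where
  pts := [3, 8, 9]
  rep := 74506
  sib := sib22_63_0

/-- Part 0 of the relabellings of step 64. -/
def sib22_64_0 : List (List ℕ) :=
  [
    []]

/-- Step 64 on 22 points. -/
def step22_64 : Step where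
  pts := [0, 3, 15]
  rep := 2134027
  sib := sib22_64_0

/-- Part 0 of the relabellings of step 65. -/
def sib22_65_0 : List (List ℕ) :=
  [
    []]

/-- Step 65 on 22 points. -/
def step22_65 : Step where
  pts := [2, 3, 13]
  rep := 2105452
  sib := sib22_65_0

/-- Part 0 of the relabellings of step 66. -/
def sib22_66_0 : List (List ℕ) :=
  [
    []]

/-- Step 66 on 22 points. -/
def step22_66 : Step where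
  pts := [0, 2, 6]
  rep := 266325
  sib := sib22_66_0

/-- Part 0 of the relabellings of step 67. -/
def sib22_67_0 : List (List ℕ) :=
  [
    []]

/-- Step 67 on 22 points. -/
def step22_67 : Step where
  pts := [0, 1, 9]
  rep := 1049235
  sib := sib22_67_0

/-- Part 0 of the relabellings of step 68. -/
def sib22_68_0 : List (List ℕ) :=
  [
    []]

/-- Step 68 on 22 points. -/
def step22_68 : Step where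
  pts := [3, 6, 9]
  rep := 164440
  sib := sib22_68_0

/-- Part 0 of the relabellings of step 69. -/
def sib22_69_0 : List (List ℕ) :=
  [
    []]

/-- Step 69 on 22 points. -/
def step22_69 : Step where
  pts := [1, 2, 3]
  rep := 540702
  sib := sib22_69_0

/-- Part 0 of the relabellings of step 70. -/
def sib22_70_0 : List (List ℕ) :=
  [
    []]

/-- Step 70 on 22 points. -/
def step22_70 : Step where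
  pts := [1, 4, 13]
  rep := 303154
  sib := sib22_70_0

/-- Part 0 of the relabellings of step 71. -/
def sib22_71_0 : List (List ℕ) :=
  [
    []]

/-- Step 71 on 22 points. -/
def step22_71 : Step where
  pts := [1, 5, 6]
  rep := 528994
  sib := sib22_71_0

/-- Part 0 of the relabellings of step 72. -/
def sib22_72_0 : List (List ℕ) :=
  [
    []]

/-- Step 72 on 22 points. -/
def step22_72 : Step where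
  pts := [1, 3, 6]
  rep := 263370
  sib := sib22_72_0

/-- Part 0 of the relabellings of step 73. -/
def sib22_73_0 : List (List ℕ) :=
  [
    []]

/-- Step 73 on 22 points. -/
def step22_73 : Step where
  pts := [2, 4, 5]
  rep := 68148
  sib := sib22_73_0

/-- Part 0 of the relabellings of step 74. -/
def sib22_74_0 : List (List ℕ) :=
  [
    []]

/-- Step 74 on 22 points. -/
def step22_74 : Step where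
  pts := [0, 5, 6]
  rep := 35041
  sib := sib22_74_0

/-- Part 0 of the relabellings of step 75. -/
def sib22_75_0 : List (List ℕ) :=
  [
    []]

/-- Step 75 on 22 points. -/
def step22_75 : Step where
  pts := [1, 2, 7]
  rep := 14470
  sib := sib22_75_0

/-- Part 0 of the relabellings of step 76. -/
def sib22_76_0 : List (List ℕ) :=
  [
    []]

/-- Step 76 on 22 points. -/
def step22_76 : Step where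
  pts := [3, 4, 5]
  rep := 4536
  sib := sib22_76_0

/-- The path on 22 points. -/
def path22 : List Step :=
  [
    step22_0, step22_1, step22_2, step22_3, step22_4, step22_5, step22_6, step22_7, step22_8,
    step22_9, step22_10, step22_11, step22_12, step22_13, step22_14, step22_15, step22_16,
    step22_17, step22_18, step22_19, step22_20, step22_21, step22_22, step22_23, step22_24,
    step22_25, step22_26, step22_27, step22_28, step22_29, step22_30, step22_31, step22_32,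
    step22_33, step22_34, step22_35, step22_36, step22_37, step22_38, step22_39, step22_40,
    step22_41, step22_42, step22_43, step22_44, step22_45, step22_46, step22_47, step22_48,
    step22_49, step22_50, step22_51, step22_52, step22_53, step22_54, step22_55, step22_56,
    step22_57, step22_58, step22_59, step22_60, step22_61, step22_62, step22_63, step22_64,
    step22_65, step22_66, step22_67, step22_68, step22_69, step22_70, step22_71, step22_72,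
    step22_73, step22_74, step22_75, step22_76]

end CfsgLib.Golay.Path
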