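import Mathlib

/-!
The centraliser of a transvection in SL(5, 2) has order 21504.
-/

set_option autoImplicit false

namespace CfsgLib.Golay.SL52

open Matrix

/-- The free parameters of a matrix commuting with the transvection. -/
abbrev Param : Type :=
  (Fin 3 → ZMod 2) × (Fin 3 → ZMod 2) × ZMod 2 ×
    {A : Matrix (Fin 3) (Fin 3) (ZMod 2) // A.det = 1}

theorem card_det_one : Fintype.card {A : Matrix (Fin 3) (Fin 3) (ZMod 2) // A.det = 1} = 168 := by
  simp only [Matrix.det_fin_three]; decide +kernel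

theorem card_param : Nat.card Param = 21504 := by
  simp only [Param, Nat.card_prod, Nat.card_fun, Nat.card_zmod, Nat.card_fin,
    Nat.card_eq_fintype_card (α := {A : Matrix (Fin 3) (Fin 3) (ZMod 2) // A.det = 1}), card_det_one]
  norm_num

/-- The matrix with given parameters, in the order 0, 1, then the other three. -/
def mk (a b : Fin 3 → ZMod 2) (c : ZMod 2) (A : Matrix (Fin 3) (Fin 3) (ZMod 2)) :
    Matrix (Fin 5) (Fin 5) (ZMod 2) :=
  Matrix.of (Fin.cons (Fin.cons 1 (Fin.cons c a))
    (Fin.cons (Fin.cons 0 (Fin.cons 1 0)) fun k => Fin.cons 0 (Fin.cons (b k) (A k))))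

theorem det_mk (a b : Fin 3 → ZMod 2) (c : ZMod 2) (A : Matrix (Fin 3) (Fin 3) (ZMod 2)) :
    (mk a b c A).det = A.det := by
  rw [Matrix.det_succ_column_zero, Fin.sum_univ_succ, Finset.sum_eq_zero]
  · rw [Matrix.det_succ_row_zero, Fin.sum_univ_succ, Finset.sum_eq_zero]
    · have e : ((mk a b c A).submatrix (Fin.succAbove 0) Fin.succ).submatrix Fin.succ
          (Fin.succAbove 0) = A := by
        ext i j
        simp [mk, Fin.succAbove_zero]
      rw [e]
      simp [mk, Fin.succAbove_zero]
    · intro i _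
      simp [mk, Fin.succAbove_zero]
  · intro i _
    refine Fin.cases ?_ (fun k => ?_) i <;> simp [mk]

theorem commute_iff (M : Matrix (Fin 5) (Fin 5) (ZMod 2)) :
    M * transvection 0 1 1 = transvection 0 1 1 * M ↔
      (∀ i : Fin 4, M i.succ 0 = 0) ∧ (∀ j, j ≠ 1 → M 1 j = 0) ∧ M 0 0 = M 1 1 := by
  simp only [transvection, mul_add, add_mul, mul_one, one_mul, add_right_inj]
  constructor
  · intro h
    refine ⟨fun i => ?_, fun j hj => ?_, ?_⟩
    · have := congrFun (congrFun h i.succ) 1
      simpa [Matrix.mul_single_apply_same, Matrix.single_mul_apply_of_ne, Fin.succ_ne_zero] using this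
    · have := congrFun (congrFun h 0) j
      simpa [Matrix.mul_single_apply_of_ne, hj] using this.symm
    · have := congrFun (congrFun h 0) 1
      simpa using this
  · rintro ⟨h1, h2, h3⟩
    ext i j
    by_cases hj : j = 1
    · subst hj
      refine Fin.cases ?_ (fun k => ?_) i
      · simp [h3]
      · simp [h1, Matrix.single_mul_apply_of_ne, Fin.succ_ne_zero]
    · rw [Matrix.mul_single_apply_of_ne _ _ _ _ _ hj]
      refine Fin.cases ?_ (fun k => ?_) i
      · simp [h2 j hj]
      · simp [Matrix.single_mul_apply_of_ne, Fin.succ_ne_zero]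

theorem mk_commute (a b : Fin 3 → ZMod 2) (c : ZMod 2) (A : Matrix (Fin 3) (Fin 3) (ZMod 2)) :
    mk a b c A * transvection 0 1 1 = transvection 0 1 1 * mk a b c A := by
  rw [commute_iff]
  refine ⟨fun i => ?_, fun j hj => ?_, rfl⟩
  · refine Fin.cases ?_ (fun k => ?_) i <;> simp [mk]
  · revert hj
    refine Fin.cases ?_ (fun k => Fin.cases ?_ (fun l => ?_) k) j <;> simp [mk, Pi.zero_apply]

/-- The centraliser in terms of parameters. -/
noncomputable def centralizerEquiv (s : SpecialLinearGroup (Fin 5) (ZMod 2))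
    (hs : (s : Matrix (Fin 5) (Fin 5) (ZMod 2)) = transvection 0 1 1) :
    Subgroup.centralizer ({s} : Set (SpecialLinearGroup (Fin 5) (ZMod 2))) ≃ Param := by
  have hmem : ∀ g : SpecialLinearGroup (Fin 5) (ZMod 2),
      g ∈ Subgroup.centralizer ({s} : Set (SpecialLinearGroup (Fin 5) (ZMod 2))) ↔
        g.1 * transvection 0 1 1 = transvection 0 1 1 * g.1 := by
    intro g
    rw [Subgroup.mem_centralizer_singleton_iff, ← hs]
    constructor
    · exact fun h => congrArg Subtype.val h
    · exact fun h => Subtype.ext h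
  have hform : ∀ g : Subgroup.centralizer ({s} : Set (SpecialLinearGroup (Fin 5) (ZMod 2))),
      g.1.1 = mk (fun l => g.1.1 0 l.succ.succ) (fun k => g.1.1 k.succ.succ 1) (g.1.1 0 1)
        (fun k l => g.1.1 k.succ.succ l.succ.succ) := by
    intro g
    obtain ⟨h1, h2, h3⟩ := (commute_iff _).1 ((hmem g.1).1 g.2)
    have h00 : g.1.1 0 0 = 1 := by
      have hdet : g.1.1.det = 1 := g.1.2
      rw [Matrix.det_succ_column_zero, Fin.sum_univ_succ,
        Finset.sum_eq_zero (fun i _ => by simp [h1 i]), add_zero] at hdet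
      rcases (show ∀ a : ZMod 2, a = 0 ∨ a = 1 by decide) (g.1.1 0 0) with h | h
      · simp [h] at hdet
      · exact h
    ext i j
    refine Fin.cases ?_ (fun k => Fin.cases ?_ (fun k => ?_) k) i
    · refine Fin.cases ?_ (fun l => Fin.cases ?_ (fun l => ?_) l) j <;> simp [mk, h00]
    · refine Fin.cases ?_ (fun l => Fin.cases ?_ (fun l => ?_) l) j
      · rw [show (Fin.succ 0 : Fin 5) = 1 from rfl]; exact h1 0
      · simp only [Fin.succ_zero_eq_one, ← h3, h00]
        rfl
      · rw [show (Fin.succ 0 : Fin 5) = 1 from rfl, h2 _ (Fin.succ_succ_ne_one l)]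
        rfl
    · refine Fin.cases ?_ (fun l => Fin.cases ?_ (fun l => ?_) l) j
      · simp [mk, h1 k.succ]
      · simp [mk]
      · simp [mk]
  refine
    { toFun := fun g => ⟨fun l => g.1.1 0 l.succ.succ, fun k => g.1.1 k.succ.succ 1, g.1.1 0 1,
        ⟨fun k l => g.1.1 k.succ.succ l.succ.succ,
          (det_mk (fun l => g.1.1 0 l.succ.succ) (fun k => g.1.1 k.succ.succ 1) (g.1.1 0 1)
            (fun k l => g.1.1 k.succ.succ l.succ.succ)).symm.trans
              ((congrArg Matrix.det (hform g)).symm.trans g.1.2)⟩⟩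
      invFun := fun p => ⟨⟨mk p.1 p.2.1 p.2.2.1 p.2.2.2.1, by rw [det_mk]; exact p.2.2.2.2⟩,
        (hmem _).2 (mk_commute _ _ _ _)⟩
      left_inv := fun g => Subtype.ext (Subtype.ext (hform g).symm)
      right_inv := fun p => rfl }

theorem card_centralizer (s : SpecialLinearGroup (Fin 5) (ZMod 2))
    (hs : (s : Matrix (Fin 5) (Fin 5) (ZMod 2)) = transvection 0 1 1) :
    Nat.card (Subgroup.centralizer ({s} : Set (SpecialLinearGroup (Fin 5) (ZMod 2)))) = 21504 := by
  rw [Nat.card_congr (centralizerEquiv s hs), card_param]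

end CfsgLib.Golay.SL52
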