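import Cfsg.Prelude.Def_SporadicB
import Cfsg.Agent.Lib.Classical.SpBasic

/-!
The symplectic transvections over the field with two elements are a class of 3-transpositions.
-/

set_option autoImplicit false

namespace CfsgLib.Golay.SpTwo

open Cfsg Matrix CfsgLib.Classical

variable {n : ℕ}

theorem two_cases : ∀ a : ZMod 2, a = 0 ∨ a = 1 := by decide

theorem rank_one_iff (g : symplecticGroup (Fin n) (ZMod 2)) :
    ((g : Matrix (Fin n ⊕ Fin n) (Fin n ⊕ Fin n) (ZMod 2)) - 1).rank = 1 ↔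
      ∃ v, v ≠ 0 ∧ g = spT v 1 := by
  set M : Matrix (Fin n ⊕ Fin n) (Fin n ⊕ Fin n) (ZMod 2) :=
    (g : Matrix (Fin n ⊕ Fin n) (Fin n ⊕ Fin n) (ZMod 2)) - 1 with hM
  constructor
  · intro h
    rw [Matrix.rank] at h
    obtain ⟨⟨v, hv⟩, hv0, hspan⟩ := finrank_eq_one_iff'.1 h
    have hv0' : v ≠ 0 := fun h' => hv0 (Subtype.ext h')
    have hf : ∀ x, ∃ c : ZMod 2, g.1 *ᵥ x = x + c • v := by
      intro x
      obtain ⟨c, hc⟩ := hspan ⟨M *ᵥ x, x, rfl⟩
      refine ⟨c, ?_⟩
      have hc' : c • v = M *ᵥ x := congrArg Subtype.val hc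
      rw [hc', hM, sub_mulVec, one_mulVec, add_sub_cancel]
    choose f hf using hf
    have key : ∀ x y, f x * sympForm n (ZMod 2) v y + f y * sympForm n (ZMod 2) x v = 0 := by
      intro x y
      have h' := sp_form g x y
      rw [hf, hf, sympForm_add_left, sympForm_add_right, sympForm_smul_left, sympForm_smul_right,
        sympForm_add_right, sympForm_smul_right, sympForm_self] at h'
      linear_combination h'
    obtain ⟨y, hy⟩ := exists_sympForm_ne_zero hv0'
    have hy1 : sympForm n (ZMod 2) v y = 1 := (two_cases _).resolve_left hy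
    have hfx : ∀ x, f x = f y * sympForm n (ZMod 2) x v := by
      intro x
      have := key x y
      rw [hy1, mul_one] at this
      rw [eq_neg_of_add_eq_zero_left this, ZMod.neg_eq_self_mod_two]
    rcases two_cases (f y) with h0 | h1
    · exfalso
      obtain ⟨x, hx⟩ := hv
      have : M *ᵥ x = 0 := by
        rw [hM, sub_mulVec, one_mulVec, hf, hfx, h0, zero_mul, zero_smul, add_zero, sub_self]
      exact hv0' (hx.symm.trans this)
    · refine ⟨v, hv0', sp_ext fun x => ?_⟩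
      rw [hf, hfx, h1, spT_apply]
  · rintro ⟨v, hv, rfl⟩
    have hM' : M = vecMulVec v (Matrix.J (Fin n) (ZMod 2) *ᵥ v) := by
      rw [hM]
      show sympTransvection n v 1 - 1 = _
      rw [sympTransvection, add_sub_cancel_left, one_smul]
    refine le_antisymm (hM' ▸ Matrix.rank_vecMulVec_le _ _) ?_
    rw [Nat.one_le_iff_ne_zero]
    intro h0
    rw [Matrix.rank, Submodule.finrank_eq_zero, LinearMap.range_eq_bot] at h0
    obtain ⟨y, hy⟩ := exists_sympForm_ne_zero hv
    have hy1 : sympForm n (ZMod 2) v y = 1 := (two_cases _).resolve_left hy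
    have : M *ᵥ y = 0 := LinearMap.congr_fun h0 y
    rw [hM, sub_mulVec, one_mulVec, spT_apply, add_sub_cancel_left, sympForm_swap, hy1, one_mul,
      ZMod.neg_eq_self_mod_two, one_smul] at this
    exact hv this

theorem spT_one_ne (v : Fin n ⊕ Fin n → ZMod 2) (hv : v ≠ 0) : spT v 1 ≠ 1 := by
  intro h
  obtain ⟨y, hy⟩ := exists_sympForm_ne_zero hv
  have := spT_apply v 1 y
  rw [h, Submonoid.coe_one, one_mulVec] at this
  have h2 : (1 * sympForm n (ZMod 2) y v) • v = 0 := add_eq_left.1 this.symm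
  rw [one_mul, sympForm_swap, (two_cases _).resolve_left hy, ZMod.neg_eq_self_mod_two, one_smul] at h2
  exact hv h2

theorem spT_sq (v : Fin n ⊕ Fin n → ZMod 2) : spT v 1 * spT v 1 = 1 := by
  rw [spT_mul, show (1 : ZMod 2) + 1 = 0 from rfl, spT_zero]

theorem three_transpositions (hn : 1 ≤ n) :
    IsThreeTranspositionClass {g : symplecticGroup (Fin n) (ZMod 2) |
      ((g : Matrix (Fin n ⊕ Fin n) (Fin n ⊕ Fin n) (ZMod 2)) - 1).rank = 1} := by
  set D := {g : symplecticGroup (Fin n) (ZMod 2) |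
    ((g : Matrix (Fin n ⊕ Fin n) (Fin n ⊕ Fin n) (ZMod 2)) - 1).rank = 1}
  have hD : ∀ g, g ∈ D ↔ ∃ v, v ≠ 0 ∧ g = spT v 1 := rank_one_iff
  have inv1 : ∀ v : Fin n ⊕ Fin n → ZMod 2, (spT v 1)⁻¹ = spT v 1 := fun v =>
    inv_eq_of_mul_eq_one_right (spT_sq v)
  refine ⟨⟨fun a ha => ?_, fun a ha b hb => ?_⟩, ?_, ?_⟩
  · obtain ⟨v, hv, rfl⟩ := (hD a).1 ha
    exact orderOf_eq_prime (by rw [pow_two, spT_sq]) (spT_one_ne v hv)
  · obtain ⟨v, -, rfl⟩ := (hD a).1 ha
    obtain ⟨w, -, rfl⟩ := (hD b).1 hb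
    have hc : ∀ v w : Fin n ⊕ Fin n → ZMod 2,
        spT v 1 * spT w 1 * spT v 1 = spT (w + sympForm n (ZMod 2) w v • v) 1 := by
      intro v w
      conv_lhs => arg 2; rw [← inv1 v]
      rw [spT_conj, spT_apply, one_mul]
    rcases two_cases (sympForm n (ZMod 2) w v) with h | h
    · left
      rw [pow_two, show spT v 1 * spT w 1 * (spT v 1 * spT w 1) =
        (spT v 1 * spT w 1 * spT v 1) * spT w 1 by group, hc, h, zero_smul, add_zero, spT_sq]
    · right
      have h' : sympForm n (ZMod 2) v w = 1 := by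
        rw [sympForm_swap, h, ZMod.neg_eq_self_mod_two]
      rw [pow_succ, pow_two, show spT v 1 * spT w 1 * (spT v 1 * spT w 1) * (spT v 1 * spT w 1) =
        (spT v 1 * spT w 1 * spT v 1) * (spT w 1 * spT v 1 * spT w 1) by group, hc, hc, h, h',
        one_smul, one_smul, add_comm v w, spT_sq]
  · obtain ⟨u, hu⟩ : ∃ u : Fin n ⊕ Fin n → ZMod 2, u ≠ 0 :=
      ⟨fun _ => 1, fun h => one_ne_zero (congrFun h (Sum.inl ⟨0, hn⟩))⟩
    refine ⟨spT u 1, (hD _).2 ⟨u, hu, rfl⟩, Set.ext fun g => ?_⟩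
    rw [hD, show g ∈ conjugatesOf (spT u 1) ↔ IsConj (spT u 1) g from Iff.rfl, isConj_iff]
    constructor
    · rintro ⟨v, hv, rfl⟩
      obtain ⟨k, -, hk⟩ := exists_sp_move hu hv
      exact ⟨k, by rw [spT_conj, hk]⟩
    · rintro ⟨k, rfl⟩
      rw [spT_conj]
      refine ⟨k.1 *ᵥ u, fun h => hu ?_, rfl⟩
      exact sp_mulVec_injective k (by simp only [h, mulVec_zero])
  · rw [eq_top_iff, ← spT_closure_eq_top, Subgroup.closure_le]
    rintro A ⟨w, c, hA⟩
    have hA' : A = spT w c := Subtype.ext hA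
    rw [hA']
    rcases two_cases c with rfl | rfl
    · rw [spT_zero]; exact Subgroup.one_mem _
    by_cases hw : w = 0
    · have : spT w (1 : ZMod 2) = 1 := sp_ext fun x => by simp [spT_apply, hw]
      rw [this]; exact Subgroup.one_mem _
    exact Subgroup.subset_closure ((hD _).2 ⟨w, hw, rfl⟩)

end CfsgLib.Golay.SpTwo
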