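import Mathlib

/-!
Strongly regular graphs with parameters (77, 16, 0, 4): the profile inner product, and the
vectors attached to non-adjacent pairs.
-/

set_option autoImplicit false

namespace CfsgLib.Golay.Srg77

open Finset

variable {V : Type*} [Fintype V]

/-- The normalised total of a profile. -/
def tot (f : V → ℚ) : ℚ := (∑ v, f v) / 21

/-- The inner product of two profiles. -/
def ip (f g : V → ℚ) : ℚ := ((∑ v, f v * g v) - 5 * tot f * tot g) / 16

/-- The constant profile. -/
def six : V → ℚ := fun _ => 6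

theorem tot_add (f g : V → ℚ) : tot (f + g) = tot f + tot g := by
  simp [tot, sum_add_distrib, add_div]

theorem tot_sub (f g : V → ℚ) : tot (f - g) = tot f - tot g := by
  simp [tot, sum_sub_distrib, sub_div]

theorem tot_smul (c : ℚ) (f : V → ℚ) : tot (c • f) = c * tot f := by
  simp [tot, ← mul_sum, mul_div_assoc]

theorem tot_sum {ι : Type*} (s : Finset ι) (f : ι → V → ℚ) :
    tot (∑ i ∈ s, f i) = ∑ i ∈ s, tot (f i) := by
  simp only [tot, Finset.sum_apply]
  rw [sum_comm, sum_div]

theorem ip_comm (f g : V → ℚ) : ip f g = ip g f := by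
  simp only [ip, mul_comm (f _), mul_right_comm _ (tot f) (tot g)]

theorem ip_add_left (f g h : V → ℚ) : ip (f + g) h = ip f h + ip g h := by
  simp only [ip, tot_add, Pi.add_apply, add_mul, sum_add_distrib]; ring

theorem ip_sub_left (f g h : V → ℚ) : ip (f - g) h = ip f h - ip g h := by
  simp only [ip, tot_sub, Pi.sub_apply, sub_mul, sum_sub_distrib]; ring

theorem ip_smul_left (c : ℚ) (f h : V → ℚ) : ip (c • f) h = c * ip f h := by
  simp only [ip, tot_smul, Pi.smul_apply, smul_eq_mul, mul_assoc, ← mul_sum]; ring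

theorem ip_add_right (f g h : V → ℚ) : ip f (g + h) = ip f g + ip f h := by
  rw [ip_comm, ip_add_left, ip_comm g, ip_comm h]

theorem ip_sub_right (f g h : V → ℚ) : ip f (g - h) = ip f g - ip f h := by
  rw [ip_comm, ip_sub_left, ip_comm g, ip_comm h]

theorem ip_smul_right (c : ℚ) (f h : V → ℚ) : ip f (c • h) = c * ip f h := by
  rw [ip_comm, ip_smul_left, ip_comm h]

theorem ip_sum_left {ι : Type*} (s : Finset ι) (f : ι → V → ℚ) (h : V → ℚ) :
    ip (∑ i ∈ s, f i) h = ∑ i ∈ s, ip (f i) h := by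
  classical
  induction s using Finset.induction_on with
  | empty => simp [ip, tot]
  | insert a s ha ih => rw [sum_insert ha, sum_insert ha, ip_add_left, ih]

theorem ip_sum_right {ι : Type*} (s : Finset ι) (f : ι → V → ℚ) (h : V → ℚ) :
    ip h (∑ i ∈ s, f i) = ∑ i ∈ s, ip h (f i) := by
  rw [ip_comm, ip_sum_left]
  exact sum_congr rfl fun i _ => ip_comm _ _

theorem ip_six_right (hc : Fintype.card V = 77) (f : V → ℚ) : ip f six = tot f := by
  simp only [ip, six, tot, ← sum_mul, sum_const, card_univ, hc]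
  simp
  ring

theorem eq_of_norm_sub (hc : Fintype.card V = 77) {f g : V → ℚ} (h : ip (f - g) (f - g) = 0) :
    f = g := by
  set d := f - g with hd
  have h1 : (∑ v, d v) ^ 2 ≤ 77 * ∑ v, d v ^ 2 := by
    have := sq_sum_le_card_mul_sum_sq (s := (univ : Finset V)) (f := d)
    rwa [card_univ, hc] at this
  have h2 : (∑ v, d v ^ 2) = 0 := by
    have h0 : 0 ≤ ∑ v, d v ^ 2 := sum_nonneg fun v _ => sq_nonneg _
    simp only [ip, tot, ← pow_two] at h
    nlinarith
  funext v
  have h3 := (sum_eq_zero_iff_of_nonneg fun v _ => sq_nonneg (d v)).1 h2 v (mem_univ v)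
  have h4 : d v = 0 := pow_eq_zero_iff (by norm_num : (2 : ℕ) ≠ 0) |>.1 h3
  exact sub_eq_zero.1 h4

theorem eq_of_ip (hc : Fintype.card V = 77) {f g : V → ℚ} {c : ℚ} (hf : ip f f = c)
    (hfg : ip f g = c) (hg : ip g g = c) : f = g := by
  refine eq_of_norm_sub hc ?_
  rw [ip_sub_left, ip_sub_right, ip_sub_right, ip_comm g f, hf, hfg, hg]
  ring

theorem norm_nonneg' (hc : Fintype.card V = 77) (d : V → ℚ) : 0 ≤ ip d d := by
  have h1 : (∑ v, d v) ^ 2 ≤ 77 * ∑ v, d v ^ 2 := by
    have := sq_sum_le_card_mul_sum_sq (s := (univ : Finset V)) (f := d)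
    rwa [card_univ, hc] at this
  have h0 : 0 ≤ ∑ v, d v ^ 2 := sum_nonneg fun v _ => sq_nonneg _
  simp only [ip, tot, ← pow_two]
  nlinarith

variable [DecidableEq V] (G : SimpleGraph V) [DecidableRel G.Adj]

/-- The adjacency indicator. -/
def adjQ (x v : V) : ℚ := if G.Adj x v then 1 else 0

/-- The profile of a vertex. -/
def row (x : V) : V → ℚ := fun v => 2 + 4 * (if x = v then 1 else 0) - 2 * adjQ G x v

/-- Profiles reproduced by the inner product. -/
def Sp (f : V → ℚ) : Prop := ∀ v, ip f (row G v) = f v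

/-- Distinct non-adjacent vertices. -/
def NA (x z : V) : Prop := x ≠ z ∧ ¬ G.Adj x z

/-- The common neighbours. -/
def CN (x z : V) : Finset V := univ.filter fun v => G.Adj x v ∧ G.Adj z v

/-- The vector of a non-adjacent pair. -/
def pairVec (x z : V) : V → ℚ :=
  row G x + row G z + (1 / 2 : ℚ) • ∑ a ∈ CN G x z, row G a - six

variable {G}

theorem mem_CN {x z v : V} : v ∈ CN G x z ↔ G.Adj x v ∧ G.Adj z v := by simp [CN]

theorem row_self (x : V) : row G x x = 6 := by norm_num [row, adjQ]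

theorem row_adj {x v : V} (h : G.Adj x v) : row G x v = 0 := by
  norm_num [row, adjQ, h, h.ne]

theorem row_na {x v : V} (h : NA G x v) : row G x v = 2 := by
  norm_num [row, adjQ, h.1, h.2]

theorem NA.symm {x v : V} (h : NA G x v) : NA G v x := ⟨h.1.symm, fun e => h.2 e.symm⟩

theorem cases_pair (x v : V) : x = v ∨ G.Adj x v ∨ NA G x v := by
  by_cases h : x = v
  · exact Or.inl h
  · by_cases h' : G.Adj x v
    · exact Or.inr (Or.inl h')
    · exact Or.inr (Or.inr ⟨h, h'⟩)

omit [Fintype V] [DecidableEq V] in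
theorem adjQ_comm (x v : V) : adjQ G x v = adjQ G v x := by simp [adjQ, G.adj_comm]

section

variable (hG : G.IsSRGWith 77 16 0 4)
include hG

theorem no_triangle {x y v : V} (h1 : G.Adj x y) (h2 : G.Adj x v) (h3 : G.Adj y v) : False := by
  have := hG.of_adj x y h1
  rw [Fintype.card_eq_zero_iff] at this
  exact this.false ⟨v, ⟨h2, h3⟩⟩

theorem card_CN {x z : V} (h : NA G x z) : (CN G x z).card = 4 := by
  rw [← hG.of_not_adj h.1 h.2, ← Set.toFinset_card]
  congr 1
  ext v
  simp only [mem_CN, Set.mem_toFinset]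
  rfl

theorem NA_of_common {x v a : V} (h1 : G.Adj x a) (h2 : G.Adj v a) (hne : x ≠ v) : NA G x v :=
  ⟨hne, fun h => no_triangle hG h h1 h2⟩

theorem sum_adjQ (x : V) : ∑ v, adjQ G x v = 16 := by
  have : ∑ v, adjQ G x v = ((G.neighborFinset x).card : ℚ) := by
    rw [SimpleGraph.neighborFinset_eq_filter, ← sum_boole]
    exact sum_congr rfl fun v _ => by simp [adjQ]
  rw [this, SimpleGraph.card_neighborFinset_eq_degree, hG.regular x]
  norm_num

theorem sum_adjQ_mul (x y : V) :
    ∑ v, adjQ G x v * adjQ G y v = if x = y then 16 else if G.Adj x y then 0 else 4 := by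
  have h1 : ∑ v, adjQ G x v * adjQ G y v = ((CN G x y).card : ℚ) := by
    rw [CN, ← sum_boole]
    exact sum_congr rfl fun v _ => by
      by_cases h : G.Adj x v <;> by_cases h' : G.Adj y v <;> simp [adjQ, h, h']
  rw [h1]
  rcases cases_pair (G := G) x y with rfl | h | h
  · have : CN G x x = G.neighborFinset x := by ext; simp [CN]
    rw [this, SimpleGraph.card_neighborFinset_eq_degree, hG.regular x]
    simp
  · rw [card_eq_zero.2 (eq_empty_of_forall_notMem fun v hv =>
      no_triangle hG h (mem_CN.1 hv).1 (mem_CN.1 hv).2), if_neg h.ne, if_pos h]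
    norm_num
  · rw [card_CN hG h, if_neg h.1, if_neg h.2]
    norm_num

theorem sum_row (x : V) : ∑ v, row G x v = 126 := by
  simp only [row, sum_sub_distrib, sum_add_distrib, ← mul_sum, sum_adjQ hG, sum_ite_eq, mem_univ,
    if_true, sum_const, card_univ, hG.card]
  norm_num

theorem tot_row (x : V) : tot (row G x) = 6 := by rw [tot, sum_row hG]; norm_num

theorem ip_row_row (x y : V) : ip (row G x) (row G y) = row G x y := by
  have h : ∑ v, row G x v * row G y v = ∑ v, (4 + (8 * (if x = v then 1 else 0)) +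
      (8 * (if y = v then 1 else 0)) + 16 * ((if x = v then 1 else 0) * (if y = v then 1 else 0)) -
      4 * adjQ G x v - 4 * adjQ G y v - 8 * ((if x = v then 1 else 0) * adjQ G y v) -
      8 * ((if y = v then 1 else 0) * adjQ G x v) + 4 * (adjQ G x v * adjQ G y v)) :=
    sum_congr rfl fun v _ => by simp only [row]; ring
  rw [ip, tot_row hG, tot_row hG, h]
  simp only [sum_sub_distrib, sum_add_distrib, ← mul_sum, sum_adjQ hG, sum_adjQ_mul hG,
    ite_mul, one_mul, zero_mul, sum_ite_eq, mem_univ, if_true, sum_const, card_univ, hG.card]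
  rcases cases_pair (G := G) x y with rfl | h' | h'
  · norm_num [row, adjQ]
  · norm_num [row, adjQ, h', h'.symm, h'.ne, h'.ne.symm]
  · norm_num [row, adjQ, h'.1, h'.2, h'.symm.1, h'.symm.2]

theorem sp_row (x : V) : Sp G (row G x) := fun v => ip_row_row hG x v

theorem sp_six : Sp G (six : V → ℚ) := fun v => by
  rw [ip_comm, ip_six_right hG.card, tot_row hG]; rfl

omit hG in
theorem Sp.add {f g : V → ℚ} (hf : Sp G f) (hg : Sp G g) : Sp G (f + g) := fun v => by
  rw [ip_add_left, hf v, hg v]; rfl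

omit hG in
theorem Sp.sub {f g : V → ℚ} (hf : Sp G f) (hg : Sp G g) : Sp G (f - g) := fun v => by
  rw [ip_sub_left, hf v, hg v]; rfl

omit hG in
theorem Sp.smul (c : ℚ) {f : V → ℚ} (hf : Sp G f) : Sp G (c • f) := fun v => by
  rw [ip_smul_left, hf v]; rfl

omit hG in
theorem Sp.sum {ι : Type*} (s : Finset ι) {f : ι → V → ℚ} (hf : ∀ i ∈ s, Sp G (f i)) :
    Sp G (∑ i ∈ s, f i) := fun v => by
  rw [ip_sum_left, Finset.sum_apply]
  exact sum_congr rfl fun i hi => hf i hi v

theorem tot_six : tot (six : V → ℚ) = 22 := by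
  simp [tot, six, hG.card]; norm_num

theorem no_K33 {x z v a b c : V} (hxz : NA G x z) (hxv : NA G x v) (hzv : NA G z v)
    (hab : a ≠ b) (hac : a ≠ c) (hbc : b ≠ c) (xa : G.Adj x a) (xb : G.Adj x b) (xc : G.Adj x c)
    (za : G.Adj z a) (zb : G.Adj z b) (zc : G.Adj z c) (va : G.Adj v a) (vb : G.Adj v b)
    (vc : G.Adj v c) : False := by
  have nab : NA G a b := NA_of_common hG xa.symm xb.symm hab
  have nac : NA G a c := NA_of_common hG xa.symm xc.symm hac
  have nbc : NA G b c := NA_of_common hG xb.symm xc.symm hbc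
  set d : V → ℚ := fun w =>
    adjQ G x w + adjQ G z w + adjQ G v w + adjQ G a w + adjQ G b w + adjQ G c w with hd
  have h1 : ∑ w, d w = 96 := by
    simp only [hd, sum_add_distrib, sum_adjQ hG]; norm_num
  have h2 : ∑ w, d w ^ 2 = 144 := by
    simp only [hd, sq, add_mul, mul_add, sum_add_distrib, sum_adjQ_mul hG]
    simp [hxz.1, hxz.2, hxz.symm.1, hxz.symm.2, hxv.1, hxv.2, hxv.symm.1, hxv.symm.2, hzv.1, hzv.2,
      hzv.symm.1, hzv.symm.2, nab.1, nab.2, nab.symm.1, nab.symm.2, nac.1, nac.2, nac.symm.1,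
      nac.symm.2, nbc.1, nbc.2, nbc.symm.1, nbc.symm.2, xa, xb, xc, za, zb, zc, va, vb, vc,
      xa.symm, xb.symm, xc.symm, za.symm, zb.symm, zc.symm, va.symm, vb.symm, vc.symm, xa.ne,
      xb.ne, xc.ne, za.ne, zb.ne, zc.ne, va.ne, vb.ne, vc.ne, xa.ne.symm, xb.ne.symm, xc.ne.symm,
      za.ne.symm, zb.ne.symm, zc.ne.symm, va.ne.symm, vb.ne.symm, vc.ne.symm]
    norm_num
  have h3 : ∀ w ∈ ({x, z, v, a, b, c} : Finset V), d w = 3 := by
    intro w hw
    simp only [mem_insert, mem_singleton] at hw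
    rcases hw with rfl | rfl | rfl | rfl | rfl | rfl <;>
      norm_num [hd, adjQ, hxz.2, hxz.symm.2, hxv.2, hxv.symm.2, hzv.2, hzv.symm.2, nab.2,
        nab.symm.2, nac.2, nac.symm.2, nbc.2, nbc.symm.2, xa, xb, xc, za, zb, zc, va, vb, vc,
        xa.symm, xb.symm, xc.symm, za.symm, zb.symm, zc.symm, va.symm, vb.symm, vc.symm]
  have h4 : ∀ w, 0 ≤ d w ^ 2 - 3 * d w + 2 := by
    intro w
    obtain ⟨n, hn⟩ : ∃ n : ℕ, d w = n :=
      ⟨(if G.Adj x w then 1 else 0) + (if G.Adj z w then 1 else 0) + (if G.Adj v w then 1 else 0) +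
        (if G.Adj a w then 1 else 0) + (if G.Adj b w then 1 else 0) +
        (if G.Adj c w then 1 else 0), by simp [hd, adjQ]⟩
    rw [hn]
    rcases Nat.lt_or_ge n 2 with h | h
    · interval_cases n <;> norm_num
    · have : (2 : ℚ) ≤ n := by exact_mod_cast h
      nlinarith
  have h5 := sum_le_sum_of_subset_of_nonneg (f := fun w => d w ^ 2 - 3 * d w + 2)
    (subset_univ ({x, z, v, a, b, c} : Finset V)) (fun w _ _ => h4 w)
  rw [sum_congr rfl (fun w hw => by rw [h3 w hw])] at h5
  simp [sum_add_distrib, sum_sub_distrib, ← mul_sum, h1, h2, hG.card, hxz.1, hxv.1, hzv.1, hab,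
    hac, hbc, xa.ne, xb.ne, xc.ne, za.ne, zb.ne, zc.ne, va.ne, vb.ne, vc.ne] at h5
  linarith

/-! ### The vector of a pair -/

variable {x z : V}

theorem sp_pairVec : Sp G (pairVec G x z) :=
  (((sp_row hG x).add (sp_row hG z)).add ((Sp.sum _ fun a _ => sp_row hG a).smul _)).sub (sp_six hG)

theorem tot_pairVec (h : NA G x z) : tot (pairVec G x z) = 2 := by
  rw [pairVec, tot_sub, tot_add, tot_add, tot_smul, tot_sum, tot_six hG]
  simp [tot_row hG, card_CN hG h]
  norm_num

theorem pairVec_apply (h : NA G x z) (v : V) :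
    pairVec G x z v = row G x v + row G z v + 2 * (if v ∈ CN G x z then 1 else 0) - 2 -
      ((CN G x z).filter fun a => G.Adj a v).card := by
  simp only [pairVec, Pi.add_apply, Pi.sub_apply, Pi.smul_apply, Finset.sum_apply, smul_eq_mul,
    six]
  have : ∑ a ∈ CN G x z, row G a v =
      8 + 4 * (if v ∈ CN G x z then 1 else 0) - 2 * ((CN G x z).filter fun a => G.Adj a v).card := by
    simp only [row, adjQ, sum_sub_distrib, sum_add_distrib, ← mul_sum, sum_boole, sum_const,
      card_CN hG h]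
    rw [← sum_boole (R := ℚ) (fun a => a = v) (CN G x z), sum_ite_eq']
    norm_num
  rw [this]
  ring

theorem pairVec_adj_left (h : NA G x z) {v : V} (hv : G.Adj x v) : pairVec G x z v = 0 := by
  rw [pairVec_apply hG h, row_adj hv]
  have hk : (CN G x z).filter (fun a => G.Adj a v) = ∅ :=
    filter_eq_empty_iff.2 fun a ha hav => no_triangle hG hv (mem_CN.1 ha).1 hav.symm
  rw [hk]
  by_cases hzv : G.Adj z v
  · rw [row_adj hzv, if_pos (mem_CN.2 ⟨hv, hzv⟩)]; norm_num
  · have hne : z ≠ v := fun e => h.2 (e ▸ hv)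
    rw [row_na ⟨hne, hzv⟩, if_neg fun e => hzv (mem_CN.1 e).2]; norm_num

theorem pairVec_left (h : NA G x z) : pairVec G x z x = 2 := by
  rw [pairVec_apply hG h, row_self, row_na h.symm, if_neg fun e => G.irrefl (mem_CN.1 e).1]
  have hk : (CN G x z).filter (fun a => G.Adj a x) = CN G x z :=
    filter_eq_self.2 fun a ha => (mem_CN.1 ha).1.symm
  rw [hk, card_CN hG h]
  norm_num

theorem CN_comm : CN G x z = CN G z x := by ext; simp [CN, and_comm]

theorem pairVec_comm : pairVec G x z = pairVec G z x := by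
  rw [pairVec, pairVec, CN_comm hG, add_comm (row G x)]

theorem pairVec_right (h : NA G x z) : pairVec G x z z = 2 := by
  rw [pairVec_comm hG]; exact pairVec_left hG h.symm

theorem pairVec_adj_right (h : NA G x z) {v : V} (hv : G.Adj z v) : pairVec G x z v = 0 := by
  rw [pairVec_comm hG]; exact pairVec_adj_left hG h.symm hv

theorem pairVec_off (h : NA G x z) {v : V} (h1 : NA G x v) (h2 : NA G z v) :
    pairVec G x z v = 2 - ((CN G x z).filter fun a => G.Adj a v).card := by
  rw [pairVec_apply hG h, row_na h1, row_na h2, if_neg fun e => h1.2 (mem_CN.1 e).1]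
  ring

theorem card_filter_CN_le (h : NA G x z) {v : V} (h1 : NA G x v) (h2 : NA G z v) :
    ((CN G x z).filter fun a => G.Adj a v).card ≤ 2 := by
  by_contra hc
  obtain ⟨a, ha, b, hb, c, hc', hab, hac, hbc⟩ := two_lt_card.1 (by omega :
    2 < ((CN G x z).filter fun a => G.Adj a v).card)
  simp only [mem_filter, mem_CN] at ha hb hc'
  exact no_K33 hG h h1 h2 hab hac hbc ha.1.1 hb.1.1 hc'.1.1 ha.1.2 hb.1.2 hc'.1.2 ha.2.symm
    hb.2.symm hc'.2.symm

theorem pairVec_values (h : NA G x z) (v : V) :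
    pairVec G x z v = 0 ∨ pairVec G x z v = 1 ∨ pairVec G x z v = 2 := by
  rcases cases_pair (G := G) x v with rfl | hv | hv
  · exact Or.inr (Or.inr (pairVec_left hG h))
  · exact Or.inl (pairVec_adj_left hG h hv)
  rcases cases_pair (G := G) z v with rfl | hw | hw
  · exact Or.inr (Or.inr (pairVec_right hG h))
  · exact Or.inl (pairVec_adj_right hG h hw)
  have := card_filter_CN_le hG h hv hw
  rw [pairVec_off hG h hv hw]
  interval_cases ((CN G x z).filter fun a => G.Adj a v).card <;> norm_num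

theorem ip_pairVec_self (h : NA G x z) : ip (pairVec G x z) (pairVec G x z) = 2 := by
  conv_lhs => arg 2; rw [pairVec]
  rw [ip_sub_right, ip_add_right, ip_add_right, ip_smul_right, ip_sum_right,
    ip_six_right hG.card, tot_pairVec hG h, sp_pairVec hG x, sp_pairVec hG z,
    pairVec_left hG h, pairVec_right hG h,
    sum_eq_zero fun a ha => by rw [sp_pairVec hG a, pairVec_adj_left hG h (mem_CN.1 ha).1]]
  norm_num

theorem pairVec_two_card (h : NA G x z) :
    (univ.filter fun v => pairVec G x z v = 2).card = 5 := by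
  have hpt : ∀ v, pairVec G x z v * pairVec G x z v - pairVec G x z v =
      2 * (if pairVec G x z v = 2 then 1 else 0) := by
    intro v
    rcases pairVec_values hG h v with e | e | e <;> rw [e] <;> norm_num
  have h1 : ∑ v, pairVec G x z v = 42 := by
    have := tot_pairVec hG h
    rw [tot, div_eq_iff (by norm_num : (21 : ℚ) ≠ 0)] at this
    rw [this]; norm_num
  have h2 := ip_pairVec_self hG h
  rw [ip, tot_pairVec hG h] at h2
  have h3 := sum_congr rfl (fun v (_ : v ∈ univ) => hpt v)
  rw [sum_sub_distrib, ← mul_sum, sum_boole, h1] at h3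
  have : ((univ.filter fun v => pairVec G x z v = 2).card : ℚ) = 5 := by linarith
  exact_mod_cast this

theorem pairVec_two_na (h : NA G x z) {w : V} (hw : pairVec G x z w = 2) (hne : w ≠ x) :
    NA G x w :=
  ⟨hne.symm, fun e => by rw [pairVec_adj_left hG h e] at hw; norm_num at hw⟩

theorem pairVec_eq_of_two (h : NA G x z) {w : V} (hw : pairVec G x z w = 2) (hne : w ≠ x) :
    pairVec G x w = pairVec G x z := by
  have h' := pairVec_two_na hG h hw hne
  refine (eq_of_ip hG.card (ip_pairVec_self hG h) ?_ (ip_pairVec_self hG h')).symm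
  conv_lhs => arg 2; rw [pairVec]
  rw [ip_sub_right, ip_add_right, ip_add_right, ip_smul_right, ip_sum_right,
    ip_six_right hG.card, tot_pairVec hG h, sp_pairVec hG x, sp_pairVec hG w,
    pairVec_left hG h, hw,
    sum_eq_zero fun a ha => by rw [sp_pairVec hG a, pairVec_adj_left hG h (mem_CN.1 ha).1]]
  norm_num

end

end CfsgLib.Golay.Srg77
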