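import Cfsg.Agent.Lib.Golay.Srg77Basic

/-!
The fifteen classes at a vertex of a (77, 16, 0, 4) graph and the six roots they determine.
-/

set_option autoImplicit false

namespace CfsgLib.Golay.Srg77

open Finset

variable {V : Type*} [Fintype V] [DecidableEq V] (G : SimpleGraph V) [DecidableRel G.Adj]

/-- The vertices at distance two. -/
def far (x : V) : Finset V := univ.filter fun v => x ≠ v ∧ ¬ G.Adj x v

/-- The classes at a vertex. -/
def cls (x : V) : Finset (V → ℚ) := (far G x).image (pairVec G x)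

/-- The common partners of two adjacent classes. -/
def mid (x : V) (C C' : V → ℚ) : Finset (V → ℚ) :=
  (cls G x).filter fun t => ip C t = 0 ∧ ip C' t = 0

/-- The root of two adjacent classes. -/
def rootVec (x : V) (C C' : V → ℚ) : V → ℚ :=
  C + C' + (1 / 2 : ℚ) • ∑ t ∈ mid G x C C', t - row G x

/-- A root: a profile of norm one with values zero and one. -/
def IsRoot (f : V → ℚ) : Prop :=
  Sp G f ∧ ip f f = 1 ∧ tot f = 1 ∧ ∀ v, f v = 0 ∨ f v = 1

variable {G}

theorem mem_far {x v : V} : v ∈ far G x ↔ NA G x v := by simp [far, NA]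

theorem mem_cls {x : V} {p : V → ℚ} : p ∈ cls G x ↔ ∃ z, NA G x z ∧ pairVec G x z = p := by
  simp [cls, mem_far]

theorem pairVec_mem_cls {x z : V} (h : NA G x z) : pairVec G x z ∈ cls G x :=
  mem_cls.2 ⟨z, h, rfl⟩

section

variable (hG : G.IsSRGWith 77 16 0 4)
include hG

theorem card_far (x : V) : (far G x).card = 60 := by
  have h1 : (far G x).card + (G.neighborFinset x).card + 1 = 77 := by
    rw [← hG.card, ← card_univ,
      ← card_filter_add_card_filter_not (s := (univ : Finset V)) (fun v => x ≠ v ∧ ¬ G.Adj x v),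
      add_assoc, far]
    congr 1
    rw [show (univ.filter fun v => ¬ (x ≠ v ∧ ¬ G.Adj x v)) = insert x (G.neighborFinset x) by
      ext v
      by_cases h : x = v
      · subst h; simp
      · simp [h, Ne.symm h]]
    rw [card_insert_of_notMem (by simp)]
  rw [SimpleGraph.card_neighborFinset_eq_degree, hG.regular x] at h1
  omega

theorem cls_data {x : V} {p : V → ℚ} (hp : p ∈ cls G x) :
    Sp G p ∧ tot p = 2 ∧ ip p p = 2 ∧ p x = 2 ∧ (∀ a, G.Adj x a → p a = 0) ∧
      ∀ v, p v = 0 ∨ p v = 1 ∨ p v = 2 := by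
  obtain ⟨z, hz, rfl⟩ := mem_cls.1 hp
  exact ⟨sp_pairVec hG, tot_pairVec hG hz, ip_pairVec_self hG hz, pairVec_left hG hz,
    fun a ha => pairVec_adj_left hG hz ha, pairVec_values hG hz⟩

/-- Reading off a profile at a class. -/
theorem ip_pairVec {x z : V} {f : V → ℚ} (hf : Sp G f) (h0 : ∀ a, G.Adj x a → f a = 0) :
    ip f (pairVec G x z) = f x + f z - tot f := by
  rw [pairVec, ip_sub_right, ip_add_right, ip_add_right, ip_smul_right, ip_sum_right,
    ip_six_right hG.card, hf x, hf z,
    sum_eq_zero fun a ha => (hf a).trans (h0 a (mem_CN.1 ha).1)]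
  ring

theorem ip_cls {x z : V} {p : V → ℚ} (hp : p ∈ cls G x) :
    ip p (pairVec G x z) = p z := by
  obtain ⟨hs, ht, -, hx, ha, -⟩ := cls_data hG hp
  rw [ip_pairVec hG hs ha, hx, ht]
  ring

theorem cls_values {x : V} {p q : V → ℚ} (hp : p ∈ cls G x) (hq : q ∈ cls G x) :
    ip p q = 0 ∨ ip p q = 1 ∨ (ip p q = 2 ∧ p = q) := by
  obtain ⟨z, hz, rfl⟩ := mem_cls.1 hq
  rcases (cls_data hG hp).2.2.2.2.2 z with e | e | e
  · exact Or.inl ((ip_cls hG hp).trans e)
  · exact Or.inr (Or.inl ((ip_cls hG hp).trans e))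
  · have e' := (ip_cls hG hp (z := z)).trans e
    exact Or.inr (Or.inr ⟨e', eq_of_ip hG.card (cls_data hG hp).2.2.1 e'
      (cls_data hG hq).2.2.1⟩)

theorem ip_cls_ne {x : V} {p q : V → ℚ} (hp : p ∈ cls G x) (hq : q ∈ cls G x) (h : p ≠ q) :
    ip p q = 0 ∨ ip p q = 1 := by
  rcases cls_values hG hp hq with e | e | ⟨-, e⟩
  exacts [Or.inl e, Or.inr e, absurd e h]

theorem ip_cls_row {x : V} {p : V → ℚ} (hp : p ∈ cls G x) : ip p (row G x) = 2 := by
  obtain ⟨hs, -, -, hx, -⟩ := cls_data hG hp
  rw [hs x, hx]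

theorem ip_row_cls {x : V} {p : V → ℚ} (hp : p ∈ cls G x) : ip (row G x) p = 2 := by
  rw [ip_comm, ip_cls_row hG hp]

theorem ip_row_self (x : V) : ip (row G x) (row G x) = 6 := by rw [sp_row hG x x, row_self]

/-- The members of a class. -/
theorem fibre_eq {x : V} {p : V → ℚ} (hp : p ∈ cls G x) :
    (far G x).filter (fun v => pairVec G x v = p) = (univ.filter fun v => p v = 2).erase x := by
  obtain ⟨z, hz, rfl⟩ := mem_cls.1 hp
  ext v
  simp only [mem_filter, mem_far, mem_erase, mem_univ, true_and]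
  refine ⟨fun ⟨hv, e⟩ => ⟨hv.1.symm, e ▸ pairVec_right hG hv⟩, fun ⟨hne, e⟩ =>
    ⟨pairVec_two_na hG hz e hne, pairVec_eq_of_two hG hz e hne⟩⟩

theorem fibre_card {x : V} {p : V → ℚ} (hp : p ∈ cls G x) :
    ((far G x).filter (fun v => pairVec G x v = p)).card = 4 := by
  rw [fibre_eq hG hp, card_erase_of_mem (by simp [(cls_data hG hp).2.2.2.1])]
  obtain ⟨z, hz, rfl⟩ := mem_cls.1 hp
  rw [pairVec_two_card hG hz]

theorem card_cls (x : V) : (cls G x).card = 15 := by
  have h := card_eq_sum_card_image (pairVec G x) (far G x)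
  rw [card_far hG, ← cls, sum_congr rfl fun p hp => fibre_card hG hp, sum_const, smul_eq_mul] at h
  have h' : (cls G x).card * 4 = 60 := h.symm
  omega

theorem sum_far_cls {x : V} (f : (V → ℚ) → ℚ) :
    ∑ v ∈ far G x, f (pairVec G x v) = 4 * ∑ p ∈ cls G x, f p := by
  rw [← sum_fiberwise_of_maps_to (g := pairVec G x) (t := cls G x)
    (fun v hv => mem_image_of_mem _ hv), mul_sum]
  refine sum_congr rfl fun p hp => ?_
  rw [sum_congr rfl fun v hv => by rw [(mem_filter.1 hv).2], sum_const, fibre_card hG hp,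
    nsmul_eq_mul]
  norm_num

theorem sum_eq_far {x : V} {f : V → ℚ} (h0 : ∀ a, G.Adj x a → f a = 0) :
    ∑ v, f v = f x + ∑ v ∈ far G x, f v := by
  rw [← sum_subset (subset_univ (insert x (far G x))) fun v _ hv => ?_,
    sum_insert (by simp [mem_far, NA])]
  simp only [mem_insert, mem_far, not_or] at hv
  rcases cases_pair (G := G) x v with e | e | e
  · exact absurd e.symm hv.1
  · exact h0 v e
  · exact absurd e hv.2

theorem sum_ip_cls {x : V} {p : V → ℚ} (hp : p ∈ cls G x) : ∑ q ∈ cls G x, ip p q = 10 := by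
  obtain ⟨-, ht, -, hx, ha, -⟩ := cls_data hG hp
  have h1 : ∑ v, p v = 42 := by
    rw [tot, div_eq_iff (by norm_num : (21 : ℚ) ≠ 0)] at ht; rw [ht]; norm_num
  rw [sum_eq_far hG ha, hx] at h1
  have h2 := sum_far_cls hG (x := x) (fun q => ip p q)
  rw [sum_congr rfl fun v _ => ip_cls hG hp] at h2
  linarith

theorem sum_cls (x : V) : ∑ p ∈ cls G x, p = (5 : ℚ) • row G x := by
  refine eq_of_ip hG.card (c := 150) ?_ ?_ ?_
  · rw [ip_sum_left, sum_congr rfl fun p hp => (ip_sum_right _ _ _).trans (sum_ip_cls hG hp),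
      sum_const, card_cls hG]
    norm_num
  · rw [ip_sum_left, sum_congr rfl fun p hp => (ip_smul_right _ _ _).trans
      (congrArg _ (ip_cls_row hG hp)), sum_const, card_cls hG]
    norm_num
  · rw [ip_smul_left, ip_smul_right, ip_row_self hG]; norm_num

theorem card_zero {x : V} {p : V → ℚ} (hp : p ∈ cls G x) :
    ((cls G x).filter fun t => ip p t = 0).card = 6 ∧
      ((cls G x).filter fun t => ip p t = 1).card = 8 := by
  have hone : ∀ q ∈ cls G x, (if ip p q = 0 then 1 else 0 : ℚ) + (if ip p q = 1 then 1 else 0) +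
      (if p = q then 1 else 0) = 1 ∧
      (if ip p q = 1 then 1 else 0 : ℚ) + 2 * (if p = q then 1 else 0) = ip p q := by
    intro q hq
    have hpp := (cls_data hG hp).2.2.1
    rcases cls_values hG hp hq with e | e | ⟨e, e'⟩
    · have hne : p ≠ q := fun e' => by rw [← e', hpp] at e; norm_num at e
      norm_num [e, hne]
    · have hne : p ≠ q := fun e' => by rw [← e', hpp] at e; norm_num at e
      norm_num [e, hne]
    · subst e'
      norm_num [e]
  have h1 := sum_congr rfl fun q hq => (hone q hq).1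
  have h2 := sum_congr rfl fun q hq => (hone q hq).2
  rw [sum_add_distrib, sum_add_distrib, sum_boole, sum_boole, sum_ite_eq, if_pos hp, sum_const,
    card_cls hG] at h1
  rw [sum_add_distrib, ← mul_sum, sum_boole, sum_ite_eq, if_pos hp, sum_ip_cls hG hp] at h2
  norm_num at h1 h2
  constructor
  · have : (((cls G x).filter fun t => ip p t = 0).card : ℚ) = 6 := by linarith
    exact_mod_cast this
  · have : (((cls G x).filter fun t => ip p t = 1).card : ℚ) = 8 := by linarith
    exact_mod_cast this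

/-- Two orthogonal classes have a third. -/
theorem third {x : V} {p q : V → ℚ} (hp : p ∈ cls G x) (hq : q ∈ cls G x) (h : ip p q = 0) :
    row G x - p - q ∈ cls G x := by
  obtain ⟨z', hz', rfl⟩ := mem_cls.1 hq
  set M := (far G x).filter fun v => pairVec G x v = p with hM
  have hmem : ∀ v ∈ M, NA G x v ∧ pairVec G x v = p := fun v hv => by
    simpa [hM, mem_far] using hv
  have hdisj : (M : Set V).PairwiseDisjoint fun v => CN G x v := by
    intro v hv w hw hne
    refine disjoint_left.2 fun a ha hb => ?_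
    obtain ⟨hv1, hv2⟩ := hmem v hv
    obtain ⟨hw1, hw2⟩ := hmem w hw
    have hna : NA G v w := NA_of_common hG (mem_CN.1 ha).2 (mem_CN.1 hb).2 hne
    have e : pairVec G x v w = 2 := by rw [hv2, ← hw2, pairVec_right hG hw1]
    rw [pairVec_off hG hv1 hw1 hna] at e
    have : ((CN G x v).filter fun a => G.Adj a w).card = 0 := by
      have : (((CN G x v).filter fun a => G.Adj a w).card : ℚ) = 0 := by linarith
      exact_mod_cast this
    exact notMem_empty a ((card_eq_zero.1 this) ▸ mem_filter.2 ⟨ha, (mem_CN.1 hb).2.symm⟩)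
  have hcover : M.biUnion (fun v => CN G x v) = G.neighborFinset x := by
    refine eq_of_subset_of_card_le (fun a ha => ?_) ?_
    · obtain ⟨v, -, hv⟩ := mem_biUnion.1 ha
      simpa using (mem_CN.1 hv).1
    · rw [card_biUnion hdisj, sum_congr rfl fun v hv => card_CN hG (hmem v hv).1, sum_const,
        hM, fibre_card hG hp, SimpleGraph.card_neighborFinset_eq_degree, hG.regular x]
      norm_num
  obtain ⟨a, ha⟩ := card_pos.1 (by rw [card_CN hG hz']; norm_num : 0 < (CN G x z').card)
  obtain ⟨hxa, hza'⟩ := mem_CN.1 ha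
  obtain ⟨z, hzM, hza⟩ := mem_biUnion.1 (hcover.ge (by simpa using hxa) : a ∈ M.biUnion _)
  obtain ⟨hxz, hzp⟩ := hmem z hzM
  have hne : z ≠ z' := fun e => by
    subst e
    rw [hzp, (cls_data hG hp).2.2.1] at h
    norm_num at h
  have hzz' : NA G z z' := NA_of_common hG (mem_CN.1 hza).2 hza' hne
  have h0 := (ip_cls hG hp).symm.trans h
  rw [← hzp, pairVec_off hG hxz hz' hzz'] at h0
  have hk : ((CN G x z).filter fun a => G.Adj a z').card = 2 := by
    have : (((CN G x z).filter fun a => G.Adj a z').card : ℚ) = 2 := by linarith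
    exact_mod_cast this
  obtain ⟨a, b, hab, hset⟩ := card_eq_two.1 hk
  have haS : a ∈ (CN G x z).filter fun a => G.Adj a z' := by simp [hset]
  have hbS : b ∈ (CN G x z).filter fun a => G.Adj a z' := by simp [hset]
  simp only [mem_filter, mem_CN] at haS hbS
  have hna : NA G a b := NA_of_common hG haS.1.1.symm hbS.1.1.symm hab
  obtain ⟨w, hw, hw'⟩ : ∃ w ∈ CN G a b, w ∉ ({x, z, z'} : Finset V) :=
    exists_mem_notMem_of_card_lt_card (lt_of_le_of_lt card_le_three (by rw [card_CN hG hna]; norm_num))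
  simp only [mem_insert, mem_singleton, not_or] at hw'
  obtain ⟨haw, hbw⟩ := mem_CN.1 hw
  have hxw : NA G x w := NA_of_common hG haS.1.1 haw.symm (Ne.symm hw'.1)
  have val : ∀ u, NA G x u → NA G u w → G.Adj u a → G.Adj u b → pairVec G x u w = 0 := by
    intro u hu huw hua hub
    have h2 : 2 ≤ ((CN G x u).filter fun a => G.Adj a w).card := by
      rw [← card_pair hab]
      refine card_le_card (insert_subset ?_ (singleton_subset_iff.2 ?_)) <;>
        simp [mem_CN, haS.1.1, hbS.1.1, hua, hub, haw, hbw]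
    have h3 := card_filter_CN_le hG hu hxw huw
    rw [pairVec_off hG hu hxw huw, show ((CN G x u).filter fun a => G.Adj a w).card = 2 by omega]
    norm_num
  have hpw : ip p (pairVec G x w) = 0 := by
    rw [ip_cls hG hp, ← hzp]
    exact val z hxz (NA_of_common hG haS.1.2 haw.symm (Ne.symm hw'.2.1)) haS.1.2 hbS.1.2
  have hqw : ip (pairVec G x z') (pairVec G x w) = 0 := by
    rw [ip_cls hG hq]
    exact val z' hz' (NA_of_common hG haS.2.symm haw.symm (Ne.symm hw'.2.2)) haS.2.symm hbS.2.symm
  have hr := pairVec_mem_cls (G := G) hxw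
  have key : row G x - p - pairVec G x z' = pairVec G x w := by
    refine eq_of_norm_sub hG.card ?_
    simp only [ip_sub_left, ip_sub_right, ip_comm (pairVec G x z') p,
      ip_comm (pairVec G x w) p, ip_comm (pairVec G x w) (pairVec G x z'), h, hpw, hqw,
      (cls_data hG hp).2.2.1, (cls_data hG hq).2.2.1, (cls_data hG hr).2.2.1, ip_row_self hG,
      ip_cls_row hG hp, ip_cls_row hG hq, ip_cls_row hG hr, ip_row_cls hG hp, ip_row_cls hG hq,
      ip_row_cls hG hr]
    norm_num
  rw [key]
  exact hr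

/-! ### Roots at a vertex -/

variable {x : V} {C C' : V → ℚ}

omit hG in
theorem mem_mid {t : V → ℚ} : t ∈ mid G x C C' ↔ t ∈ cls G x ∧ ip C t = 0 ∧ ip C' t = 0 := by
  simp [mid]

theorem card_mid (hC : C ∈ cls G x) (hC' : C' ∈ cls G x) (h : ip C C' = 1) :
    (mid G x C C').card = 3 := by
  set S := (cls G x).filter fun t => ip C t = 0 with hS
  have hpair : ∀ t ∈ S, row G x - C - t ∈ S ∧ ip C' t + ip C' (row G x - C - t) = 1 ∧
      (ip C' t = 0 ∨ ip C' t = 1) := by
    intro t ht
    obtain ⟨ht, h0⟩ := mem_filter.1 ht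
    refine ⟨mem_filter.2 ⟨third hG hC ht h0, ?_⟩, ?_, ip_cls_ne hG hC' ht fun e => ?_⟩
    · rw [ip_sub_right, ip_sub_right, ip_cls_row hG hC, (cls_data hG hC).2.2.1, h0]; norm_num
    · rw [ip_sub_right, ip_sub_right, ip_cls_row hG hC', ip_comm C' C, h]; ring
    · rw [← e, h] at h0; norm_num at h0
  have hbij : (S.filter fun t => ip C' t = 0).card = (S.filter fun t => ¬ ip C' t = 0).card := by
    refine card_nbij' (fun t => row G x - C - t) (fun t => row G x - C - t) ?_ ?_
      (fun t _ => sub_sub_cancel _ _) (fun t _ => sub_sub_cancel _ _)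
    · intro t ht
      obtain ⟨ht, h0⟩ := mem_filter.1 ht
      obtain ⟨h1, h2, -⟩ := hpair t ht
      exact mem_filter.2 ⟨h1, fun e => by rw [h0, e] at h2; norm_num at h2⟩
    · intro t ht
      obtain ⟨ht, h0⟩ := mem_filter.1 ht
      obtain ⟨h1, h2, h3⟩ := hpair t ht
      refine mem_filter.2 ⟨h1, ?_⟩
      rw [h3.resolve_left h0] at h2
      linarith
  have h6 := (card_zero hG hC).1
  have := card_filter_add_card_filter_not (s := S) (fun t => ip C' t = 0)
  have e : S.filter (fun t => ip C' t = 0) = mid G x C C' := by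
    rw [hS, filter_filter]; rfl
  rw [← e]
  rw [← hS] at h6
  omega

theorem mid_pair (hC : C ∈ cls G x) (hC' : C' ∈ cls G x) (h : ip C C' = 1) {t t' : V → ℚ}
    (ht : t ∈ mid G x C C') (ht' : t' ∈ mid G x C C') (hne : t ≠ t') : ip t t' = 1 := by
  obtain ⟨htc, ht1, ht2⟩ := mem_mid.1 ht
  obtain ⟨htc', ht1', ht2'⟩ := mem_mid.1 ht'
  refine (ip_cls_ne hG htc htc' hne).resolve_left fun h0 => ?_
  have h3 := third hG htc htc' h0
  rcases cls_values hG hC h3 with e | e | ⟨-, e⟩
  · rw [ip_sub_right, ip_sub_right, ip_cls_row hG hC, ht1, ht1'] at e; norm_num at e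
  · rw [ip_sub_right, ip_sub_right, ip_cls_row hG hC, ht1, ht1'] at e; norm_num at e
  · rw [e, ip_sub_left, ip_sub_left, ip_row_cls hG hC', ip_comm t C', ip_comm t' C', ht2,
      ht2'] at h
    norm_num at h

theorem ip_rootVec (hC : C ∈ cls G x) (hC' : C' ∈ cls G x) (f : V → ℚ) :
    ip f (rootVec G x C C') =
      ip f C + ip f C' + 1 / 2 * (∑ t ∈ mid G x C C', ip f t) - ip f (row G x) := by
  rw [rootVec, ip_sub_right, ip_add_right, ip_add_right, ip_smul_right, ip_sum_right]

theorem rootVec_norm (hC : C ∈ cls G x) (hC' : C' ∈ cls G x) (h : ip C C' = 1) :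
    ip (rootVec G x C C') (rootVec G x C C') = 1 ∧ tot (rootVec G x C C') = 1 ∧
      ip (rootVec G x C C') C = 1 ∧ ip (rootVec G x C C') C' = 1 ∧
      ip (rootVec G x C C') (row G x) = 1 ∧ Sp G (rootVec G x C C') := by
  have hcc := (cls_data hG hC).2.2.1
  have hcc' := (cls_data hG hC').2.2.1
  have h1 : ip (rootVec G x C C') C = 1 := by
    rw [ip_comm, ip_rootVec hG hC hC', hcc, h, sum_eq_zero fun t ht => (mem_mid.1 ht).2.1,
      ip_cls_row hG hC]
    norm_num
  have h2 : ip (rootVec G x C C') C' = 1 := by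
    rw [ip_comm, ip_rootVec hG hC hC', hcc', ip_comm C' C, h,
      sum_eq_zero fun t ht => (mem_mid.1 ht).2.2, ip_cls_row hG hC']
    norm_num
  have h3 : ip (rootVec G x C C') (row G x) = 1 := by
    rw [ip_comm, ip_rootVec hG hC hC', ip_row_cls hG hC, ip_row_cls hG hC',
      sum_congr rfl fun t ht => ip_row_cls hG (mem_mid.1 ht).1, sum_const, card_mid hG hC hC' h,
      ip_row_self hG]
    norm_num
  have h4 : ∀ t ∈ mid G x C C', ip (rootVec G x C C') t = 0 := by
    intro t ht
    obtain ⟨htc, ht1, ht2⟩ := mem_mid.1 ht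
    rw [ip_comm, ip_rootVec hG hC hC', ip_comm t C, ip_comm t C', ht1, ht2, ip_cls_row hG htc,
      ← add_sum_erase _ _ ht, (cls_data hG htc).2.2.1,
      sum_congr rfl fun u hu => mid_pair hG hC hC' h ht (mem_erase.1 hu).2 (mem_erase.1 hu).1.symm,
      sum_const, card_erase_of_mem ht, card_mid hG hC hC' h]
    norm_num
  refine ⟨?_, ?_, h1, h2, h3, ?_⟩
  · rw [ip_rootVec hG hC hC', h1, h2, sum_eq_zero h4, h3]; norm_num
  · rw [rootVec, tot_sub, tot_add, tot_add, tot_smul, tot_sum, (cls_data hG hC).2.1,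
      (cls_data hG hC').2.1, sum_congr rfl fun t ht => (cls_data hG (mem_mid.1 ht).1).2.1,
      sum_const, card_mid hG hC hC' h, tot_row hG]
    norm_num
  · exact (((cls_data hG hC).1.add (cls_data hG hC').1).add
      ((Sp.sum _ fun t ht => (cls_data hG (mem_mid.1 ht).1).1).smul _)).sub (sp_row hG x)

theorem rootVec_cls (hC : C ∈ cls G x) (hC' : C' ∈ cls G x) (h : ip C C' = 1) {D : V → ℚ}
    (hD : D ∈ cls G x) :
    ip (rootVec G x C C') D = 0 ∨ ip (rootVec G x C C') D = 1 := by
  obtain ⟨hn, -, h1, h2, h3, -⟩ := rootVec_norm hG hC hC' h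
  have hdd := (cls_data hG hD).2.2.1
  have hsum := ip_rootVec hG hC hC' D
  rw [ip_cls_row hG hD] at hsum
  rw [ip_comm]
  by_cases hDC : D = C
  · subst hDC; exact Or.inr ((ip_comm D _).trans h1)
  by_cases hDC' : D = C'
  · subst hDC'; exact Or.inr ((ip_comm D _).trans h2)
  by_cases hT : D ∈ mid G x C C'
  · obtain ⟨-, ht1, ht2⟩ := mem_mid.1 hT
    rw [ip_comm D C, ip_comm D C', ht1, ht2, ← add_sum_erase _ _ hT, hdd,
      sum_congr rfl fun u hu => mid_pair hG hC hC' h hT (mem_erase.1 hu).2 (mem_erase.1 hu).1.symm,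
      sum_const, card_erase_of_mem hT, card_mid hG hC hC' h] at hsum
    left; rw [hsum]; norm_num
  rcases ip_cls_ne hG hC hD (Ne.symm hDC) with hc | hc
  · rcases ip_cls_ne hG hC' hD (Ne.symm hDC') with hc' | hc'
    · exact absurd (mem_mid.2 ⟨hD, hc, hc'⟩) hT
    · have ht : row G x - C - D ∈ mid G x C C' := mem_mid.2 ⟨third hG hC hD hc,
        by rw [ip_sub_right, ip_sub_right, ip_cls_row hG hC, (cls_data hG hC).2.2.1, hc]; norm_num,
        by rw [ip_sub_right, ip_sub_right, ip_cls_row hG hC', ip_comm C' C, h, hc']; norm_num⟩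
      left
      obtain ⟨-, ht1, ht2⟩ := mem_mid.1 ht
      have := ip_rootVec hG hC hC' (row G x - C - D)
      have h4 : ip (rootVec G x C C') (row G x - C - D) = 0 := by
        rw [ip_comm, this, ip_comm _ C, ip_comm _ C', ht1, ht2, ← add_sum_erase _ _ ht,
          (cls_data hG (mem_mid.1 ht).1).2.2.1,
          sum_congr rfl fun u hu => mid_pair hG hC hC' h ht (mem_erase.1 hu).2
            (mem_erase.1 hu).1.symm,
          sum_const, card_erase_of_mem ht, card_mid hG hC hC' h,
          ip_cls_row hG (mem_mid.1 ht).1]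
        norm_num
      rw [ip_sub_right, ip_sub_right, h3, h1] at h4
      rw [ip_comm]; linarith
  · rcases ip_cls_ne hG hC' hD (Ne.symm hDC') with hc' | hc'
    · have ht : row G x - C' - D ∈ mid G x C C' := mem_mid.2 ⟨third hG hC' hD hc',
        by rw [ip_sub_right, ip_sub_right, ip_cls_row hG hC, h, hc]; norm_num,
        by rw [ip_sub_right, ip_sub_right, ip_cls_row hG hC', (cls_data hG hC').2.2.1, hc']
           norm_num⟩
      left
      obtain ⟨-, ht1, ht2⟩ := mem_mid.1 ht
      have := ip_rootVec hG hC hC' (row G x - C' - D)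
      have h4 : ip (rootVec G x C C') (row G x - C' - D) = 0 := by
        rw [ip_comm, this, ip_comm _ C, ip_comm _ C', ht1, ht2, ← add_sum_erase _ _ ht,
          (cls_data hG (mem_mid.1 ht).1).2.2.1,
          sum_congr rfl fun u hu => mid_pair hG hC hC' h ht (mem_erase.1 hu).2
            (mem_erase.1 hu).1.symm,
          sum_const, card_erase_of_mem ht, card_mid hG hC hC' h,
          ip_cls_row hG (mem_mid.1 ht).1]
        norm_num
      rw [ip_sub_right, ip_sub_right, h3, h2] at h4
      rw [ip_comm]; linarith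
    · rw [ip_comm D C, ip_comm D C', hc, hc'] at hsum
      have hval : ∀ t ∈ mid G x C C', ip D t = 0 ∨ ip D t = 1 := fun t ht =>
        ip_cls_ne hG hD (mem_mid.1 ht).1 fun e => hT (e ▸ ht)
      obtain ⟨t1, t2, t3, h12, h13, h23, hset⟩ := card_eq_three.1 (card_mid hG hC hC' h)
      have hm1 : t1 ∈ mid G x C C' := by simp [hset]
      have hm2 : t2 ∈ mid G x C C' := by simp [hset]
      have hm3 : t3 ∈ mid G x C C' := by simp [hset]
      have hbad : ∀ k l m, k ∈ mid G x C C' → l ∈ mid G x C C' → m ∈ mid G x C C' →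
          (∀ u ∈ mid G x C C', u = k ∨ u = l ∨ u = m) → k ≠ l → k ≠ m →
          ip D k = 1 → ip D l = 0 → ip D m = 0 → False := by
        intro k l m hk hl hm hall hkl hkm ek el em
        obtain ⟨hkc, hk1, hk2⟩ := mem_mid.1 hk
        have hU := third hG hC hkc hk1
        have hDU : ip D (row G x - C - k) = 0 := by
          rw [ip_sub_right, ip_sub_right, ip_cls_row hG hD, ip_comm D C, hc, ek]; norm_num
        have hR := third hG hD hU hDU
        rw [show row G x - D - (row G x - C - k) = C + k - D by abel] at hR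
        have hC'R : ip C' (C + k - D) = 0 := by
          rw [ip_sub_right, ip_add_right, ip_comm C' C, h, hk2, hc']; norm_num
        have hW : row G x - C' - (C + k - D) ∈ mid G x C C' := mem_mid.2 ⟨third hG hC' hR hC'R,
          by rw [ip_sub_right, ip_sub_right, ip_sub_right, ip_add_right, ip_cls_row hG hC, h,
              (cls_data hG hC).2.2.1, hk1, hc]
             norm_num,
          by rw [ip_sub_right, ip_sub_right, ip_cls_row hG hC', hC'R, (cls_data hG hC').2.2.1]
             norm_num⟩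
        have hWR : ip (row G x - C' - (C + k - D)) (C + k - D) = 0 := by
          rw [ip_sub_left, ip_sub_left, ip_row_cls hG hR, hC'R, (cls_data hG hR).2.2.1]; norm_num
        have : ∀ u ∈ mid G x C C', ip u (C + k - D) = 1 := by
          intro u hu
          rw [ip_sub_right, ip_add_right, ip_comm u C, (mem_mid.1 hu).2.1, ip_comm u D]
          rcases hall u hu with rfl | rfl | rfl
          · rw [(cls_data hG hkc).2.2.1, ek]; norm_num
          · rw [el, mid_pair hG hC hC' h hu hk hkl.symm]; norm_num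
          · rw [em, mid_pair hG hC hC' h hu hk hkm.symm]; norm_num
        rw [this _ hW] at hWR
        norm_num at hWR
      have hall : ∀ u ∈ mid G x C C', u = t1 ∨ u = t2 ∨ u = t3 := by simp [hset]
      rw [hset, sum_insert (by simp [h12, h13]), sum_insert (by simp [h23]), sum_singleton] at hsum
      have hcs : ip D (rootVec G x C C') ≠ 3 / 2 := by
        intro e
        have he : D = rootVec G x C C' := eq_of_norm_sub hG.card (by
          rw [ip_sub_left, ip_sub_right, ip_sub_right, ip_comm (rootVec G x C C') D, e, hdd, hn]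
          norm_num)
        rw [he, hn] at hdd
        norm_num at hdd
      rcases hval t1 hm1 with e1 | e1 <;> rcases hval t2 hm2 with e2 | e2 <;>
        rcases hval t3 hm3 with e3 | e3 <;> rw [e1, e2, e3] at hsum
      · left; rw [hsum]; norm_num
      · exact (hbad t3 t1 t2 hm3 hm1 hm2 (fun u hu => by rcases hall u hu with r | r | r <;> simp [r])
          h13.symm h23.symm e3 e1 e2).elim
      · exact (hbad t2 t1 t3 hm2 hm1 hm3 (fun u hu => by rcases hall u hu with r | r | r <;> simp [r])
          h12.symm h23 e2 e1 e3).elim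
      · right; rw [hsum]; norm_num
      · exact (hbad t1 t2 t3 hm1 hm2 hm3 hall h12 h13 e1 e2 e3).elim
      · right; rw [hsum]; norm_num
      · right; rw [hsum]; norm_num
      · exact (hcs (by rw [hsum]; norm_num)).elim

theorem isRoot_rootVec (hC : C ∈ cls G x) (hC' : C' ∈ cls G x) (h : ip C C' = 1) :
    IsRoot G (rootVec G x C C') ∧ rootVec G x C C' x = 1 := by
  obtain ⟨hn, ht, -, -, h3, hsp⟩ := rootVec_norm hG hC hC' h
  have hx : rootVec G x C C' x = 1 := (hsp x).symm.trans h3
  have hadj : ∀ a, G.Adj x a → rootVec G x C C' a = 0 := fun a ha => by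
    simp only [rootVec, Pi.add_apply, Pi.sub_apply, Pi.smul_apply, Finset.sum_apply, smul_eq_mul]
    rw [(cls_data hG hC).2.2.2.2.1 a ha, (cls_data hG hC').2.2.2.2.1 a ha,
      sum_eq_zero fun t ht => (cls_data hG (mem_mid.1 ht).1).2.2.2.2.1 a ha, row_adj ha]
    norm_num
  refine ⟨⟨hsp, hn, ht, fun v => ?_⟩, hx⟩
  rcases cases_pair (G := G) x v with rfl | hv | hv
  · exact Or.inr hx
  · exact Or.inl (hadj v hv)
  · have := ip_pairVec hG hsp hadj (z := v)
    rw [hx, ht, add_sub_cancel_left] at this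
    rw [← this]
    exact rootVec_cls hG hC hC' h (pairVec_mem_cls hv)

end

end CfsgLib.Golay.Srg77
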