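import Cfsg.Agent.Lib.Golay.Srg77Class
import Cfsg.Agent.Lib.Golay.UniqSmall

/-!
A (77, 16, 0, 4) graph is the disjointness graph of an S(3, 6, 22).
-/

set_option autoImplicit false

namespace CfsgLib.Golay.Srg77

open Finset Cfsg

variable {V : Type*} [Fintype V] [DecidableEq V] (G : SimpleGraph V) [DecidableRel G.Adj]

/-- The roots at a vertex. -/
def rootsAt (x : V) : Finset (V → ℚ) :=
  ((cls G x ×ˢ cls G x).filter fun c => ip c.1 c.2 = 1).image fun c => rootVec G x c.1 c.2

/-- All roots. -/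
def pts : Finset (V → ℚ) := univ.biUnion (rootsAt G)

variable {G} (hG : G.IsSRGWith 77 16 0 4)
include hG

theorem root_adj {r : V → ℚ} (hr : IsRoot G r) {x a : V} (hx : r x = 1) (ha : G.Adj x a) :
    r a = 0 := by
  obtain ⟨hs, -, ht, hv⟩ := hr
  have h1 := hs x
  rw [ip, ht, tot_row hG, hx] at h1
  have h2 : ∑ v, r v = 21 := by
    rw [tot, div_eq_one_iff_eq (by norm_num)] at ht; exact ht
  have h3 : ∑ v, r v * (2 - row G x v) = -4 := by
    simp only [mul_sub, sum_sub_distrib, ← sum_mul, h2]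
    linarith
  rw [← add_sum_erase _ _ (mem_univ x), hx, row_self] at h3
  have h4 : ∑ v ∈ univ.erase x, r v * (2 - row G x v) = 0 := by linarith
  have h5 : ∀ v ∈ univ.erase x, 0 ≤ r v * (2 - row G x v) := by
    intro v hv'
    rcases cases_pair (G := G) x v with e | e | e
    · exact absurd e.symm (mem_erase.1 hv').1
    · rw [row_adj e]; rcases hv v with e | e <;> rw [e] <;> norm_num
    · rw [row_na e]; norm_num
  have := (sum_eq_zero_iff_of_nonneg h5).1 h4 a (mem_erase.2 ⟨ha.ne.symm, mem_univ _⟩)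
  rw [row_adj ha] at this
  linarith

theorem root_pairVec {r : V → ℚ} (hr : IsRoot G r) {x z : V} (hx : r x = 1) :
    ip r (pairVec G x z) = r z := by
  rw [ip_pairVec hG hr.1 (fun a ha => root_adj hG hr hx ha), hx, hr.2.2.1]
  ring

theorem root_cls {r : V → ℚ} (hr : IsRoot G r) {x : V} (hx : r x = 1) {p : V → ℚ}
    (hp : p ∈ cls G x) : ip r p = 0 ∨ ip r p = 1 := by
  obtain ⟨z, -, rfl⟩ := mem_cls.1 hp
  rw [root_pairVec hG hr hx]
  exact hr.2.2.2 z

theorem root_count {r : V → ℚ} (hr : IsRoot G r) {x : V} (hx : r x = 1) :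
    ((cls G x).filter fun p => ip r p = 1).card = 5 := by
  have h1 : ∑ p ∈ cls G x, ip r p = 5 := by
    rw [← ip_sum_right, sum_cls hG, ip_smul_right, hr.1 x, hx]; norm_num
  rw [sum_congr rfl fun p hp => (show ip r p = if ip r p = 1 then (1 : ℚ) else 0 by
    rcases root_cls hG hr hx hp with e | e <;> rw [e] <;> norm_num), sum_boole] at h1
  exact_mod_cast h1

theorem root_adjacent {r : V → ℚ} (hr : IsRoot G r) {x : V} (hx : r x = 1) {p q : V → ℚ}
    (hp : p ∈ cls G x) (hq : q ∈ cls G x) (h1 : ip r p = 1) (h2 : ip r q = 1) (hne : p ≠ q) :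
    ip p q = 1 := by
  refine (ip_cls_ne hG hp hq hne).resolve_left fun h0 => ?_
  rcases root_cls hG hr hx (third hG hp hq h0) with e | e <;>
    rw [ip_sub_right, ip_sub_right, hr.1 x, hx, h1, h2] at e <;> norm_num at e

theorem root_eq {r : V → ℚ} (hr : IsRoot G r) {x : V} (hx : r x = 1) {p q : V → ℚ}
    (hp : p ∈ cls G x) (hq : q ∈ cls G x) (h1 : ip r p = 1) (h2 : ip r q = 1) (hne : p ≠ q) :
    r = rootVec G x p q := by
  have h := root_adjacent hG hr hx hp hq h1 h2 hne
  refine eq_of_ip hG.card hr.2.1 ?_ (rootVec_norm hG hp hq h).1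
  rw [ip_rootVec hG hp hq, h1, h2, hr.1 x, hx, sum_eq_zero fun t ht => ?_]
  · norm_num
  obtain ⟨htc, ht1, -⟩ := mem_mid.1 ht
  refine (root_cls hG hr hx htc).resolve_right fun e => ?_
  have hpt : p ≠ t := fun e' => by
    rw [← e', (cls_data hG hp).2.2.1] at ht1; norm_num at ht1
  rw [root_adjacent hG hr hx hp htc h1 e hpt] at ht1
  norm_num at ht1

theorem mem_rootsAt_iff {r : V → ℚ} {x : V} : r ∈ rootsAt G x ↔ IsRoot G r ∧ r x = 1 := by
  simp only [rootsAt, mem_image, mem_filter, mem_product, Prod.exists]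
  constructor
  · rintro ⟨p, q, ⟨⟨hp, hq⟩, h⟩, rfl⟩
    exact isRoot_rootVec hG hp hq h
  · rintro ⟨hr, hx⟩
    obtain ⟨p, hp, q, hq, hne⟩ := one_lt_card.1
      (by rw [root_count hG hr hx]; norm_num : 1 < ((cls G x).filter fun p => ip r p = 1).card)
    simp only [mem_filter] at hp hq
    exact ⟨p, q, ⟨⟨hp.1, hq.1⟩, root_adjacent hG hr hx hp.1 hq.1 hp.2 hq.2 hne⟩,
      (root_eq hG hr hx hp.1 hq.1 hp.2 hq.2 hne).symm⟩

theorem orth_at {r s : V → ℚ} (hr : IsRoot G r) (hs : IsRoot G s) {x : V} (hrx : r x = 1)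
    (hsx : s x = 1) (hne : r ≠ s) : ip r s = 0 := by
  classical
  have hc : (((cls G x).filter fun p => ip r p = 1 ∧ ip s p = 1)).card ≤ 1 := by
    refine card_le_one.2 fun p hp q hq => ?_
    simp only [mem_filter] at hp hq
    by_contra hpq
    exact hne ((root_eq hG hr hrx hp.1 hq.1 hp.2.1 hq.2.1 hpq).trans
      (root_eq hG hs hsx hp.1 hq.1 hp.2.2 hq.2.2 hpq).symm)
  obtain ⟨n, hn⟩ : ∃ n : ℕ, 2 * ip r s + 2 = n := by
    obtain ⟨-, hp⟩ := (mem_rootsAt_iff hG).2 ⟨hs, hsx⟩ |> fun h =>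
      (⟨trivial, by simpa [rootsAt] using h⟩ :
        True ∧ ∃ p q, ((p ∈ cls G x ∧ q ∈ cls G x) ∧ ip p q = 1) ∧ rootVec G x p q = s)
    obtain ⟨p, q, ⟨⟨hp, hq⟩, h⟩, rfl⟩ := hp
    have key : ∀ t ∈ cls G x, ∃ m : ℕ, ip r t = m := fun t ht => by
      rcases root_cls hG hr hrx ht with e | e
      · exact ⟨0, by rw [e]; norm_num⟩
      · exact ⟨1, by rw [e]; norm_num⟩
    obtain ⟨a, ha⟩ := key p hp
    obtain ⟨b, hb⟩ := key q hq
    choose! f hf using key
    refine ⟨2 * a + 2 * b + ∑ t ∈ mid G x p q, f t, ?_⟩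
    rw [ip_rootVec hG hp hq, ha, hb, hr.1 x, hrx,
      sum_congr rfl fun t ht => hf t (mem_mid.1 ht).1]
    push_cast
    ring
  have hsum : ∑ v, r v * s v =
      1 + 4 * (((cls G x).filter fun p => ip r p = 1 ∧ ip s p = 1).card : ℚ) := by
    rw [sum_eq_far hG (fun a ha => by rw [root_adj hG hr hrx ha, zero_mul]), hrx, hsx,
      ← sum_boole, ← sum_far_cls hG, one_mul]
    congr 1
    refine sum_congr rfl fun v hv => ?_
    rw [root_pairVec hG hr hrx, root_pairVec hG hs hsx]
    rcases hr.2.2.2 v with e | e <;> rcases hs.2.2.2 v with e' | e' <;> rw [e, e'] <;> norm_num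
  have hip : ip r s = ((∑ v, r v * s v) - 5) / 16 := by rw [ip, hr.2.2.1, hs.2.2.1]; norm_num
  rw [hsum] at hip
  generalize (((cls G x).filter fun p => ip r p = 1 ∧ ip s p = 1)).card = k at hc hip
  rw [hip] at hn
  interval_cases k
  · rcases Nat.lt_or_ge n 2 with h | h
    · interval_cases n <;> norm_num at hn
    · have : (2 : ℚ) ≤ n := by exact_mod_cast h
      norm_num at hn
      linarith
  · rw [hip]; norm_num

theorem two_roots {x : V} {p : V → ℚ} (hp : p ∈ cls G x) :
    ((rootsAt G x).filter fun r => ip r p = 1).card = 2 := by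
  classical
  set N := (cls G x).filter fun q => ip p q = 1 with hN
  set T := (rootsAt G x).filter fun r => ip r p = 1 with hT
  have hmap : ∀ q ∈ N, rootVec G x p q ∈ T := fun q hq => by
    obtain ⟨hq, h⟩ := mem_filter.1 hq
    exact mem_filter.2 ⟨(mem_rootsAt_iff hG).2 (isRoot_rootVec hG hp hq h),
      (rootVec_norm hG hp hq h).2.2.1⟩
  have hfib : ∀ r ∈ T, (N.filter fun q => rootVec G x p q = r).card = 4 := by
    intro r hr
    obtain ⟨hr, hrp⟩ := mem_filter.1 hr
    obtain ⟨hr, hrx⟩ := (mem_rootsAt_iff hG).1 hr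
    have : (N.filter fun q => rootVec G x p q = r) =
        ((cls G x).filter fun q => ip r q = 1).erase p := by
      ext q
      simp only [hN, mem_filter, mem_erase]
      refine ⟨fun ⟨⟨hq, h⟩, e⟩ => ⟨fun e' => ?_, hq, e ▸ (rootVec_norm hG hp hq h).2.2.2.1⟩,
        fun ⟨hne, hq, e⟩ => ⟨⟨hq, root_adjacent hG hr hrx hp hq hrp e hne.symm⟩,
          (root_eq hG hr hrx hp hq hrp e hne.symm).symm⟩⟩
      rw [e', (cls_data hG hp).2.2.1] at h
      norm_num at h
    rw [this, card_erase_of_mem (mem_filter.2 ⟨hp, hrp⟩), root_count hG hr hrx]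
  have h := card_eq_sum_card_fiberwise (f := fun q => rootVec G x p q) hmap
  rw [sum_congr rfl hfib, sum_const, smul_eq_mul, hN, (card_zero hG hp).2] at h
  omega

theorem sum_rootsAt (x : V) : ∑ r ∈ rootsAt G x, r = row G x := by
  classical
  have hpair : ∀ p ∈ cls G x, ∑ r ∈ rootsAt G x, ip r p • r = p := by
    intro p hp
    obtain ⟨r, s, hne, hset⟩ := card_eq_two.1 (two_roots hG hp)
    have hr : r ∈ (rootsAt G x).filter fun r => ip r p = 1 := by simp [hset]
    have hs : s ∈ (rootsAt G x).filter fun r => ip r p = 1 := by simp [hset]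
    obtain ⟨hr, hrp⟩ := mem_filter.1 hr
    obtain ⟨hs, hsp⟩ := mem_filter.1 hs
    obtain ⟨hr', hrx⟩ := (mem_rootsAt_iff hG).1 hr
    obtain ⟨hs', hsx⟩ := (mem_rootsAt_iff hG).1 hs
    rw [← sum_subset (filter_subset (fun r => ip r p = 1) _) fun u hu hu' => ?_, hset,
      sum_pair hne, hrp, hsp, one_smul, one_smul]
    · refine eq_of_ip hG.card (c := 2) ?_ ?_ (cls_data hG hp).2.2.1
      · rw [ip_add_left, ip_add_right, ip_add_right, hr'.2.1, hs'.2.1, ip_comm s r,
          orth_at hG hr' hs' hrx hsx hne]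
        norm_num
      · rw [ip_add_left, hrp, hsp]; norm_num
    · have : ip u p ≠ 1 := fun e => hu' (mem_filter.2 ⟨hu, e⟩)
      obtain ⟨hu', hux⟩ := (mem_rootsAt_iff hG).1 hu
      rw [(root_cls hG hu' hux hp).resolve_right this, zero_smul]
  have h := sum_congr rfl hpair
  rw [sum_cls hG, sum_comm] at h
  have h' : ∑ r ∈ rootsAt G x, ∑ p ∈ cls G x, ip r p • r = ∑ r ∈ rootsAt G x, (5 : ℚ) • r := by
    refine sum_congr rfl fun r hr => ?_
    obtain ⟨hr', hrx⟩ := (mem_rootsAt_iff hG).1 hr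
    rw [← sum_smul, ← ip_sum_right, sum_cls hG, ip_smul_right, hr'.1 x, hrx, mul_one]
  rw [h', ← smul_sum] at h
  exact smul_right_injective _ (by norm_num : (5 : ℚ) ≠ 0) h

theorem mem_pts_iff {r : V → ℚ} : r ∈ pts G ↔ IsRoot G r := by
  simp only [pts, mem_biUnion, mem_univ, true_and, mem_rootsAt_iff hG]
  refine ⟨fun ⟨_, h, _⟩ => h, fun h => ?_⟩
  obtain ⟨x, hx⟩ : ∃ x, r x ≠ 0 := by
    by_contra hh
    push Not at hh
    have ht := h.2.2.1
    simp [tot, hh] at ht
  exact ⟨x, h, (h.2.2.2 x).resolve_left hx⟩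

theorem orth {r s : V → ℚ} (hr : IsRoot G r) (hs : IsRoot G s) (hne : r ≠ s) : ip r s = 0 := by
  by_cases hx : ∃ x, r x = 1 ∧ s x = 1
  · obtain ⟨x, h1, h2⟩ := hx
    exact orth_at hG hr hs h1 h2 hne
  push Not at hx
  have hip : ip r s = -5 / 16 := by
    rw [ip, hr.2.2.1, hs.2.2.1, sum_eq_zero fun v _ => ?_]
    · norm_num
    rcases hr.2.2.2 v with e | e
    · rw [e, zero_mul]
    · rw [(hs.2.2.2 v).resolve_right (hx v e), mul_zero]
  exfalso
  obtain ⟨x, -, hsx⟩ : ∃ x, x ∈ (univ : Finset V) ∧ s ∈ rootsAt G x := by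
    simpa [pts] using (mem_pts_iff hG).2 hs
  simp only [rootsAt, mem_image, mem_filter, mem_product, Prod.exists] at hsx
  obtain ⟨p, q, ⟨⟨hp, hq⟩, hpq⟩, rfl⟩ := hsx
  have key : ∀ t ∈ cls G x, ∃ m : ℕ, 2 * ip r t + 2 = m := by
    intro t ht
    obtain ⟨z, -, rfl⟩ := mem_cls.1 ht
    have hval : ∀ v, ∃ m : ℕ, r v = m := fun v => by
      rcases hr.2.2.2 v with e | e
      · exact ⟨0, by rw [e]; norm_num⟩
      · exact ⟨1, by rw [e]; norm_num⟩
    choose f hf using hval
    refine ⟨2 * f x + 2 * f z + ∑ a ∈ CN G x z, f a, ?_⟩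
    rw [pairVec, ip_sub_right, ip_add_right, ip_add_right, ip_smul_right, ip_sum_right,
      ip_six_right hG.card, hr.1 x, hr.1 z, hr.2.2.1, hf x, hf z,
      sum_congr rfl fun a _ => (hr.1 a).trans (hf a)]
    push_cast
    ring
  obtain ⟨a, ha⟩ := key p hp
  obtain ⟨b, hb⟩ := key q hq
  choose! f hf using key
  have h4 : ∃ m : ℕ, 4 * ip r (rootVec G x p q) + 4 * r x + 14 = m := by
    refine ⟨2 * a + 2 * b + ∑ t ∈ mid G x p q, f t, ?_⟩
    have hmid : ∑ t ∈ mid G x p q, ip r t =
        ∑ t ∈ mid G x p q, (((f t : ℕ) : ℚ) - 2) / 2 :=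
      sum_congr rfl fun t ht => by linarith [hf t (mem_mid.1 ht).1]
    rw [ip_rootVec hG hp hq, hr.1 x, hmid, ← sum_div, sum_sub_distrib, sum_const, nsmul_eq_mul]
    rw [card_mid hG hp hq hpq]
    push_cast
    linarith
  obtain ⟨m, hm⟩ := h4
  rcases hr.2.2.2 x with e | e <;> rw [hip, e] at hm
  · have h' : (4 * m + 5 : ℚ) = 56 := by linarith
    have : 4 * m + 5 = 56 := by exact_mod_cast h'
    omega
  · have h' : (4 * m + 5 : ℚ) = 72 := by linarith
    have : 4 * m + 5 = 72 := by exact_mod_cast h'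
    omega

theorem card_pts_le : (pts G).card ≤ 22 := by
  have h := norm_nonneg' hG.card ((six : V → ℚ) - ∑ r ∈ pts G, r)
  have h1 : ip (six : V → ℚ) (∑ r ∈ pts G, r) = (pts G).card := by
    rw [ip_comm, ip_sum_left, sum_congr rfl fun r hr =>
      (ip_six_right hG.card r).trans ((mem_pts_iff hG).1 hr).2.2.1]
    simp
  have h2 : ip (∑ r ∈ pts G, r) (∑ r ∈ pts G, r) = (pts G).card := by
    rw [ip_sum_left, sum_congr rfl fun r hr => (ip_sum_right _ _ _).trans
      (sum_eq_single_of_mem r hr fun s hs hne =>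
        orth hG ((mem_pts_iff hG).1 hr) ((mem_pts_iff hG).1 hs) hne.symm),
      sum_congr rfl fun r hr => ((mem_pts_iff hG).1 hr).2.1]
    simp
  rw [ip_sub_left, ip_sub_right, ip_sub_right, ip_comm (∑ r ∈ pts G, r) six, h1, h2,
    ip_six_right hG.card, tot_six hG] at h
  have : ((pts G).card : ℚ) ≤ 22 := by linarith
  exact_mod_cast this

theorem filter_pts (x : V) : (pts G).filter (fun r => r x = 1) = rootsAt G x := by
  ext r
  simp [mem_pts_iff hG, mem_rootsAt_iff hG]

theorem inter_card (x y : V) :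
    (((pts G).filter fun r => r x = 1 ∧ r y = 1).card : ℚ) = row G x y := by
  rw [← ip_row_row hG x y, ← sum_rootsAt hG x, ip_sum_left, ← filter_filter, filter_pts hG,
    ← sum_boole]
  refine sum_congr rfl fun r hr => ?_
  obtain ⟨hr, -⟩ := (mem_rootsAt_iff hG).1 hr
  rw [hr.1 y]
  rcases hr.2.2.2 y with e | e <;> rw [e] <;> norm_num

/-- The design of a graph. -/
theorem exists_design :
    ∃ (n : ℕ) (B : Set (Finset (Fin n))) (f : V ≃ B), n = 22 ∧ Cfsg.IsSteinerSystem 3 6 B ∧
      ∀ x y, G.Adj x y ↔ (f x).1 ∩ (f y).1 = ∅ := by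
  classical
  let P := {r // r ∈ pts G}
  let e : P ≃ Fin (pts G).card := (pts G).equivFin
  let b : V → Finset (Fin (pts G).card) := fun x => univ.filter fun i => (e.symm i).1 x = 1
  have hb : ∀ x y, ((b x ∩ b y).card : ℚ) = row G x y := by
    intro x y
    rw [← inter_card hG x y]
    congr 1
    refine card_bij (fun i _ => (e.symm i).1) (fun i hi => ?_) (fun i _ j _ h => ?_) fun r hr => ?_
    · simp only [b, mem_inter, mem_filter, mem_univ, true_and] at hi
      exact mem_filter.2 ⟨(e.symm i).2, hi⟩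
    · exact e.symm.injective (Subtype.ext h)
    · obtain ⟨hr, h⟩ := mem_filter.1 hr
      exact ⟨e ⟨r, hr⟩, by simp [b, h], by simp⟩
  have hcard : ∀ x, (b x).card = 6 := by
    intro x
    have := hb x x
    rw [inter_self, row_self] at this
    exact_mod_cast this
  have hle : ∀ x y, x ≠ y → (b x ∩ b y).card ≤ 2 := by
    intro x y hne
    have := hb x y
    rcases cases_pair (G := G) x y with h | h | h
    · exact absurd h hne
    · rw [row_adj h] at this; norm_num at this; simp [this]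
    · rw [row_na h] at this
      exact le_of_eq (by exact_mod_cast this)
  have hinj : Function.Injective b := by
    intro x y h
    by_contra hne
    have := hle x y hne
    rw [h, inter_self, hcard] at this
    omega
  set T := (univ : Finset V).biUnion fun x => (b x).powersetCard 3 with hT
  have hTcard : T.card = 1540 := by
    rw [hT, card_biUnion ?_, sum_congr rfl fun x _ => (card_powersetCard 3 (b x)).trans (by rw [hcard]),
      sum_const, card_univ, hG.card]
    · decide
    · intro x _ y _ hne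
      refine disjoint_left.2 fun s hs hs' => ?_
      rw [mem_powersetCard] at hs hs'
      have := card_le_card (subset_inter hs.1 hs'.1)
      have := hle x y hne
      omega
  have hsub : T ⊆ (univ : Finset (Fin (pts G).card)).powersetCard 3 := fun s hs => by
    obtain ⟨x, -, hx⟩ := mem_biUnion.1 hs
    exact mem_powersetCard.2 ⟨subset_univ _, (mem_powersetCard.1 hx).2⟩
  have hn : (pts G).card = 22 := by
    refine le_antisymm (card_pts_le hG) ?_
    by_contra hlt
    have h := card_le_card hsub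
    rw [hTcard, card_powersetCard, card_univ, Fintype.card_fin] at h
    have h2 : Nat.choose (pts G).card 3 ≤ Nat.choose 21 3 := Nat.choose_le_choose 3 (by omega)
    have h3 : Nat.choose 21 3 = 1330 := by decide
    omega
  have hTall : T = (univ : Finset (Fin (pts G).card)).powersetCard 3 :=
    eq_of_subset_of_card_le hsub (by
      rw [hTcard, card_powersetCard, card_univ, Fintype.card_fin, hn]; decide)
  refine ⟨(pts G).card, Set.range b, Equiv.ofInjective b hinj, hn, ⟨?_, fun s hs => ?_⟩,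
    fun x y => ?_⟩
  · rintro _ ⟨x, rfl⟩
    exact hcard x
  · obtain ⟨x, -, hx⟩ := mem_biUnion.1 (hTall.ge (mem_powersetCard.2 ⟨subset_univ s, hs⟩))
    refine ⟨b x, ⟨⟨x, rfl⟩, (mem_powersetCard.1 hx).1⟩, ?_⟩
    rintro _ ⟨⟨y, rfl⟩, hy⟩
    by_contra hne
    have := card_le_card (subset_inter (mem_powersetCard.1 hx).1 hy)
    have := hle x y fun h => hne (h ▸ rfl)
    omega
  · show G.Adj x y ↔ b x ∩ b y = ∅
    rw [← card_eq_zero]
    have := hb x y
    rcases cases_pair (G := G) x y with h | h | h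
    · subst h
      simp [inter_self, hcard]
    · rw [row_adj h] at this
      exact iff_of_true h (by exact_mod_cast this)
    · rw [row_na h] at this
      refine iff_of_false h.2 fun e => ?_
      rw [e] at this
      norm_num at this

end CfsgLib.Golay.Srg77
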