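import Cfsg.Agent.Lib.Golay.Uniq23
import Cfsg.Agent.Lib.Golay.Transport
import Cfsg.Prelude.Def_Sporadic

/-!
Uniqueness of S(4, 7, 23) and its group, the stabiliser of a point in the group of the code.
-/

set_option autoImplicit false

namespace CfsgLib.Golay

open Cfsg

open scoped Pointwise

/-- The derived system of the octads at the image of the extra point. -/
def octDerived {α : Type*} (g : Option α ≃ GolayPt) : Set (Finset α) :=
  {b | insert (g none) (b.image fun x => g (some x)) ∈ octads}

/-- Permutations of `α` as permutations of the 24 points. -/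
noncomputable def relab {α : Type*} (g : Option α ≃ GolayPt) : Equiv.Perm α →* Equiv.Perm GolayPt :=
  g.permCongrHom.toMonoidHom.comp
    { toFun := Equiv.optionCongr
      map_one' := Equiv.optionCongr_refl
      map_mul' := fun e f => Equiv.ext fun o => by cases o <;> rfl }

theorem relab_apply {α : Type*} (g : Option α ≃ GolayPt) (σ : Equiv.Perm α) (o : Option α) :
    relab g σ (g o) = g (o.map σ) := by
  simp [relab]

theorem octDerived_steiner {α : Type*} [Fintype α] (g : Option α ≃ GolayPt) :
    IsSteinerSystem 4 7 (octDerived g) := by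
  have h := derived_steiner (t := 4) (k := 7) octads_steiner
    ⟨fun x => g (some x), g.injective.comp (Option.some_injective _)⟩ (g none)
    (fun x hx => Option.some_ne_none x (g.injective hx)) (fun y hy => by
      obtain ⟨o, rfl⟩ := g.surjective y
      cases o with
      | none => exact absurd rfl hy
      | some x => exact ⟨x, rfl⟩)
  simpa [octDerived, Finset.map_eq_image] using h

theorem smul_insert_image {α : Type*} (k : Equiv.Perm GolayPt) (a : GolayPt) (b : Finset α)
    (f : α → GolayPt) [DecidableEq α] :
    k • insert a (b.image f) = insert (k a) (b.image fun x => k (f x)) := by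
  rw [perm_smul_finset, Finset.image_insert, Finset.image_image]
  rfl

theorem exists_M24_to_base (a : GolayPt) : ∃ k ∈ M24, k a = pt 0 := by
  obtain ⟨k, hk, h⟩ := M24_exists_map (k := 1) (by omega)
    ⟨fun _ => a, fun _ _ _ => Subsingleton.elim _ _⟩
    ⟨fun _ => pt 0, fun _ _ _ => Subsingleton.elim _ _⟩
  exact ⟨k, hk, h 0⟩

theorem iso23 {α : Type*} [Fintype α] [DecidableEq α] (hα : Fintype.card α = 23)
    {B : Set (Finset α)} (hB : IsSteinerSystem 4 7 B) :
    ∃ g : Option α ≃ GolayPt, g none = pt 0 ∧ B = octDerived g := by
  obtain ⟨p⟩ : Nonempty α := Fintype.card_pos_iff.1 (by omega)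
  set ι : {x : α // x ≠ p} ↪ α := Function.Embedding.subtype _
  have hd := derived_steiner (t := 3) (k := 6) hB ι p (fun x => x.2) fun y hy => ⟨⟨y, hy⟩, rfl⟩
  obtain ⟨e, he⟩ := iso_model22 (by rw [Fintype.card_subtype_compl, Fintype.card_subtype_eq, hα]) hd
  let jf : Option α → GolayPt := fun o => match o with
    | none => pt 0
    | some x => if h : x = p then pt 1 else pt ((e ⟨x, h⟩).val + 2)
  have jinj : Function.Injective jf := by
    have key : ∀ a b : ℕ, a < 24 → b < 24 → pt a = pt b → a = b := fun a b ha hb h => by
      have := congrArg (fun q => (ptEquiv q).val) h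
      simpa [ptEquiv_pt ha, ptEquiv_pt hb] using this
    intro o o' h
    rcases o with _ | x <;> rcases o' with _ | y <;> simp only [jf] at h
    · rfl
    · split_ifs at h
      · exact absurd h pt01_ne
      · exact absurd (key _ _ (by omega) (by omega) h) (by omega)
    · split_ifs at h
      · exact absurd h.symm pt01_ne
      · exact absurd (key _ _ (by omega) (by omega) h) (by omega)
    · split_ifs at h with hx hy hy
      · rw [hx, hy]
      · exact absurd (key _ _ (by omega) (by omega) h) (by omega)
      · exact absurd (key _ _ (by omega) (by omega) h) (by omega)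
      · have := key _ _ (by omega) (by omega) h
        exact congrArg some (Subtype.mk_eq_mk.1 (e.injective (Fin.ext (by omega))))
  set j : Option α ≃ GolayPt := Equiv.ofBijective jf
    ((Fintype.bijective_iff_injective_and_card jf).2
      ⟨jinj, by rw [Fintype.card_option, hα, Fintype.card_congr ptEquiv, Fintype.card_fin]⟩) with hj
  have hblocks : ∀ m ∈ Path.model22, ∃ b ∈ B, p ∈ b ∧
      insert (pt 0) (b.image fun x => j (some x)) = hexOctad m := by
    intro m hm
    have hmem : Path.blockSet 22 m ∈ model22Set := ⟨m, hm, rfl⟩
    rw [← he] at hmem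
    obtain ⟨b0, hb0, hbe⟩ := hmem
    refine ⟨insert p (b0.map ι), hb0, Finset.mem_insert_self _ _, ?_⟩
    ext q
    obtain ⟨o, rfl⟩ := j.surjective q
    rw [hexOctad, mem_toSet]
    rcases o with _ | x
    · simp [hj, jf, ptEquiv_pt, testBit_hex]
    by_cases hx : x = p
    · subst hx
      simp [hj, jf, ptEquiv_pt, testBit_hex]
    · have hval : j (some x) = pt ((e ⟨x, hx⟩).val + 2) := by simp [hj, jf, hx]
      rw [Finset.mem_insert, show pt 0 = j none from rfl, j.injective.eq_iff,
        Finset.mem_image, hval, ptEquiv_pt (by omega), testBit_hex,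
        if_neg (by omega), Nat.add_sub_cancel, ← Path.mem_blockSet, ← hbe, Finset.mem_image]
      constructor
      · rintro (h | ⟨y, hy, hyx⟩)
        · exact absurd h (Option.some_ne_none x)
        · rw [← hval] at hyx
          obtain rfl := Option.some_injective _ (j.injective hyx)
          simp only [Finset.mem_insert, hx, false_or, Finset.mem_map] at hy
          obtain ⟨z, hz, hzy⟩ := hy
          obtain rfl : z = ⟨y, hx⟩ := Subtype.ext hzy
          exact ⟨_, hz, rfl⟩
      · rintro ⟨z, hz, hze⟩
        obtain rfl := e.injective hze
        exact Or.inr ⟨x, Finset.mem_insert_of_mem (Finset.mem_map_of_mem ι hz), hval⟩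
  obtain ⟨g, -, hg⟩ := ext23 hα hB p j rfl (by simp [hj, jf]) hblocks
  obtain ⟨k, hk, hk0⟩ := exists_M24_to_base (g none)
  refine ⟨g.trans k, hk0, steiner_eq_of_subset (by omega) hB (octDerived_steiner _) fun b hb => ?_⟩
  have := octads_smul hk (hg b hb)
  rw [smul_insert_image] at this
  exact this

theorem iso23_iso {α β : Type*} [Fintype α] [DecidableEq α] [Fintype β] [DecidableEq β]
    (hα : Fintype.card α = 23) (hβ : Fintype.card β = 23) {B : Set (Finset α)}
    {B' : Set (Finset β)} (hB : IsSteinerSystem 4 7 B) (hB' : IsSteinerSystem 4 7 B') :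
    SetSystemIso B B' := by
  obtain ⟨g, hg, rfl⟩ := iso23 hα hB
  obtain ⟨g', hg', rfl⟩ := iso23 hβ hB'
  set h := g.trans g'.symm with hh
  have hn : h none = none := by rw [hh, Equiv.trans_apply, hg, ← hg', Equiv.symm_apply_apply]
  refine ⟨Equiv.removeNone h, steiner_eq_of_subset (by omega)
    (steiner_image (octDerived_steiner g) _) (octDerived_steiner g') ?_⟩
  rintro _ ⟨b, hb, rfl⟩
  have key : ∀ x, g' (some (Equiv.removeNone h x)) = g (some x) := by
    intro x
    cases hx : h (some x) with
    | none =>
      rw [← hn] at hx
      exact absurd (h.injective hx) (Option.some_ne_none x)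
    | some y =>
      rw [Equiv.removeNone_some h ⟨y, hx⟩, hh, Equiv.trans_apply, Equiv.apply_symm_apply]
  show insert _ _ ∈ octads
  rw [Finset.image_image, hg', ← hg, show ((fun x => g' (some x)) ∘ ⇑(Equiv.removeNone h)) =
    (fun x => g (some x)) from funext key]
  exact hb

theorem map_relab_eq {α : Type*} [Fintype α] [DecidableEq α] (g : Option α ≃ GolayPt)
    (hg : g none = pt 0) : (setSystemAut (octDerived g)).map (relab g) = stabOne := by
  ext k
  rw [stabOne, fix_nums_singleton (by omega), Subgroup.mem_map]
  constructor
  · rintro ⟨σ, hσ, rfl⟩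
    rw [mem_setSystemAut_iff] at hσ
    have h0 : relab g σ (pt 0) = pt 0 := by rw [← hg, relab_apply]; rfl
    refine ⟨smul_octads_mem_M24 _ fun o ho h0o => ?_, h0⟩
    set b : Finset α := Finset.univ.filter fun x => g (some x) ∈ o with hb
    have ho' : insert (g none) (b.image fun x => g (some x)) = o := by
      ext q
      obtain ⟨u, rfl⟩ := g.surjective q
      cases u with
      | none => simp [hg, h0o]
      | some x => simp [hb]
    have hbB : b ∈ octDerived g := by
      show insert _ _ ∈ octads
      rwa [ho']
    rw [← ho', smul_insert_image, hg, h0]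
    have := hσ b hbB
    show insert (pt 0) _ ∈ octads
    have e : (b.image fun x => relab g σ (g (some x))) = (b.image σ).image fun x => g (some x) := by
      rw [Finset.image_image]
      exact Finset.image_congr fun x _ => relab_apply g σ (some x)
    rw [e, ← hg]
    exact this
  · rintro ⟨hk, hk0⟩
    set h := (g.trans k).trans g.symm with hh
    have hn : h none = none := by
      rw [hh, Equiv.trans_apply, Equiv.trans_apply, hg, hk0, ← hg, Equiv.symm_apply_apply]
    have key : ∀ x, g (some (Equiv.removeNone h x)) = k (g (some x)) := by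
      intro x
      cases hx : h (some x) with
      | none =>
        rw [← hn] at hx
        exact absurd (h.injective hx) (Option.some_ne_none x)
      | some y =>
        rw [Equiv.removeNone_some h ⟨y, hx⟩, hh, Equiv.trans_apply, Equiv.apply_symm_apply,
          Equiv.trans_apply]
    refine ⟨Equiv.removeNone h, ?_, ?_⟩
    · rw [mem_setSystemAut_iff]
      intro b hb
      have := octads_smul hk (show insert _ _ ∈ octads from hb)
      rw [smul_insert_image, hg, hk0] at this
      show insert _ _ ∈ octads
      rw [Finset.image_image, hg, show ((fun x => g (some x)) ∘ ⇑(Equiv.removeNone h)) =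
        (fun x => k (g (some x))) from funext key]
      exact this
    · refine Equiv.ext fun q => ?_
      obtain ⟨u, rfl⟩ := g.surjective q
      rw [relab_apply]
      cases u with
      | none => rw [hg, hk0]; exact hg
      | some x => exact key x

theorem relab_injective {α : Type*} (g : Option α ≃ GolayPt) : Function.Injective (relab g) :=
  g.permCongrHom.injective.comp Equiv.optionCongr_injective

theorem aut23 {α : Type*} [Fintype α] [DecidableEq α] (hα : Fintype.card α = 23)
    {B : Set (Finset α)} (hB : IsSteinerSystem 4 7 B) :
    IsM23 (setSystemAut B) ∧ MulAction.IsMultiplyPretransitive (setSystemAut B) α 4 := by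
  obtain ⟨g, hg, rfl⟩ := iso23 hα hB
  let φ : setSystemAut (octDerived g) ≃* stabOne :=
    (Subgroup.equivMapOfInjective _ _ (relab_injective g)).trans
      (MulEquiv.subgroupCongr (map_relab_eq g hg))
  refine ⟨⟨?_, ?_⟩, ⟨fun x y => ?_⟩⟩
  · haveI := stabOne_simple
    exact φ.isSimpleGroup
  · rw [Nat.card_congr φ.toEquiv, card_stabOne]
  · let ext5 : (Fin 4 ↪ α) → (Fin 5 ↪ GolayPt) := fun z =>
      ⟨fun i => g (Fin.cases none (fun i => some (z i)) i), by
        intro i i' h
        have h' := g.injective h
        cases i using Fin.cases with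
        | zero =>
          cases i' using Fin.cases with
          | zero => rfl
          | succ i' => simp at h'
        | succ i =>
          cases i' using Fin.cases with
          | zero => simp at h'
          | succ i' => simpa using h'⟩
    obtain ⟨k, hk, hkxy⟩ := M24_exists_map (k := 5) le_rfl (ext5 x) (ext5 y)
    have hk0 : k (pt 0) = pt 0 := by
      have := hkxy 0
      change k (g none) = g none at this
      rwa [hg] at this
    have hmem : k ∈ stabOne := by
      rw [stabOne, fix_nums_singleton (by omega)]
      exact ⟨hk, hk0⟩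
    rw [← map_relab_eq g hg, Subgroup.mem_map] at hmem
    obtain ⟨σ, hσ, rfl⟩ := hmem
    refine ⟨⟨σ, hσ⟩, DFunLike.ext _ _ fun i => ?_⟩
    have := hkxy i.succ
    change relab g σ (g (some (x i))) = g (some (y i)) at this
    rw [relab_apply] at this
    exact Option.some_injective _ (g.injective this)

end CfsgLib.Golay
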