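import Cfsg.Prelude.Def_SporadicCombinatorics
import Cfsg.Agent.Lib.Golay.Design

/-!
# The ternary code of length twelve: a basis, weights, and the weight-six supports
-/

set_option autoImplicit false

namespace CfsgLib.Golay.Ternary

open Cfsg

/-- The numbering of the twelve positions, three to a column. -/
def ix : ArrayPt ≃ Fin 12 := (finProdFinEquiv (m := 4) (n := 3) : Fin 4 × Fin 3 ≃ Fin 12)

/-- The six basis words, by position. -/
def rows : Fin 6 → Fin 12 → ZMod 3 :=
  ![![1, 0, 0, 0, 0, 1, 0, 0, 1, 1, 1, 2], ![0, 1, 0, 0, 0, 1, 0, 2, 2, 2, 0, 2],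
    ![0, 0, 1, 0, 0, 1, 0, 1, 0, 2, 1, 1], ![0, 0, 0, 1, 0, 2, 0, 2, 1, 2, 1, 0],
    ![0, 0, 0, 0, 1, 2, 0, 1, 2, 0, 1, 2], ![0, 0, 0, 0, 0, 0, 1, 1, 1, 2, 2, 2]]

/-- The six pivot positions. -/
def pivot : Fin 6 → Fin 12 := ![0, 1, 2, 3, 4, 6]

/-- The combination of the basis words. -/
def word (a : Fin 6 → ZMod 3) : ArrayPt → ZMod 3 := fun p => ∑ k, a k * rows k (ix p)

/-- The conditions with the tetracode parametrised. -/
def testWord (x : ArrayPt → ZMod 3) : Bool :=
  decide (∃ s : ZMod 3, (∀ i : Fin 4, ∑ r : ZMod 3, x (i, r) = -s) ∧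
    ∀ a b : ZMod 3, ∑ i : Fin 4, x (i, a * (![0, 1, 1, 1] : Fin 4 → ZMod 3) i + b * (![1, 0, 1, 2] : Fin 4 → ZMod 3) i) = s)

theorem mem_iff_test (x : ArrayPt → ZMod 3) : x ∈ ternaryGolayCode ↔ testWord x = true := by
  rw [testWord, decide_eq_true_eq]
  constructor
  · rintro ⟨s, h1, h2⟩
    exact ⟨s, h1, fun a b => h2 (a • (![0, 1, 1, 1] : Fin 4 → ZMod 3) + b • ![1, 0, 1, 2])
      (Submodule.mem_span_pair.2 ⟨a, b, rfl⟩)⟩
  · rintro ⟨s, h1, h2⟩
    refine ⟨s, h1, fun t ht => ?_⟩
    obtain ⟨a, b, rfl⟩ := Submodule.mem_span_pair.1 ht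
    exact h2 a b

theorem rows_test : ∀ k, testWord (fun p => rows k (ix p)) = true := by decide +kernel

theorem word_mem (a : Fin 6 → ZMod 3) : word a ∈ ternaryGolayCode := by
  have : word a = ∑ k, a k • fun p => rows k (ix p) := by
    funext p; simp [word, Finset.sum_apply]
  rw [this]
  exact Submodule.sum_mem _ fun k _ => Submodule.smul_mem _ _ ((mem_iff_test _).2 (rows_test k))

theorem word_pivot : ∀ a : Fin 6 → ZMod 3, (fun k => word a (ix.symm (pivot k))) = a := by
  intro a
  have h : ∀ k l, rows l (pivot k) = if l = k then 1 else 0 := by decide +kernel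
  funext k
  simp [word, h]

theorem word_injective : Function.Injective word := fun a b e => by
  rw [← word_pivot a, ← word_pivot b, e]

/-- The positions without pivot. -/
def free : Fin 6 → Fin 12 := ![5, 7, 8, 9, 10, 11]

/-- A word vanishing at the pivots. -/
def offPivot (f : Fin 6 → ZMod 3) : ArrayPt → ZMod 3 := fun p => ∑ k, if free k = ix p then f k else 0

theorem offPivot_test : ∀ f : Fin 6 → ZMod 3, testWord (offPivot f) = true → f = 0 := by decide +kernel

theorem mem_iff {x : ArrayPt → ZMod 3} : x ∈ ternaryGolayCode ↔ ∃ a, word a = x := by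
  refine ⟨fun hx => ⟨fun k => x (ix.symm (pivot k)), ?_⟩, ?_⟩
  · set a := fun k => x (ix.symm (pivot k)) with ha
    set y := x - word a with hy
    have hy0 : ∀ k, y (ix.symm (pivot k)) = 0 := fun k => by
      rw [hy, Pi.sub_apply, show word a (ix.symm (pivot k)) = a k from congrFun (word_pivot a) k, ha, sub_self]
    have hsplit : ∀ j : Fin 12, (∃ k, pivot k = j) ∨ ∃ k, free k = j ∧ ∀ l, free l = j → l = k := by decide +kernel
    have hoff : y = offPivot fun k => y (ix.symm (free k)) := by
      funext p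
      rcases hsplit (ix p) with ⟨k, hk⟩ | ⟨k, hk, huniq⟩
      · have hne : ∀ l k', free l ≠ pivot k' := by decide +kernel
        rw [offPivot, Finset.sum_eq_zero fun l _ => if_neg fun h => hne l k (h.trans hk.symm),
          ← ix.symm_apply_apply p, ← hk, hy0]
      · rw [offPivot, Finset.sum_eq_single k (fun l _ hl => if_neg fun h => hl (huniq l h)) (by simp), if_pos hk,
          hk, ix.symm_apply_apply]
    have hz := offPivot_test _ (by rw [← hoff, ← mem_iff_test]; exact sub_mem hx (word_mem a))
    have : y = 0 := by rw [hoff, hz]; funext p; simp [offPivot]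
    exact (sub_eq_zero.1 (show x - word a = 0 from this)).symm
  · rintro ⟨a, rfl⟩
    exact word_mem a

theorem range_word : (ternaryGolayCode : Set (ArrayPt → ZMod 3)) = Set.range word :=
  Set.ext fun _ => mem_iff

theorem card_code : Nat.card ↥ternaryGolayCode = 729 := by
  rw [show Nat.card ↥ternaryGolayCode = Nat.card ↑(Set.range word) from
    Nat.card_congr (Equiv.setCongr range_word), Nat.card_range_of_injective word_injective]
  simp

theorem ncard_filter (P : (ArrayPt → ZMod 3) → Prop) [DecidablePred P] :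
    {x : ArrayPt → ZMod 3 | x ∈ ternaryGolayCode ∧ P x}.ncard =
      (Finset.univ.filter fun a => P (word a)).card := by
  rw [← Set.ncard_coe_finset, ← Set.ncard_image_of_injective _ word_injective]
  congr 1
  ext x
  simp only [Set.mem_ofPred_eq, Finset.coe_filter, Finset.mem_univ, true_and, Set.mem_image, mem_iff]
  constructor
  · rintro ⟨⟨a, rfl⟩, hP⟩; exact ⟨a, hP, rfl⟩
  · rintro ⟨a, hP, rfl⟩; exact ⟨⟨a, rfl⟩, hP⟩

/-! ### Supports as masks -/

/-- The set of positions of a mask. -/
def tSet (n : ℕ) : Finset ArrayPt := Finset.univ.filter fun p => n.testBit (ix p).val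

/-- The mask of the support of a word. -/
def supMask (x : ArrayPt → ZMod 3) : ℕ :=
  (List.finRange 12).foldr (fun j acc => if x (ix.symm j) ≠ 0 then 2 ^ j.val ||| acc else acc) 0

theorem testBit_foldr (f : Fin 12 → Bool) (i : ℕ) : ∀ l : List (Fin 12),
    (l.foldr (fun j acc => if f j then 2 ^ j.val ||| acc else acc) 0).testBit i = true ↔
      ∃ j ∈ l, f j = true ∧ j.val = i
  | [] => by simp
  | j :: l => by
    rw [List.foldr_cons]
    split_ifs with h
    · rw [Nat.testBit_lor, Bool.or_eq_true, testBit_foldr f i l, Nat.testBit_two_pow, decide_eq_true_eq]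
      simp [h]
    · rw [testBit_foldr f i l]
      simp [h]

theorem tSet_supMask (x : ArrayPt → ZMod 3) : tSet (supMask x) = ternarySupport x := by
  ext p
  simp only [tSet, ternarySupport, Finset.mem_filter, Finset.mem_univ, true_and]
  have := testBit_foldr (fun j => decide (x (ix.symm j) ≠ 0)) (ix p).val (List.finRange 12)
  simp only [decide_eq_true_eq] at this
  rw [supMask, this]
  constructor
  · rintro ⟨j, -, h, e⟩; rw [Fin.ext e, ix.symm_apply_apply] at h; exact h
  · intro h; exact ⟨ix p, List.mem_finRange _, by rwa [ix.symm_apply_apply], rfl⟩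

theorem exists_mask (s : Finset ArrayPt) : ∃ n < 4096, tSet n = s := by
  let x : ArrayPt → ZMod 3 := fun p => if p ∈ s then 1 else 0
  refine ⟨supMask x, ?_, ?_⟩
  · refine Nat.lt_pow_two_of_testBit (n := 12) _ fun i hi => ?_
    by_contra h
    rw [Bool.not_eq_false] at h
    have := testBit_foldr (fun j => decide (x (ix.symm j) ≠ 0)) i (List.finRange 12)
    simp only [decide_eq_true_eq] at this
    obtain ⟨j, -, -, e⟩ := this.1 h
    omega
  · rw [tSet_supMask]
    ext p; simp [ternarySupport, x]

theorem tSet_subset {a b : ℕ} (ha : a < 4096) : tSet a ⊆ tSet b ↔ a &&& b = a := by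
  constructor
  · intro h
    refine Nat.eq_of_testBit_eq fun i => ?_
    rw [Nat.testBit_and]
    by_cases hi : i < 12
    · cases hai : a.testBit i
      · rfl
      · have := @h (ix.symm ⟨i, hi⟩) (by simp [tSet, hai])
        simp only [tSet, Finset.mem_filter, Finset.mem_univ, true_and, Equiv.apply_symm_apply] at this
        rw [this]; rfl
    · rw [Nat.testBit_lt_two_pow (lt_of_lt_of_le ha (show 2 ^ 12 ≤ 2 ^ i from Nat.pow_le_pow_right (by omega) (by omega)))]
      rfl
  · intro h p
    simp only [tSet, Finset.mem_filter, Finset.mem_univ, true_and]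
    intro hp
    rw [← h, Nat.testBit_and, Bool.and_eq_true] at hp
    exact hp.2

end CfsgLib.Golay.Ternary
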