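import Cfsg.Prelude.Def_SporadicB
import Cfsg.Agent.Lib.Invol.Dihedral

/-!
First facts on sets of 3-transpositions, for the statements of the second sporadic block.
-/

set_option autoImplicit false

namespace CfsgLib.Golay

open Cfsg

variable {G : Type*} [Group G] {E : Set G}

theorem tt_sq (hE : IsThreeTranspositionSet E) {a : G} (ha : a ∈ E) : a * a = 1 :=
  CfsgLib.Invol.mul_self_of_orderOf_two (hE.1 a ha)

theorem tt_inv (hE : IsThreeTranspositionSet E) {a : G} (ha : a ∈ E) : a⁻¹ = a :=
  CfsgLib.Invol.inv_eq_of_orderOf_two (hE.1 a ha)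

theorem tt_cube (hE : IsThreeTranspositionSet E) {a b : G} (ha : a ∈ E) (hb : b ∈ E)
    (h : ¬ Commute a b) : (a * b) ^ 3 = 1 := by
  rcases hE.2 a ha b hb with h2 | h3
  · exfalso
    apply h
    have : a * b = (a * b)⁻¹ := eq_inv_of_mul_eq_one_left (by rw [← sq]; exact h2)
    rwa [mul_inv_rev, tt_inv hE ha, tt_inv hE hb] at this
  · exact h3

theorem tt_braid (hE : IsThreeTranspositionSet E) {a b : G} (ha : a ∈ E) (hb : b ∈ E)
    (h : ¬ Commute a b) : a * b * a = b * a * b := by
  have h' : (a * b * a) * (b * a * b) = 1 := by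
    rw [← tt_cube hE ha hb h, pow_succ, pow_two]; group
  rw [mul_eq_one_iff_eq_inv] at h'
  rw [h', mul_inv_rev, mul_inv_rev, tt_inv hE ha, tt_inv hE hb, mul_assoc]

theorem tt_commute_mul (hE : IsThreeTranspositionSet E) {a b e : G} (ha : a ∈ E) (hb : b ∈ E)
    (he : e ∈ E) (hab : a ≠ b) (hcomm : Commute a b) :
    Commute e (a * b) ↔ Commute e a ∧ Commute e b := by
  refine ⟨fun h => ?_, fun h => h.1.mul_right h.2⟩
  have e1 : ∀ x, e * (e * x) = x := fun x => by rw [← mul_assoc, tt_sq hE he, one_mul]
  have b1 : b * b = 1 := tt_sq hE hb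
  by_cases hea : Commute e a
  · refine ⟨hea, ?_⟩
    have := hea.inv_right.mul_right h
    simpa using this
  exfalso
  by_cases heb : Commute e b
  · apply hea
    have := h.mul_right heb.inv_right
    simpa using this
  have k1 : (a * e * a) * (b * e * b) = a * b := by
    rw [← tt_braid hE he ha hea, ← tt_braid hE he hb heb]
    calc e * a * e * (e * b * e) = e * a * (e * (e * (b * e))) := by group
      _ = e * (a * b) * e := by rw [e1]; group
      _ = a * b := by rw [h.eq, mul_assoc, tt_sq hE he, mul_one]
  have k2 : e * (a * b * e) * b = b := by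
    refine mul_left_cancel (a := a) ?_
    calc a * (e * (a * b * e) * b) = (a * e * a) * (b * e * b) := by group
      _ = a * b := k1
  rw [← h.eq, e1, mul_assoc, b1, mul_one] at k2
  exact hab k2

theorem tt_commute_mul_three (hE : IsThreeTranspositionSet E) {a b c e : G} (ha : a ∈ E)
    (hb : b ∈ E) (hc : c ∈ E) (he : e ∈ E) (hab : a ≠ b) (hac : a ≠ c) (hbc : b ≠ c)
    (h₁ : Commute a b) (h₂ : Commute a c) (h₃ : Commute b c) :
    Commute e (a * b * c) ↔ Commute e a ∧ Commute e b ∧ Commute e c := by
  refine ⟨fun h => ?_, fun h => (h.1.mul_right h.2.1).mul_right h.2.2⟩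
  by_cases hea : Commute e a
  · have h' : Commute e (b * c) := by
      have := hea.inv_right.mul_right h
      simpa [mul_assoc] using this
    exact ⟨hea, (tt_commute_mul hE hb hc he hbc h₃).1 h'⟩
  by_cases hec : Commute e c
  · have h' : Commute e (a * b) := by
      have := h.mul_right hec.inv_right
      simpa [mul_assoc] using this
    obtain ⟨x, y⟩ := (tt_commute_mul hE ha hb he hab h₁).1 h'
    exact absurd x hea
  by_cases heb : Commute e b
  · have h' : Commute e (a * c) := by
      have := h.mul_right heb.inv_right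
      rw [mul_assoc (a * b), h₃.symm.inv_right.eq, ← mul_assoc, mul_inv_cancel_right] at this
      exact this
    obtain ⟨x, y⟩ := (tt_commute_mul hE ha hc he hac h₂).1 h'
    exact absurd x hea
  exfalso
  have e1 : ∀ x, e * (e * x) = x := fun x => by rw [← mul_assoc, tt_sq hE he, one_mul]
  have b1 : ∀ x, b * (b * x) = x := fun x => by rw [← mul_assoc, tt_sq hE hb, one_mul]
  have c1 : ∀ x, c * (c * x) = x := fun x => by rw [← mul_assoc, tt_sq hE hc, one_mul]
  have k1 : e * a * b * e = a * b * e * c := by
    calc e * a * b * e = e * a * b * (c * (c * e)) := by rw [c1]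
      _ = e * (a * b * c) * (c * e) := by group
      _ = (a * b * c) * e * (c * e) := by rw [h.eq]
      _ = (a * b * c) * (e * c * e) := by group
      _ = (a * b * c) * (c * e * c) := by rw [tt_braid hE he hc hec]
      _ = a * b * (c * (c * (e * c))) := by group
      _ = a * b * e * c := by rw [c1]; group
  have k2 : (a * e * a) * (b * e * b) * (c * e * c) = a * b * c := by
    rw [← tt_braid hE he ha hea, ← tt_braid hE he hb heb, ← tt_braid hE he hc hec]
    calc e * a * e * (e * b * e) * (e * c * e)
        = e * a * (e * (e * (b * (e * (e * (c * e)))))) := by group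
      _ = e * (a * b * c) * e := by rw [e1, e1]; group
      _ = a * b * c := by rw [h.eq, mul_assoc, tt_sq hE he, mul_one]
  have k3 : (e * a * b * e) * b * c * e * c = b * c := by
    refine mul_left_cancel (a := a) ?_
    calc a * (e * a * b * e * b * c * e * c) = (a * e * a) * (b * e * b) * (c * e * c) := by group
      _ = a * (b * c) := by rw [k2]; group
  rw [k1] at k3
  have k4 : a * e * (b * c) = b * c := by
    calc a * e * (b * c) = a * (b * (b * (e * (b * c)))) := by rw [b1]; group
      _ = a * b * (b * e * b) * c := by group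
      _ = a * b * (e * b * e) * c := by rw [tt_braid hE he hb heb]
      _ = a * b * e * (c * (c * (b * e * c))) := by rw [c1]; group
      _ = a * b * e * c * (c * b) * e * c := by group
      _ = a * b * e * c * (b * c) * e * c := by rw [h₃.eq]
      _ = a * b * e * c * b * c * e * c := by group
      _ = b * c := k3
  have k5 : a * e = 1 := mul_eq_right.1 k4
  apply hea
  have : e = a := by
    rw [← tt_inv hE ha]; exact eq_inv_of_mul_eq_one_right k5
  rw [this]

end CfsgLib.Golay
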