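import Cfsg.Agent.Lib.Golay.UniqSmall
import Cfsg.Agent.Lib.Golay.M24Sub
import Cfsg.Agent.Lib.Golay.CodeUniq

/-!
The systems on 23 and 22 points inside the octads: a family of heptads compatible with the 77
hexads through two points extends to octads through one of the two.
-/

set_option autoImplicit false

namespace CfsgLib.Golay

open Cfsg

open scoped Pointwise

/-- Twelve octads through the first point which span the code; all but the first contain the
second point. -/
def ext23Words : List ℕ :=
  [15777, 5279, 18147, 45159, 69395, 140167, 272595, 551943, 1053483, 2115979, 4196943, 8398155]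

/-- The basis of the code in terms of these words. -/
def ext23Comb : List ℕ := [3189, 1179, 3402, 1762, 2484, 1974, 2842, 2914, 3790, 490, 984, 3646]

theorem ext23Words_span : ext23Comb.map (selXor ext23Words) = golayBasis := by decide +kernel

theorem ext23Words_octads : ∀ w ∈ ext23Words, inCode w = true ∧ bitCount w = 8 ∧ w.testBit 0 = true := by
  decide +kernel

theorem ext23Words_tail : ∀ w ∈ ext23Words.tail, w % 4 = 3 ∧ Path.model22.contains (w / 4) = true := by
  decide +kernel

theorem ext23Words_head : ext23Words = 15777 :: ext23Words.tail ∧ Nat.testBit 15777 1 = false := by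
  decide +kernel

/-- The octad of a model hexad. -/
def hexOctad (m : ℕ) : Finset GolayPt := toSet (4 * m + 3)

theorem hexOctad_mem : ∀ m ∈ Path.model22, inCode (4 * m + 3) = true ∧ bitCount (4 * m + 3) = 8 := by
  decide +kernel

theorem hexOctad_octad {m : ℕ} (hm : m ∈ Path.model22) : hexOctad m ∈ octads :=
  mem_wordsOfWeight.2 ⟨4 * m + 3, mem_golayList_of_inCode (hexOctad_mem m hm).1,
    (hexOctad_mem m hm).2, rfl⟩

theorem allOctads_check : allSpan (fun n => !(bitCount n == 8 && n.testBit 0 && n.testBit 1) ||
    (Path.model22.contains (n / 4) && n % 4 == 3)) golayBasis 0 = true := by decide +kernel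

theorem allOctads : ∀ n ∈ golayList, bitCount n = 8 → n.testBit 0 = true → n.testBit 1 = true →
    n / 4 ∈ Path.model22 ∧ 4 * (n / 4) + 3 = n := by
  intro n hn h8 h0 h1
  have h := forall_golayList allOctads_check n hn
  simp only [h8, h0, h1, beq_self_eq_true, Bool.and_self, Bool.not_true, Bool.false_or,
    Bool.and_eq_true, beq_iff_eq, List.contains_iff_mem] at h
  exact ⟨h.1, by omega⟩

theorem testBit_hex (m i : ℕ) :
    (4 * m + 3).testBit i = if i < 2 then true else m.testBit (i - 2) := by
  rw [show 4 * m + 3 = 2 ^ 2 * m + 3 by ring, Nat.testBit_two_pow_mul_add _ (by omega)]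
  split
  · interval_cases i <;> decide
  · rfl

theorem smul_word_mem_M24 (g : Equiv.Perm GolayPt)
    (h : ∀ w ∈ ext23Words, g • toSet w ∈ supports (golayCode : Set (GolayPt → ZMod 2))) :
    g ∈ M24 := by
  refine mem_M24_of_basis g fun b hb => ?_
  rw [← ext23Words_span] at hb
  obtain ⟨c, -, rfl⟩ := List.mem_map.1 hb
  refine spanList_induction (bs := ext23Words)
    (P := fun n => g • toSet n ∈ supports (golayCode : Set (GolayPt → ZMod 2))) ?_ ?_ _
    (selXor_mem _ c)
  · have h0 : toSet 0 = ∅ := by ext p; simp [mem_toSet]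
    exact mem_supports.2 ⟨0, zero_mem_spanList _, by rw [h0, Finset.smul_finset_empty]⟩
  · intro w hw n hn
    rw [toSet_xor, Finset.smul_finset_symmDiff]
    exact symmDiff_mem_supports (h w hw) hn

theorem smul_octads_mem_M24 (g : Equiv.Perm GolayPt)
    (h : ∀ o ∈ octads, pt 0 ∈ o → g • o ∈ octads) : g ∈ M24 := by
  refine smul_word_mem_M24 g fun w hw => ?_
  obtain ⟨h1, h2, h3⟩ := ext23Words_octads w hw
  exact (h _ (mem_wordsOfWeight.2 ⟨w, mem_golayList_of_inCode h1, h2, rfl⟩)
    ((pt_mem_toSet (by omega)).2 h3)).1

theorem natCast_zmod_two_of_odd {n : ℕ} (h : n % 2 = 1) : (n : ZMod 2) = 1 :=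
  (ZMod.natCast_eq_one_iff_odd).2 (Nat.odd_iff.2 h)

/-- A heptad meeting the hexads oddly is an octad less one of the two points. -/
theorem heptad_octad {h : Finset GolayPt} (hc : h.card = 7) (h0 : pt 0 ∉ h) (h1 : pt 1 ∉ h)
    (hodd : ∀ m ∈ Path.model22, (h ∩ hexOctad m).card % 2 = 1) :
    insert (pt 0) h ∈ octads ∨ insert (pt 1) h ∈ octads := by
  have main : ∀ i : ℕ, i < 2 → pt i ∉ h →
      ((h ∩ toSet 15777).card + (if i = 0 then 1 else 0)) % 2 = 0 → insert (pt i) h ∈ octads := by
    intro i hi hih hpar
    obtain ⟨n, -, hn⟩ := exists_mask (insert (pt i) h)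
    have horth : ∀ w ∈ ext23Words, ((bitCount (n &&& w) : ℕ) : ZMod 2) = 0 := by
      intro w hw
      rw [← card_toSet, toSet_and, hn, ZMod.natCast_eq_zero_iff_even, Nat.even_iff]
      rw [ext23Words_head.1] at hw
      rcases List.mem_cons.1 hw with rfl | hw
      · by_cases hi0 : i = 0
        · subst hi0
          rw [Finset.insert_inter_of_mem ((pt_mem_toSet (by omega)).2
            (ext23Words_octads 15777 (by rw [ext23Words_head.1]; exact List.mem_cons_self)).2.2),
            Finset.card_insert_of_notMem (fun hm => hih (Finset.mem_inter.1 hm).1)]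
          simpa using hpar
        · obtain rfl : i = 1 := by omega
          rw [Finset.insert_inter_of_notMem (fun hm => by
            rw [pt_mem_toSet (by omega), ext23Words_head.2] at hm
            exact Bool.noConfusion hm)]
          simpa using hpar
      · obtain ⟨hw4, hwm⟩ := ext23Words_tail w hw
        have := hodd _ (List.contains_iff_mem.1 hwm)
        rw [hexOctad, show 4 * (w / 4) + 3 = w by omega] at this
        rw [Finset.insert_inter_of_mem ((pt_mem_toSet (by omega)).2 (by
          have e := testBit_hex (w / 4) i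
          rw [show 4 * (w / 4) + 3 = w by omega, if_pos hi] at e
          exact e)), Finset.card_insert_of_notMem (fun hm => hih (Finset.mem_inter.1 hm).1)]
        omega
    refine ⟨supports_of_orth fun b hb => ?_, ?_⟩
    · rw [← ext23Words_span] at hb
      obtain ⟨c, -, rfl⟩ := List.mem_map.1 hb
      rw [← hn, ← toSet_and, card_toSet]
      exact orth_span horth _ (selXor_mem _ c)
    · rw [Finset.card_insert_of_notMem hih, hc]
  rcases Nat.mod_two_eq_zero_or_one (h ∩ toSet 15777).card with hp | hp
  · exact Or.inr (main 1 (by omega) h1 (by simpa using hp))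
  · exact Or.inl (main 0 (by omega) h0 (by simp only [if_pos]; omega))

theorem pt01_ne : pt 0 ≠ pt 1 := by decide +kernel

/-- A system on 23 points whose blocks through a point are the model hexads extends to octads. -/
theorem ext23 {α : Type*} [Fintype α] [DecidableEq α] (hα : Fintype.card α = 23)
    {B : Set (Finset α)} (hB : IsSteinerSystem 4 7 B) (p : α) (j : Option α ≃ GolayPt)
    (hj0 : j none = pt 0) (hj1 : j (some p) = pt 1)
    (hblocks : ∀ m ∈ Path.model22, ∃ b ∈ B, p ∈ b ∧
      insert (pt 0) (b.image (fun x => j (some x))) = hexOctad m) :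
    ∃ g : Option α ≃ GolayPt, (g = j ∨ g = (Equiv.swap none (some p)).trans j) ∧
      ∀ b ∈ B, insert (g none) (b.image fun x => g (some x)) ∈ octads := by
  set f : α → GolayPt := fun x => j (some x) with hf
  have hfinj : Function.Injective f := fun x y h => Option.some_injective _ (j.injective h)
  have hf0 : ∀ x, f x ≠ pt 0 := fun x h => by
    rw [← hj0] at h
    exact Option.some_ne_none x (j.injective h)
  have hα' : Fintype.card GolayPt = 24 := by rw [Fintype.card_congr ptEquiv, Fintype.card_fin]
  have inter_odd : ∀ b ∈ B, ∀ c ∈ B, b ≠ c → (b ∩ c).card % 2 = 1 := by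
    intro b hb c hc hbc
    obtain ⟨h0, h1, h2, h3⟩ := inter_S4723 hα hB hb
    have hp := interCount_pos (b := b) hc
    have hlt : (b ∩ c).card < 4 := by
      by_contra h
      exact hbc (steiner_two_blocks hB hb hc (by omega))
    interval_cases h : (b ∩ c).card <;> omega
  have hout : ∀ b ∈ B, p ∉ b →
      insert (pt 0) (b.image f) ∈ octads ∨ insert (pt 1) (b.image f) ∈ octads := by
    intro b hb hpb
    refine heptad_octad (by rw [Finset.card_image_of_injective _ hfinj, hB.1 b hb]) ?_ ?_ ?_
    · rw [Finset.mem_image]
      exact fun ⟨x, _, hx⟩ => hf0 x hx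
    · rw [Finset.mem_image]
      rintro ⟨x, hx, hx'⟩
      rw [← hj1] at hx'
      exact hpb (hfinj hx' ▸ hx)
    · intro m hm
      obtain ⟨c, hc, hpc, hcm⟩ := hblocks m hm
      rw [← hcm, Finset.inter_comm, Finset.insert_inter_of_notMem (by
        rw [Finset.mem_image]
        exact fun ⟨x, _, hx⟩ => hf0 x hx), ← Finset.image_inter _ _ hfinj,
        Finset.card_image_of_injective _ hfinj]
      exact inter_odd c hc b hb fun h => hpb (h ▸ hpc)
  -- within the system all heptads choose the same point
  have hsame : ∀ b ∈ B, p ∉ b → ∀ c ∈ B, p ∉ c → insert (pt 0) (b.image f) ∈ octads →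
      insert (pt 1) (c.image f) ∈ octads → False := by
    intro b hb hpb c hc hpc h1 h2
    by_cases hbc : b = c
    · subst hbc
      have hcard : (insert (pt 0) (b.image f) ∩ insert (pt 1) (b.image f)).card = 7 := by
        rw [show insert (pt 0) (b.image f) ∩ insert (pt 1) (b.image f) = b.image f from ?_,
          Finset.card_image_of_injective _ hfinj, hB.1 b hb]
        ext y
        simp only [Finset.mem_inter, Finset.mem_insert]
        refine ⟨?_, fun hy => ⟨Or.inr hy, Or.inr hy⟩⟩
        rintro ⟨rfl | h, h' | h'⟩
        exacts [absurd h' pt01_ne, h', h, h]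
      rcases s24_inter hα' octads_steiner h1 h2 with h | h | h | h <;> omega
    · have hcard : (insert (pt 0) (b.image f) ∩ insert (pt 1) (c.image f)).card = (b ∩ c).card := by
        rw [show insert (pt 0) (b.image f) ∩ insert (pt 1) (c.image f) = (b ∩ c).image f from ?_,
          Finset.card_image_of_injective _ hfinj]
        rw [Finset.image_inter _ _ hfinj]
        ext y
        simp only [Finset.mem_inter, Finset.mem_insert]
        refine ⟨?_, fun hy => ⟨Or.inr hy.1, Or.inr hy.2⟩⟩
        rintro ⟨rfl | h, h' | h'⟩
        · exact absurd h' pt01_ne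
        · obtain ⟨x, -, hx⟩ := Finset.mem_image.1 h'
          exact absurd hx (hf0 x)
        · rw [h'] at h
          obtain ⟨x, hx, hx'⟩ := Finset.mem_image.1 h
          rw [← hj1] at hx'
          exact absurd (hfinj hx' ▸ hx) hpb
        · exact ⟨h, h'⟩
      have := inter_odd b hb c hc hbc
      rcases s24_inter hα' octads_steiner h1 h2 with h | h | h | h <;> omega
  have hin : ∀ b ∈ B, p ∈ b → insert (pt 0) (b.image f) ∈ octads := by
    intro b hb hpb
    obtain ⟨x1, hx1, hx1'⟩ : ∃ x ∈ b, x ≠ p := Finset.exists_mem_ne (by rw [hB.1 b hb]; omega) p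
    -- a hexad through three further points of the block gives the same block
    obtain ⟨s, hs, hsc⟩ := Finset.exists_subset_card_eq (show 3 ≤ (b.erase p).card by
      rw [Finset.card_erase_of_mem hpb, hB.1 b hb]; omega)
    obtain ⟨o, ⟨ho, hso⟩, -⟩ := octads_steiner.2 (insert (pt 0) (insert (pt 1) (s.image f))) (by
      rw [Finset.card_insert_of_notMem, Finset.card_insert_of_notMem,
        Finset.card_image_of_injective _ hfinj, hsc]
      · rw [Finset.mem_image]
        rintro ⟨x, hx, hx'⟩
        rw [← hj1] at hx'
        exact Finset.notMem_erase p b (hfinj hx' ▸ hs hx)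
      · rw [Finset.mem_insert, Finset.mem_image]
        rintro (h | ⟨x, -, hx⟩)
        exacts [pt01_ne h, hf0 x hx])
    obtain ⟨⟨w, hw, hws⟩, how⟩ := ho
    obtain ⟨n, hn, hno⟩ := mem_supports.1 ⟨w, hw, hws⟩
    have hn0 : n.testBit 0 = true := (pt_mem_toSet (by omega)).1 (hno ▸ hso (by simp))
    have hn1 : n.testBit 1 = true := (pt_mem_toSet (by omega)).1 (hno ▸ hso (by simp))
    have hmem : n / 4 ∈ Path.model22 ∧ 4 * (n / 4) + 3 = n := by
      have hw' : bitCount n = 8 := by rw [← card_toSet, hno, how]
      have := allOctads n hn hw' hn0 hn1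
      exact this
    obtain ⟨c, hc, hpc, hcm⟩ := hblocks _ hmem.1
    have hcb : c = b := by
      refine steiner_two_blocks hB hc hb ?_
      have hsub : insert p s ⊆ c ∩ b := by
        intro x hx
        rw [Finset.mem_inter]
        rcases Finset.mem_insert.1 hx with rfl | hx
        · exact ⟨hpc, hpb⟩
        · refine ⟨?_, Finset.mem_of_mem_erase (hs hx)⟩
          have h1 : f x ∈ hexOctad (n / 4) := by
            rw [hexOctad, hmem.2, hno]
            exact hso (Finset.mem_insert_of_mem (Finset.mem_insert_of_mem
              (Finset.mem_image_of_mem f hx)))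
          rw [← hcm, Finset.mem_insert] at h1
          rcases h1 with h1 | h1
          · exact absurd h1 (hf0 x)
          · obtain ⟨y, hy, hyx⟩ := Finset.mem_image.1 h1
            exact hfinj hyx ▸ hy
      have := Finset.card_le_card hsub
      rw [Finset.card_insert_of_notMem (fun h => Finset.notMem_erase p b (hs h)), hsc] at this
      omega
    subst hcb
    rw [hcm]
    exact hexOctad_octad hmem.1
  by_cases hA : ∀ b ∈ B, p ∉ b → insert (pt 0) (b.image f) ∈ octads
  · refine ⟨j, Or.inl rfl, fun b hb => ?_⟩
    rw [hj0]
    by_cases hpb : p ∈ b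
    exacts [hin b hb hpb, hA b hb hpb]
  · simp only [not_forall] at hA
    obtain ⟨c, hc, hpc, hcA⟩ := hA
    have hc1 := (hout c hc hpc).resolve_left hcA
    refine ⟨(Equiv.swap none (some p)).trans j, Or.inr rfl, fun b hb => ?_⟩
    rw [Equiv.trans_apply, Equiv.swap_apply_left, hj1]
    by_cases hpb : p ∈ b
    · have := hin b hb hpb
      convert this using 1
      ext y
      simp only [Finset.mem_insert, Finset.mem_image, Equiv.trans_apply, hf]
      constructor
      · rintro (rfl | ⟨x, hx, rfl⟩)
        · exact Or.inr ⟨p, hpb, hj1⟩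
        · by_cases hxp : x = p
          · subst hxp
            rw [Equiv.swap_apply_right]
            exact Or.inl hj0
          · rw [Equiv.swap_apply_of_ne_of_ne (by simp) (by simpa using hxp)]
            exact Or.inr ⟨x, hx, rfl⟩
      · rintro (rfl | ⟨x, hx, rfl⟩)
        · exact Or.inr ⟨p, hpb, by rw [Equiv.swap_apply_right, hj0]⟩
        · by_cases hxp : x = p
          · subst hxp
            exact Or.inl hj1
          · exact Or.inr ⟨x, hx, by rw [Equiv.swap_apply_of_ne_of_ne (by simp) (by simpa using hxp)]⟩
    · have himg : (b.image fun x => ((Equiv.swap none (some p)).trans j) (some x)) = b.image f := by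
        refine Finset.image_congr fun x hx => ?_
        rw [Equiv.trans_apply, Equiv.swap_apply_of_ne_of_ne (by simp)
          (fun h => hpb (by obtain rfl := Option.some_injective _ h; exact hx))]
      rw [himg]
      exact (hout b hb hpb).resolve_left fun h => hsame b hb hpb c hc hpc h hc1

end CfsgLib.Golay
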